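import Mathlib
import Cfsg.Agent.H46.J1Ops
import Cfsg.Agent.H46.Cls

/-!
# The first Janko group: certificates
-/

set_option autoImplicit false
set_option maxRecDepth 1000000

namespace Cfsg.Agent.H46.J1

open Cfsg.Agent.H42 Cfsg.Agent.H46

def dE_c0 : ℕ := (nat_lit 0x21e0fef77735b59d8b6b53527a50d07e73731794890de36712f854c09df46f1d74cb85db212a7651b075736b155495c9d34291d44da05bc4671f34d4e5b636515249903a43a31914b5e8433a11b04a1a8bf39f1af4a7848349d22e4e7063729b12d47169b34591ec4d6052f2170e09758aab49522a4f5062729312946482078914085e40e9f6cf3075738a1b4cd2064f306972c22455128793349164481878f347163491830b14092247102870c01814a084031810804200000)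
noncomputable def dE : ℕ → ℕ := memo (look1 dE_c0 (nat_lit 13) (nat_lit 0x1fff))
noncomputable def dE_par (i : ℕ) : ℕ := bits (dE i) (nat_lit 0) (nat_lit 127)
noncomputable def dE_gi (i : ℕ) : ℕ := bits (dE i) (nat_lit 7) (nat_lit 1)
noncomputable def dE_dep (i : ℕ) : ℕ := bits (dE i) (nat_lit 8) (nat_lit 31)
/-- A pool of elements. -/
noncomputable def E : ℕ → ℕ := O.tabW gen 2 dE_par dE_gi dE_dep
noncomputable def c_iX : ℕ := E (nat_lit 6)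
noncomputable def c_iY : ℕ := E (nat_lit 10)
noncomputable def c_t : ℕ := E (nat_lit 16)
noncomputable def c_x : ℕ := E (nat_lit 22)
noncomputable def c_a : ℕ := E (nat_lit 35)
noncomputable def c_kb : ℕ := E (nat_lit 45)
noncomputable def c_s : ℕ := E (nat_lit 52)
noncomputable def c_u : ℕ := E (nat_lit 84)
noncomputable def c_v : ℕ := E (nat_lit 22)
noncomputable def c_h : ℕ := E (nat_lit 90)
noncomputable def c_i3 : ℕ := E (nat_lit 100)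
noncomputable def c_i5 : ℕ := E (nat_lit 113)
noncomputable def c_x11 : ℕ := E (nat_lit 53)
noncomputable def c_x19 : ℕ := E (nat_lit 60)
noncomputable def c_x6 : ℕ := E (nat_lit 54)
noncomputable def c_x10 : ℕ := E (nat_lit 11)
noncomputable def genI : ℕ → ℕ := getL [c_iX, c_iY]
noncomputable def genK : ℕ → ℕ := getL [c_t, c_kb]
noncomputable def genS : ℕ → ℕ := getL [c_t, c_x, c_s]
noncomputable def genA : ℕ → ℕ := getL [c_t, c_u, c_v]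
def dK_c0 : ℕ := (nat_lit 0xae8ea683a27ea27ca679a6759e6b9a6a9a679e659a659a639a619e5c9e5b9e589e569e539e4e9a4e9e4c9e4a9e489e479e469a449a439e429a419e409a409e3f9e3d9a3c963a963992399637963696359634963396329630962e962d962c962b962a9629962692269624962196209220921f961c921c921a9619921996189617921796159215921492139611920c920a960792049603960295fe91fd95fc95fb95fa95f795f595f395f195f095ef95ee89ed89ec8deb89ea8de98de889e789e689e48de38de28de08ddf89df89dd89db8dda8dd98dd78dd689d68dd48dd289d28dd189d18dd08dce8dcd8dcc89cb8dca89c88dc78dc58dc38dc18dc08dbf8dbe8dbd8dbc89bb8dba89ba89b98db88db789b78db689b58db489b38db18db08daf89af89ae89ac8dab8daa89aa8da88da789a689a48da38da289a28da18da08d9f899f8d9d899d899c899a8d9985988597819685958195819485938592819285918190858f858d818d858b858a858985888587818781868185818485838582818281818580857f817e857d817c817a857985788178857785768574857381738572817185708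170816f816d856c856b856a85698568856781678565856485638163856185608160855e855b855a85598558815785568555815581548552815285518150854f854d814c854a8549854885478147854681467d457d447d437d427d4179417d3f7d3e7d3d793d793c7d3b7d3a793a79397d387d367d357d347d337d3279317d307d2f792f792e7d2d7d2c7d2b792b7d2a79297d2879277d267d2579257d237d227d217d207d1f791f7d1e791e791d791c7d1b791a7d197d18791879177d167d1579157d147d1379137d1279127911790f7d0e7d0d7d0c790c7d0b7d0a79097d087d077d0679067d0579047d037d027902790178ff7cfe7cfd70fc70fb74fa70f974f874f770f770f674f574f470f474f374f270f274f170f170f070ee74ed74ec74eb70eb74ea74e970e970e874e774e674e570e574e470e374e274e170e170e074df70de74dd74dc74db74da70da74d970d874d774d670d674d470d374d274d174d070d074cf70cf70ce74cd70cc74cb74ca70ca70c974c874c774c670c674c574c470c474c370c370c26cc06cbf68bf6cbe68bd6cbc6cbb68bb6cb968b86cb76cb66cb568b56cb468b468b36cb268b16cb06ca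f68af68ae6cad6cac6cab68ab6caa6ca968a96ca868a868a768a56ca46ca36ca268a26ca16ca068a06c9f689f689e6c9d6c9c6c9b689b6c9a68996c986c97689768966c9568946c936c926c9168916090648f648e648d608d648c648b608b648a608a608964886487648660866485608464836482608260816480607f647e647d647c607c647b607b607a647960786477647664756075607464736472647160716470646f606f646e606e606d646c5c6b586b586a5c6958685c675c665c65586558645c635c625c6158615c605c5f585f5c5e585e585d5c5c5c5b5c5a585a5c59585958585c575c56585658555c5458535c525c515c505850544f544e504e544d504d504c544b544a504a504954485047544654455444504450435442544154405040543f543e503e543d503d503c543b483a4c394c384c3748374c364c3548354c34483448334c324c31483148304c2f482e4c2d4c2c4c2b482b442a402a4029442840274426442544244024442344224022442140214020441f3c1e3c1d381d3c1c381c381b3c1a38193c183c173c16381630153414341334123012341130113010340f2c0e280e280d2c0c2c0b2c0a280a2409240820082007240618051c041c0318031402100214010c0008000000)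
noncomputable def dK : ℕ → ℕ := memo (look1 dK_c0 (nat_lit 16) (nat_lit 0xffff))
noncomputable def dK_par (i : ℕ) : ℕ := bits (dK i) (nat_lit 0) (nat_lit 0x3ff)
noncomputable def dK_gi (i : ℕ) : ℕ := bits (dK i) (nat_lit 10) (nat_lit 1)
noncomputable def dK_dep (i : ℕ) : ℕ := bits (dK i) (nat_lit 11) (nat_lit 31)
def dKT_c0 : ℕ := (nat_lit 0x9d68f95a859ea7e96e7ca1e93a4e828d283a466a92a678b26d97265942639e661a267fa42929ca7da4a8d9368e8467691a4e82e86a2e9180a847fa90a0249a3244a3e437de48a22417ce81a3a407c64b7be459623c8265e7ae57892397a6627a28a83e66a363f7968c78e557824783a8b8066ca2a8976a3d7668875e6e7528781e269be2b7427173a42a1a20a161f72a2a7ee1ca121a71670a0e1970e6970630a0a176fe2380e159de147c213a068094e0c9fe0a982749fa049467b9f6789f2689edfd69e739667a696799e25d682779da759d26b93df99ce6466672701ed9c5ec9c26f6a1ea9ba0d9b6069b1e79ade69a9e49a61263e009a25462dfc99ddf999dd995db9925f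98e5a98a0560df86d1d6986606021097dd25fe526c5d197a189765c5ee5b5e5f66adcb96a5968dc85d25895e5695621952538edcc94a515b2505ae4f5aa32939bb5a2258d5ba8b9b966e375964d931b75924c8e9b589dbe92db388a3657a2956e4a925af921ae8b5ac87631559bd91daa8e2469162f911a690da486e3e53e28909a25361e905c6529c79019f521b28fd9d8f99c8f59a8f1e25163b5123a8e59650a388dd958d9945ba354fe348cd924fa338c9908c5ee4eda98c18d8be2e571974e22d4d9bc4d62c8ad878a986525858a5848a2274c19889982585818962488e228857e4b1918817c87d7a87a164a21d8717854db649a1b869f448df586573489ad861714818c85d708596f8556d8520884dff849dc46e118420f4660e835678320b829c945a098216374e07451f281960815a18120344202439c443601801577fdfe42de17f5557f154421fb7e95241dfa7e5507e1f77d9b07d54c7d1f3761587c9f13f9f06e1473f5ef7b9467b5d57b1de3e9eb7a9e93e1e879d41799e5791cf3d5e37893d40d3c785e03cdc277d3a77939775767715f76dda3bdd93b5d83b1d775931755d43a9d37492f7452e401d073d4e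39dce7352b399cd7312972dca72527721893896271d25719c57113237dc3709c1375c064d1f371bf6f91e6f51d6f11c6ed436e91a6e5b835d336dd186d9176d5b4351756cd156c9b1349886c1133452a629126bd116b90f6b5406b19e335ab6a90c6a5a832da75dd09699a569137321a36890631d7d68504639a03152467d0267901674ff6719b66999660fc65cfb65969654f9651932f159648f7644f66418f2e58e634f46318b2dd8a624f22d951620f161cf0618ee61566611722c983608eb605802c17f5f8e95f4e85f17b5e95d2b5795e0e52b1775d8e35d5742a94b5cce15c8e05c50a5c0de5bd6e5b56c2996b2916a5a4da28d6859cd8599652856458cd658961580d357d5e5755c2755b568d02715a564cf560ce55d56554cc5512126153548ca544c95414f538d92554d530c652d4a24d494b4c42494851cc3518c23054523d4450cbf23942504bd5013f2313e4f4bb4f13b4e8b84e5384dd36221354d0b521d344ccb44c8b34c5304bcb14b92d20d2c4acaf4a8ae4a52849cbe20126494ab491231f922484a91f52047ca8478a7474a54711b469051e519460a245d161dcba454a01d91444c9f4489e4451043d0e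1cd0d4309b1c90b42899425081c10741897414964110340894405003fcfe1b0fd300913f0903ecfa3e4e41a4f83dc8d3d8f519cd53d08b198f33c88a3c4893c0ef3b8ed18cec3ac86188ea3a4843a0e7180e6394823908138ce23847f380df378dd170dc36c7c16cdb3687b3647a360d735878354d434cd215cd13407533c74338cd33085150cb32871324c8148c73186f144c53106e30c6d308c113cc02fc6b2f86a2f4bc2ec682e8b92e0b712cb62d4652d0642ccb22c49a120b02bc612b8ad118ac2ac5f114aa2a45e2a05d29ca6294a4108a32885a104a12805927c582789d0fc9c26c56268552649825c5325895250930ec92244502408f0e48e2344e0e08c22c4d2284c224880d8872184a214492108320847204801fc7e0c87d1f0441ec431e8791e0770bc761d4401d0730b4721c43e0b0701bc3d1b83c1b46c1ac3a1a8691a0670a066194371906309862184350946017c34178331745c08c5b1683116430160571582e1545414c5207c511402b0784f1382a134291304b128271244811c46068451102410c42060411002205c3f0f8210f4200f03b0e839050380dc1d04c360d41c0d01b0cc320c4190c02f0b82d03c2c0ac160a8150a42809c26030250901202c2308811084100801f0241e0740e0700d06c1a06418018170580a054140101304808044070400f038050340c0040b02803000090200201c060140400c0000801)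
noncomputable def dKT : ℕ → ℕ := memo (look1 dKT_c0 (nat_lit 10) (nat_lit 0x3ff))
noncomputable def dKT_T (i : ℕ) : ℕ := bits (dKT i) (nat_lit 0) (nat_lit 0x3ff)
noncomputable def tK : ℕ → ℕ := O.tabW genK 2 dK_par dK_gi dK_dep
noncomputable def KT (x j : ℕ) : ℕ := dKT_T (Nat.add (Nat.mul x 2) j)
theorem chkK_w0 : allW (fun x => allB (O.edgeChk genK tK 660 KT (fun _ _ => O.one) x) 2) 0 660 = true := by decide +kernel
theorem chkK : ∀ i < 660, (fun x => allB (O.edgeChk genK tK 660 KT (fun _ _ => O.one) x) 2) i = true :=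
  all_step (all_zero _) chkK_w0 rfl
def dW_c0 : ℕ := (nat_lit 0x2bff5fbaf6d7aebd54e6af1d782bb73d996bcf5a7ab3cf967cb3a5992c9963cf1a5872bc95dcee67612af9564eaa5553a9954caa274f2a6952ce925473a29514e8653f29e94ece6a5352999cc465e12f0948c9c24e325090847c23a11908b8c5422a113188844461a10d0848c1c60a10508083fc1fa2fb07d83e45ea0f50798bc41e20ef1758ba41d20e50718b841be2dd06e8b6c1b62d906c8b5c1ae2d5068833c19a2cb0658b1c58a2c315f82fc57a0bd15d82ec5722b705b7ad3965eb0e587abb95dcacf5572a3d4dea4e527a8b945ea0e507a7bd39c9cf4d726bd31e96e4b7a53929c92e487a3bd19c8cf45722b911e86e42720bd01c80f3f71fb8f9e7ae3d79e38f1e76e3b79d38e9e72f3871c3cddc6ef3671b3cd5e68e34799b4c9864d31618b4bd85ed2e61730b5a58c2c695b0ada54c2a694b4a1850d27613b099a4ac256923091a46c236113485842d20610347d83ed1e60f3471838d1b60da869632b1850c2c5d42eb1650b2c5542ab1450a2c4d426b125092c45422b105082c3d41eb0e507243501a80c485a02d21480a484a025210808483a01ce0c6063829814e0870330194088045012008c00400000)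
noncomputable def dW : ℕ → ℕ := memo (look1 dW_c0 (nat_lit 13) (nat_lit 0x1fff))
noncomputable def dW_par (i : ℕ) : ℕ := bits (dW i) (nat_lit 0) (nat_lit 255)
noncomputable def dW_gi (i : ℕ) : ℕ := bits (dW i) (nat_lit 8) (nat_lit 1)
noncomputable def dW_dep (i : ℕ) : ℕ := bits (dW i) (nat_lit 9) (nat_lit 15)
def dWT_c0 : ℕ := (nat_lit 0x9e8d5439e22c708ee991d0ae9bc1a5962bb1097b56cb9ae00f523905d7dd9c88278ea7da6e364e4aacec14e7330809a0021256421f15d263026f1f2329ad7d440b2ee0021134978687d322f2799a11e35e155ab22bb095a20041de95fcf501255ea0f398011bc520f52cec8421c907b956a22747a5c2bc34780c1002f2086d2c67972b1c600020f37c0e207f9acfe0020c4033c0082a74ad95918b136e0f31c36a5001f03627179570010421da705128017a3ba8400206be1468d591a0f15d1c09bbb000812d2fda09c6b82a5eb79a3420469a4f4b89576f858cc002023bbf18d540ae8e0020102a8ca86a0faf6115da003fc007f27462001fb0019d801cc06b7814ee9d08a065327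46d86d1e202855f4907ee9001f8003ee556e000fa0fc6ae7b917d45000f9359d67a356780c4524382c2c003e1dd3cb1ca0685b2003dc007b0741e13d7a27868271298041004d0003d41e73cae979b9d4b605cc56b23c7544c98af95a7d3a0f8861f196ac3198b30800f406d88003cc8b4a40ac7001e51496c000922a587388c6f84e5a3e836810ad0b1481a5a0ca72305d0a6cbb686a5e27454861d05e04400789782e5ad60003c174779788d820a4a0b798b6e800ef0002012a240077000ed001d8003adc019000ea001d30d8b17e3f000e83d1b00039c00732743ea30dc003940072000e3001c4f23059e0fab0ab5613e00385374e800e00899a0037e052c8de3a1bcd84a9fc006f000dd55d9000370006d8021c001b400365ab072746483168cb9ed9760000d8001ae00358006ab864f21c88e1b292f4c000d4775720034e3e1f800d281936ca2cc0a61800d15b192003400067800ce0fc8e003340066000cb7ac46d32f80065000c982d84c00a80005000c80018e82a4c0063000c5344e2e4855c917800c4580de0030d1a56000c200182003004e14800bf88892c012c005f000bd4e866002f0005d800ba78954002e629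2e4b4900017131034005b800b646523132556240000b58a4f8002d00059b160862c28002c80058800b00015e002b80056800ac00156002a80054ae04d7c45a288e0eb53800a85d4be0029cd041800a60014a002900003c948200146b00c400511383c00142ee969ab4b3448b001400027c004f0009d001380026c004d274700013200260004ba747a8143600258004a8009400126002491f200009100120ee9c800028008f0011d0d99400468008c00116002280044800880010f339a4004300085001080020c00412be0b0010200200003f8007e5b0a0001f4d1398007c000f600810003d00079000f0001de051380076000eb2d120df210007443056001cc003900071000e0001bcbc1d8006e000da001b000358006a000d2001a0003380066000ca008d0003200063000c40018400300005f000bd02914002e8005c000b600000002d00059000b00015e4d2725e09000ac00154002a0005386c42001480028800500009e0013800268004c00096ee890002500049000900011c0000800460008a0011000218004200082001018b0e8003f0007c000f4001e0003b00074000e4001c0003758006ee898001b0003500068000cc00000003200062c00a000180002f0005c000b400160002b00054000a40014000270004c00094001200023000440008400100001f0003c00074000e0001b00034000658006000180002e00058000a8001400026000480008800100001e0003800068000c0001600028000480202000100001c000300005000080000c000100001)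
noncomputable def dWT : ℕ → ℕ := memo (look1 dWT_c0 (nat_lit 19) (nat_lit 0x7ffff))
noncomputable def dWT_T (i : ℕ) : ℕ := bits (dWT i) (nat_lit 0) (nat_lit 511)
noncomputable def dWT_H (i : ℕ) : ℕ := bits (dWT i) (nat_lit 9) (nat_lit 0x3ff)
noncomputable def tW : ℕ → ℕ := O.tabW gen 2 dW_par dW_gi dW_dep
noncomputable def WT (x j : ℕ) : ℕ := dWT_T (Nat.add (Nat.mul x 2) j)
noncomputable def WH (x j : ℕ) : ℕ := tK (dWT_H (Nat.add (Nat.mul x 2) j))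
theorem chkW_w0 : allW (fun x => allB (O.edgeChk gen tW 266 WT WH x) 2) 0 266 = true := by decide +kernel
theorem chkW : ∀ i < 266, (fun x => allB (O.edgeChk gen tW 266 WT WH x) 2) i = true :=
  all_step (all_zero _) chkW_w0 rfl
def dC2_c0 : ℕ := (nat_lit 0xa4c6acdcc33ab312c86aaccd855f955ea5549cc0cc91d2dacc0d7abf8167a1a251a49378937a9a3373bdcb1b63bc9379837771a36adc61689166b2d8a8bac82ead3f6d788d6085607b42c3fccd92ba81bd16c401ac56c8f5a1a9abc59a68b413ba73a47ab1b9ab1eb1c994d194cfbbcc838a9a77980d9a5c8b24c0fa9b78b1fcb1f6b8006bbc5adea1939ab3c1cfb837cae37278927792416243a2aa3b478b8a9aa5b05dc901c060aa5aa06cba22aaf99c0e945a9459a301b8cfc576d574dd74b97f93529d6299588d09c432b9eaa35bb351ccc3ad6faa08cc00830cac81a45bb45cb06baca3c066abb5705ac893d057905c626482634d3892a952448242b279aa61a1289126cc6198958194819e8a697175aa5fb1fbc0fbbd6bb4bb7d88b3aab8068b039872a4d0a4d2a81aac34b29aba2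6b25bc880a4f28a638a626300335d530e92302cf5a82d9098b44eb455a330bac48329a32a943c9441802fa02d5d3c72be908fca9ca4479439bab6cda5a84b22f579a6a840a232b8dc635f4360a8af744ab3a8da109051b037b482ab5bda0cb48588a094c0a4cd74d3ccddc4ef949ab4edb8e194ce94bface69aa97a60accca4f080357c537975c457d3adc3a978c1736192239be7bbd2b2bc92f352f4c819abcaba97cd4baa4c7d0ba484a483b480b9d542ba72c77d06bbf0cb6fa43fb328b3278a2769597d3b79ecb09999235d867234a4eb9c0ab254b25ecaa7985ca498b49ea35e1cf44db482ff924072b07a787bbdbd4ac1ab997999eb9058a06e98e6abd1ba2ebcf9bb69b8d6b8a7a069b402a1a748c292a5523d62adcb0bbca8ab35b9b4abc4ba37bc88dd728c787ac891df894678f7a32c8d52698fb4dbad516b0062dca8a16befa5a773e49b565a3dad6963ef69688522a4b0b4ae3cf6a517a3358333ab1db85e812281215341334762b2a25a725858c072c562c1922b8227724ab29592938239a0f3a0f483209a41bd01cb3ea3f8b3fab8a6a01fadaf9158ad63aac2a054a062b06580739c59b86bb002ab3c80aac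00783db93dda986cce088b5a894ba9ed9b3c3b8cc2eb520a96bc86f988f8b46ba52bcdb6ac19bc7aadd618f817a711691188130a13aa932bcd7b37eb51fb5a2a88ca9dba5a490e370ed8105a962b19091795192717b73de93dc61599a88a87cda0d80b2ab8790728c306d3690558157abc9a993a162ab7bbdab7b866b5fb011802599a1a8546319831f723a5d0ab29692494ab159a472bf82c38beba2579cce42b1cbfc8b256cf37342b0a6a0bab33493366c76851b94adbca082f09526ac1bb3f0993e83f2a98ea3e3959e73e5a59c52deb4da8d8cabed82f1b32b9bb091e2a1e0a1e998a3957a8a1495708552ad177d0575798b1f9af3b142c1d7c90cbd19c50ec508a1bab914b5939d5ea5128b3fc201a212a5b59a56b0db90d5d1f4c1eea18ea113ac259bf1a275bafeb28aac7aa10ac1b1b1b4b8ca7b05aaa19d18bcbbc9ee60e780e9a26a9274baa3b2879134c136a882bd44899e927e98da8269a0ea7ac5913e912cb0f170dfc15dba1dca01ad83b9c9727b82769268cb0fbc9ebbabc1b2b0d6b9bec1f3a9e0ac83cc63ab2ca9bb8aceb50fc51098c4d5958affa1bbada9895191419858a9d1c9f38873b3d5bcb7abc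6c48db48fb493aaa6b3d3b4c7b311b339bcc5b4c59898c33794b1603e90484538653695878a425c1aa08b72c89b7a9b92797bb092a0789d2f8aaebd41b3647be999df4abac53aa58359929a93aa2cb4e994a2c4e7b4a0c12d7a7b993b9a4d7a3ab0e1bcb989849d2ca49fc4ea9c41958a6582753b8533c1b5b1b0b2226a2593638b048b4fc84ca076a090a86e9d0492bd92ccac794b605586758885357ac7a04b70419053b039c093a079b2dfb2e7cb72c2e5a0345a448a76708eb3df9a06b3e1ba039ab47adbabe398516d14a292a4a6a4acc368ba95bca5b1f07418541a98489ad2a1db81d9ad9ca2f9892290cca90d8a48987eb883c047ba6bb5aba5978aacb51690879d2678ada01b8987b0318151b14b8b0cb16e94a7c4a984e2b902819b8d6873057be5ada7b358a8ead991a8349912b591b57b8599a5ad6514b528a542952c8b20a814c24e9855b546924db237a928952bb5419cb1cacac5ac7aabb57cb888a88db2b6c92da56c9ab79918d9b8b8c6b4aab4a8a16d6d82a998ba1c9306984e78dfa152903089d3a01a601c907db08695137527c59a55ae8d56b046a0af80b19823a097a0cb6aadcbc0c2fcab1aaaea8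47864768af19419a1ef81f18d4fc36784abb4a5b28fa2999256726089d99cd5a2eac2e2b2e1b2e9ac978d3388e9a9ef34f664f340c28429ac64ab2aa46ab5019206a208a4fea186bb48789f8033a00f7cd37506ab4b9503b4f86ab2709fa0a17d9f8825c915ab5ea1c1bbe1a4fb8b33a0fd912470f761459a7ea416c41fc9acc443ab9d88b198159cbc88ac90dabd64a10fb4ca9ca7882f6b829a4099979018a862cb68a020833fa34b89dd8930ad6c9db170adb9fc7c0f80b583249d03b0bd90bf93269b6294b59d13bb6bb31479a3852ec42edc3bb2cd92b7bc029571a550b54a9973c220d467bd20a58da57ec57d958eb93fbc1ea21fa235a549854fcafc6578b2b882cec976c42d887f953e8313b10b8d35b0ff94b68325b0beb0bc90b4b13fcb4380acb317a952a423a425a46e9cb6694590d4cc2d5b41aa2fb832b9709009a33cb11eac239112794e99d270d9a0d7acfd8af07453bb519446a877a420bd1f7ab08146a4fdbb7f7c4aad9b8184c182a09e90959bdd90a39b6359699d709504b0328029b00c900d818798efc4fcc8b6aaecbc179123b0f88d99a0fea469c4638430c42abbbba180a18ba931cd76a17d9b6eaa02)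
def dC2_c1 : ℕ := (nat_lit 0xd284992c3db298852af58bf2c2719acc4bb19518b521ab30c3729219bbfa98d888b2b2169b36b111ab4ebcafa2186d0c8921a9dc921393c3ba5e759fb8e09d719887c26fb824acd8b4b7a4c1b1bdc98c8be691eb71a68262825061a0650c8b0d45b495b151699d8a5b0e8163a2029cbf9ca2b1dea4cca4d683eb681c5daecad9ba16d315c34ab804c40d8bdb8d1b9a49bb7e98849aa2a08ca3b59bdc7d89b21cca91b390aa6a939b82d192cf7386785a8a399385a2d092d2ac8ea3a67bb3ab9c7c18b21d93b083b673e993e7940a740fc33ed349c9d7b8b9a407940ea3eea3eca836a08da03aa87694d5a97db9999a1981ddc8384d316a64b29e882935b29a59550a750bbcb8724fa2613b5db1c6895771eca1e6899b8cabb23f95a6a59b62478215a3c4a37bc3757d79a3caa985a10db831b11cb36b7b61bc8ca3ba83719217a2a6b5255b8482ae9830ac36bc93abf8b26cc2705384638243b173b3b281a8ce6d8469a085688556cc1fa014c82abaf690a99023b0b79015b886a974a561a55b24f514f404f450c09ccfb29b9c7cb083a81dab83a99c925cba9aab53b08abd4791bfb1c5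b9c5cc73788ebd48b204cb2eb411bc1190e6a0eca131bbff9966a0ce99248b29bbf76a4791d28967987d8b1388aa98cc98d2b2c0a14fad96bd7ba93a9a23a3d1714eb845a2c29d39845d845fa1fab89d81d3a1d1a436a438abafa22c80cd8cc4c3d0c3cfaba789059c19a132ada48a1599417a34a878b580a53f8c5f91c4ac6ed4039926807fca24a9139d8ea25fad50b043b04588cd90849b85928ec2e6ac07bd57adb5b48abc55b488a1559487bd11a2e8cc62a3f6c3e2a9fa8c5dc473abba947c91b7a84299b7ad7fb1fdc9c3b0248ce2bab89c3c9a2175899acf553cb0a7c0bbbcedb9fbcba3b8ff923b92b4bb12cc31b40699bc9172c442c9abd454b44f9197b8bcb495bc95bc8a7a4fbcaa7d27aa999d878ad18d58b345b3449c87a3c6cd946a43c86db950bb14ac9fa36db557b395bc8f683ec9dab8e498d48558d396c370b8b3b394897aa56393c7dbeac5658d2ecb10c3438b7790c5b0ca90c4c0c79392a39db398bb647abea198bc80bb8dc84aca82bb557a58bb4cab54a84f92b3b9f69a74cd15c8599bc3b827a4a3b427cc9095394531858c6584acfb9a30c4debd25ac47cb57ab7db30968e78303baf8cb99cae48304c35ab88a9a8ca48ec492cb16ccdeacd6ba4bbc82)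
def dC2_t : BT := (BT.node (nat_lit 1) (BT.leaf dC2_c0) (BT.leaf dC2_c1))
noncomputable def dC2 : ℕ → ℕ := memo (look dC2_t (nat_lit 0x400) (nat_lit 16) (nat_lit 0xffff))
noncomputable def dC2_par (i : ℕ) : ℕ := bits (dC2 i) (nat_lit 0) (nat_lit 0x7ff)
noncomputable def dC2_gi (i : ℕ) : ℕ := bits (dC2 i) (nat_lit 11) (nat_lit 1)
noncomputable def dC2_dep (i : ℕ) : ℕ := bits (dC2 i) (nat_lit 12) (nat_lit 15)
noncomputable def tC2 : ℕ → ℕ := O.tabC gen genI 2 c_t dC2_par dC2_gi dC2_dep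
theorem chkC2_w0 : allW (sortP (fun i => O.key (tC2 i)) 1463) 0 1463 = true := by decide +kernel
theorem chkC2 : ∀ i < 1463, (sortP (fun i => O.key (tC2 i)) 1463) i = true :=
  all_step (all_zero _) chkC2_w0 rfl
def dC3_c0 : ℕ := (nat_lit 0x4e93805cc01d2f945d681e3055265a49a782f6fcc649bc9369b1d04d24c33c139956f8118d8cd6dac05005a4c2418b8a75336da40c028900cc029f3e4a168184d1f606438c95a08d2a22604a6d9cf7180e52abe739b3d28f626bca7b39b357a1e234c0283ad2af647241f6751522e1e4638b59966e0fa421a88e9906d986146c8b4952139360901e24988902de66947118a5ce71e4eace118226fade526ba4a848aa90de44423c94cf315e28cc8f481f93bce75c447979cce3e677d4ef7953335da72ac96d9561193d948c29692dd08260f34c34841134aa64eb8aa9157247224cb8cf6cd501e66844e9a8c69305d755cabb9e2ad1fe0482c9192c08bf2002bdb382cf1002579c3066608f865b6028917118610a41dc0c090451c19ee3b90f4d6555d2110bf029d83234a57202a491b139498e6ca17843d39026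8e4b1d9ca30566261473a9daae3997a0c88b8ba72be148246b393272085f454e149df0db1649fcd3194fd354674848d0711f129e683c8a585790ad9c1fb5f488fd2314c6ca8d19aef046e6f9c1eb63cb308a6934eef440d27aa06a4325842aa7fe622d6288c4ced098fa3dbd968733dd4e939c9acef3834d12470891835a8a40f49d1a0533a7e250cdac94450026223cb28764d23de101b8f093d8c7826c9ab418a77321dcefc9ed4cf32cba2ed42a8994b1352356b9d08af73b36429c89693943a9240bb8125032f0fe441cc8b8979277223649fe9c03399e6a3ce768d50f65a5919468a4051071cd349a89b50e6466f64c7083e34369b824d3088511565d0240cd519d237635b4daf913b3c6a384cc1e95535021f913c779c82710a49836137145242e171b90a43c714d1b77494196032836483cd899b6ef69a184acce8616739de294f3e98d53582051c0a1754312425a04b3f9656eca5555cda731cf24c662d2c50613cc32dab84683ab32f6922c148db81d0ec8a190491a73bc87ca053b0a8832124e164340bc81330801909cb21663f37d66aac5209b394022735c9a192af389d919c234732d2bf67574eba8d58e5e20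364a1160ff300d647495d8da0fb6648442e29ba32152278c01d8be2d735e87b46094a5291e0c14b3e9baf187a59b4334866528fa685cc739c8ed9e1cd9c9838a3f12c9a4f3813803906da4dbcaba74333a623904e16902115866ecc1da80fcf20a8a4cd459403356a6684f2b73bb330663135738c0106566e7c95159a3203a2f32ebe758502ca3994a7f98d739fe64b4c2775b31b3243e484579452cb1d98c44e9e4317da1264d929e591c61e3752288dc7468e2173d9184652a0a28dc99e9b0916da31e48879dcf28b679fcd4d82c73c323784e2d945f2c6a310c9268b2b2b61c234c437e84e1de6d4c13a8b2118564de39bd9a6d216a26444fc958ef04a6d0c827935f06ba87ecd839d051bca6abcdcc9359289e69bbdfd7e4d26264b8c26079a716edd32ca6b9ae2b9be54d3c9b756b253a76c46ed6c6748de828c884809ec20642bc5548c65344273626fc90df254eaa4d199993f256a4d4bdd09e47314daf03e4a867525dea6d40f89acd2515e8535b19e1f385e763cc6fa8a33bf66083cf920d0c5c2431456389d1113e62a4f4390e105be034c94d8d79338891b46f6734926724c93d7864d5099112ec58b64c2978dc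414dbc50a13771b48bcaa94833aa60b0cada94a2f32633ebf299167290257bbeb5a27330ee4b3413d799f2a61a03c13b882ce26e44fd4fd9b372b2aa7b4f3b808ec1f667a286770dd21ae39a484c70a4d32dc444e3b825ca21a02749c46a2d21a9c36c9d798f910166e5cf2e9d773c05189be656bca9976587b64885e127ce4e632b484cc8aca53642cc89f0c9e16ffcee9557ceadd721c66699093ac1eeec95e68152c320d2d4298bd729d2322c2ad8cc0cb01962bc3e84fb0a0de780aa44e2737125574c0695830ab26a72a6f74e73b6a638ca3b928f047e765498e8dc53d0255c44cd844cca5653b22797596f77a77642b399c931d671ec9f573fac922127c664837658da574caec6d68c5ce4bb42f686233af656acd4195ad3b4e79445aeac6f36d64014acd9d32ec7a573cafa9cdb45d24713b028a2739fa4224d5398431c2e1684955a50d0451eefbea19bfd33153034d1a81aefc7a439c87160c0c45a6eac567989918226f543089c36b749f65cdca58cf12dde36cd868adf000266f3ec2)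
noncomputable def dC3 : ℕ → ℕ := memo (look1 dC3_c0 (nat_lit 15) (nat_lit 0x7fff))
noncomputable def dC3_par (i : ℕ) : ℕ := bits (dC3 i) (nat_lit 0) (nat_lit 0x3ff)
noncomputable def dC3_gi (i : ℕ) : ℕ := bits (dC3 i) (nat_lit 10) (nat_lit 1)
noncomputable def dC3_dep (i : ℕ) : ℕ := bits (dC3 i) (nat_lit 11) (nat_lit 15)
noncomputable def tC3 : ℕ → ℕ := O.tabC gen genI 2 (O.pow c_h 5) dC3_par dC3_gi dC3_dep
theorem chkC3_w0 : allW (sortP (fun i => O.key (tC3 i)) 837) 0 837 = true := by decide +kernel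
theorem chkC3 : ∀ i < 837, (sortP (fun i => O.key (tC3 i)) 837) i = true :=
  all_step (all_zero _) chkC3_w0 rfl
def dC5_c0 : ℕ := (nat_lit 0x4ef28cbb1691d1bce179dd73a3251fcb21950b55ae60e241094fb1ad615ad23e7a29354221f83308e0d23c649d4e248c9518a5c7849347a8ee4621434aa9985f28d62b345b69b1b35da1a0cee89de748da710b31378cb3ca9b664c625891365de673f09851c6405483c950720d053da68cf2b9abce36db86c82b9e851c2eaa0494b939d2702261ce109346a12245eb84960fb2756463b0bf81bb0209c81cc444a2d399247cce0b82a32bae6d3c2f19a96f40a4f8ba0f8af90b159664d71992952b6752431195572a0e5524cf9983d334e0eecabb63ad0a89e8ebc779246b8ad83d2ec071dd027274dc7269e8701fdc814c9a931ef7e64d5a4b588e321f242540bc8a2b1315ce7c2807def3855f70cae38a513766643b93899b5137644d491c8c0d22863314a7a9c811106ab7c42792f0eb4e55fcb2f913f222e62dcd4d831924ae248ca8c7a710a06609c9719c45265e636cca69984f67a61bc44279b70ca5f66c8189cbee14624146148aa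d2b55e81bd55a58306962e14c7991cd1c4649db98e9320b2f9ee8295a722942b66ddd1968a9f56a24744d8f9dab306a5a14a2394372c95b02c2e69ca2f7d25573a6584532385e24b5829c5f1b9a206498d9b132a656ad48c28d0d382a2f93e65929d29fa4f3a8be818ae37e471caa69a7b23ca07a4dc69d91294665bc2d185a1342e63a9c227bb4ebd2579c68e6df529be339cc6195a4ab021284f258474c8c9ee79d014478d9d1e6640c37872d9da78ec2138b19152a33c3d048a3ce8aa4a6cf2f829121b65953f0582d1296a31d3e2a7a1523ae45946d1681b2a2a10349d988b50c5d777cce88b98f83d62841e35bb12a5a43cce3896632221cf14c99941ae679a23cceb92bc66be4d9360353b0e76a145b8cc919717766c84d2b9860abbdd66cac68d6ed1f657ecd5279a4d182595ce288572f419d8c4b1d95b8d7aa125222c9c62ace22b4419c708720f9c1cb54263d507a640cb86775ef34ee579486885851671404c866985ae195a26c5cb9b0b386d41c4ccb807f3582adacdb0ae58f706790c6759a1308b674cc29729d9505a6354c2486214cf2acb48e7856f271dd8abc1f8397287e5144b0f9686d7ce59abcdf9a3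32c0a30c4da38d613c2a7534d9990f121d6678c2e48d00cb3a0be3e5c9e053bf6345c8fb9d15226e185c960661ab0b1f8acc3ca9d522aa618bae195d138d644c46f1864f12ce1934dee89e92b8a2fd4c9b91322cc273ec91396148c3a5053cee73e8ec26741ce849b65027626846cb997b1b92689d1a891b298f2559cebca1d4e1ddadec08e91190105f1bc0b37a6707c23303c518e2ee89a4533c6764ab297e742a5397306a5aa625c90b721558fa0a1a944812b1274c90b64c94632cda63440d061a328e275dbe269e6325da6e3ceb884c106064bbba5c938d2892703ca228d8b25d48b74df191a6e349a9e423b99e524aa313b5d662847485e21b71384c5294e503d5f89d6730fa8b5c98582ccc60a344c681416ac2c6044b4926c64db388764de79db926c273d49b482952b22165cc1d9c1b3afe7713cf099c717c213c32749aead2fe0ef0f308a7f21526bc462d8c2711924074d23805d2af22e8c81e609b2119d82c86a601b0692051ceab98cd20b6670cced804ec11d4163ed39420d716650b2768561394e417c84b860d2115c264a84703f1c9e54dcf365a0e9c3a0063d839b9d01924d3b4b18961402cc11532c70a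7187942cb9e69211277e673ccc793a912566554c19907915224ccd5267383584a0b3cd738aa334d1ca3bd18829910ba09441309c8b3cd5f8c41569a0ab0e1c824ee399b2f05e40d42f88bd33585e26462084412626757502691dae33a67348da717102c1604c5de9a10b16613ac00465f52aea2024d1cad832415caaccb29b693b2a2b3ca2f910f150eb1b41fd640b07e9901bef4702f178e0db285090b73062b9e4e048122e45d08b4c8c9aef311a645c13f62793c3da3d25f6902720c16b531bd8bfb018d83020105a8907460e9c4bc6412f8b9ec74e967a2f07ca4b1472992c337518f9a1f68e83296672cca219c3f353a23fc6d08d44e74210c21398e67392e43149bb723b39be244c071997455ba484d140638b070a0e641159d7518ee251c289612536ae430ca158d2f46d64129daf942f1531515ba2e98a945bd3164a0498f93b1a6e03cb89063299263c4e3f)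
noncomputable def dC5 : ℕ → ℕ := memo (look1 dC5_c0 (nat_lit 15) (nat_lit 0x7fff))
noncomputable def dC5_par (i : ℕ) : ℕ := bits (dC5 i) (nat_lit 0) (nat_lit 0x3ff)
noncomputable def dC5_gi (i : ℕ) : ℕ := bits (dC5 i) (nat_lit 10) (nat_lit 1)
noncomputable def dC5_dep (i : ℕ) : ℕ := bits (dC5 i) (nat_lit 11) (nat_lit 15)
noncomputable def tC5 : ℕ → ℕ := O.tabC gen genI 2 (O.pow c_h 3) dC5_par dC5_gi dC5_dep
theorem chkC5_w0 : allW (sortP (fun i => O.key (tC5 i)) 837) 0 837 = true := by decide +kernel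
theorem chkC5 : ∀ i < 837, (sortP (fun i => O.key (tC5 i)) 837) i = true :=
  all_step (all_zero _) chkC5_w0 rfl
def dC7_c0 : ℕ := (nat_lit 0x403fe69c6c0f52802d040eecfd9833bba255576e9b568afca69e5736e5037884cc58d88970ad994c3cb3ad845ec07720eec84f5038303f9417ac325dc04f29774522ab37d07d303435319cb8fc99eb09bf46954c395d606d1cb57e7cacee1b8b2f07633691355866322775180c8df6525f10117087ab60e41a70875455daaebdd1828aa9929dc26c4137b00ed94f37a9be0fa30ecb63c9bbb558bcacfe35757c1ddde31ae2f3776299586225aadf302e6b9a45147603a39759c89bd06eead574296a14ad9ae3051b65a1ca1d659f2c6b95546bc23e5dbb227955b0bc33616db247d885cb0a452362c65f580c7b1be4d9b0c9f65e8c365e0f4e5084f4b982decdbd6c27b45b068534096ac73132bac18c549028bdf614aa18b645a72e0986e3b2f055e9705b16841c9fa55c7b24738199b0ced5baae7b90767a3aa5c762c1d1985ecaa1dc916a22188c1c260dcbe72b69888e640356087298d9408c426e1866ebc18399b87164f9e512161ce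a323c86e6c36356fcb3cbd0b56d14b58329b084c1064b0561259835e1a654736e3d7b462d4fc247c5773ccb45dc5feafa196ddb055e4c6ea7a993adc3ffe53ae90c70857bbdae02a62f5988b1ab6dd1c4326f973a8ac5fe57dea07b9792bc6ae54e310ab9750b349bc33acfc18089a022e009f0f072775c159dccdac82b3532cb7164de70c077735c432583ea62095612b177d8ea8c77f985ba9e6d524a469780ddcb65d06d9c68f534aa088607428c48e3c051e7e054aad9f48bfc8ca603aacbbb915db152c400a47857516a0aad988a86897464b084d8d2306771102b0d8498c2e6d3307c79a3c636a82e5815db36ac58e68e3d95c5c438609630e698627a2066213ec1857510c85d54c2eee73477683c148ac26d8d5772bb7fd45faef2f468f79e051fa6c58f700acab65d81ae58f75fcbb3c601a667c5606ec9e9e527aa4c79619bb2a64eca84b76708cbf6da24e815581318054542f7248f769ac0d9dd407318368debbfbdc73a8169884460534512306278879aad564772a2ab658191535616648499027b091dc99e2c1998169a46bd1c6e36176079060ddf1f0bef64da99b858b02c94f661ab1ab556632fff63e0b46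3557aecfdf7049b840e0a26ae1b97d7c937e52332f4526d8ca00d9b3b2f7f7447b194da2b6c6217148a9e8d887b041b7371bb6b5dc1700e9667db043e5d7f30db9022ba3b58e426dd7517a9020d8e8282bd5738a9e1dc75b2ddb8446c22dd1172ebe984e09271cd8d263fb98b3c80ce0b4ec19b80d76a085509a1113887ea446e4032c9953116b2305df66e58b446ac2f258fced0938311a18cd9497070d6847b9c2dd68a209760d0c8d2492d70806e537927dd942ec56f3839b136e5556c50352859c25e076b2d33733ac0ee64b97006d94a3aaa8e52df11cf6267b912e5eea45eb85649089e4eeed173708cb866da1cec21140b2b44355d5244236667c81d61509eca363e5c89fd10c3055f6501bc0d6611306eb97b2c2152439301ed816ec0c1dcf5ac2ef920dca9cdc39a684973c9907bc040a215195b6c81b4c976c85f92f7b1656550aab8f5462c91d5838981df620fa929d47eaaa3b72cfc87b5d26701677805c1815c496c09b657c99535c48ea80d51dfb1fae0776e25d51f4c266641d2c26b77f1c279e082aeb7798d0cc046451287cd732fb9bc392d309558750b242ccbd6e529955ebb52dc3eb0db52490aa09cd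02ec7e37108c235cc9aa88c58379a96ae1512ade994d8c25dc8413111596e1c9c65d709ed5b8555b1c3d9fa2e18504e5a270e4c632881509bc269dded2ca2d9591b8ce4d436efd9711ab98966096c1f79723c0c164fa2692182f0b0735c93aab1590829c48586a7037983b4c928d593722a7530fb1094ccc2e2417873cbfe64a22ac8f8529b2e96615aa15964e2ba765098f04a4c648bc1a58bceaf5585dcc86ee154ec99b9627836fd1bab02175863a3d559c172e937893a37e5d572a86f9442a2495d88acdcd503eb093d5d9b25b187ebc2f0d175f0b9b965aaaf6c172acb8573e082dfd8043040d31bac1e95893ace79740eb89ae05f6830d45edb0ec61d0f311d14b193633833a81a3809e7356e0eca7095945ba21b50f47079906848858584694cd994aca2e3de21acc3b466f59e7c4746c6296317c1e85d147034541e1c0f9d42ee44ba7006cc1ed033eac83367ab1fe5ca3ac2ff34fb9c2c58996e447813fb0a0dc9f70ccb70beb111e170e4b9753939c66b4b0e83bf87bfba0ac62270337712b725ce580e488793dfb22f507be2c6d885b83d6519364dd191f39375d9b8309d380c8c919596eea62d30bfbabe497b2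e644e651831b59bfb2a8926f5a9a249272c952e471ca7d2d9b28c7cb567731bd9bff04a3779fcc2adcd732b0d92849a21e5002861d800bc24f64449c128d3099bfec804aa01d3775b283b601b06c34406c989d8546ef3d482ca1066164ee7111014c3a6da33aa573779bc83dc47e3302f0854b428b998f0e6d75f5cb0dde2e6a69b618d7af5608caced9686e5358d517306bef1388984599c2cf5784a38340e5cd260fd7885bb7b612b30a01034ca1a6e0ce30d2d90b3b1b05cd8321879703ca615c1d6ae21854193415c0ef302587ad9338b4006a05197f5735760dd290df6306c9da608c24d7f7279b392e476a2b952610b3024998a6b974853a90dddc96cbf91824ca81dce8b2fa376049bf74a336cda947e7c40be145f263b936fc8c1d5f1310572839bc72e08eb0b096464a2335c80e0963861bca156537f063b96a1c9375dd1ecce5600aa986e11f2e602f663a049441e800234373c20e4d60af0ed6017bb5ed195f253386563003100146022c0014003b8011400753ac)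
def dC7_c1 : ℕ := (nat_lit 0x50e7b3115645178476097ae5359252c8e15da1ec4ed75e8cc13e08e706376245925fc4b12ed7194599bdb65592e31b9291b848d87c2a86171a9a966e207b104ae80f9a9f593ba4071860dac46e468b2305638591c165507284b83f4c2c8dcc4330fb2084a2a859d1e4e615764b87de5e4ec123828acaec5db8328d396c083065980b01d9469cc24664f2e81cb64e8cb4a6497b0e09810ebc54e5eb6a3ef87d1c2fc51be66f8d40dbb31651e96ea579422c25bdd6160d13669ac263516630b2586ed929f653db047746f8c381d1b06aac373a0c2005d60f234378bc995560fbaedfd94ccbb6860682844f867cc117e174e0c7345ceb28260f7e6bc567afc854cd8c2cf3747d0c3d9653a68f2368e2c8cdd1f12cf816482b3e7da06b08dd4757a3b25a38650958796c24bc9e72491b8202ab95420024fe76795cb4ed1c36f1c37737c957dcfcf2b09016d90b46428203f16654a0fbd85d7036b762aba7cd97c28436e213c3b75a0172c1b37cdb417e21f2080981aca2e0d0f0e860b34c9ba85dd88283ab31b9a1c9cd2d706f57387c82962353305768bc83dbd1ee245759361a1564d5e2ef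9f15bdc9ccd0c36c56b72f3c1325d132ad2b541fcb2b44dff22557298b167a0b47073573066161b1e2330f52787b994d8b172799937b9443d094ec3cf88b6c43eda1db0eb3830cb95bda2764555924fa1575dcb70e4712e6bbf14c32ae7395103b43be569328893813bb26620df25a7688bc9383d5dad0cd50dc73c55e389cf1981c281623c013049f9258a46550986c4c542cd8164e58ba861f886dc34a5e203056570f0a862c0aae857327b6cabf60791200f93eec9bd61dd2ee4f5261b1915a36f1160c3098184592f300ad85cfb1254c04b07d761aab05ae5acf25ad2060b02fdcf76ac4987f0bad0b5e22e27b627dba5e4dfcea0cb70d0c8936220d638d374ab893e5f76ce1792b4b3d4cd3024f49963293fee4e6b2dc79864b3e93c6b725a4d8dc784a65e5a284f67d6ba54e480a084f8288bb33e4e4aa78350b2a120555ab05d77141c11f5d59a6c1f6354a2135dfa2850b629f8851d060311bb77aba8205d80a2ecf86e1b870e596f2c9f87e3913bb89ae06ff08dab38c5e315ef19813bc0cae195708cf5045a9f36496687e1713aa42ce014ac60382f7b8a8e5c6a87838247baf8656c6d07f7547bb6a557be80cb8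3adc81ce564aa16927c6a987498622b7f24c9625ee01c6861777d6ba3dcd3b6c449445882245db3aad8995f8b2c1d45caef5f6332ca7858d0aef8121fdc9c36082ee81b66a5a92dd84b2ede370b5934bd85e6cd6f018a7b5758b2301ad3021c43ad9f8b05696208a8194d87b0b0cf80fc3d13c9af066745614968e545f08af639cb91bdd776c7ad9089bbf7d85924f916687caee6468262d195499b6c604ab277b7756c9e860cb6f19f7276a410d495ee7f98827b3925dc632d2d83cec86b5e2be50b1885eca51659cf095b638bb46adcdab30f8c8dcc3b86069aa0a791ff997c607b321d555acb936d095ef08341468063d031722d791a6b907e215aaf0d80a0caede21c61175762c645465f5723f9900bc156e46bb23c99527c978652b6e02182b8987c6465702888872a45de629ec133619ccb87cc44f24c99529b1b8cc1828a3398839286ddd4f219183bdc29b594ae4817733fc38d4832a417f67d999c160e4b24019289b3c7d84af024d48329c2160112e71774cabbc7d8bb6c74583b88a9d6552b23bb907879ebdcd5aeb0ed0a4b040e4dd300f773a488b6e11e2e90591d0c115d9d4f0a61403da019dcc5f053b7790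b389d6362c3ad77a99842645f70a7378adc281cdcc2c6f173e5a0194cf0a8453705fa94ae092f060f92adc0a9cc0e2ad9b98148a7bc462b20ed44ffc09e6614ac093586fb18961b0281b97525c25151906e98f206bcc26dc5d70bf5053ab01554756d068f828b3c84e21ee59171abb230cc19eee279234aa8cc5b7ea1556075bb735cfd6829f640d9bce3d2d32e0510ffac654943aca35620378276089b00b7862eaa7fe482ee1d192b2ca14dce630ff97342c2a1d4382e90b9024b04455542f00791d4aaad42092e8c35450ba7465956e7896744b2c658b0630af0611bb0d2dac6a435647bc8dab52f6d02b704dc3ec41051882195d9c102bcc8eea0f963ac3195cb8ee5e594e0b1b4d0b8302c35227c172e19d71067745eba68d8eeb309f6585b263dc45e051f9131b14c54a5b102d66d0c8a96146e6825951f9857e5f62300166d6caa045052ce6f6735c32dd9ed2c5fb887ac90550d2b28f12813a366da062452f9875c2ced8a3ae4495229ca8de6172e6cf7504aaf2e41930853964bc99db43d706f996efb0d5e09bf303d636a91b6d8ea30d557332931a647b2a5c184599bc3d570688278043a01465a4a4a656476c2d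3dc05e4e95672dc2a06416f07cf681cbb5bd184a6d059530b154e61c68b158538c2cce5791d045480cb28c61b1ece730073bc24d8dbae5db91e3c885e54dae425916eb1b460d9ac81d2370920958a6b2bf59161c94e652aa64ef46a6c16b61a2f0d3b97b3b16a5cda306dee32391985df4a251f9236b931598832ee1261eca376108ac9339199c44ae5896c52165a2c14cd4c15c35b21ba8b44e0ded438d85a4a24a5595e618317b7c996e229eecf7851f9be45cbf5f0456801ac29d9d5ae805803ab0186435ea28d9338cb6d605722699974dca33d5ee6ed8551e1c2af510de40fd935fb401c9fbb221d788bb8f85d876c67577e0987bd4396e54b81128051d8b3a81597672b33dd5ddaada786bccc4ae61fb0044c0a4abe9e1102415f72d4b04648d1ac67e80e4bb14cca5ef19d6228c11b54dcf249781a4c459e01e28e553618)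
def dC7_c2 : ℕ := (nat_lit 0x606faeed985dba0bf608028b59421aa36de507323594090bc71a959ea1b6e576c838cd2730a4f84faa2b55ce8f004997f9c01cd84baa1a340bb80585e176c241334bc9bae59a2c1c3515ea0cfe16c6e55360beb977d97d26e2985b7c2da517964bc4e5eaa3dce1f5f09d773becadbe1d7eeb197724b442da212a43383cba2a351fef0feb8793ac16296eac5c751efa04ddce4324619446cb63e20f70bb385d8a2d564456f0dd8019c14e6171707196294b14960a468081816bc409441cf02d367ec938a64572a9e3672774146415a28094766a10cd1ce2e0dd93dec234d48330b6578a5b3fbdd9f7201b6510b453601928ebd5483ba7164f4aa06673bfb2f1dcb026cc540bdb3b56065303c787f9b8b25c08ee6a95511c2f359d8a40436023c2bbe57870ddf6566ab4e593b2e7e3852692bc45a11c11d613abc28b84e2425f7670a9f6e4ed6c0ab98b6bc4ee061629cb1353a16e6625aaaa98284c0ffdd337001b10c7a00760032837b9553ba7765faf260f66788c5d651aee4518401c917d0fb6ea31312fb9675a17689079457c245c9ad6cd7b960ecad3b43bee68381d4baf1b963f09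86d06f93e6dd8af244d71e7b3e3d03f72ba757e9c31d55252cc537693a3205ceaa24b565f5c902e48edb1519743c9f5c983ea29f8408c1375c0f2cdecb5baaa2c5cdba8aa3857ea8cfbd63ee0ab712c803d5c6aa47f1928db3035c6c6a55998b0bc17e183a212b724aa8ddda02ea12104f7b1eed1b3ecb0f84c292605519a6dd163a4c821d8f72e94f50cfb226511430cb595cfb1d1e110ae7758625ab535a202d1c74511b27ce109649db454eb11bc8be2ab9d904481a9d9e16cc999206bb6ac41b2883f1611c3344daff25cf84f6b1e2513c6ca8f9311c3c961ececc5764d19425c819dc09d006ca029d50daf0ef662ab3d76549ab17752dcb90f3c84eaa9d3211ab2ee13c32983827099a34537b0fdb7099b818643b28f0d4772b98a45a06a55d62f9c2a7e08d2adf16607aa9164c0aea5576c59af655d7aaf71742fcaa7b01bf31bad648c434ac00e009734bf)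
def dC7_t : BT := (BT.node (nat_lit 1) (BT.leaf dC7_c0) (BT.node (nat_lit 2) (BT.leaf dC7_c1) (BT.leaf dC7_c2)))
noncomputable def dC7 : ℕ → ℕ := memo (look dC7_t (nat_lit 963) (nat_lit 17) (nat_lit 0x1ffff))
noncomputable def dC7_par (i : ℕ) : ℕ := bits (dC7 i) (nat_lit 0) (nat_lit 0xfff)
noncomputable def dC7_gi (i : ℕ) : ℕ := bits (dC7 i) (nat_lit 12) (nat_lit 1)
noncomputable def dC7_dep (i : ℕ) : ℕ := bits (dC7 i) (nat_lit 13) (nat_lit 15)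
noncomputable def tC7 : ℕ → ℕ := O.tabC gen genI 2 gX dC7_par dC7_gi dC7_dep
theorem chkC7_w0 : allW (sortP (fun i => O.key (tC7 i)) 2281) 0 2281 = true := by decide +kernel
theorem chkC7 : ∀ i < 2281, (sortP (fun i => O.key (tC7 i)) 2281) i = true :=
  all_step (all_zero _) chkC7_w0 rfl
def dC11_c0 : ℕ := (nat_lit 0x46867a11074a75bbd097104f4ae2f2cb017b954bca08c3ace915d32ba7784eec8cef10e5d6f3e9355f9205226118e59dd3055165f48a3820ce421e4148ed82190cfe4a3cc489d5347e61232edcaa9b58a270340dc9233147644dcaf4a0f72cba46ecaed9d2edb91c6a46f99107273daec488f617ae4a206127309242a2faaf3b129ab6f522e03c40af9015103a590a4099d76d3d9c0dbdab99471cfe568c4279d2b319c408c018601f5512046400e8b3ef8c200cc8ba90893d1a39e281d3034c7620eb4a328678cc82714a009946901ca66d4dcf9405177e553ba5e9b83476611ad5f98b80d2f6644c8e1a28959b9b96bc71995522aa767b529904d326e0cfce3482632a7658d4d1f86232845d0fac1d84faf6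e93554b108918a32dec84b1c719528fa71dc74792146446226c342816b1ac6741493341e2dcce8ac495962a1254608ec88988f133add15d1f483dd28220a0362661eb03ce09ace928830b25e72cd5bda46d3746593cc1e49e2e6ea07544199d1f193188249f3abb348a1eb0c0f42cc112da49ccd467d92fc120efaeb5837328de32b558c822d3cc60e845249be72a1263b44dc78370d0e512cd9e9b4d18624630c116caeda3a12b4ced94df2cf6333c4b25d0eec4a5a4359965712aee4d34027933d16526263cca80fb20a206f427690c8e176ab7c8db71333ab273aa897ae27174a712ce918e15226a65e49538a3137c9f674729998702da01f3306988cec2e0561ce568748cc23114d1494eab8822394d459aaee6c671f26e36b930caa06b4d599077320e4d739bc93f524b24264b2b665b30da17c3b049af52c2640f4d51561135de18541c09bc9145a48fb720928d1526572c6999ce2f0de4a2bdd59e570cd2784cd1283fd293a0924a4881c5093178452cc9c04eb1227a3e818a0d26aa6cac99b9815461dedc45d6a9a149ba0bc4ee572dd562a4cac29993a924064c9a9709322e66193a46469b5cfb8a158bc5d8e5531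925564d539db4d03d543ca85750325ea13bc9568aa90616257bc9991d72b3e42db4f57356d901f4a360b93e52925cdc4ce391c72299999cdc58a810cd62c2c9766393071eb66488a956f1baa8dbc1b59892c7c6753d0d074a91b226b1c9898c873c9d656b28e989f29b60a4ba948a6b298a143350496831cd648a4ce194e7369205c3e5e934927adcd156616ce9336e70eca97adff223a4fbcf009d0906ee68cbeef83f915e2697cb2699bafb1264724479c90dae291e3dbc83d93d2273648d99583323dc84c17282cb46358cccc449a5935aeb1e48989c6538c628e4b31831119f6437381f896b201e3082d709c2336be5414e2d90c137e9f29ce6d85a906522e84c5bad3d2cda790bb0da0c6a2b664fc84690ed2d1a1a3b8719b872cddf7d4c3088ad3cb9e294ebf85732966700416c64af3b4571532e49cf9227e54aba9f9e20eb8a17ccab38e893d05f02396192c7270e121bd2894f4fc4ab0745eea41d08b8b78ca589cd1236ab063ac9949710f9a9f37069a14ebbe7932ea3991527d62914e1eac6d37de575d587918727064e8d1e79d50a8a95103db174272b68e0d4d7694532ba61754c078d6ce72a6a3c9ed93c330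ec978caf08244f352357cd8e9384f60e2753e1f8df11ae6194cc009536f07e74eb2409b37518e51dca9196014c4e4b24a714458c82e78e4dd474610842401cae18e22ebea97fce589c6e8b8d56e447d945b16ee4ee39d59b84f5b9ecc4e4e9102f68a57b4977730700d1316392b925f138a79b4e5d9e03171e5034d918e87216241b484f8868e14a69ccd21895900e581d449e408f55626c4ca00ab01508602b4daa8acb1b52622be2b9ac912e2286514dab1b382664c51558270c4fa026cf3d9ddb4141f09accb9863279256b3a04935b027a4b5d18c9922e64183e4a31957f15ca448d08b906329a27044d568ced3bd28b7c218998d37728c044d699b320c191348488b6b26be952c11ca99afa8a770d5f49d0adaca5544d9389e72999d2fc34498b1392e31ac5313a2317f205942b69b5b329a737d0cd931cfb7aa35ca1d8bd8aad5d29ca5d6be3099e74dbf0d9a03462a0f2c7349bd7399a759ca8f9a6746f6424c5387e17088a76fcc28ade52716433c8bc68f90015155502165644981f4fbaa2a0d75a9653e458892af3268008ca6c5546ea4e77f4de1a4c30abcf3dced685912001c1bc8458ad937b69064742)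
noncomputable def dC11 : ℕ → ℕ := memo (look1 dC11_c0 (nat_lit 15) (nat_lit 0x7fff))
noncomputable def dC11_par (i : ℕ) : ℕ := bits (dC11 i) (nat_lit 0) (nat_lit 0x3ff)
noncomputable def dC11_gi (i : ℕ) : ℕ := bits (dC11 i) (nat_lit 10) (nat_lit 1)
noncomputable def dC11_dep (i : ℕ) : ℕ := bits (dC11 i) (nat_lit 11) (nat_lit 15)
noncomputable def tC11 : ℕ → ℕ := O.tabC gen genI 2 c_x11 dC11_par dC11_gi dC11_dep
theorem chkC11_w0 : allW (sortP (fun i => O.key (tC11 i)) 841) 0 841 = true := by decide +kernel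
theorem chkC11 : ∀ i < 841, (sortP (fun i => O.key (tC11 i)) 841) i = true :=
  all_step (all_zero _) chkC11_w0 rfl
def dS_c0 : ℕ := (nat_lit 0xe94a8c960a1000)
noncomputable def dS : ℕ → ℕ := memo (look1 dS_c0 (nat_lit 7) (nat_lit 127))
noncomputable def dS_par (i : ℕ) : ℕ := bits (dS i) (nat_lit 0) (nat_lit 7)
noncomputable def dS_gi (i : ℕ) : ℕ := bits (dS i) (nat_lit 3) (nat_lit 3)
noncomputable def dS_dep (i : ℕ) : ℕ := bits (dS i) (nat_lit 5) (nat_lit 3)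
def dST_c0 : ℕ := (nat_lit 0x9727cf7ca1ae12c0d1)
noncomputable def dST : ℕ → ℕ := memo (look1 dST_c0 (nat_lit 3) (nat_lit 7))
noncomputable def dST_T (i : ℕ) : ℕ := bits (dST i) (nat_lit 0) (nat_lit 7)
def dSc_c0 : ℕ := (nat_lit 0x94e680)
noncomputable def dSc : ℕ → ℕ := memo (look1 dSc_c0 (nat_lit 3) (nat_lit 7))
noncomputable def dSc_c (i : ℕ) : ℕ := bits (dSc i) (nat_lit 0) (nat_lit 7)
noncomputable def tS : ℕ → ℕ := O.tabW genS 3 dS_par dS_gi dS_dep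
noncomputable def ST (x j : ℕ) : ℕ := dST_T (Nat.add (Nat.mul x 3) j)
theorem chkS_w0 : allW (fun x => allB (O.edgeChk genS tS 8 ST (fun _ _ => O.one) x) 3) 0 8 = true := by decide +kernel
theorem chkS : ∀ i < 8, (fun x => allB (O.edgeChk genS tS 8 ST (fun _ _ => O.one) x) 3) i = true :=
  all_step (all_zero _) chkS_w0 rfl
theorem chkS_d : distinctB (fun i => O.key (tS i)) 8 = true := by decide +kernel
theorem chkS_c : allB (fun i => orB (O.eqB (tS i) O.one) (O.conjB (E (dSc_c i)) c_t (tS i))) 8 = true := by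
  decide +kernel
theorem chk0 : Nat.beq (tK 0) O.one = true ∧ Nat.beq (tW 0) O.one = true ∧ Nat.beq (tS 0) O.one = true ∧
    O.invChk gen genI 2 = true := by decide +kernel
theorem chkP2 : O.ordChk (E 16) 2 [2] = true ∧ O.ordChk (E 59) 2 [2] = true ∧
    O.ordChk (O.mul (E 16) (E 59)) 7 [7] = true := by decide +kernel
theorem chkP3 : O.ordChk (E 64) 3 [3] = true ∧ O.ordChk (E 68) 3 [3] = true ∧
    O.ordChk (O.mul (E 64) (E 68)) 7 [7] = true := by decide +kernel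
theorem chkP5 : O.ordChk (E 7) 5 [5] = true ∧ O.ordChk (E 71) 5 [5] = true ∧
    O.ordChk (O.mul (E 7) (E 71)) 7 [7] = true := by decide +kernel
theorem chkP11 : O.ordChk (E 53) 11 [11] = true ∧ O.ordChk (E 75) 11 [11] = true ∧
    O.ordChk (O.mul (E 53) (E 75)) 7 [7] = true := by decide +kernel
theorem chkP19 : O.ordChk (E 60) 19 [19] = true ∧ O.ordChk (E 76) 19 [19] = true ∧
    O.ordChk (O.mul (E 60) (E 76)) 7 [7] = true := by decide +kernel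
theorem chkP7 : O.ordChk (E 2) 7 [7] = true ∧ O.ordChk (E 79) 7 [7] = true ∧
    O.ordChk (O.mul (E 2) (E 79)) 5 [5] = true := by decide +kernel
theorem chkA5 : O.ordChk c_t 2 [2] = true ∧ O.ordChk c_x 2 [2] = true ∧ O.ordChk c_a 5 [5] = true ∧
    O.powOne (O.mul c_x c_a) 3 = true ∧ O.commB c_x c_t = true ∧ O.commB c_a c_t = true := by
  decide +kernel
theorem chkOrd : O.ordChk gX 7 [7] = true ∧ O.ordChk gY 5 [5] = true ∧ O.ordChk c_h 15 [3, 5] = true ∧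
    O.ordChk c_x11 11 [11] = true ∧ O.ordChk c_x19 19 [19] = true ∧ O.ordChk c_x6 6 [2, 3] = true ∧
    O.ordChk c_x10 10 [2, 5] = true ∧ O.ordChk c_i3 2 [2] = true ∧ O.ordChk c_i5 2 [2] = true ∧
    O.commB c_i3 (O.pow c_h 5) = true ∧ O.commB c_i5 (O.pow c_h 3) = true ∧
    O.commB gX gY = false := by
  decide +kernel
noncomputable def qU (i : ℕ) : Bool :=
  andB (notB (O.eqB (tC2 i) c_t)) (O.powOne (O.mul c_t (tC2 i)) 11)
noncomputable def qV (i : ℕ) : Bool :=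
  andB (O.powOne (O.mul c_t (tC2 i)) 2) (andB (O.powOne (O.mul c_u (tC2 i)) 3)
    (O.powOne (O.mul (O.mul c_t c_u) (tC2 i)) 19))
theorem chkU : cnt qU 1463 = 120 := by decide +kernel
theorem chkV : cnt qV 1463 = 1 := by decide +kernel
theorem chkAut : O.ordChk c_u 2 [2] = true ∧ O.ordChk c_v 2 [2] = true ∧ O.eqB c_u c_t = false ∧
    O.powOne (O.mul c_t c_u) 11 = true ∧ O.powOne (O.mul c_t c_v) 2 = true ∧
    O.powOne (O.mul c_u c_v) 3 = true ∧ O.powOne (O.mul (O.mul c_t c_u) c_v) 19 = true ∧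
    O.wordChk genA 3 [0, 1, 2, 1, 0, 1, 0, 1, 0, 2, 1, 0, 1, 0, 2, 1, 0, 1, 0, 2, 1, 0, 1, 0, 1, 2, 1, 0, 1, 0, 1, 0, 1, 0, 2, 1, 0, 1, 0, 2, 1, 0, 1] gX = true ∧
    O.wordChk genA 3 [0, 1, 0, 1, 2, 1, 0, 1, 0, 1, 0, 1, 2, 1, 0, 1, 0, 2, 1, 0, 1, 0, 1, 0, 1, 2, 1, 0, 1, 0, 1] gY = true := by decide +kernel

theorem eqns_J1Data : True := by
  first | (have := @Cfsg.Agent.H46.J1.dE_c0.eq_def.{0,0,0}) | (have := @Cfsg.Agent.H46.J1.dE_c0.eq_def.{0,0}) | (have := @Cfsg.Agent.H46.J1.dE_c0.eq_def.{0}) | (have := @Cfsg.Agent.H46.J1.dE_c0.eq_def) | skip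
  first | (have := @Cfsg.Agent.H46.J1.dE_c0.eq_1.{0,0,0}) | (have := @Cfsg.Agent.H46.J1.dE_c0.eq_1.{0,0}) | (have := @Cfsg.Agent.H46.J1.dE_c0.eq_1.{0}) | (have := @Cfsg.Agent.H46.J1.dE_c0.eq_1) | skip
  first | (have := @Cfsg.Agent.H46.J1.dE_c0.eq_2.{0,0,0}) | (have := @Cfsg.Agent.H46.J1.dE_c0.eq_2.{0,0}) | (have := @Cfsg.Agent.H46.J1.dE_c0.eq_2.{0}) | (have := @Cfsg.Agent.H46.J1.dE_c0.eq_2) | skip
  first | (have := @Cfsg.Agent.H46.J1.dE_c0.eq_unfold.{0,0,0}) | (have := @Cfsg.Agent.H46.J1.dE_c0.eq_unfold.{0,0}) | (have := @Cfsg.Agent.H46.J1.dE_c0.eq_unfold.{0}) | (have := @Cfsg.Agent.H46.J1.dE_c0.eq_unfold) | skip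
  first | (have := @Cfsg.Agent.H46.J1.dE_c0.congr_simp.{0,0,0}) | (have := @Cfsg.Agent.H46.J1.dE_c0.congr_simp.{0,0}) | (have := @Cfsg.Agent.H46.J1.dE_c0.congr_simp.{0}) | (have := @Cfsg.Agent.H46.J1.dE_c0.congr_simp) | skip
  first | (have := @Cfsg.Agent.H46.J1.dE.eq_def.{0,0,0}) | (have := @Cfsg.Agent.H46.J1.dE.eq_def.{0,0}) | (have := @Cfsg.Agent.H46.J1.dE.eq_def.{0}) | (have := @Cfsg.Agent.H46.J1.dE.eq_def) | skip
  first | (have := @Cfsg.Agent.H46.J1.dE.eq_1.{0,0,0}) | (have := @Cfsg.Agent.H46.J1.dE.eq_1.{0,0}) | (have := @Cfsg.Agent.H46.J1.dE.eq_1.{0}) | (have := @Cfsg.Agent.H46.J1.dE.eq_1) | skip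
  first | (have := @Cfsg.Agent.H46.J1.dE.eq_2.{0,0,0}) | (have := @Cfsg.Agent.H46.J1.dE.eq_2.{0,0}) | (have := @Cfsg.Agent.H46.J1.dE.eq_2.{0}) | (have := @Cfsg.Agent.H46.J1.dE.eq_2) | skip
  first | (have := @Cfsg.Agent.H46.J1.dE.eq_unfold.{0,0,0}) | (have := @Cfsg.Agent.H46.J1.dE.eq_unfold.{0,0}) | (have := @Cfsg.Agent.H46.J1.dE.eq_unfold.{0}) | (have := @Cfsg.Agent.H46.J1.dE.eq_unfold) | skip
  first | (have := @Cfsg.Agent.H46.J1.dE.congr_simp.{0,0,0}) | (have := @Cfsg.Agent.H46.J1.dE.congr_simp.{0,0}) | (have := @Cfsg.Agent.H46.J1.dE.congr_simp.{0}) | (have := @Cfsg.Agent.H46.J1.dE.congr_simp) | skip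
  first | (have := @Cfsg.Agent.H46.J1.dE_par.eq_def.{0,0,0}) | (have := @Cfsg.Agent.H46.J1.dE_par.eq_def.{0,0}) | (have := @Cfsg.Agent.H46.J1.dE_par.eq_def.{0}) | (have := @Cfsg.Agent.H46.J1.dE_par.eq_def) | skip
  first | (have := @Cfsg.Agent.H46.J1.dE_par.eq_1.{0,0,0}) | (have := @Cfsg.Agent.H46.J1.dE_par.eq_1.{0,0}) | (have := @Cfsg.Agent.H46.J1.dE_par.eq_1.{0}) | (have := @Cfsg.Agent.H46.J1.dE_par.eq_1) | skip
  first | (have := @Cfsg.Agent.H46.J1.dE_par.eq_2.{0,0,0}) | (have := @Cfsg.Agent.H46.J1.dE_par.eq_2.{0,0}) | (have := @Cfsg.Agent.H46.J1.dE_par.eq_2.{0}) | (have := @Cfsg.Agent.H46.J1.dE_par.eq_2) | skip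
  first | (have := @Cfsg.Agent.H46.J1.dE_par.eq_unfold.{0,0,0}) | (have := @Cfsg.Agent.H46.J1.dE_par.eq_unfold.{0,0}) | (have := @Cfsg.Agent.H46.J1.dE_par.eq_unfold.{0}) | (have := @Cfsg.Agent.H46.J1.dE_par.eq_unfold) | skip
  first | (have := @Cfsg.Agent.H46.J1.dE_par.congr_simp.{0,0,0}) | (have := @Cfsg.Agent.H46.J1.dE_par.congr_simp.{0,0}) | (have := @Cfsg.Agent.H46.J1.dE_par.congr_simp.{0}) | (have := @Cfsg.Agent.H46.J1.dE_par.congr_simp) | skip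
  first | (have := @Cfsg.Agent.H46.J1.dE_gi.eq_def.{0,0,0}) | (have := @Cfsg.Agent.H46.J1.dE_gi.eq_def.{0,0}) | (have := @Cfsg.Agent.H46.J1.dE_gi.eq_def.{0}) | (have := @Cfsg.Agent.H46.J1.dE_gi.eq_def) | skip
  first | (have := @Cfsg.Agent.H46.J1.dE_gi.eq_1.{0,0,0}) | (have := @Cfsg.Agent.H46.J1.dE_gi.eq_1.{0,0}) | (have := @Cfsg.Agent.H46.J1.dE_gi.eq_1.{0}) | (have := @Cfsg.Agent.H46.J1.dE_gi.eq_1) | skip
  first | (have := @Cfsg.Agent.H46.J1.dE_gi.eq_2.{0,0,0}) | (have := @Cfsg.Agent.H46.J1.dE_gi.eq_2.{0,0}) | (have := @Cfsg.Agent.H46.J1.dE_gi.eq_2.{0}) | (have := @Cfsg.Agent.H46.J1.dE_gi.eq_2) | skip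
  first | (have := @Cfsg.Agent.H46.J1.dE_gi.eq_unfold.{0,0,0}) | (have := @Cfsg.Agent.H46.J1.dE_gi.eq_unfold.{0,0}) | (have := @Cfsg.Agent.H46.J1.dE_gi.eq_unfold.{0}) | (have := @Cfsg.Agent.H46.J1.dE_gi.eq_unfold) | skip
  first | (have := @Cfsg.Agent.H46.J1.dE_gi.congr_simp.{0,0,0}) | (have := @Cfsg.Agent.H46.J1.dE_gi.congr_simp.{0,0}) | (have := @Cfsg.Agent.H46.J1.dE_gi.congr_simp.{0}) | (have := @Cfsg.Agent.H46.J1.dE_gi.congr_simp) | skip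
  first | (have := @Cfsg.Agent.H46.J1.dE_dep.eq_def.{0,0,0}) | (have := @Cfsg.Agent.H46.J1.dE_dep.eq_def.{0,0}) | (have := @Cfsg.Agent.H46.J1.dE_dep.eq_def.{0}) | (have := @Cfsg.Agent.H46.J1.dE_dep.eq_def) | skip
  first | (have := @Cfsg.Agent.H46.J1.dE_dep.eq_1.{0,0,0}) | (have := @Cfsg.Agent.H46.J1.dE_dep.eq_1.{0,0}) | (have := @Cfsg.Agent.H46.J1.dE_dep.eq_1.{0}) | (have := @Cfsg.Agent.H46.J1.dE_dep.eq_1) | skip
  first | (have := @Cfsg.Agent.H46.J1.dE_dep.eq_2.{0,0,0}) | (have := @Cfsg.Agent.H46.J1.dE_dep.eq_2.{0,0}) | (have := @Cfsg.Agent.H46.J1.dE_dep.eq_2.{0}) | (have := @Cfsg.Agent.H46.J1.dE_dep.eq_2) | skip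
  first | (have := @Cfsg.Agent.H46.J1.dE_dep.eq_unfold.{0,0,0}) | (have := @Cfsg.Agent.H46.J1.dE_dep.eq_unfold.{0,0}) | (have := @Cfsg.Agent.H46.J1.dE_dep.eq_unfold.{0}) | (have := @Cfsg.Agent.H46.J1.dE_dep.eq_unfold) | skip
  first | (have := @Cfsg.Agent.H46.J1.dE_dep.congr_simp.{0,0,0}) | (have := @Cfsg.Agent.H46.J1.dE_dep.congr_simp.{0,0}) | (have := @Cfsg.Agent.H46.J1.dE_dep.congr_simp.{0}) | (have := @Cfsg.Agent.H46.J1.dE_dep.congr_simp) | skip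
  first | (have := @Cfsg.Agent.H46.J1.E.eq_def.{0,0,0}) | (have := @Cfsg.Agent.H46.J1.E.eq_def.{0,0}) | (have := @Cfsg.Agent.H46.J1.E.eq_def.{0}) | (have := @Cfsg.Agent.H46.J1.E.eq_def) | skip
  first | (have := @Cfsg.Agent.H46.J1.E.eq_1.{0,0,0}) | (have := @Cfsg.Agent.H46.J1.E.eq_1.{0,0}) | (have := @Cfsg.Agent.H46.J1.E.eq_1.{0}) | (have := @Cfsg.Agent.H46.J1.E.eq_1) | skip
  first | (have := @Cfsg.Agent.H46.J1.E.eq_2.{0,0,0}) | (have := @Cfsg.Agent.H46.J1.E.eq_2.{0,0}) | (have := @Cfsg.Agent.H46.J1.E.eq_2.{0}) | (have := @Cfsg.Agent.H46.J1.E.eq_2) | skip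
  first | (have := @Cfsg.Agent.H46.J1.E.eq_unfold.{0,0,0}) | (have := @Cfsg.Agent.H46.J1.E.eq_unfold.{0,0}) | (have := @Cfsg.Agent.H46.J1.E.eq_unfold.{0}) | (have := @Cfsg.Agent.H46.J1.E.eq_unfold) | skip
  first | (have := @Cfsg.Agent.H46.J1.E.congr_simp.{0,0,0}) | (have := @Cfsg.Agent.H46.J1.E.congr_simp.{0,0}) | (have := @Cfsg.Agent.H46.J1.E.congr_simp.{0}) | (have := @Cfsg.Agent.H46.J1.E.congr_simp) | skip
  first | (have := @Cfsg.Agent.H46.J1.c_iX.eq_def.{0,0,0}) | (have := @Cfsg.Agent.H46.J1.c_iX.eq_def.{0,0}) | (have := @Cfsg.Agent.H46.J1.c_iX.eq_def.{0}) | (have := @Cfsg.Agent.H46.J1.c_iX.eq_def) | skip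
  first | (have := @Cfsg.Agent.H46.J1.c_iX.eq_1.{0,0,0}) | (have := @Cfsg.Agent.H46.J1.c_iX.eq_1.{0,0}) | (have := @Cfsg.Agent.H46.J1.c_iX.eq_1.{0}) | (have := @Cfsg.Agent.H46.J1.c_iX.eq_1) | skip
  first | (have := @Cfsg.Agent.H46.J1.c_iX.eq_2.{0,0,0}) | (have := @Cfsg.Agent.H46.J1.c_iX.eq_2.{0,0}) | (have := @Cfsg.Agent.H46.J1.c_iX.eq_2.{0}) | (have := @Cfsg.Agent.H46.J1.c_iX.eq_2) | skip
  first | (have := @Cfsg.Agent.H46.J1.c_iX.eq_unfold.{0,0,0}) | (have := @Cfsg.Agent.H46.J1.c_iX.eq_unfold.{0,0}) | (have := @Cfsg.Agent.H46.J1.c_iX.eq_unfold.{0}) | (have := @Cfsg.Agent.H46.J1.c_iX.eq_unfold) | skip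
  first | (have := @Cfsg.Agent.H46.J1.c_iX.congr_simp.{0,0,0}) | (have := @Cfsg.Agent.H46.J1.c_iX.congr_simp.{0,0}) | (have := @Cfsg.Agent.H46.J1.c_iX.congr_simp.{0}) | (have := @Cfsg.Agent.H46.J1.c_iX.congr_simp) | skip
  first | (have := @Cfsg.Agent.H46.J1.c_iY.eq_def.{0,0,0}) | (have := @Cfsg.Agent.H46.J1.c_iY.eq_def.{0,0}) | (have := @Cfsg.Agent.H46.J1.c_iY.eq_def.{0}) | (have := @Cfsg.Agent.H46.J1.c_iY.eq_def) | skip
  first | (have := @Cfsg.Agent.H46.J1.c_iY.eq_1.{0,0,0}) | (have := @Cfsg.Agent.H46.J1.c_iY.eq_1.{0,0}) | (have := @Cfsg.Agent.H46.J1.c_iY.eq_1.{0}) | (have := @Cfsg.Agent.H46.J1.c_iY.eq_1) | skip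
  first | (have := @Cfsg.Agent.H46.J1.c_iY.eq_2.{0,0,0}) | (have := @Cfsg.Agent.H46.J1.c_iY.eq_2.{0,0}) | (have := @Cfsg.Agent.H46.J1.c_iY.eq_2.{0}) | (have := @Cfsg.Agent.H46.J1.c_iY.eq_2) | skip
  first | (have := @Cfsg.Agent.H46.J1.c_iY.eq_unfold.{0,0,0}) | (have := @Cfsg.Agent.H46.J1.c_iY.eq_unfold.{0,0}) | (have := @Cfsg.Agent.H46.J1.c_iY.eq_unfold.{0}) | (have := @Cfsg.Agent.H46.J1.c_iY.eq_unfold) | skip
  first | (have := @Cfsg.Agent.H46.J1.c_iY.congr_simp.{0,0,0}) | (have := @Cfsg.Agent.H46.J1.c_iY.congr_simp.{0,0}) | (have := @Cfsg.Agent.H46.J1.c_iY.congr_simp.{0}) | (have := @Cfsg.Agent.H46.J1.c_iY.congr_simp) | skip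
  first | (have := @Cfsg.Agent.H46.J1.c_t.eq_def.{0,0,0}) | (have := @Cfsg.Agent.H46.J1.c_t.eq_def.{0,0}) | (have := @Cfsg.Agent.H46.J1.c_t.eq_def.{0}) | (have := @Cfsg.Agent.H46.J1.c_t.eq_def) | skip
  first | (have := @Cfsg.Agent.H46.J1.c_t.eq_1.{0,0,0}) | (have := @Cfsg.Agent.H46.J1.c_t.eq_1.{0,0}) | (have := @Cfsg.Agent.H46.J1.c_t.eq_1.{0}) | (have := @Cfsg.Agent.H46.J1.c_t.eq_1) | skip
  first | (have := @Cfsg.Agent.H46.J1.c_t.eq_2.{0,0,0}) | (have := @Cfsg.Agent.H46.J1.c_t.eq_2.{0,0}) | (have := @Cfsg.Agent.H46.J1.c_t.eq_2.{0}) | (have := @Cfsg.Agent.H46.J1.c_t.eq_2) | skip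
  first | (have := @Cfsg.Agent.H46.J1.c_t.eq_unfold.{0,0,0}) | (have := @Cfsg.Agent.H46.J1.c_t.eq_unfold.{0,0}) | (have := @Cfsg.Agent.H46.J1.c_t.eq_unfold.{0}) | (have := @Cfsg.Agent.H46.J1.c_t.eq_unfold) | skip
  first | (have := @Cfsg.Agent.H46.J1.c_t.congr_simp.{0,0,0}) | (have := @Cfsg.Agent.H46.J1.c_t.congr_simp.{0,0}) | (have := @Cfsg.Agent.H46.J1.c_t.congr_simp.{0}) | (have := @Cfsg.Agent.H46.J1.c_t.congr_simp) | skip
  first | (have := @Cfsg.Agent.H46.J1.c_x.eq_def.{0,0,0}) | (have := @Cfsg.Agent.H46.J1.c_x.eq_def.{0,0}) | (have := @Cfsg.Agent.H46.J1.c_x.eq_def.{0}) | (have := @Cfsg.Agent.H46.J1.c_x.eq_def) | skip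
  first | (have := @Cfsg.Agent.H46.J1.c_x.eq_1.{0,0,0}) | (have := @Cfsg.Agent.H46.J1.c_x.eq_1.{0,0}) | (have := @Cfsg.Agent.H46.J1.c_x.eq_1.{0}) | (have := @Cfsg.Agent.H46.J1.c_x.eq_1) | skip
  first | (have := @Cfsg.Agent.H46.J1.c_x.eq_2.{0,0,0}) | (have := @Cfsg.Agent.H46.J1.c_x.eq_2.{0,0}) | (have := @Cfsg.Agent.H46.J1.c_x.eq_2.{0}) | (have := @Cfsg.Agent.H46.J1.c_x.eq_2) | skip
  first | (have := @Cfsg.Agent.H46.J1.c_x.eq_unfold.{0,0,0}) | (have := @Cfsg.Agent.H46.J1.c_x.eq_unfold.{0,0}) | (have := @Cfsg.Agent.H46.J1.c_x.eq_unfold.{0}) | (have := @Cfsg.Agent.H46.J1.c_x.eq_unfold) | skip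
  first | (have := @Cfsg.Agent.H46.J1.c_x.congr_simp.{0,0,0}) | (have := @Cfsg.Agent.H46.J1.c_x.congr_simp.{0,0}) | (have := @Cfsg.Agent.H46.J1.c_x.congr_simp.{0}) | (have := @Cfsg.Agent.H46.J1.c_x.congr_simp) | skip
  first | (have := @Cfsg.Agent.H46.J1.c_a.eq_def.{0,0,0}) | (have := @Cfsg.Agent.H46.J1.c_a.eq_def.{0,0}) | (have := @Cfsg.Agent.H46.J1.c_a.eq_def.{0}) | (have := @Cfsg.Agent.H46.J1.c_a.eq_def) | skip
  first | (have := @Cfsg.Agent.H46.J1.c_a.eq_1.{0,0,0}) | (have := @Cfsg.Agent.H46.J1.c_a.eq_1.{0,0}) | (have := @Cfsg.Agent.H46.J1.c_a.eq_1.{0}) | (have := @Cfsg.Agent.H46.J1.c_a.eq_1) | skip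
  first | (have := @Cfsg.Agent.H46.J1.c_a.eq_2.{0,0,0}) | (have := @Cfsg.Agent.H46.J1.c_a.eq_2.{0,0}) | (have := @Cfsg.Agent.H46.J1.c_a.eq_2.{0}) | (have := @Cfsg.Agent.H46.J1.c_a.eq_2) | skip
  first | (have := @Cfsg.Agent.H46.J1.c_a.eq_unfold.{0,0,0}) | (have := @Cfsg.Agent.H46.J1.c_a.eq_unfold.{0,0}) | (have := @Cfsg.Agent.H46.J1.c_a.eq_unfold.{0}) | (have := @Cfsg.Agent.H46.J1.c_a.eq_unfold) | skip
  first | (have := @Cfsg.Agent.H46.J1.c_a.congr_simp.{0,0,0}) | (have := @Cfsg.Agent.H46.J1.c_a.congr_simp.{0,0}) | (have := @Cfsg.Agent.H46.J1.c_a.congr_simp.{0}) | (have := @Cfsg.Agent.H46.J1.c_a.congr_simp) | skip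
  first | (have := @Cfsg.Agent.H46.J1.c_kb.eq_def.{0,0,0}) | (have := @Cfsg.Agent.H46.J1.c_kb.eq_def.{0,0}) | (have := @Cfsg.Agent.H46.J1.c_kb.eq_def.{0}) | (have := @Cfsg.Agent.H46.J1.c_kb.eq_def) | skip
  first | (have := @Cfsg.Agent.H46.J1.c_kb.eq_1.{0,0,0}) | (have := @Cfsg.Agent.H46.J1.c_kb.eq_1.{0,0}) | (have := @Cfsg.Agent.H46.J1.c_kb.eq_1.{0}) | (have := @Cfsg.Agent.H46.J1.c_kb.eq_1) | skip
  first | (have := @Cfsg.Agent.H46.J1.c_kb.eq_2.{0,0,0}) | (have := @Cfsg.Agent.H46.J1.c_kb.eq_2.{0,0}) | (have := @Cfsg.Agent.H46.J1.c_kb.eq_2.{0}) | (have := @Cfsg.Agent.H46.J1.c_kb.eq_2) | skip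
  first | (have := @Cfsg.Agent.H46.J1.c_kb.eq_unfold.{0,0,0}) | (have := @Cfsg.Agent.H46.J1.c_kb.eq_unfold.{0,0}) | (have := @Cfsg.Agent.H46.J1.c_kb.eq_unfold.{0}) | (have := @Cfsg.Agent.H46.J1.c_kb.eq_unfold) | skip
  first | (have := @Cfsg.Agent.H46.J1.c_kb.congr_simp.{0,0,0}) | (have := @Cfsg.Agent.H46.J1.c_kb.congr_simp.{0,0}) | (have := @Cfsg.Agent.H46.J1.c_kb.congr_simp.{0}) | (have := @Cfsg.Agent.H46.J1.c_kb.congr_simp) | skip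
  first | (have := @Cfsg.Agent.H46.J1.c_s.eq_def.{0,0,0}) | (have := @Cfsg.Agent.H46.J1.c_s.eq_def.{0,0}) | (have := @Cfsg.Agent.H46.J1.c_s.eq_def.{0}) | (have := @Cfsg.Agent.H46.J1.c_s.eq_def) | skip
  first | (have := @Cfsg.Agent.H46.J1.c_s.eq_1.{0,0,0}) | (have := @Cfsg.Agent.H46.J1.c_s.eq_1.{0,0}) | (have := @Cfsg.Agent.H46.J1.c_s.eq_1.{0}) | (have := @Cfsg.Agent.H46.J1.c_s.eq_1) | skip
  first | (have := @Cfsg.Agent.H46.J1.c_s.eq_2.{0,0,0}) | (have := @Cfsg.Agent.H46.J1.c_s.eq_2.{0,0}) | (have := @Cfsg.Agent.H46.J1.c_s.eq_2.{0}) | (have := @Cfsg.Agent.H46.J1.c_s.eq_2) | skip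
  first | (have := @Cfsg.Agent.H46.J1.c_s.eq_unfold.{0,0,0}) | (have := @Cfsg.Agent.H46.J1.c_s.eq_unfold.{0,0}) | (have := @Cfsg.Agent.H46.J1.c_s.eq_unfold.{0}) | (have := @Cfsg.Agent.H46.J1.c_s.eq_unfold) | skip
  first | (have := @Cfsg.Agent.H46.J1.c_s.congr_simp.{0,0,0}) | (have := @Cfsg.Agent.H46.J1.c_s.congr_simp.{0,0}) | (have := @Cfsg.Agent.H46.J1.c_s.congr_simp.{0}) | (have := @Cfsg.Agent.H46.J1.c_s.congr_simp) | skip
  first | (have := @Cfsg.Agent.H46.J1.c_u.eq_def.{0,0,0}) | (have := @Cfsg.Agent.H46.J1.c_u.eq_def.{0,0}) | (have := @Cfsg.Agent.H46.J1.c_u.eq_def.{0}) | (have := @Cfsg.Agent.H46.J1.c_u.eq_def) | skip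
  first | (have := @Cfsg.Agent.H46.J1.c_u.eq_1.{0,0,0}) | (have := @Cfsg.Agent.H46.J1.c_u.eq_1.{0,0}) | (have := @Cfsg.Agent.H46.J1.c_u.eq_1.{0}) | (have := @Cfsg.Agent.H46.J1.c_u.eq_1) | skip
  first | (have := @Cfsg.Agent.H46.J1.c_u.eq_2.{0,0,0}) | (have := @Cfsg.Agent.H46.J1.c_u.eq_2.{0,0}) | (have := @Cfsg.Agent.H46.J1.c_u.eq_2.{0}) | (have := @Cfsg.Agent.H46.J1.c_u.eq_2) | skip
  first | (have := @Cfsg.Agent.H46.J1.c_u.eq_unfold.{0,0,0}) | (have := @Cfsg.Agent.H46.J1.c_u.eq_unfold.{0,0}) | (have := @Cfsg.Agent.H46.J1.c_u.eq_unfold.{0}) | (have := @Cfsg.Agent.H46.J1.c_u.eq_unfold) | skip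
  first | (have := @Cfsg.Agent.H46.J1.c_u.congr_simp.{0,0,0}) | (have := @Cfsg.Agent.H46.J1.c_u.congr_simp.{0,0}) | (have := @Cfsg.Agent.H46.J1.c_u.congr_simp.{0}) | (have := @Cfsg.Agent.H46.J1.c_u.congr_simp) | skip
  first | (have := @Cfsg.Agent.H46.J1.c_v.eq_def.{0,0,0}) | (have := @Cfsg.Agent.H46.J1.c_v.eq_def.{0,0}) | (have := @Cfsg.Agent.H46.J1.c_v.eq_def.{0}) | (have := @Cfsg.Agent.H46.J1.c_v.eq_def) | skip
  first | (have := @Cfsg.Agent.H46.J1.c_v.eq_1.{0,0,0}) | (have := @Cfsg.Agent.H46.J1.c_v.eq_1.{0,0}) | (have := @Cfsg.Agent.H46.J1.c_v.eq_1.{0}) | (have := @Cfsg.Agent.H46.J1.c_v.eq_1) | skip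
  first | (have := @Cfsg.Agent.H46.J1.c_v.eq_2.{0,0,0}) | (have := @Cfsg.Agent.H46.J1.c_v.eq_2.{0,0}) | (have := @Cfsg.Agent.H46.J1.c_v.eq_2.{0}) | (have := @Cfsg.Agent.H46.J1.c_v.eq_2) | skip
  first | (have := @Cfsg.Agent.H46.J1.c_v.eq_unfold.{0,0,0}) | (have := @Cfsg.Agent.H46.J1.c_v.eq_unfold.{0,0}) | (have := @Cfsg.Agent.H46.J1.c_v.eq_unfold.{0}) | (have := @Cfsg.Agent.H46.J1.c_v.eq_unfold) | skip
  first | (have := @Cfsg.Agent.H46.J1.c_v.congr_simp.{0,0,0}) | (have := @Cfsg.Agent.H46.J1.c_v.congr_simp.{0,0}) | (have := @Cfsg.Agent.H46.J1.c_v.congr_simp.{0}) | (have := @Cfsg.Agent.H46.J1.c_v.congr_simp) | skip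
  first | (have := @Cfsg.Agent.H46.J1.c_h.eq_def.{0,0,0}) | (have := @Cfsg.Agent.H46.J1.c_h.eq_def.{0,0}) | (have := @Cfsg.Agent.H46.J1.c_h.eq_def.{0}) | (have := @Cfsg.Agent.H46.J1.c_h.eq_def) | skip
  first | (have := @Cfsg.Agent.H46.J1.c_h.eq_1.{0,0,0}) | (have := @Cfsg.Agent.H46.J1.c_h.eq_1.{0,0}) | (have := @Cfsg.Agent.H46.J1.c_h.eq_1.{0}) | (have := @Cfsg.Agent.H46.J1.c_h.eq_1) | skip
  first | (have := @Cfsg.Agent.H46.J1.c_h.eq_2.{0,0,0}) | (have := @Cfsg.Agent.H46.J1.c_h.eq_2.{0,0}) | (have := @Cfsg.Agent.H46.J1.c_h.eq_2.{0}) | (have := @Cfsg.Agent.H46.J1.c_h.eq_2) | skip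
  first | (have := @Cfsg.Agent.H46.J1.c_h.eq_unfold.{0,0,0}) | (have := @Cfsg.Agent.H46.J1.c_h.eq_unfold.{0,0}) | (have := @Cfsg.Agent.H46.J1.c_h.eq_unfold.{0}) | (have := @Cfsg.Agent.H46.J1.c_h.eq_unfold) | skip
  first | (have := @Cfsg.Agent.H46.J1.c_h.congr_simp.{0,0,0}) | (have := @Cfsg.Agent.H46.J1.c_h.congr_simp.{0,0}) | (have := @Cfsg.Agent.H46.J1.c_h.congr_simp.{0}) | (have := @Cfsg.Agent.H46.J1.c_h.congr_simp) | skip
  first | (have := @Cfsg.Agent.H46.J1.c_i3.eq_def.{0,0,0}) | (have := @Cfsg.Agent.H46.J1.c_i3.eq_def.{0,0}) | (have := @Cfsg.Agent.H46.J1.c_i3.eq_def.{0}) | (have := @Cfsg.Agent.H46.J1.c_i3.eq_def) | skip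
  first | (have := @Cfsg.Agent.H46.J1.c_i3.eq_1.{0,0,0}) | (have := @Cfsg.Agent.H46.J1.c_i3.eq_1.{0,0}) | (have := @Cfsg.Agent.H46.J1.c_i3.eq_1.{0}) | (have := @Cfsg.Agent.H46.J1.c_i3.eq_1) | skip
  first | (have := @Cfsg.Agent.H46.J1.c_i3.eq_2.{0,0,0}) | (have := @Cfsg.Agent.H46.J1.c_i3.eq_2.{0,0}) | (have := @Cfsg.Agent.H46.J1.c_i3.eq_2.{0}) | (have := @Cfsg.Agent.H46.J1.c_i3.eq_2) | skip
  first | (have := @Cfsg.Agent.H46.J1.c_i3.eq_unfold.{0,0,0}) | (have := @Cfsg.Agent.H46.J1.c_i3.eq_unfold.{0,0}) | (have := @Cfsg.Agent.H46.J1.c_i3.eq_unfold.{0}) | (have := @Cfsg.Agent.H46.J1.c_i3.eq_unfold) | skip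
  first | (have := @Cfsg.Agent.H46.J1.c_i3.congr_simp.{0,0,0}) | (have := @Cfsg.Agent.H46.J1.c_i3.congr_simp.{0,0}) | (have := @Cfsg.Agent.H46.J1.c_i3.congr_simp.{0}) | (have := @Cfsg.Agent.H46.J1.c_i3.congr_simp) | skip
  first | (have := @Cfsg.Agent.H46.J1.c_i5.eq_def.{0,0,0}) | (have := @Cfsg.Agent.H46.J1.c_i5.eq_def.{0,0}) | (have := @Cfsg.Agent.H46.J1.c_i5.eq_def.{0}) | (have := @Cfsg.Agent.H46.J1.c_i5.eq_def) | skip
  first | (have := @Cfsg.Agent.H46.J1.c_i5.eq_1.{0,0,0}) | (have := @Cfsg.Agent.H46.J1.c_i5.eq_1.{0,0}) | (have := @Cfsg.Agent.H46.J1.c_i5.eq_1.{0}) | (have := @Cfsg.Agent.H46.J1.c_i5.eq_1) | skip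
  first | (have := @Cfsg.Agent.H46.J1.c_i5.eq_2.{0,0,0}) | (have := @Cfsg.Agent.H46.J1.c_i5.eq_2.{0,0}) | (have := @Cfsg.Agent.H46.J1.c_i5.eq_2.{0}) | (have := @Cfsg.Agent.H46.J1.c_i5.eq_2) | skip
  first | (have := @Cfsg.Agent.H46.J1.c_i5.eq_unfold.{0,0,0}) | (have := @Cfsg.Agent.H46.J1.c_i5.eq_unfold.{0,0}) | (have := @Cfsg.Agent.H46.J1.c_i5.eq_unfold.{0}) | (have := @Cfsg.Agent.H46.J1.c_i5.eq_unfold) | skip
  first | (have := @Cfsg.Agent.H46.J1.c_i5.congr_simp.{0,0,0}) | (have := @Cfsg.Agent.H46.J1.c_i5.congr_simp.{0,0}) | (have := @Cfsg.Agent.H46.J1.c_i5.congr_simp.{0}) | (have := @Cfsg.Agent.H46.J1.c_i5.congr_simp) | skip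
  first | (have := @Cfsg.Agent.H46.J1.c_x11.eq_def.{0,0,0}) | (have := @Cfsg.Agent.H46.J1.c_x11.eq_def.{0,0}) | (have := @Cfsg.Agent.H46.J1.c_x11.eq_def.{0}) | (have := @Cfsg.Agent.H46.J1.c_x11.eq_def) | skip
  first | (have := @Cfsg.Agent.H46.J1.c_x11.eq_1.{0,0,0}) | (have := @Cfsg.Agent.H46.J1.c_x11.eq_1.{0,0}) | (have := @Cfsg.Agent.H46.J1.c_x11.eq_1.{0}) | (have := @Cfsg.Agent.H46.J1.c_x11.eq_1) | skip
  first | (have := @Cfsg.Agent.H46.J1.c_x11.eq_2.{0,0,0}) | (have := @Cfsg.Agent.H46.J1.c_x11.eq_2.{0,0}) | (have := @Cfsg.Agent.H46.J1.c_x11.eq_2.{0}) | (have := @Cfsg.Agent.H46.J1.c_x11.eq_2) | skip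
  first | (have := @Cfsg.Agent.H46.J1.c_x11.eq_unfold.{0,0,0}) | (have := @Cfsg.Agent.H46.J1.c_x11.eq_unfold.{0,0}) | (have := @Cfsg.Agent.H46.J1.c_x11.eq_unfold.{0}) | (have := @Cfsg.Agent.H46.J1.c_x11.eq_unfold) | skip
  first | (have := @Cfsg.Agent.H46.J1.c_x11.congr_simp.{0,0,0}) | (have := @Cfsg.Agent.H46.J1.c_x11.congr_simp.{0,0}) | (have := @Cfsg.Agent.H46.J1.c_x11.congr_simp.{0}) | (have := @Cfsg.Agent.H46.J1.c_x11.congr_simp) | skip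
  first | (have := @Cfsg.Agent.H46.J1.c_x19.eq_def.{0,0,0}) | (have := @Cfsg.Agent.H46.J1.c_x19.eq_def.{0,0}) | (have := @Cfsg.Agent.H46.J1.c_x19.eq_def.{0}) | (have := @Cfsg.Agent.H46.J1.c_x19.eq_def) | skip
  first | (have := @Cfsg.Agent.H46.J1.c_x19.eq_1.{0,0,0}) | (have := @Cfsg.Agent.H46.J1.c_x19.eq_1.{0,0}) | (have := @Cfsg.Agent.H46.J1.c_x19.eq_1.{0}) | (have := @Cfsg.Agent.H46.J1.c_x19.eq_1) | skip
  first | (have := @Cfsg.Agent.H46.J1.c_x19.eq_2.{0,0,0}) | (have := @Cfsg.Agent.H46.J1.c_x19.eq_2.{0,0}) | (have := @Cfsg.Agent.H46.J1.c_x19.eq_2.{0}) | (have := @Cfsg.Agent.H46.J1.c_x19.eq_2) | skip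
  first | (have := @Cfsg.Agent.H46.J1.c_x19.eq_unfold.{0,0,0}) | (have := @Cfsg.Agent.H46.J1.c_x19.eq_unfold.{0,0}) | (have := @Cfsg.Agent.H46.J1.c_x19.eq_unfold.{0}) | (have := @Cfsg.Agent.H46.J1.c_x19.eq_unfold) | skip
  first | (have := @Cfsg.Agent.H46.J1.c_x19.congr_simp.{0,0,0}) | (have := @Cfsg.Agent.H46.J1.c_x19.congr_simp.{0,0}) | (have := @Cfsg.Agent.H46.J1.c_x19.congr_simp.{0}) | (have := @Cfsg.Agent.H46.J1.c_x19.congr_simp) | skip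
  first | (have := @Cfsg.Agent.H46.J1.c_x6.eq_def.{0,0,0}) | (have := @Cfsg.Agent.H46.J1.c_x6.eq_def.{0,0}) | (have := @Cfsg.Agent.H46.J1.c_x6.eq_def.{0}) | (have := @Cfsg.Agent.H46.J1.c_x6.eq_def) | skip
  first | (have := @Cfsg.Agent.H46.J1.c_x6.eq_1.{0,0,0}) | (have := @Cfsg.Agent.H46.J1.c_x6.eq_1.{0,0}) | (have := @Cfsg.Agent.H46.J1.c_x6.eq_1.{0}) | (have := @Cfsg.Agent.H46.J1.c_x6.eq_1) | skip
  first | (have := @Cfsg.Agent.H46.J1.c_x6.eq_2.{0,0,0}) | (have := @Cfsg.Agent.H46.J1.c_x6.eq_2.{0,0}) | (have := @Cfsg.Agent.H46.J1.c_x6.eq_2.{0}) | (have := @Cfsg.Agent.H46.J1.c_x6.eq_2) | skip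
  first | (have := @Cfsg.Agent.H46.J1.c_x6.eq_unfold.{0,0,0}) | (have := @Cfsg.Agent.H46.J1.c_x6.eq_unfold.{0,0}) | (have := @Cfsg.Agent.H46.J1.c_x6.eq_unfold.{0}) | (have := @Cfsg.Agent.H46.J1.c_x6.eq_unfold) | skip
  first | (have := @Cfsg.Agent.H46.J1.c_x6.congr_simp.{0,0,0}) | (have := @Cfsg.Agent.H46.J1.c_x6.congr_simp.{0,0}) | (have := @Cfsg.Agent.H46.J1.c_x6.congr_simp.{0}) | (have := @Cfsg.Agent.H46.J1.c_x6.congr_simp) | skip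
  first | (have := @Cfsg.Agent.H46.J1.c_x10.eq_def.{0,0,0}) | (have := @Cfsg.Agent.H46.J1.c_x10.eq_def.{0,0}) | (have := @Cfsg.Agent.H46.J1.c_x10.eq_def.{0}) | (have := @Cfsg.Agent.H46.J1.c_x10.eq_def) | skip
  first | (have := @Cfsg.Agent.H46.J1.c_x10.eq_1.{0,0,0}) | (have := @Cfsg.Agent.H46.J1.c_x10.eq_1.{0,0}) | (have := @Cfsg.Agent.H46.J1.c_x10.eq_1.{0}) | (have := @Cfsg.Agent.H46.J1.c_x10.eq_1) | skip
  first | (have := @Cfsg.Agent.H46.J1.c_x10.eq_2.{0,0,0}) | (have := @Cfsg.Agent.H46.J1.c_x10.eq_2.{0,0}) | (have := @Cfsg.Agent.H46.J1.c_x10.eq_2.{0}) | (have := @Cfsg.Agent.H46.J1.c_x10.eq_2) | skip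
  first | (have := @Cfsg.Agent.H46.J1.c_x10.eq_unfold.{0,0,0}) | (have := @Cfsg.Agent.H46.J1.c_x10.eq_unfold.{0,0}) | (have := @Cfsg.Agent.H46.J1.c_x10.eq_unfold.{0}) | (have := @Cfsg.Agent.H46.J1.c_x10.eq_unfold) | skip
  first | (have := @Cfsg.Agent.H46.J1.c_x10.congr_simp.{0,0,0}) | (have := @Cfsg.Agent.H46.J1.c_x10.congr_simp.{0,0}) | (have := @Cfsg.Agent.H46.J1.c_x10.congr_simp.{0}) | (have := @Cfsg.Agent.H46.J1.c_x10.congr_simp) | skip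
  first | (have := @Cfsg.Agent.H46.J1.genI.eq_def.{0,0,0}) | (have := @Cfsg.Agent.H46.J1.genI.eq_def.{0,0}) | (have := @Cfsg.Agent.H46.J1.genI.eq_def.{0}) | (have := @Cfsg.Agent.H46.J1.genI.eq_def) | skip
  first | (have := @Cfsg.Agent.H46.J1.genI.eq_1.{0,0,0}) | (have := @Cfsg.Agent.H46.J1.genI.eq_1.{0,0}) | (have := @Cfsg.Agent.H46.J1.genI.eq_1.{0}) | (have := @Cfsg.Agent.H46.J1.genI.eq_1) | skip
  first | (have := @Cfsg.Agent.H46.J1.genI.eq_2.{0,0,0}) | (have := @Cfsg.Agent.H46.J1.genI.eq_2.{0,0}) | (have := @Cfsg.Agent.H46.J1.genI.eq_2.{0}) | (have := @Cfsg.Agent.H46.J1.genI.eq_2) | skip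
  first | (have := @Cfsg.Agent.H46.J1.genI.eq_unfold.{0,0,0}) | (have := @Cfsg.Agent.H46.J1.genI.eq_unfold.{0,0}) | (have := @Cfsg.Agent.H46.J1.genI.eq_unfold.{0}) | (have := @Cfsg.Agent.H46.J1.genI.eq_unfold) | skip
  first | (have := @Cfsg.Agent.H46.J1.genI.congr_simp.{0,0,0}) | (have := @Cfsg.Agent.H46.J1.genI.congr_simp.{0,0}) | (have := @Cfsg.Agent.H46.J1.genI.congr_simp.{0}) | (have := @Cfsg.Agent.H46.J1.genI.congr_simp) | skip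
  first | (have := @Cfsg.Agent.H46.J1.genK.eq_def.{0,0,0}) | (have := @Cfsg.Agent.H46.J1.genK.eq_def.{0,0}) | (have := @Cfsg.Agent.H46.J1.genK.eq_def.{0}) | (have := @Cfsg.Agent.H46.J1.genK.eq_def) | skip
  first | (have := @Cfsg.Agent.H46.J1.genK.eq_1.{0,0,0}) | (have := @Cfsg.Agent.H46.J1.genK.eq_1.{0,0}) | (have := @Cfsg.Agent.H46.J1.genK.eq_1.{0}) | (have := @Cfsg.Agent.H46.J1.genK.eq_1) | skip
  first | (have := @Cfsg.Agent.H46.J1.genK.eq_2.{0,0,0}) | (have := @Cfsg.Agent.H46.J1.genK.eq_2.{0,0}) | (have := @Cfsg.Agent.H46.J1.genK.eq_2.{0}) | (have := @Cfsg.Agent.H46.J1.genK.eq_2) | skip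
  first | (have := @Cfsg.Agent.H46.J1.genK.eq_unfold.{0,0,0}) | (have := @Cfsg.Agent.H46.J1.genK.eq_unfold.{0,0}) | (have := @Cfsg.Agent.H46.J1.genK.eq_unfold.{0}) | (have := @Cfsg.Agent.H46.J1.genK.eq_unfold) | skip
  first | (have := @Cfsg.Agent.H46.J1.genK.congr_simp.{0,0,0}) | (have := @Cfsg.Agent.H46.J1.genK.congr_simp.{0,0}) | (have := @Cfsg.Agent.H46.J1.genK.congr_simp.{0}) | (have := @Cfsg.Agent.H46.J1.genK.congr_simp) | skip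
  first | (have := @Cfsg.Agent.H46.J1.genS.eq_def.{0,0,0}) | (have := @Cfsg.Agent.H46.J1.genS.eq_def.{0,0}) | (have := @Cfsg.Agent.H46.J1.genS.eq_def.{0}) | (have := @Cfsg.Agent.H46.J1.genS.eq_def) | skip
  first | (have := @Cfsg.Agent.H46.J1.genS.eq_1.{0,0,0}) | (have := @Cfsg.Agent.H46.J1.genS.eq_1.{0,0}) | (have := @Cfsg.Agent.H46.J1.genS.eq_1.{0}) | (have := @Cfsg.Agent.H46.J1.genS.eq_1) | skip
  first | (have := @Cfsg.Agent.H46.J1.genS.eq_2.{0,0,0}) | (have := @Cfsg.Agent.H46.J1.genS.eq_2.{0,0}) | (have := @Cfsg.Agent.H46.J1.genS.eq_2.{0}) | (have := @Cfsg.Agent.H46.J1.genS.eq_2) | skip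
  first | (have := @Cfsg.Agent.H46.J1.genS.eq_unfold.{0,0,0}) | (have := @Cfsg.Agent.H46.J1.genS.eq_unfold.{0,0}) | (have := @Cfsg.Agent.H46.J1.genS.eq_unfold.{0}) | (have := @Cfsg.Agent.H46.J1.genS.eq_unfold) | skip
  first | (have := @Cfsg.Agent.H46.J1.genS.congr_simp.{0,0,0}) | (have := @Cfsg.Agent.H46.J1.genS.congr_simp.{0,0}) | (have := @Cfsg.Agent.H46.J1.genS.congr_simp.{0}) | (have := @Cfsg.Agent.H46.J1.genS.congr_simp) | skip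
  first | (have := @Cfsg.Agent.H46.J1.genA.eq_def.{0,0,0}) | (have := @Cfsg.Agent.H46.J1.genA.eq_def.{0,0}) | (have := @Cfsg.Agent.H46.J1.genA.eq_def.{0}) | (have := @Cfsg.Agent.H46.J1.genA.eq_def) | skip
  first | (have := @Cfsg.Agent.H46.J1.genA.eq_1.{0,0,0}) | (have := @Cfsg.Agent.H46.J1.genA.eq_1.{0,0}) | (have := @Cfsg.Agent.H46.J1.genA.eq_1.{0}) | (have := @Cfsg.Agent.H46.J1.genA.eq_1) | skip
  first | (have := @Cfsg.Agent.H46.J1.genA.eq_2.{0,0,0}) | (have := @Cfsg.Agent.H46.J1.genA.eq_2.{0,0}) | (have := @Cfsg.Agent.H46.J1.genA.eq_2.{0}) | (have := @Cfsg.Agent.H46.J1.genA.eq_2) | skip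
  first | (have := @Cfsg.Agent.H46.J1.genA.eq_unfold.{0,0,0}) | (have := @Cfsg.Agent.H46.J1.genA.eq_unfold.{0,0}) | (have := @Cfsg.Agent.H46.J1.genA.eq_unfold.{0}) | (have := @Cfsg.Agent.H46.J1.genA.eq_unfold) | skip
  first | (have := @Cfsg.Agent.H46.J1.genA.congr_simp.{0,0,0}) | (have := @Cfsg.Agent.H46.J1.genA.congr_simp.{0,0}) | (have := @Cfsg.Agent.H46.J1.genA.congr_simp.{0}) | (have := @Cfsg.Agent.H46.J1.genA.congr_simp) | skip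
  first | (have := @Cfsg.Agent.H46.J1.dK_c0.eq_def.{0,0,0}) | (have := @Cfsg.Agent.H46.J1.dK_c0.eq_def.{0,0}) | (have := @Cfsg.Agent.H46.J1.dK_c0.eq_def.{0}) | (have := @Cfsg.Agent.H46.J1.dK_c0.eq_def) | skip
  first | (have := @Cfsg.Agent.H46.J1.dK_c0.eq_1.{0,0,0}) | (have := @Cfsg.Agent.H46.J1.dK_c0.eq_1.{0,0}) | (have := @Cfsg.Agent.H46.J1.dK_c0.eq_1.{0}) | (have := @Cfsg.Agent.H46.J1.dK_c0.eq_1) | skip
  first | (have := @Cfsg.Agent.H46.J1.dK_c0.eq_2.{0,0,0}) | (have := @Cfsg.Agent.H46.J1.dK_c0.eq_2.{0,0}) | (have := @Cfsg.Agent.H46.J1.dK_c0.eq_2.{0}) | (have := @Cfsg.Agent.H46.J1.dK_c0.eq_2) | skip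
  first | (have := @Cfsg.Agent.H46.J1.dK_c0.eq_unfold.{0,0,0}) | (have := @Cfsg.Agent.H46.J1.dK_c0.eq_unfold.{0,0}) | (have := @Cfsg.Agent.H46.J1.dK_c0.eq_unfold.{0}) | (have := @Cfsg.Agent.H46.J1.dK_c0.eq_unfold) | skip
  first | (have := @Cfsg.Agent.H46.J1.dK_c0.congr_simp.{0,0,0}) | (have := @Cfsg.Agent.H46.J1.dK_c0.congr_simp.{0,0}) | (have := @Cfsg.Agent.H46.J1.dK_c0.congr_simp.{0}) | (have := @Cfsg.Agent.H46.J1.dK_c0.congr_simp) | skip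
  first | (have := @Cfsg.Agent.H46.J1.dK.eq_def.{0,0,0}) | (have := @Cfsg.Agent.H46.J1.dK.eq_def.{0,0}) | (have := @Cfsg.Agent.H46.J1.dK.eq_def.{0}) | (have := @Cfsg.Agent.H46.J1.dK.eq_def) | skip
  first | (have := @Cfsg.Agent.H46.J1.dK.eq_1.{0,0,0}) | (have := @Cfsg.Agent.H46.J1.dK.eq_1.{0,0}) | (have := @Cfsg.Agent.H46.J1.dK.eq_1.{0}) | (have := @Cfsg.Agent.H46.J1.dK.eq_1) | skip
  first | (have := @Cfsg.Agent.H46.J1.dK.eq_2.{0,0,0}) | (have := @Cfsg.Agent.H46.J1.dK.eq_2.{0,0}) | (have := @Cfsg.Agent.H46.J1.dK.eq_2.{0}) | (have := @Cfsg.Agent.H46.J1.dK.eq_2) | skip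
  first | (have := @Cfsg.Agent.H46.J1.dK.eq_unfold.{0,0,0}) | (have := @Cfsg.Agent.H46.J1.dK.eq_unfold.{0,0}) | (have := @Cfsg.Agent.H46.J1.dK.eq_unfold.{0}) | (have := @Cfsg.Agent.H46.J1.dK.eq_unfold) | skip
  first | (have := @Cfsg.Agent.H46.J1.dK.congr_simp.{0,0,0}) | (have := @Cfsg.Agent.H46.J1.dK.congr_simp.{0,0}) | (have := @Cfsg.Agent.H46.J1.dK.congr_simp.{0}) | (have := @Cfsg.Agent.H46.J1.dK.congr_simp) | skip
  first | (have := @Cfsg.Agent.H46.J1.dK_par.eq_def.{0,0,0}) | (have := @Cfsg.Agent.H46.J1.dK_par.eq_def.{0,0}) | (have := @Cfsg.Agent.H46.J1.dK_par.eq_def.{0}) | (have := @Cfsg.Agent.H46.J1.dK_par.eq_def) | skip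
  first | (have := @Cfsg.Agent.H46.J1.dK_par.eq_1.{0,0,0}) | (have := @Cfsg.Agent.H46.J1.dK_par.eq_1.{0,0}) | (have := @Cfsg.Agent.H46.J1.dK_par.eq_1.{0}) | (have := @Cfsg.Agent.H46.J1.dK_par.eq_1) | skip
  first | (have := @Cfsg.Agent.H46.J1.dK_par.eq_2.{0,0,0}) | (have := @Cfsg.Agent.H46.J1.dK_par.eq_2.{0,0}) | (have := @Cfsg.Agent.H46.J1.dK_par.eq_2.{0}) | (have := @Cfsg.Agent.H46.J1.dK_par.eq_2) | skip
  first | (have := @Cfsg.Agent.H46.J1.dK_par.eq_unfold.{0,0,0}) | (have := @Cfsg.Agent.H46.J1.dK_par.eq_unfold.{0,0}) | (have := @Cfsg.Agent.H46.J1.dK_par.eq_unfold.{0}) | (have := @Cfsg.Agent.H46.J1.dK_par.eq_unfold) | skip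
  first | (have := @Cfsg.Agent.H46.J1.dK_par.congr_simp.{0,0,0}) | (have := @Cfsg.Agent.H46.J1.dK_par.congr_simp.{0,0}) | (have := @Cfsg.Agent.H46.J1.dK_par.congr_simp.{0}) | (have := @Cfsg.Agent.H46.J1.dK_par.congr_simp) | skip
  first | (have := @Cfsg.Agent.H46.J1.dK_gi.eq_def.{0,0,0}) | (have := @Cfsg.Agent.H46.J1.dK_gi.eq_def.{0,0}) | (have := @Cfsg.Agent.H46.J1.dK_gi.eq_def.{0}) | (have := @Cfsg.Agent.H46.J1.dK_gi.eq_def) | skip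
  first | (have := @Cfsg.Agent.H46.J1.dK_gi.eq_1.{0,0,0}) | (have := @Cfsg.Agent.H46.J1.dK_gi.eq_1.{0,0}) | (have := @Cfsg.Agent.H46.J1.dK_gi.eq_1.{0}) | (have := @Cfsg.Agent.H46.J1.dK_gi.eq_1) | skip
  first | (have := @Cfsg.Agent.H46.J1.dK_gi.eq_2.{0,0,0}) | (have := @Cfsg.Agent.H46.J1.dK_gi.eq_2.{0,0}) | (have := @Cfsg.Agent.H46.J1.dK_gi.eq_2.{0}) | (have := @Cfsg.Agent.H46.J1.dK_gi.eq_2) | skip
  first | (have := @Cfsg.Agent.H46.J1.dK_gi.eq_unfold.{0,0,0}) | (have := @Cfsg.Agent.H46.J1.dK_gi.eq_unfold.{0,0}) | (have := @Cfsg.Agent.H46.J1.dK_gi.eq_unfold.{0}) | (have := @Cfsg.Agent.H46.J1.dK_gi.eq_unfold) | skip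
  first | (have := @Cfsg.Agent.H46.J1.dK_gi.congr_simp.{0,0,0}) | (have := @Cfsg.Agent.H46.J1.dK_gi.congr_simp.{0,0}) | (have := @Cfsg.Agent.H46.J1.dK_gi.congr_simp.{0}) | (have := @Cfsg.Agent.H46.J1.dK_gi.congr_simp) | skip
  first | (have := @Cfsg.Agent.H46.J1.dK_dep.eq_def.{0,0,0}) | (have := @Cfsg.Agent.H46.J1.dK_dep.eq_def.{0,0}) | (have := @Cfsg.Agent.H46.J1.dK_dep.eq_def.{0}) | (have := @Cfsg.Agent.H46.J1.dK_dep.eq_def) | skip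
  first | (have := @Cfsg.Agent.H46.J1.dK_dep.eq_1.{0,0,0}) | (have := @Cfsg.Agent.H46.J1.dK_dep.eq_1.{0,0}) | (have := @Cfsg.Agent.H46.J1.dK_dep.eq_1.{0}) | (have := @Cfsg.Agent.H46.J1.dK_dep.eq_1) | skip
  first | (have := @Cfsg.Agent.H46.J1.dK_dep.eq_2.{0,0,0}) | (have := @Cfsg.Agent.H46.J1.dK_dep.eq_2.{0,0}) | (have := @Cfsg.Agent.H46.J1.dK_dep.eq_2.{0}) | (have := @Cfsg.Agent.H46.J1.dK_dep.eq_2) | skip
  first | (have := @Cfsg.Agent.H46.J1.dK_dep.eq_unfold.{0,0,0}) | (have := @Cfsg.Agent.H46.J1.dK_dep.eq_unfold.{0,0}) | (have := @Cfsg.Agent.H46.J1.dK_dep.eq_unfold.{0}) | (have := @Cfsg.Agent.H46.J1.dK_dep.eq_unfold) | skip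
  first | (have := @Cfsg.Agent.H46.J1.dK_dep.congr_simp.{0,0,0}) | (have := @Cfsg.Agent.H46.J1.dK_dep.congr_simp.{0,0}) | (have := @Cfsg.Agent.H46.J1.dK_dep.congr_simp.{0}) | (have := @Cfsg.Agent.H46.J1.dK_dep.congr_simp) | skip
  first | (have := @Cfsg.Agent.H46.J1.dKT_c0.eq_def.{0,0,0}) | (have := @Cfsg.Agent.H46.J1.dKT_c0.eq_def.{0,0}) | (have := @Cfsg.Agent.H46.J1.dKT_c0.eq_def.{0}) | (have := @Cfsg.Agent.H46.J1.dKT_c0.eq_def) | skip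
  first | (have := @Cfsg.Agent.H46.J1.dKT_c0.eq_1.{0,0,0}) | (have := @Cfsg.Agent.H46.J1.dKT_c0.eq_1.{0,0}) | (have := @Cfsg.Agent.H46.J1.dKT_c0.eq_1.{0}) | (have := @Cfsg.Agent.H46.J1.dKT_c0.eq_1) | skip
  first | (have := @Cfsg.Agent.H46.J1.dKT_c0.eq_2.{0,0,0}) | (have := @Cfsg.Agent.H46.J1.dKT_c0.eq_2.{0,0}) | (have := @Cfsg.Agent.H46.J1.dKT_c0.eq_2.{0}) | (have := @Cfsg.Agent.H46.J1.dKT_c0.eq_2) | skip
  first | (have := @Cfsg.Agent.H46.J1.dKT_c0.eq_unfold.{0,0,0}) | (have := @Cfsg.Agent.H46.J1.dKT_c0.eq_unfold.{0,0}) | (have := @Cfsg.Agent.H46.J1.dKT_c0.eq_unfold.{0}) | (have := @Cfsg.Agent.H46.J1.dKT_c0.eq_unfold) | skip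
  first | (have := @Cfsg.Agent.H46.J1.dKT_c0.congr_simp.{0,0,0}) | (have := @Cfsg.Agent.H46.J1.dKT_c0.congr_simp.{0,0}) | (have := @Cfsg.Agent.H46.J1.dKT_c0.congr_simp.{0}) | (have := @Cfsg.Agent.H46.J1.dKT_c0.congr_simp) | skip
  first | (have := @Cfsg.Agent.H46.J1.dKT.eq_def.{0,0,0}) | (have := @Cfsg.Agent.H46.J1.dKT.eq_def.{0,0}) | (have := @Cfsg.Agent.H46.J1.dKT.eq_def.{0}) | (have := @Cfsg.Agent.H46.J1.dKT.eq_def) | skip
  first | (have := @Cfsg.Agent.H46.J1.dKT.eq_1.{0,0,0}) | (have := @Cfsg.Agent.H46.J1.dKT.eq_1.{0,0}) | (have := @Cfsg.Agent.H46.J1.dKT.eq_1.{0}) | (have := @Cfsg.Agent.H46.J1.dKT.eq_1) | skip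
  first | (have := @Cfsg.Agent.H46.J1.dKT.eq_2.{0,0,0}) | (have := @Cfsg.Agent.H46.J1.dKT.eq_2.{0,0}) | (have := @Cfsg.Agent.H46.J1.dKT.eq_2.{0}) | (have := @Cfsg.Agent.H46.J1.dKT.eq_2) | skip
  first | (have := @Cfsg.Agent.H46.J1.dKT.eq_unfold.{0,0,0}) | (have := @Cfsg.Agent.H46.J1.dKT.eq_unfold.{0,0}) | (have := @Cfsg.Agent.H46.J1.dKT.eq_unfold.{0}) | (have := @Cfsg.Agent.H46.J1.dKT.eq_unfold) | skip
  first | (have := @Cfsg.Agent.H46.J1.dKT.congr_simp.{0,0,0}) | (have := @Cfsg.Agent.H46.J1.dKT.congr_simp.{0,0}) | (have := @Cfsg.Agent.H46.J1.dKT.congr_simp.{0}) | (have := @Cfsg.Agent.H46.J1.dKT.congr_simp) | skip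
  first | (have := @Cfsg.Agent.H46.J1.dKT_T.eq_def.{0,0,0}) | (have := @Cfsg.Agent.H46.J1.dKT_T.eq_def.{0,0}) | (have := @Cfsg.Agent.H46.J1.dKT_T.eq_def.{0}) | (have := @Cfsg.Agent.H46.J1.dKT_T.eq_def) | skip
  first | (have := @Cfsg.Agent.H46.J1.dKT_T.eq_1.{0,0,0}) | (have := @Cfsg.Agent.H46.J1.dKT_T.eq_1.{0,0}) | (have := @Cfsg.Agent.H46.J1.dKT_T.eq_1.{0}) | (have := @Cfsg.Agent.H46.J1.dKT_T.eq_1) | skip
  first | (have := @Cfsg.Agent.H46.J1.dKT_T.eq_2.{0,0,0}) | (have := @Cfsg.Agent.H46.J1.dKT_T.eq_2.{0,0}) | (have := @Cfsg.Agent.H46.J1.dKT_T.eq_2.{0}) | (have := @Cfsg.Agent.H46.J1.dKT_T.eq_2) | skip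
  first | (have := @Cfsg.Agent.H46.J1.dKT_T.eq_unfold.{0,0,0}) | (have := @Cfsg.Agent.H46.J1.dKT_T.eq_unfold.{0,0}) | (have := @Cfsg.Agent.H46.J1.dKT_T.eq_unfold.{0}) | (have := @Cfsg.Agent.H46.J1.dKT_T.eq_unfold) | skip
  first | (have := @Cfsg.Agent.H46.J1.dKT_T.congr_simp.{0,0,0}) | (have := @Cfsg.Agent.H46.J1.dKT_T.congr_simp.{0,0}) | (have := @Cfsg.Agent.H46.J1.dKT_T.congr_simp.{0}) | (have := @Cfsg.Agent.H46.J1.dKT_T.congr_simp) | skip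
  first | (have := @Cfsg.Agent.H46.J1.tK.eq_def.{0,0,0}) | (have := @Cfsg.Agent.H46.J1.tK.eq_def.{0,0}) | (have := @Cfsg.Agent.H46.J1.tK.eq_def.{0}) | (have := @Cfsg.Agent.H46.J1.tK.eq_def) | skip
  first | (have := @Cfsg.Agent.H46.J1.tK.eq_1.{0,0,0}) | (have := @Cfsg.Agent.H46.J1.tK.eq_1.{0,0}) | (have := @Cfsg.Agent.H46.J1.tK.eq_1.{0}) | (have := @Cfsg.Agent.H46.J1.tK.eq_1) | skip
  first | (have := @Cfsg.Agent.H46.J1.tK.eq_2.{0,0,0}) | (have := @Cfsg.Agent.H46.J1.tK.eq_2.{0,0}) | (have := @Cfsg.Agent.H46.J1.tK.eq_2.{0}) | (have := @Cfsg.Agent.H46.J1.tK.eq_2) | skip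
  first | (have := @Cfsg.Agent.H46.J1.tK.eq_unfold.{0,0,0}) | (have := @Cfsg.Agent.H46.J1.tK.eq_unfold.{0,0}) | (have := @Cfsg.Agent.H46.J1.tK.eq_unfold.{0}) | (have := @Cfsg.Agent.H46.J1.tK.eq_unfold) | skip
  first | (have := @Cfsg.Agent.H46.J1.tK.congr_simp.{0,0,0}) | (have := @Cfsg.Agent.H46.J1.tK.congr_simp.{0,0}) | (have := @Cfsg.Agent.H46.J1.tK.congr_simp.{0}) | (have := @Cfsg.Agent.H46.J1.tK.congr_simp) | skip
  first | (have := @Cfsg.Agent.H46.J1.KT.eq_def.{0,0,0}) | (have := @Cfsg.Agent.H46.J1.KT.eq_def.{0,0}) | (have := @Cfsg.Agent.H46.J1.KT.eq_def.{0}) | (have := @Cfsg.Agent.H46.J1.KT.eq_def) | skip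
  first | (have := @Cfsg.Agent.H46.J1.KT.eq_1.{0,0,0}) | (have := @Cfsg.Agent.H46.J1.KT.eq_1.{0,0}) | (have := @Cfsg.Agent.H46.J1.KT.eq_1.{0}) | (have := @Cfsg.Agent.H46.J1.KT.eq_1) | skip
  first | (have := @Cfsg.Agent.H46.J1.KT.eq_2.{0,0,0}) | (have := @Cfsg.Agent.H46.J1.KT.eq_2.{0,0}) | (have := @Cfsg.Agent.H46.J1.KT.eq_2.{0}) | (have := @Cfsg.Agent.H46.J1.KT.eq_2) | skip
  first | (have := @Cfsg.Agent.H46.J1.KT.eq_unfold.{0,0,0}) | (have := @Cfsg.Agent.H46.J1.KT.eq_unfold.{0,0}) | (have := @Cfsg.Agent.H46.J1.KT.eq_unfold.{0}) | (have := @Cfsg.Agent.H46.J1.KT.eq_unfold) | skip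
  first | (have := @Cfsg.Agent.H46.J1.KT.congr_simp.{0,0,0}) | (have := @Cfsg.Agent.H46.J1.KT.congr_simp.{0,0}) | (have := @Cfsg.Agent.H46.J1.KT.congr_simp.{0}) | (have := @Cfsg.Agent.H46.J1.KT.congr_simp) | skip
  first | (have := @Cfsg.Agent.H46.J1.dW_c0.eq_def.{0,0,0}) | (have := @Cfsg.Agent.H46.J1.dW_c0.eq_def.{0,0}) | (have := @Cfsg.Agent.H46.J1.dW_c0.eq_def.{0}) | (have := @Cfsg.Agent.H46.J1.dW_c0.eq_def) | skip
  first | (have := @Cfsg.Agent.H46.J1.dW_c0.eq_1.{0,0,0}) | (have := @Cfsg.Agent.H46.J1.dW_c0.eq_1.{0,0}) | (have := @Cfsg.Agent.H46.J1.dW_c0.eq_1.{0}) | (have := @Cfsg.Agent.H46.J1.dW_c0.eq_1) | skip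
  first | (have := @Cfsg.Agent.H46.J1.dW_c0.eq_2.{0,0,0}) | (have := @Cfsg.Agent.H46.J1.dW_c0.eq_2.{0,0}) | (have := @Cfsg.Agent.H46.J1.dW_c0.eq_2.{0}) | (have := @Cfsg.Agent.H46.J1.dW_c0.eq_2) | skip
  first | (have := @Cfsg.Agent.H46.J1.dW_c0.eq_unfold.{0,0,0}) | (have := @Cfsg.Agent.H46.J1.dW_c0.eq_unfold.{0,0}) | (have := @Cfsg.Agent.H46.J1.dW_c0.eq_unfold.{0}) | (have := @Cfsg.Agent.H46.J1.dW_c0.eq_unfold) | skip
  first | (have := @Cfsg.Agent.H46.J1.dW_c0.congr_simp.{0,0,0}) | (have := @Cfsg.Agent.H46.J1.dW_c0.congr_simp.{0,0}) | (have := @Cfsg.Agent.H46.J1.dW_c0.congr_simp.{0}) | (have := @Cfsg.Agent.H46.J1.dW_c0.congr_simp) | skip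
  first | (have := @Cfsg.Agent.H46.J1.dW.eq_def.{0,0,0}) | (have := @Cfsg.Agent.H46.J1.dW.eq_def.{0,0}) | (have := @Cfsg.Agent.H46.J1.dW.eq_def.{0}) | (have := @Cfsg.Agent.H46.J1.dW.eq_def) | skip
  first | (have := @Cfsg.Agent.H46.J1.dW.eq_1.{0,0,0}) | (have := @Cfsg.Agent.H46.J1.dW.eq_1.{0,0}) | (have := @Cfsg.Agent.H46.J1.dW.eq_1.{0}) | (have := @Cfsg.Agent.H46.J1.dW.eq_1) | skip
  first | (have := @Cfsg.Agent.H46.J1.dW.eq_2.{0,0,0}) | (have := @Cfsg.Agent.H46.J1.dW.eq_2.{0,0}) | (have := @Cfsg.Agent.H46.J1.dW.eq_2.{0}) | (have := @Cfsg.Agent.H46.J1.dW.eq_2) | skip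
  first | (have := @Cfsg.Agent.H46.J1.dW.eq_unfold.{0,0,0}) | (have := @Cfsg.Agent.H46.J1.dW.eq_unfold.{0,0}) | (have := @Cfsg.Agent.H46.J1.dW.eq_unfold.{0}) | (have := @Cfsg.Agent.H46.J1.dW.eq_unfold) | skip
  first | (have := @Cfsg.Agent.H46.J1.dW.congr_simp.{0,0,0}) | (have := @Cfsg.Agent.H46.J1.dW.congr_simp.{0,0}) | (have := @Cfsg.Agent.H46.J1.dW.congr_simp.{0}) | (have := @Cfsg.Agent.H46.J1.dW.congr_simp) | skip
  first | (have := @Cfsg.Agent.H46.J1.dW_par.eq_def.{0,0,0}) | (have := @Cfsg.Agent.H46.J1.dW_par.eq_def.{0,0}) | (have := @Cfsg.Agent.H46.J1.dW_par.eq_def.{0}) | (have := @Cfsg.Agent.H46.J1.dW_par.eq_def) | skip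
  first | (have := @Cfsg.Agent.H46.J1.dW_par.eq_1.{0,0,0}) | (have := @Cfsg.Agent.H46.J1.dW_par.eq_1.{0,0}) | (have := @Cfsg.Agent.H46.J1.dW_par.eq_1.{0}) | (have := @Cfsg.Agent.H46.J1.dW_par.eq_1) | skip
  first | (have := @Cfsg.Agent.H46.J1.dW_par.eq_2.{0,0,0}) | (have := @Cfsg.Agent.H46.J1.dW_par.eq_2.{0,0}) | (have := @Cfsg.Agent.H46.J1.dW_par.eq_2.{0}) | (have := @Cfsg.Agent.H46.J1.dW_par.eq_2) | skip
  first | (have := @Cfsg.Agent.H46.J1.dW_par.eq_unfold.{0,0,0}) | (have := @Cfsg.Agent.H46.J1.dW_par.eq_unfold.{0,0}) | (have := @Cfsg.Agent.H46.J1.dW_par.eq_unfold.{0}) | (have := @Cfsg.Agent.H46.J1.dW_par.eq_unfold) | skip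
  first | (have := @Cfsg.Agent.H46.J1.dW_par.congr_simp.{0,0,0}) | (have := @Cfsg.Agent.H46.J1.dW_par.congr_simp.{0,0}) | (have := @Cfsg.Agent.H46.J1.dW_par.congr_simp.{0}) | (have := @Cfsg.Agent.H46.J1.dW_par.congr_simp) | skip
  first | (have := @Cfsg.Agent.H46.J1.dW_gi.eq_def.{0,0,0}) | (have := @Cfsg.Agent.H46.J1.dW_gi.eq_def.{0,0}) | (have := @Cfsg.Agent.H46.J1.dW_gi.eq_def.{0}) | (have := @Cfsg.Agent.H46.J1.dW_gi.eq_def) | skip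
  first | (have := @Cfsg.Agent.H46.J1.dW_gi.eq_1.{0,0,0}) | (have := @Cfsg.Agent.H46.J1.dW_gi.eq_1.{0,0}) | (have := @Cfsg.Agent.H46.J1.dW_gi.eq_1.{0}) | (have := @Cfsg.Agent.H46.J1.dW_gi.eq_1) | skip
  first | (have := @Cfsg.Agent.H46.J1.dW_gi.eq_2.{0,0,0}) | (have := @Cfsg.Agent.H46.J1.dW_gi.eq_2.{0,0}) | (have := @Cfsg.Agent.H46.J1.dW_gi.eq_2.{0}) | (have := @Cfsg.Agent.H46.J1.dW_gi.eq_2) | skip
  first | (have := @Cfsg.Agent.H46.J1.dW_gi.eq_unfold.{0,0,0}) | (have := @Cfsg.Agent.H46.J1.dW_gi.eq_unfold.{0,0}) | (have := @Cfsg.Agent.H46.J1.dW_gi.eq_unfold.{0}) | (have := @Cfsg.Agent.H46.J1.dW_gi.eq_unfold) | skip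
  first | (have := @Cfsg.Agent.H46.J1.dW_gi.congr_simp.{0,0,0}) | (have := @Cfsg.Agent.H46.J1.dW_gi.congr_simp.{0,0}) | (have := @Cfsg.Agent.H46.J1.dW_gi.congr_simp.{0}) | (have := @Cfsg.Agent.H46.J1.dW_gi.congr_simp) | skip
  first | (have := @Cfsg.Agent.H46.J1.dW_dep.eq_def.{0,0,0}) | (have := @Cfsg.Agent.H46.J1.dW_dep.eq_def.{0,0}) | (have := @Cfsg.Agent.H46.J1.dW_dep.eq_def.{0}) | (have := @Cfsg.Agent.H46.J1.dW_dep.eq_def) | skip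
  first | (have := @Cfsg.Agent.H46.J1.dW_dep.eq_1.{0,0,0}) | (have := @Cfsg.Agent.H46.J1.dW_dep.eq_1.{0,0}) | (have := @Cfsg.Agent.H46.J1.dW_dep.eq_1.{0}) | (have := @Cfsg.Agent.H46.J1.dW_dep.eq_1) | skip
  first | (have := @Cfsg.Agent.H46.J1.dW_dep.eq_2.{0,0,0}) | (have := @Cfsg.Agent.H46.J1.dW_dep.eq_2.{0,0}) | (have := @Cfsg.Agent.H46.J1.dW_dep.eq_2.{0}) | (have := @Cfsg.Agent.H46.J1.dW_dep.eq_2) | skip
  first | (have := @Cfsg.Agent.H46.J1.dW_dep.eq_unfold.{0,0,0}) | (have := @Cfsg.Agent.H46.J1.dW_dep.eq_unfold.{0,0}) | (have := @Cfsg.Agent.H46.J1.dW_dep.eq_unfold.{0}) | (have := @Cfsg.Agent.H46.J1.dW_dep.eq_unfold) | skip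
  first | (have := @Cfsg.Agent.H46.J1.dW_dep.congr_simp.{0,0,0}) | (have := @Cfsg.Agent.H46.J1.dW_dep.congr_simp.{0,0}) | (have := @Cfsg.Agent.H46.J1.dW_dep.congr_simp.{0}) | (have := @Cfsg.Agent.H46.J1.dW_dep.congr_simp) | skip
  first | (have := @Cfsg.Agent.H46.J1.dWT_c0.eq_def.{0,0,0}) | (have := @Cfsg.Agent.H46.J1.dWT_c0.eq_def.{0,0}) | (have := @Cfsg.Agent.H46.J1.dWT_c0.eq_def.{0}) | (have := @Cfsg.Agent.H46.J1.dWT_c0.eq_def) | skip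
  first | (have := @Cfsg.Agent.H46.J1.dWT_c0.eq_1.{0,0,0}) | (have := @Cfsg.Agent.H46.J1.dWT_c0.eq_1.{0,0}) | (have := @Cfsg.Agent.H46.J1.dWT_c0.eq_1.{0}) | (have := @Cfsg.Agent.H46.J1.dWT_c0.eq_1) | skip
  first | (have := @Cfsg.Agent.H46.J1.dWT_c0.eq_2.{0,0,0}) | (have := @Cfsg.Agent.H46.J1.dWT_c0.eq_2.{0,0}) | (have := @Cfsg.Agent.H46.J1.dWT_c0.eq_2.{0}) | (have := @Cfsg.Agent.H46.J1.dWT_c0.eq_2) | skip
  first | (have := @Cfsg.Agent.H46.J1.dWT_c0.eq_unfold.{0,0,0}) | (have := @Cfsg.Agent.H46.J1.dWT_c0.eq_unfold.{0,0}) | (have := @Cfsg.Agent.H46.J1.dWT_c0.eq_unfold.{0}) | (have := @Cfsg.Agent.H46.J1.dWT_c0.eq_unfold) | skip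
  first | (have := @Cfsg.Agent.H46.J1.dWT_c0.congr_simp.{0,0,0}) | (have := @Cfsg.Agent.H46.J1.dWT_c0.congr_simp.{0,0}) | (have := @Cfsg.Agent.H46.J1.dWT_c0.congr_simp.{0}) | (have := @Cfsg.Agent.H46.J1.dWT_c0.congr_simp) | skip
  first | (have := @Cfsg.Agent.H46.J1.dWT.eq_def.{0,0,0}) | (have := @Cfsg.Agent.H46.J1.dWT.eq_def.{0,0}) | (have := @Cfsg.Agent.H46.J1.dWT.eq_def.{0}) | (have := @Cfsg.Agent.H46.J1.dWT.eq_def) | skip
  first | (have := @Cfsg.Agent.H46.J1.dWT.eq_1.{0,0,0}) | (have := @Cfsg.Agent.H46.J1.dWT.eq_1.{0,0}) | (have := @Cfsg.Agent.H46.J1.dWT.eq_1.{0}) | (have := @Cfsg.Agent.H46.J1.dWT.eq_1) | skip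
  first | (have := @Cfsg.Agent.H46.J1.dWT.eq_2.{0,0,0}) | (have := @Cfsg.Agent.H46.J1.dWT.eq_2.{0,0}) | (have := @Cfsg.Agent.H46.J1.dWT.eq_2.{0}) | (have := @Cfsg.Agent.H46.J1.dWT.eq_2) | skip
  first | (have := @Cfsg.Agent.H46.J1.dWT.eq_unfold.{0,0,0}) | (have := @Cfsg.Agent.H46.J1.dWT.eq_unfold.{0,0}) | (have := @Cfsg.Agent.H46.J1.dWT.eq_unfold.{0}) | (have := @Cfsg.Agent.H46.J1.dWT.eq_unfold) | skip
  first | (have := @Cfsg.Agent.H46.J1.dWT.congr_simp.{0,0,0}) | (have := @Cfsg.Agent.H46.J1.dWT.congr_simp.{0,0}) | (have := @Cfsg.Agent.H46.J1.dWT.congr_simp.{0}) | (have := @Cfsg.Agent.H46.J1.dWT.congr_simp) | skip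
  first | (have := @Cfsg.Agent.H46.J1.dWT_T.eq_def.{0,0,0}) | (have := @Cfsg.Agent.H46.J1.dWT_T.eq_def.{0,0}) | (have := @Cfsg.Agent.H46.J1.dWT_T.eq_def.{0}) | (have := @Cfsg.Agent.H46.J1.dWT_T.eq_def) | skip
  first | (have := @Cfsg.Agent.H46.J1.dWT_T.eq_1.{0,0,0}) | (have := @Cfsg.Agent.H46.J1.dWT_T.eq_1.{0,0}) | (have := @Cfsg.Agent.H46.J1.dWT_T.eq_1.{0}) | (have := @Cfsg.Agent.H46.J1.dWT_T.eq_1) | skip
  first | (have := @Cfsg.Agent.H46.J1.dWT_T.eq_2.{0,0,0}) | (have := @Cfsg.Agent.H46.J1.dWT_T.eq_2.{0,0}) | (have := @Cfsg.Agent.H46.J1.dWT_T.eq_2.{0}) | (have := @Cfsg.Agent.H46.J1.dWT_T.eq_2) | skip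
  first | (have := @Cfsg.Agent.H46.J1.dWT_T.eq_unfold.{0,0,0}) | (have := @Cfsg.Agent.H46.J1.dWT_T.eq_unfold.{0,0}) | (have := @Cfsg.Agent.H46.J1.dWT_T.eq_unfold.{0}) | (have := @Cfsg.Agent.H46.J1.dWT_T.eq_unfold) | skip
  first | (have := @Cfsg.Agent.H46.J1.dWT_T.congr_simp.{0,0,0}) | (have := @Cfsg.Agent.H46.J1.dWT_T.congr_simp.{0,0}) | (have := @Cfsg.Agent.H46.J1.dWT_T.congr_simp.{0}) | (have := @Cfsg.Agent.H46.J1.dWT_T.congr_simp) | skip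
  first | (have := @Cfsg.Agent.H46.J1.dWT_H.eq_def.{0,0,0}) | (have := @Cfsg.Agent.H46.J1.dWT_H.eq_def.{0,0}) | (have := @Cfsg.Agent.H46.J1.dWT_H.eq_def.{0}) | (have := @Cfsg.Agent.H46.J1.dWT_H.eq_def) | skip
  first | (have := @Cfsg.Agent.H46.J1.dWT_H.eq_1.{0,0,0}) | (have := @Cfsg.Agent.H46.J1.dWT_H.eq_1.{0,0}) | (have := @Cfsg.Agent.H46.J1.dWT_H.eq_1.{0}) | (have := @Cfsg.Agent.H46.J1.dWT_H.eq_1) | skip
  first | (have := @Cfsg.Agent.H46.J1.dWT_H.eq_2.{0,0,0}) | (have := @Cfsg.Agent.H46.J1.dWT_H.eq_2.{0,0}) | (have := @Cfsg.Agent.H46.J1.dWT_H.eq_2.{0}) | (have := @Cfsg.Agent.H46.J1.dWT_H.eq_2) | skip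
  first | (have := @Cfsg.Agent.H46.J1.dWT_H.eq_unfold.{0,0,0}) | (have := @Cfsg.Agent.H46.J1.dWT_H.eq_unfold.{0,0}) | (have := @Cfsg.Agent.H46.J1.dWT_H.eq_unfold.{0}) | (have := @Cfsg.Agent.H46.J1.dWT_H.eq_unfold) | skip
  first | (have := @Cfsg.Agent.H46.J1.dWT_H.congr_simp.{0,0,0}) | (have := @Cfsg.Agent.H46.J1.dWT_H.congr_simp.{0,0}) | (have := @Cfsg.Agent.H46.J1.dWT_H.congr_simp.{0}) | (have := @Cfsg.Agent.H46.J1.dWT_H.congr_simp) | skip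
  first | (have := @Cfsg.Agent.H46.J1.tW.eq_def.{0,0,0}) | (have := @Cfsg.Agent.H46.J1.tW.eq_def.{0,0}) | (have := @Cfsg.Agent.H46.J1.tW.eq_def.{0}) | (have := @Cfsg.Agent.H46.J1.tW.eq_def) | skip
  first | (have := @Cfsg.Agent.H46.J1.tW.eq_1.{0,0,0}) | (have := @Cfsg.Agent.H46.J1.tW.eq_1.{0,0}) | (have := @Cfsg.Agent.H46.J1.tW.eq_1.{0}) | (have := @Cfsg.Agent.H46.J1.tW.eq_1) | skip
  first | (have := @Cfsg.Agent.H46.J1.tW.eq_2.{0,0,0}) | (have := @Cfsg.Agent.H46.J1.tW.eq_2.{0,0}) | (have := @Cfsg.Agent.H46.J1.tW.eq_2.{0}) | (have := @Cfsg.Agent.H46.J1.tW.eq_2) | skip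
  first | (have := @Cfsg.Agent.H46.J1.tW.eq_unfold.{0,0,0}) | (have := @Cfsg.Agent.H46.J1.tW.eq_unfold.{0,0}) | (have := @Cfsg.Agent.H46.J1.tW.eq_unfold.{0}) | (have := @Cfsg.Agent.H46.J1.tW.eq_unfold) | skip
  first | (have := @Cfsg.Agent.H46.J1.tW.congr_simp.{0,0,0}) | (have := @Cfsg.Agent.H46.J1.tW.congr_simp.{0,0}) | (have := @Cfsg.Agent.H46.J1.tW.congr_simp.{0}) | (have := @Cfsg.Agent.H46.J1.tW.congr_simp) | skip
  first | (have := @Cfsg.Agent.H46.J1.WT.eq_def.{0,0,0}) | (have := @Cfsg.Agent.H46.J1.WT.eq_def.{0,0}) | (have := @Cfsg.Agent.H46.J1.WT.eq_def.{0}) | (have := @Cfsg.Agent.H46.J1.WT.eq_def) | skip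
  first | (have := @Cfsg.Agent.H46.J1.WT.eq_1.{0,0,0}) | (have := @Cfsg.Agent.H46.J1.WT.eq_1.{0,0}) | (have := @Cfsg.Agent.H46.J1.WT.eq_1.{0}) | (have := @Cfsg.Agent.H46.J1.WT.eq_1) | skip
  first | (have := @Cfsg.Agent.H46.J1.WT.eq_2.{0,0,0}) | (have := @Cfsg.Agent.H46.J1.WT.eq_2.{0,0}) | (have := @Cfsg.Agent.H46.J1.WT.eq_2.{0}) | (have := @Cfsg.Agent.H46.J1.WT.eq_2) | skip
  first | (have := @Cfsg.Agent.H46.J1.WT.eq_unfold.{0,0,0}) | (have := @Cfsg.Agent.H46.J1.WT.eq_unfold.{0,0}) | (have := @Cfsg.Agent.H46.J1.WT.eq_unfold.{0}) | (have := @Cfsg.Agent.H46.J1.WT.eq_unfold) | skip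
  first | (have := @Cfsg.Agent.H46.J1.WT.congr_simp.{0,0,0}) | (have := @Cfsg.Agent.H46.J1.WT.congr_simp.{0,0}) | (have := @Cfsg.Agent.H46.J1.WT.congr_simp.{0}) | (have := @Cfsg.Agent.H46.J1.WT.congr_simp) | skip
  first | (have := @Cfsg.Agent.H46.J1.WH.eq_def.{0,0,0}) | (have := @Cfsg.Agent.H46.J1.WH.eq_def.{0,0}) | (have := @Cfsg.Agent.H46.J1.WH.eq_def.{0}) | (have := @Cfsg.Agent.H46.J1.WH.eq_def) | skip
  first | (have := @Cfsg.Agent.H46.J1.WH.eq_1.{0,0,0}) | (have := @Cfsg.Agent.H46.J1.WH.eq_1.{0,0}) | (have := @Cfsg.Agent.H46.J1.WH.eq_1.{0}) | (have := @Cfsg.Agent.H46.J1.WH.eq_1) | skip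
  first | (have := @Cfsg.Agent.H46.J1.WH.eq_2.{0,0,0}) | (have := @Cfsg.Agent.H46.J1.WH.eq_2.{0,0}) | (have := @Cfsg.Agent.H46.J1.WH.eq_2.{0}) | (have := @Cfsg.Agent.H46.J1.WH.eq_2) | skip
  first | (have := @Cfsg.Agent.H46.J1.WH.eq_unfold.{0,0,0}) | (have := @Cfsg.Agent.H46.J1.WH.eq_unfold.{0,0}) | (have := @Cfsg.Agent.H46.J1.WH.eq_unfold.{0}) | (have := @Cfsg.Agent.H46.J1.WH.eq_unfold) | skip
  first | (have := @Cfsg.Agent.H46.J1.WH.congr_simp.{0,0,0}) | (have := @Cfsg.Agent.H46.J1.WH.congr_simp.{0,0}) | (have := @Cfsg.Agent.H46.J1.WH.congr_simp.{0}) | (have := @Cfsg.Agent.H46.J1.WH.congr_simp) | skip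
  first | (have := @Cfsg.Agent.H46.J1.dC2_c0.eq_def.{0,0,0}) | (have := @Cfsg.Agent.H46.J1.dC2_c0.eq_def.{0,0}) | (have := @Cfsg.Agent.H46.J1.dC2_c0.eq_def.{0}) | (have := @Cfsg.Agent.H46.J1.dC2_c0.eq_def) | skip
  first | (have := @Cfsg.Agent.H46.J1.dC2_c0.eq_1.{0,0,0}) | (have := @Cfsg.Agent.H46.J1.dC2_c0.eq_1.{0,0}) | (have := @Cfsg.Agent.H46.J1.dC2_c0.eq_1.{0}) | (have := @Cfsg.Agent.H46.J1.dC2_c0.eq_1) | skip
  first | (have := @Cfsg.Agent.H46.J1.dC2_c0.eq_2.{0,0,0}) | (have := @Cfsg.Agent.H46.J1.dC2_c0.eq_2.{0,0}) | (have := @Cfsg.Agent.H46.J1.dC2_c0.eq_2.{0}) | (have := @Cfsg.Agent.H46.J1.dC2_c0.eq_2) | skip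
  first | (have := @Cfsg.Agent.H46.J1.dC2_c0.eq_unfold.{0,0,0}) | (have := @Cfsg.Agent.H46.J1.dC2_c0.eq_unfold.{0,0}) | (have := @Cfsg.Agent.H46.J1.dC2_c0.eq_unfold.{0}) | (have := @Cfsg.Agent.H46.J1.dC2_c0.eq_unfold) | skip
  first | (have := @Cfsg.Agent.H46.J1.dC2_c0.congr_simp.{0,0,0}) | (have := @Cfsg.Agent.H46.J1.dC2_c0.congr_simp.{0,0}) | (have := @Cfsg.Agent.H46.J1.dC2_c0.congr_simp.{0}) | (have := @Cfsg.Agent.H46.J1.dC2_c0.congr_simp) | skip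
  first | (have := @Cfsg.Agent.H46.J1.dC2_c1.eq_def.{0,0,0}) | (have := @Cfsg.Agent.H46.J1.dC2_c1.eq_def.{0,0}) | (have := @Cfsg.Agent.H46.J1.dC2_c1.eq_def.{0}) | (have := @Cfsg.Agent.H46.J1.dC2_c1.eq_def) | skip
  first | (have := @Cfsg.Agent.H46.J1.dC2_c1.eq_1.{0,0,0}) | (have := @Cfsg.Agent.H46.J1.dC2_c1.eq_1.{0,0}) | (have := @Cfsg.Agent.H46.J1.dC2_c1.eq_1.{0}) | (have := @Cfsg.Agent.H46.J1.dC2_c1.eq_1) | skip
  first | (have := @Cfsg.Agent.H46.J1.dC2_c1.eq_2.{0,0,0}) | (have := @Cfsg.Agent.H46.J1.dC2_c1.eq_2.{0,0}) | (have := @Cfsg.Agent.H46.J1.dC2_c1.eq_2.{0}) | (have := @Cfsg.Agent.H46.J1.dC2_c1.eq_2) | skip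
  first | (have := @Cfsg.Agent.H46.J1.dC2_c1.eq_unfold.{0,0,0}) | (have := @Cfsg.Agent.H46.J1.dC2_c1.eq_unfold.{0,0}) | (have := @Cfsg.Agent.H46.J1.dC2_c1.eq_unfold.{0}) | (have := @Cfsg.Agent.H46.J1.dC2_c1.eq_unfold) | skip
  first | (have := @Cfsg.Agent.H46.J1.dC2_c1.congr_simp.{0,0,0}) | (have := @Cfsg.Agent.H46.J1.dC2_c1.congr_simp.{0,0}) | (have := @Cfsg.Agent.H46.J1.dC2_c1.congr_simp.{0}) | (have := @Cfsg.Agent.H46.J1.dC2_c1.congr_simp) | skip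
  first | (have := @Cfsg.Agent.H46.J1.dC2_t.eq_def.{0,0,0}) | (have := @Cfsg.Agent.H46.J1.dC2_t.eq_def.{0,0}) | (have := @Cfsg.Agent.H46.J1.dC2_t.eq_def.{0}) | (have := @Cfsg.Agent.H46.J1.dC2_t.eq_def) | skip
  first | (have := @Cfsg.Agent.H46.J1.dC2_t.eq_1.{0,0,0}) | (have := @Cfsg.Agent.H46.J1.dC2_t.eq_1.{0,0}) | (have := @Cfsg.Agent.H46.J1.dC2_t.eq_1.{0}) | (have := @Cfsg.Agent.H46.J1.dC2_t.eq_1) | skip
  first | (have := @Cfsg.Agent.H46.J1.dC2_t.eq_2.{0,0,0}) | (have := @Cfsg.Agent.H46.J1.dC2_t.eq_2.{0,0}) | (have := @Cfsg.Agent.H46.J1.dC2_t.eq_2.{0}) | (have := @Cfsg.Agent.H46.J1.dC2_t.eq_2) | skip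
  first | (have := @Cfsg.Agent.H46.J1.dC2_t.eq_unfold.{0,0,0}) | (have := @Cfsg.Agent.H46.J1.dC2_t.eq_unfold.{0,0}) | (have := @Cfsg.Agent.H46.J1.dC2_t.eq_unfold.{0}) | (have := @Cfsg.Agent.H46.J1.dC2_t.eq_unfold) | skip
  first | (have := @Cfsg.Agent.H46.J1.dC2_t.congr_simp.{0,0,0}) | (have := @Cfsg.Agent.H46.J1.dC2_t.congr_simp.{0,0}) | (have := @Cfsg.Agent.H46.J1.dC2_t.congr_simp.{0}) | (have := @Cfsg.Agent.H46.J1.dC2_t.congr_simp) | skip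
  first | (have := @Cfsg.Agent.H46.J1.dC2.eq_def.{0,0,0}) | (have := @Cfsg.Agent.H46.J1.dC2.eq_def.{0,0}) | (have := @Cfsg.Agent.H46.J1.dC2.eq_def.{0}) | (have := @Cfsg.Agent.H46.J1.dC2.eq_def) | skip
  first | (have := @Cfsg.Agent.H46.J1.dC2.eq_1.{0,0,0}) | (have := @Cfsg.Agent.H46.J1.dC2.eq_1.{0,0}) | (have := @Cfsg.Agent.H46.J1.dC2.eq_1.{0}) | (have := @Cfsg.Agent.H46.J1.dC2.eq_1) | skip
  first | (have := @Cfsg.Agent.H46.J1.dC2.eq_2.{0,0,0}) | (have := @Cfsg.Agent.H46.J1.dC2.eq_2.{0,0}) | (have := @Cfsg.Agent.H46.J1.dC2.eq_2.{0}) | (have := @Cfsg.Agent.H46.J1.dC2.eq_2) | skip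
  first | (have := @Cfsg.Agent.H46.J1.dC2.eq_unfold.{0,0,0}) | (have := @Cfsg.Agent.H46.J1.dC2.eq_unfold.{0,0}) | (have := @Cfsg.Agent.H46.J1.dC2.eq_unfold.{0}) | (have := @Cfsg.Agent.H46.J1.dC2.eq_unfold) | skip
  first | (have := @Cfsg.Agent.H46.J1.dC2.congr_simp.{0,0,0}) | (have := @Cfsg.Agent.H46.J1.dC2.congr_simp.{0,0}) | (have := @Cfsg.Agent.H46.J1.dC2.congr_simp.{0}) | (have := @Cfsg.Agent.H46.J1.dC2.congr_simp) | skip
  first | (have := @Cfsg.Agent.H46.J1.dC2_par.eq_def.{0,0,0}) | (have := @Cfsg.Agent.H46.J1.dC2_par.eq_def.{0,0}) | (have := @Cfsg.Agent.H46.J1.dC2_par.eq_def.{0}) | (have := @Cfsg.Agent.H46.J1.dC2_par.eq_def) | skip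
  first | (have := @Cfsg.Agent.H46.J1.dC2_par.eq_1.{0,0,0}) | (have := @Cfsg.Agent.H46.J1.dC2_par.eq_1.{0,0}) | (have := @Cfsg.Agent.H46.J1.dC2_par.eq_1.{0}) | (have := @Cfsg.Agent.H46.J1.dC2_par.eq_1) | skip
  first | (have := @Cfsg.Agent.H46.J1.dC2_par.eq_2.{0,0,0}) | (have := @Cfsg.Agent.H46.J1.dC2_par.eq_2.{0,0}) | (have := @Cfsg.Agent.H46.J1.dC2_par.eq_2.{0}) | (have := @Cfsg.Agent.H46.J1.dC2_par.eq_2) | skip
  first | (have := @Cfsg.Agent.H46.J1.dC2_par.eq_unfold.{0,0,0}) | (have := @Cfsg.Agent.H46.J1.dC2_par.eq_unfold.{0,0}) | (have := @Cfsg.Agent.H46.J1.dC2_par.eq_unfold.{0}) | (have := @Cfsg.Agent.H46.J1.dC2_par.eq_unfold) | skip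
  first | (have := @Cfsg.Agent.H46.J1.dC2_par.congr_simp.{0,0,0}) | (have := @Cfsg.Agent.H46.J1.dC2_par.congr_simp.{0,0}) | (have := @Cfsg.Agent.H46.J1.dC2_par.congr_simp.{0}) | (have := @Cfsg.Agent.H46.J1.dC2_par.congr_simp) | skip
  first | (have := @Cfsg.Agent.H46.J1.dC2_gi.eq_def.{0,0,0}) | (have := @Cfsg.Agent.H46.J1.dC2_gi.eq_def.{0,0}) | (have := @Cfsg.Agent.H46.J1.dC2_gi.eq_def.{0}) | (have := @Cfsg.Agent.H46.J1.dC2_gi.eq_def) | skip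
  first | (have := @Cfsg.Agent.H46.J1.dC2_gi.eq_1.{0,0,0}) | (have := @Cfsg.Agent.H46.J1.dC2_gi.eq_1.{0,0}) | (have := @Cfsg.Agent.H46.J1.dC2_gi.eq_1.{0}) | (have := @Cfsg.Agent.H46.J1.dC2_gi.eq_1) | skip
  first | (have := @Cfsg.Agent.H46.J1.dC2_gi.eq_2.{0,0,0}) | (have := @Cfsg.Agent.H46.J1.dC2_gi.eq_2.{0,0}) | (have := @Cfsg.Agent.H46.J1.dC2_gi.eq_2.{0}) | (have := @Cfsg.Agent.H46.J1.dC2_gi.eq_2) | skip
  first | (have := @Cfsg.Agent.H46.J1.dC2_gi.eq_unfold.{0,0,0}) | (have := @Cfsg.Agent.H46.J1.dC2_gi.eq_unfold.{0,0}) | (have := @Cfsg.Agent.H46.J1.dC2_gi.eq_unfold.{0}) | (have := @Cfsg.Agent.H46.J1.dC2_gi.eq_unfold) | skip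
  first | (have := @Cfsg.Agent.H46.J1.dC2_gi.congr_simp.{0,0,0}) | (have := @Cfsg.Agent.H46.J1.dC2_gi.congr_simp.{0,0}) | (have := @Cfsg.Agent.H46.J1.dC2_gi.congr_simp.{0}) | (have := @Cfsg.Agent.H46.J1.dC2_gi.congr_simp) | skip
  first | (have := @Cfsg.Agent.H46.J1.dC2_dep.eq_def.{0,0,0}) | (have := @Cfsg.Agent.H46.J1.dC2_dep.eq_def.{0,0}) | (have := @Cfsg.Agent.H46.J1.dC2_dep.eq_def.{0}) | (have := @Cfsg.Agent.H46.J1.dC2_dep.eq_def) | skip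
  first | (have := @Cfsg.Agent.H46.J1.dC2_dep.eq_1.{0,0,0}) | (have := @Cfsg.Agent.H46.J1.dC2_dep.eq_1.{0,0}) | (have := @Cfsg.Agent.H46.J1.dC2_dep.eq_1.{0}) | (have := @Cfsg.Agent.H46.J1.dC2_dep.eq_1) | skip
  first | (have := @Cfsg.Agent.H46.J1.dC2_dep.eq_2.{0,0,0}) | (have := @Cfsg.Agent.H46.J1.dC2_dep.eq_2.{0,0}) | (have := @Cfsg.Agent.H46.J1.dC2_dep.eq_2.{0}) | (have := @Cfsg.Agent.H46.J1.dC2_dep.eq_2) | skip
  first | (have := @Cfsg.Agent.H46.J1.dC2_dep.eq_unfold.{0,0,0}) | (have := @Cfsg.Agent.H46.J1.dC2_dep.eq_unfold.{0,0}) | (have := @Cfsg.Agent.H46.J1.dC2_dep.eq_unfold.{0}) | (have := @Cfsg.Agent.H46.J1.dC2_dep.eq_unfold) | skip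
  first | (have := @Cfsg.Agent.H46.J1.dC2_dep.congr_simp.{0,0,0}) | (have := @Cfsg.Agent.H46.J1.dC2_dep.congr_simp.{0,0}) | (have := @Cfsg.Agent.H46.J1.dC2_dep.congr_simp.{0}) | (have := @Cfsg.Agent.H46.J1.dC2_dep.congr_simp) | skip
  first | (have := @Cfsg.Agent.H46.J1.tC2.eq_def.{0,0,0}) | (have := @Cfsg.Agent.H46.J1.tC2.eq_def.{0,0}) | (have := @Cfsg.Agent.H46.J1.tC2.eq_def.{0}) | (have := @Cfsg.Agent.H46.J1.tC2.eq_def) | skip
  first | (have := @Cfsg.Agent.H46.J1.tC2.eq_1.{0,0,0}) | (have := @Cfsg.Agent.H46.J1.tC2.eq_1.{0,0}) | (have := @Cfsg.Agent.H46.J1.tC2.eq_1.{0}) | (have := @Cfsg.Agent.H46.J1.tC2.eq_1) | skip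
  first | (have := @Cfsg.Agent.H46.J1.tC2.eq_2.{0,0,0}) | (have := @Cfsg.Agent.H46.J1.tC2.eq_2.{0,0}) | (have := @Cfsg.Agent.H46.J1.tC2.eq_2.{0}) | (have := @Cfsg.Agent.H46.J1.tC2.eq_2) | skip
  first | (have := @Cfsg.Agent.H46.J1.tC2.eq_unfold.{0,0,0}) | (have := @Cfsg.Agent.H46.J1.tC2.eq_unfold.{0,0}) | (have := @Cfsg.Agent.H46.J1.tC2.eq_unfold.{0}) | (have := @Cfsg.Agent.H46.J1.tC2.eq_unfold) | skip
  first | (have := @Cfsg.Agent.H46.J1.tC2.congr_simp.{0,0,0}) | (have := @Cfsg.Agent.H46.J1.tC2.congr_simp.{0,0}) | (have := @Cfsg.Agent.H46.J1.tC2.congr_simp.{0}) | (have := @Cfsg.Agent.H46.J1.tC2.congr_simp) | skip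
  first | (have := @Cfsg.Agent.H46.J1.dC3_c0.eq_def.{0,0,0}) | (have := @Cfsg.Agent.H46.J1.dC3_c0.eq_def.{0,0}) | (have := @Cfsg.Agent.H46.J1.dC3_c0.eq_def.{0}) | (have := @Cfsg.Agent.H46.J1.dC3_c0.eq_def) | skip
  first | (have := @Cfsg.Agent.H46.J1.dC3_c0.eq_1.{0,0,0}) | (have := @Cfsg.Agent.H46.J1.dC3_c0.eq_1.{0,0}) | (have := @Cfsg.Agent.H46.J1.dC3_c0.eq_1.{0}) | (have := @Cfsg.Agent.H46.J1.dC3_c0.eq_1) | skip
  first | (have := @Cfsg.Agent.H46.J1.dC3_c0.eq_2.{0,0,0}) | (have := @Cfsg.Agent.H46.J1.dC3_c0.eq_2.{0,0}) | (have := @Cfsg.Agent.H46.J1.dC3_c0.eq_2.{0}) | (have := @Cfsg.Agent.H46.J1.dC3_c0.eq_2) | skip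
  first | (have := @Cfsg.Agent.H46.J1.dC3_c0.eq_unfold.{0,0,0}) | (have := @Cfsg.Agent.H46.J1.dC3_c0.eq_unfold.{0,0}) | (have := @Cfsg.Agent.H46.J1.dC3_c0.eq_unfold.{0}) | (have := @Cfsg.Agent.H46.J1.dC3_c0.eq_unfold) | skip
  first | (have := @Cfsg.Agent.H46.J1.dC3_c0.congr_simp.{0,0,0}) | (have := @Cfsg.Agent.H46.J1.dC3_c0.congr_simp.{0,0}) | (have := @Cfsg.Agent.H46.J1.dC3_c0.congr_simp.{0}) | (have := @Cfsg.Agent.H46.J1.dC3_c0.congr_simp) | skip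
  first | (have := @Cfsg.Agent.H46.J1.dC3.eq_def.{0,0,0}) | (have := @Cfsg.Agent.H46.J1.dC3.eq_def.{0,0}) | (have := @Cfsg.Agent.H46.J1.dC3.eq_def.{0}) | (have := @Cfsg.Agent.H46.J1.dC3.eq_def) | skip
  first | (have := @Cfsg.Agent.H46.J1.dC3.eq_1.{0,0,0}) | (have := @Cfsg.Agent.H46.J1.dC3.eq_1.{0,0}) | (have := @Cfsg.Agent.H46.J1.dC3.eq_1.{0}) | (have := @Cfsg.Agent.H46.J1.dC3.eq_1) | skip
  first | (have := @Cfsg.Agent.H46.J1.dC3.eq_2.{0,0,0}) | (have := @Cfsg.Agent.H46.J1.dC3.eq_2.{0,0}) | (have := @Cfsg.Agent.H46.J1.dC3.eq_2.{0}) | (have := @Cfsg.Agent.H46.J1.dC3.eq_2) | skip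
  first | (have := @Cfsg.Agent.H46.J1.dC3.eq_unfold.{0,0,0}) | (have := @Cfsg.Agent.H46.J1.dC3.eq_unfold.{0,0}) | (have := @Cfsg.Agent.H46.J1.dC3.eq_unfold.{0}) | (have := @Cfsg.Agent.H46.J1.dC3.eq_unfold) | skip
  first | (have := @Cfsg.Agent.H46.J1.dC3.congr_simp.{0,0,0}) | (have := @Cfsg.Agent.H46.J1.dC3.congr_simp.{0,0}) | (have := @Cfsg.Agent.H46.J1.dC3.congr_simp.{0}) | (have := @Cfsg.Agent.H46.J1.dC3.congr_simp) | skip
  first | (have := @Cfsg.Agent.H46.J1.dC3_par.eq_def.{0,0,0}) | (have := @Cfsg.Agent.H46.J1.dC3_par.eq_def.{0,0}) | (have := @Cfsg.Agent.H46.J1.dC3_par.eq_def.{0}) | (have := @Cfsg.Agent.H46.J1.dC3_par.eq_def) | skip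
  first | (have := @Cfsg.Agent.H46.J1.dC3_par.eq_1.{0,0,0}) | (have := @Cfsg.Agent.H46.J1.dC3_par.eq_1.{0,0}) | (have := @Cfsg.Agent.H46.J1.dC3_par.eq_1.{0}) | (have := @Cfsg.Agent.H46.J1.dC3_par.eq_1) | skip
  first | (have := @Cfsg.Agent.H46.J1.dC3_par.eq_2.{0,0,0}) | (have := @Cfsg.Agent.H46.J1.dC3_par.eq_2.{0,0}) | (have := @Cfsg.Agent.H46.J1.dC3_par.eq_2.{0}) | (have := @Cfsg.Agent.H46.J1.dC3_par.eq_2) | skip
  first | (have := @Cfsg.Agent.H46.J1.dC3_par.eq_unfold.{0,0,0}) | (have := @Cfsg.Agent.H46.J1.dC3_par.eq_unfold.{0,0}) | (have := @Cfsg.Agent.H46.J1.dC3_par.eq_unfold.{0}) | (have := @Cfsg.Agent.H46.J1.dC3_par.eq_unfold) | skip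
  first | (have := @Cfsg.Agent.H46.J1.dC3_par.congr_simp.{0,0,0}) | (have := @Cfsg.Agent.H46.J1.dC3_par.congr_simp.{0,0}) | (have := @Cfsg.Agent.H46.J1.dC3_par.congr_simp.{0}) | (have := @Cfsg.Agent.H46.J1.dC3_par.congr_simp) | skip
  first | (have := @Cfsg.Agent.H46.J1.dC3_gi.eq_def.{0,0,0}) | (have := @Cfsg.Agent.H46.J1.dC3_gi.eq_def.{0,0}) | (have := @Cfsg.Agent.H46.J1.dC3_gi.eq_def.{0}) | (have := @Cfsg.Agent.H46.J1.dC3_gi.eq_def) | skip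
  first | (have := @Cfsg.Agent.H46.J1.dC3_gi.eq_1.{0,0,0}) | (have := @Cfsg.Agent.H46.J1.dC3_gi.eq_1.{0,0}) | (have := @Cfsg.Agent.H46.J1.dC3_gi.eq_1.{0}) | (have := @Cfsg.Agent.H46.J1.dC3_gi.eq_1) | skip
  first | (have := @Cfsg.Agent.H46.J1.dC3_gi.eq_2.{0,0,0}) | (have := @Cfsg.Agent.H46.J1.dC3_gi.eq_2.{0,0}) | (have := @Cfsg.Agent.H46.J1.dC3_gi.eq_2.{0}) | (have := @Cfsg.Agent.H46.J1.dC3_gi.eq_2) | skip
  first | (have := @Cfsg.Agent.H46.J1.dC3_gi.eq_unfold.{0,0,0}) | (have := @Cfsg.Agent.H46.J1.dC3_gi.eq_unfold.{0,0}) | (have := @Cfsg.Agent.H46.J1.dC3_gi.eq_unfold.{0}) | (have := @Cfsg.Agent.H46.J1.dC3_gi.eq_unfold) | skip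
  first | (have := @Cfsg.Agent.H46.J1.dC3_gi.congr_simp.{0,0,0}) | (have := @Cfsg.Agent.H46.J1.dC3_gi.congr_simp.{0,0}) | (have := @Cfsg.Agent.H46.J1.dC3_gi.congr_simp.{0}) | (have := @Cfsg.Agent.H46.J1.dC3_gi.congr_simp) | skip
  first | (have := @Cfsg.Agent.H46.J1.dC3_dep.eq_def.{0,0,0}) | (have := @Cfsg.Agent.H46.J1.dC3_dep.eq_def.{0,0}) | (have := @Cfsg.Agent.H46.J1.dC3_dep.eq_def.{0}) | (have := @Cfsg.Agent.H46.J1.dC3_dep.eq_def) | skip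
  first | (have := @Cfsg.Agent.H46.J1.dC3_dep.eq_1.{0,0,0}) | (have := @Cfsg.Agent.H46.J1.dC3_dep.eq_1.{0,0}) | (have := @Cfsg.Agent.H46.J1.dC3_dep.eq_1.{0}) | (have := @Cfsg.Agent.H46.J1.dC3_dep.eq_1) | skip
  first | (have := @Cfsg.Agent.H46.J1.dC3_dep.eq_2.{0,0,0}) | (have := @Cfsg.Agent.H46.J1.dC3_dep.eq_2.{0,0}) | (have := @Cfsg.Agent.H46.J1.dC3_dep.eq_2.{0}) | (have := @Cfsg.Agent.H46.J1.dC3_dep.eq_2) | skip
  first | (have := @Cfsg.Agent.H46.J1.dC3_dep.eq_unfold.{0,0,0}) | (have := @Cfsg.Agent.H46.J1.dC3_dep.eq_unfold.{0,0}) | (have := @Cfsg.Agent.H46.J1.dC3_dep.eq_unfold.{0}) | (have := @Cfsg.Agent.H46.J1.dC3_dep.eq_unfold) | skip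
  first | (have := @Cfsg.Agent.H46.J1.dC3_dep.congr_simp.{0,0,0}) | (have := @Cfsg.Agent.H46.J1.dC3_dep.congr_simp.{0,0}) | (have := @Cfsg.Agent.H46.J1.dC3_dep.congr_simp.{0}) | (have := @Cfsg.Agent.H46.J1.dC3_dep.congr_simp) | skip
  first | (have := @Cfsg.Agent.H46.J1.tC3.eq_def.{0,0,0}) | (have := @Cfsg.Agent.H46.J1.tC3.eq_def.{0,0}) | (have := @Cfsg.Agent.H46.J1.tC3.eq_def.{0}) | (have := @Cfsg.Agent.H46.J1.tC3.eq_def) | skip
  first | (have := @Cfsg.Agent.H46.J1.tC3.eq_1.{0,0,0}) | (have := @Cfsg.Agent.H46.J1.tC3.eq_1.{0,0}) | (have := @Cfsg.Agent.H46.J1.tC3.eq_1.{0}) | (have := @Cfsg.Agent.H46.J1.tC3.eq_1) | skip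
  first | (have := @Cfsg.Agent.H46.J1.tC3.eq_2.{0,0,0}) | (have := @Cfsg.Agent.H46.J1.tC3.eq_2.{0,0}) | (have := @Cfsg.Agent.H46.J1.tC3.eq_2.{0}) | (have := @Cfsg.Agent.H46.J1.tC3.eq_2) | skip
  first | (have := @Cfsg.Agent.H46.J1.tC3.eq_unfold.{0,0,0}) | (have := @Cfsg.Agent.H46.J1.tC3.eq_unfold.{0,0}) | (have := @Cfsg.Agent.H46.J1.tC3.eq_unfold.{0}) | (have := @Cfsg.Agent.H46.J1.tC3.eq_unfold) | skip
  first | (have := @Cfsg.Agent.H46.J1.tC3.congr_simp.{0,0,0}) | (have := @Cfsg.Agent.H46.J1.tC3.congr_simp.{0,0}) | (have := @Cfsg.Agent.H46.J1.tC3.congr_simp.{0}) | (have := @Cfsg.Agent.H46.J1.tC3.congr_simp) | skip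
  first | (have := @Cfsg.Agent.H46.J1.dC5_c0.eq_def.{0,0,0}) | (have := @Cfsg.Agent.H46.J1.dC5_c0.eq_def.{0,0}) | (have := @Cfsg.Agent.H46.J1.dC5_c0.eq_def.{0}) | (have := @Cfsg.Agent.H46.J1.dC5_c0.eq_def) | skip
  first | (have := @Cfsg.Agent.H46.J1.dC5_c0.eq_1.{0,0,0}) | (have := @Cfsg.Agent.H46.J1.dC5_c0.eq_1.{0,0}) | (have := @Cfsg.Agent.H46.J1.dC5_c0.eq_1.{0}) | (have := @Cfsg.Agent.H46.J1.dC5_c0.eq_1) | skip
  first | (have := @Cfsg.Agent.H46.J1.dC5_c0.eq_2.{0,0,0}) | (have := @Cfsg.Agent.H46.J1.dC5_c0.eq_2.{0,0}) | (have := @Cfsg.Agent.H46.J1.dC5_c0.eq_2.{0}) | (have := @Cfsg.Agent.H46.J1.dC5_c0.eq_2) | skip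
  first | (have := @Cfsg.Agent.H46.J1.dC5_c0.eq_unfold.{0,0,0}) | (have := @Cfsg.Agent.H46.J1.dC5_c0.eq_unfold.{0,0}) | (have := @Cfsg.Agent.H46.J1.dC5_c0.eq_unfold.{0}) | (have := @Cfsg.Agent.H46.J1.dC5_c0.eq_unfold) | skip
  first | (have := @Cfsg.Agent.H46.J1.dC5_c0.congr_simp.{0,0,0}) | (have := @Cfsg.Agent.H46.J1.dC5_c0.congr_simp.{0,0}) | (have := @Cfsg.Agent.H46.J1.dC5_c0.congr_simp.{0}) | (have := @Cfsg.Agent.H46.J1.dC5_c0.congr_simp) | skip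
  first | (have := @Cfsg.Agent.H46.J1.dC5.eq_def.{0,0,0}) | (have := @Cfsg.Agent.H46.J1.dC5.eq_def.{0,0}) | (have := @Cfsg.Agent.H46.J1.dC5.eq_def.{0}) | (have := @Cfsg.Agent.H46.J1.dC5.eq_def) | skip
  first | (have := @Cfsg.Agent.H46.J1.dC5.eq_1.{0,0,0}) | (have := @Cfsg.Agent.H46.J1.dC5.eq_1.{0,0}) | (have := @Cfsg.Agent.H46.J1.dC5.eq_1.{0}) | (have := @Cfsg.Agent.H46.J1.dC5.eq_1) | skip
  first | (have := @Cfsg.Agent.H46.J1.dC5.eq_2.{0,0,0}) | (have := @Cfsg.Agent.H46.J1.dC5.eq_2.{0,0}) | (have := @Cfsg.Agent.H46.J1.dC5.eq_2.{0}) | (have := @Cfsg.Agent.H46.J1.dC5.eq_2) | skip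
  first | (have := @Cfsg.Agent.H46.J1.dC5.eq_unfold.{0,0,0}) | (have := @Cfsg.Agent.H46.J1.dC5.eq_unfold.{0,0}) | (have := @Cfsg.Agent.H46.J1.dC5.eq_unfold.{0}) | (have := @Cfsg.Agent.H46.J1.dC5.eq_unfold) | skip
  first | (have := @Cfsg.Agent.H46.J1.dC5.congr_simp.{0,0,0}) | (have := @Cfsg.Agent.H46.J1.dC5.congr_simp.{0,0}) | (have := @Cfsg.Agent.H46.J1.dC5.congr_simp.{0}) | (have := @Cfsg.Agent.H46.J1.dC5.congr_simp) | skip
  first | (have := @Cfsg.Agent.H46.J1.dC5_par.eq_def.{0,0,0}) | (have := @Cfsg.Agent.H46.J1.dC5_par.eq_def.{0,0}) | (have := @Cfsg.Agent.H46.J1.dC5_par.eq_def.{0}) | (have := @Cfsg.Agent.H46.J1.dC5_par.eq_def) | skip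
  first | (have := @Cfsg.Agent.H46.J1.dC5_par.eq_1.{0,0,0}) | (have := @Cfsg.Agent.H46.J1.dC5_par.eq_1.{0,0}) | (have := @Cfsg.Agent.H46.J1.dC5_par.eq_1.{0}) | (have := @Cfsg.Agent.H46.J1.dC5_par.eq_1) | skip
  first | (have := @Cfsg.Agent.H46.J1.dC5_par.eq_2.{0,0,0}) | (have := @Cfsg.Agent.H46.J1.dC5_par.eq_2.{0,0}) | (have := @Cfsg.Agent.H46.J1.dC5_par.eq_2.{0}) | (have := @Cfsg.Agent.H46.J1.dC5_par.eq_2) | skip
  first | (have := @Cfsg.Agent.H46.J1.dC5_par.eq_unfold.{0,0,0}) | (have := @Cfsg.Agent.H46.J1.dC5_par.eq_unfold.{0,0}) | (have := @Cfsg.Agent.H46.J1.dC5_par.eq_unfold.{0}) | (have := @Cfsg.Agent.H46.J1.dC5_par.eq_unfold) | skip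
  first | (have := @Cfsg.Agent.H46.J1.dC5_par.congr_simp.{0,0,0}) | (have := @Cfsg.Agent.H46.J1.dC5_par.congr_simp.{0,0}) | (have := @Cfsg.Agent.H46.J1.dC5_par.congr_simp.{0}) | (have := @Cfsg.Agent.H46.J1.dC5_par.congr_simp) | skip
  first | (have := @Cfsg.Agent.H46.J1.dC5_gi.eq_def.{0,0,0}) | (have := @Cfsg.Agent.H46.J1.dC5_gi.eq_def.{0,0}) | (have := @Cfsg.Agent.H46.J1.dC5_gi.eq_def.{0}) | (have := @Cfsg.Agent.H46.J1.dC5_gi.eq_def) | skip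
  first | (have := @Cfsg.Agent.H46.J1.dC5_gi.eq_1.{0,0,0}) | (have := @Cfsg.Agent.H46.J1.dC5_gi.eq_1.{0,0}) | (have := @Cfsg.Agent.H46.J1.dC5_gi.eq_1.{0}) | (have := @Cfsg.Agent.H46.J1.dC5_gi.eq_1) | skip
  first | (have := @Cfsg.Agent.H46.J1.dC5_gi.eq_2.{0,0,0}) | (have := @Cfsg.Agent.H46.J1.dC5_gi.eq_2.{0,0}) | (have := @Cfsg.Agent.H46.J1.dC5_gi.eq_2.{0}) | (have := @Cfsg.Agent.H46.J1.dC5_gi.eq_2) | skip
  first | (have := @Cfsg.Agent.H46.J1.dC5_gi.eq_unfold.{0,0,0}) | (have := @Cfsg.Agent.H46.J1.dC5_gi.eq_unfold.{0,0}) | (have := @Cfsg.Agent.H46.J1.dC5_gi.eq_unfold.{0}) | (have := @Cfsg.Agent.H46.J1.dC5_gi.eq_unfold) | skip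
  first | (have := @Cfsg.Agent.H46.J1.dC5_gi.congr_simp.{0,0,0}) | (have := @Cfsg.Agent.H46.J1.dC5_gi.congr_simp.{0,0}) | (have := @Cfsg.Agent.H46.J1.dC5_gi.congr_simp.{0}) | (have := @Cfsg.Agent.H46.J1.dC5_gi.congr_simp) | skip
  first | (have := @Cfsg.Agent.H46.J1.dC5_dep.eq_def.{0,0,0}) | (have := @Cfsg.Agent.H46.J1.dC5_dep.eq_def.{0,0}) | (have := @Cfsg.Agent.H46.J1.dC5_dep.eq_def.{0}) | (have := @Cfsg.Agent.H46.J1.dC5_dep.eq_def) | skip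
  first | (have := @Cfsg.Agent.H46.J1.dC5_dep.eq_1.{0,0,0}) | (have := @Cfsg.Agent.H46.J1.dC5_dep.eq_1.{0,0}) | (have := @Cfsg.Agent.H46.J1.dC5_dep.eq_1.{0}) | (have := @Cfsg.Agent.H46.J1.dC5_dep.eq_1) | skip
  first | (have := @Cfsg.Agent.H46.J1.dC5_dep.eq_2.{0,0,0}) | (have := @Cfsg.Agent.H46.J1.dC5_dep.eq_2.{0,0}) | (have := @Cfsg.Agent.H46.J1.dC5_dep.eq_2.{0}) | (have := @Cfsg.Agent.H46.J1.dC5_dep.eq_2) | skip
  first | (have := @Cfsg.Agent.H46.J1.dC5_dep.eq_unfold.{0,0,0}) | (have := @Cfsg.Agent.H46.J1.dC5_dep.eq_unfold.{0,0}) | (have := @Cfsg.Agent.H46.J1.dC5_dep.eq_unfold.{0}) | (have := @Cfsg.Agent.H46.J1.dC5_dep.eq_unfold) | skip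
  first | (have := @Cfsg.Agent.H46.J1.dC5_dep.congr_simp.{0,0,0}) | (have := @Cfsg.Agent.H46.J1.dC5_dep.congr_simp.{0,0}) | (have := @Cfsg.Agent.H46.J1.dC5_dep.congr_simp.{0}) | (have := @Cfsg.Agent.H46.J1.dC5_dep.congr_simp) | skip
  first | (have := @Cfsg.Agent.H46.J1.tC5.eq_def.{0,0,0}) | (have := @Cfsg.Agent.H46.J1.tC5.eq_def.{0,0}) | (have := @Cfsg.Agent.H46.J1.tC5.eq_def.{0}) | (have := @Cfsg.Agent.H46.J1.tC5.eq_def) | skip
  first | (have := @Cfsg.Agent.H46.J1.tC5.eq_1.{0,0,0}) | (have := @Cfsg.Agent.H46.J1.tC5.eq_1.{0,0}) | (have := @Cfsg.Agent.H46.J1.tC5.eq_1.{0}) | (have := @Cfsg.Agent.H46.J1.tC5.eq_1) | skip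
  first | (have := @Cfsg.Agent.H46.J1.tC5.eq_2.{0,0,0}) | (have := @Cfsg.Agent.H46.J1.tC5.eq_2.{0,0}) | (have := @Cfsg.Agent.H46.J1.tC5.eq_2.{0}) | (have := @Cfsg.Agent.H46.J1.tC5.eq_2) | skip
  first | (have := @Cfsg.Agent.H46.J1.tC5.eq_unfold.{0,0,0}) | (have := @Cfsg.Agent.H46.J1.tC5.eq_unfold.{0,0}) | (have := @Cfsg.Agent.H46.J1.tC5.eq_unfold.{0}) | (have := @Cfsg.Agent.H46.J1.tC5.eq_unfold) | skip
  first | (have := @Cfsg.Agent.H46.J1.tC5.congr_simp.{0,0,0}) | (have := @Cfsg.Agent.H46.J1.tC5.congr_simp.{0,0}) | (have := @Cfsg.Agent.H46.J1.tC5.congr_simp.{0}) | (have := @Cfsg.Agent.H46.J1.tC5.congr_simp) | skip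
  first | (have := @Cfsg.Agent.H46.J1.dC7_c0.eq_def.{0,0,0}) | (have := @Cfsg.Agent.H46.J1.dC7_c0.eq_def.{0,0}) | (have := @Cfsg.Agent.H46.J1.dC7_c0.eq_def.{0}) | (have := @Cfsg.Agent.H46.J1.dC7_c0.eq_def) | skip
  first | (have := @Cfsg.Agent.H46.J1.dC7_c0.eq_1.{0,0,0}) | (have := @Cfsg.Agent.H46.J1.dC7_c0.eq_1.{0,0}) | (have := @Cfsg.Agent.H46.J1.dC7_c0.eq_1.{0}) | (have := @Cfsg.Agent.H46.J1.dC7_c0.eq_1) | skip
  first | (have := @Cfsg.Agent.H46.J1.dC7_c0.eq_2.{0,0,0}) | (have := @Cfsg.Agent.H46.J1.dC7_c0.eq_2.{0,0}) | (have := @Cfsg.Agent.H46.J1.dC7_c0.eq_2.{0}) | (have := @Cfsg.Agent.H46.J1.dC7_c0.eq_2) | skip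
  first | (have := @Cfsg.Agent.H46.J1.dC7_c0.eq_unfold.{0,0,0}) | (have := @Cfsg.Agent.H46.J1.dC7_c0.eq_unfold.{0,0}) | (have := @Cfsg.Agent.H46.J1.dC7_c0.eq_unfold.{0}) | (have := @Cfsg.Agent.H46.J1.dC7_c0.eq_unfold) | skip
  first | (have := @Cfsg.Agent.H46.J1.dC7_c0.congr_simp.{0,0,0}) | (have := @Cfsg.Agent.H46.J1.dC7_c0.congr_simp.{0,0}) | (have := @Cfsg.Agent.H46.J1.dC7_c0.congr_simp.{0}) | (have := @Cfsg.Agent.H46.J1.dC7_c0.congr_simp) | skip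
  first | (have := @Cfsg.Agent.H46.J1.dC7_c1.eq_def.{0,0,0}) | (have := @Cfsg.Agent.H46.J1.dC7_c1.eq_def.{0,0}) | (have := @Cfsg.Agent.H46.J1.dC7_c1.eq_def.{0}) | (have := @Cfsg.Agent.H46.J1.dC7_c1.eq_def) | skip
  first | (have := @Cfsg.Agent.H46.J1.dC7_c1.eq_1.{0,0,0}) | (have := @Cfsg.Agent.H46.J1.dC7_c1.eq_1.{0,0}) | (have := @Cfsg.Agent.H46.J1.dC7_c1.eq_1.{0}) | (have := @Cfsg.Agent.H46.J1.dC7_c1.eq_1) | skip
  first | (have := @Cfsg.Agent.H46.J1.dC7_c1.eq_2.{0,0,0}) | (have := @Cfsg.Agent.H46.J1.dC7_c1.eq_2.{0,0}) | (have := @Cfsg.Agent.H46.J1.dC7_c1.eq_2.{0}) | (have := @Cfsg.Agent.H46.J1.dC7_c1.eq_2) | skip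
  first | (have := @Cfsg.Agent.H46.J1.dC7_c1.eq_unfold.{0,0,0}) | (have := @Cfsg.Agent.H46.J1.dC7_c1.eq_unfold.{0,0}) | (have := @Cfsg.Agent.H46.J1.dC7_c1.eq_unfold.{0}) | (have := @Cfsg.Agent.H46.J1.dC7_c1.eq_unfold) | skip
  first | (have := @Cfsg.Agent.H46.J1.dC7_c1.congr_simp.{0,0,0}) | (have := @Cfsg.Agent.H46.J1.dC7_c1.congr_simp.{0,0}) | (have := @Cfsg.Agent.H46.J1.dC7_c1.congr_simp.{0}) | (have := @Cfsg.Agent.H46.J1.dC7_c1.congr_simp) | skip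
  first | (have := @Cfsg.Agent.H46.J1.dC7_c2.eq_def.{0,0,0}) | (have := @Cfsg.Agent.H46.J1.dC7_c2.eq_def.{0,0}) | (have := @Cfsg.Agent.H46.J1.dC7_c2.eq_def.{0}) | (have := @Cfsg.Agent.H46.J1.dC7_c2.eq_def) | skip
  first | (have := @Cfsg.Agent.H46.J1.dC7_c2.eq_1.{0,0,0}) | (have := @Cfsg.Agent.H46.J1.dC7_c2.eq_1.{0,0}) | (have := @Cfsg.Agent.H46.J1.dC7_c2.eq_1.{0}) | (have := @Cfsg.Agent.H46.J1.dC7_c2.eq_1) | skip
  first | (have := @Cfsg.Agent.H46.J1.dC7_c2.eq_2.{0,0,0}) | (have := @Cfsg.Agent.H46.J1.dC7_c2.eq_2.{0,0}) | (have := @Cfsg.Agent.H46.J1.dC7_c2.eq_2.{0}) | (have := @Cfsg.Agent.H46.J1.dC7_c2.eq_2) | skip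
  first | (have := @Cfsg.Agent.H46.J1.dC7_c2.eq_unfold.{0,0,0}) | (have := @Cfsg.Agent.H46.J1.dC7_c2.eq_unfold.{0,0}) | (have := @Cfsg.Agent.H46.J1.dC7_c2.eq_unfold.{0}) | (have := @Cfsg.Agent.H46.J1.dC7_c2.eq_unfold) | skip
  first | (have := @Cfsg.Agent.H46.J1.dC7_c2.congr_simp.{0,0,0}) | (have := @Cfsg.Agent.H46.J1.dC7_c2.congr_simp.{0,0}) | (have := @Cfsg.Agent.H46.J1.dC7_c2.congr_simp.{0}) | (have := @Cfsg.Agent.H46.J1.dC7_c2.congr_simp) | skip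
  first | (have := @Cfsg.Agent.H46.J1.dC7_t.eq_def.{0,0,0}) | (have := @Cfsg.Agent.H46.J1.dC7_t.eq_def.{0,0}) | (have := @Cfsg.Agent.H46.J1.dC7_t.eq_def.{0}) | (have := @Cfsg.Agent.H46.J1.dC7_t.eq_def) | skip
  first | (have := @Cfsg.Agent.H46.J1.dC7_t.eq_1.{0,0,0}) | (have := @Cfsg.Agent.H46.J1.dC7_t.eq_1.{0,0}) | (have := @Cfsg.Agent.H46.J1.dC7_t.eq_1.{0}) | (have := @Cfsg.Agent.H46.J1.dC7_t.eq_1) | skip
  first | (have := @Cfsg.Agent.H46.J1.dC7_t.eq_2.{0,0,0}) | (have := @Cfsg.Agent.H46.J1.dC7_t.eq_2.{0,0}) | (have := @Cfsg.Agent.H46.J1.dC7_t.eq_2.{0}) | (have := @Cfsg.Agent.H46.J1.dC7_t.eq_2) | skip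
  first | (have := @Cfsg.Agent.H46.J1.dC7_t.eq_unfold.{0,0,0}) | (have := @Cfsg.Agent.H46.J1.dC7_t.eq_unfold.{0,0}) | (have := @Cfsg.Agent.H46.J1.dC7_t.eq_unfold.{0}) | (have := @Cfsg.Agent.H46.J1.dC7_t.eq_unfold) | skip
  first | (have := @Cfsg.Agent.H46.J1.dC7_t.congr_simp.{0,0,0}) | (have := @Cfsg.Agent.H46.J1.dC7_t.congr_simp.{0,0}) | (have := @Cfsg.Agent.H46.J1.dC7_t.congr_simp.{0}) | (have := @Cfsg.Agent.H46.J1.dC7_t.congr_simp) | skip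
  first | (have := @Cfsg.Agent.H46.J1.dC7.eq_def.{0,0,0}) | (have := @Cfsg.Agent.H46.J1.dC7.eq_def.{0,0}) | (have := @Cfsg.Agent.H46.J1.dC7.eq_def.{0}) | (have := @Cfsg.Agent.H46.J1.dC7.eq_def) | skip
  first | (have := @Cfsg.Agent.H46.J1.dC7.eq_1.{0,0,0}) | (have := @Cfsg.Agent.H46.J1.dC7.eq_1.{0,0}) | (have := @Cfsg.Agent.H46.J1.dC7.eq_1.{0}) | (have := @Cfsg.Agent.H46.J1.dC7.eq_1) | skip
  first | (have := @Cfsg.Agent.H46.J1.dC7.eq_2.{0,0,0}) | (have := @Cfsg.Agent.H46.J1.dC7.eq_2.{0,0}) | (have := @Cfsg.Agent.H46.J1.dC7.eq_2.{0}) | (have := @Cfsg.Agent.H46.J1.dC7.eq_2) | skip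
  first | (have := @Cfsg.Agent.H46.J1.dC7.eq_unfold.{0,0,0}) | (have := @Cfsg.Agent.H46.J1.dC7.eq_unfold.{0,0}) | (have := @Cfsg.Agent.H46.J1.dC7.eq_unfold.{0}) | (have := @Cfsg.Agent.H46.J1.dC7.eq_unfold) | skip
  first | (have := @Cfsg.Agent.H46.J1.dC7.congr_simp.{0,0,0}) | (have := @Cfsg.Agent.H46.J1.dC7.congr_simp.{0,0}) | (have := @Cfsg.Agent.H46.J1.dC7.congr_simp.{0}) | (have := @Cfsg.Agent.H46.J1.dC7.congr_simp) | skip
  first | (have := @Cfsg.Agent.H46.J1.dC7_par.eq_def.{0,0,0}) | (have := @Cfsg.Agent.H46.J1.dC7_par.eq_def.{0,0}) | (have := @Cfsg.Agent.H46.J1.dC7_par.eq_def.{0}) | (have := @Cfsg.Agent.H46.J1.dC7_par.eq_def) | skip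
  first | (have := @Cfsg.Agent.H46.J1.dC7_par.eq_1.{0,0,0}) | (have := @Cfsg.Agent.H46.J1.dC7_par.eq_1.{0,0}) | (have := @Cfsg.Agent.H46.J1.dC7_par.eq_1.{0}) | (have := @Cfsg.Agent.H46.J1.dC7_par.eq_1) | skip
  first | (have := @Cfsg.Agent.H46.J1.dC7_par.eq_2.{0,0,0}) | (have := @Cfsg.Agent.H46.J1.dC7_par.eq_2.{0,0}) | (have := @Cfsg.Agent.H46.J1.dC7_par.eq_2.{0}) | (have := @Cfsg.Agent.H46.J1.dC7_par.eq_2) | skip
  first | (have := @Cfsg.Agent.H46.J1.dC7_par.eq_unfold.{0,0,0}) | (have := @Cfsg.Agent.H46.J1.dC7_par.eq_unfold.{0,0}) | (have := @Cfsg.Agent.H46.J1.dC7_par.eq_unfold.{0}) | (have := @Cfsg.Agent.H46.J1.dC7_par.eq_unfold) | skip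
  first | (have := @Cfsg.Agent.H46.J1.dC7_par.congr_simp.{0,0,0}) | (have := @Cfsg.Agent.H46.J1.dC7_par.congr_simp.{0,0}) | (have := @Cfsg.Agent.H46.J1.dC7_par.congr_simp.{0}) | (have := @Cfsg.Agent.H46.J1.dC7_par.congr_simp) | skip
  first | (have := @Cfsg.Agent.H46.J1.dC7_gi.eq_def.{0,0,0}) | (have := @Cfsg.Agent.H46.J1.dC7_gi.eq_def.{0,0}) | (have := @Cfsg.Agent.H46.J1.dC7_gi.eq_def.{0}) | (have := @Cfsg.Agent.H46.J1.dC7_gi.eq_def) | skip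
  first | (have := @Cfsg.Agent.H46.J1.dC7_gi.eq_1.{0,0,0}) | (have := @Cfsg.Agent.H46.J1.dC7_gi.eq_1.{0,0}) | (have := @Cfsg.Agent.H46.J1.dC7_gi.eq_1.{0}) | (have := @Cfsg.Agent.H46.J1.dC7_gi.eq_1) | skip
  first | (have := @Cfsg.Agent.H46.J1.dC7_gi.eq_2.{0,0,0}) | (have := @Cfsg.Agent.H46.J1.dC7_gi.eq_2.{0,0}) | (have := @Cfsg.Agent.H46.J1.dC7_gi.eq_2.{0}) | (have := @Cfsg.Agent.H46.J1.dC7_gi.eq_2) | skip
  first | (have := @Cfsg.Agent.H46.J1.dC7_gi.eq_unfold.{0,0,0}) | (have := @Cfsg.Agent.H46.J1.dC7_gi.eq_unfold.{0,0}) | (have := @Cfsg.Agent.H46.J1.dC7_gi.eq_unfold.{0}) | (have := @Cfsg.Agent.H46.J1.dC7_gi.eq_unfold) | skip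
  first | (have := @Cfsg.Agent.H46.J1.dC7_gi.congr_simp.{0,0,0}) | (have := @Cfsg.Agent.H46.J1.dC7_gi.congr_simp.{0,0}) | (have := @Cfsg.Agent.H46.J1.dC7_gi.congr_simp.{0}) | (have := @Cfsg.Agent.H46.J1.dC7_gi.congr_simp) | skip
  first | (have := @Cfsg.Agent.H46.J1.dC7_dep.eq_def.{0,0,0}) | (have := @Cfsg.Agent.H46.J1.dC7_dep.eq_def.{0,0}) | (have := @Cfsg.Agent.H46.J1.dC7_dep.eq_def.{0}) | (have := @Cfsg.Agent.H46.J1.dC7_dep.eq_def) | skip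
  first | (have := @Cfsg.Agent.H46.J1.dC7_dep.eq_1.{0,0,0}) | (have := @Cfsg.Agent.H46.J1.dC7_dep.eq_1.{0,0}) | (have := @Cfsg.Agent.H46.J1.dC7_dep.eq_1.{0}) | (have := @Cfsg.Agent.H46.J1.dC7_dep.eq_1) | skip
  first | (have := @Cfsg.Agent.H46.J1.dC7_dep.eq_2.{0,0,0}) | (have := @Cfsg.Agent.H46.J1.dC7_dep.eq_2.{0,0}) | (have := @Cfsg.Agent.H46.J1.dC7_dep.eq_2.{0}) | (have := @Cfsg.Agent.H46.J1.dC7_dep.eq_2) | skip
  first | (have := @Cfsg.Agent.H46.J1.dC7_dep.eq_unfold.{0,0,0}) | (have := @Cfsg.Agent.H46.J1.dC7_dep.eq_unfold.{0,0}) | (have := @Cfsg.Agent.H46.J1.dC7_dep.eq_unfold.{0}) | (have := @Cfsg.Agent.H46.J1.dC7_dep.eq_unfold) | skip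
  first | (have := @Cfsg.Agent.H46.J1.dC7_dep.congr_simp.{0,0,0}) | (have := @Cfsg.Agent.H46.J1.dC7_dep.congr_simp.{0,0}) | (have := @Cfsg.Agent.H46.J1.dC7_dep.congr_simp.{0}) | (have := @Cfsg.Agent.H46.J1.dC7_dep.congr_simp) | skip
  first | (have := @Cfsg.Agent.H46.J1.tC7.eq_def.{0,0,0}) | (have := @Cfsg.Agent.H46.J1.tC7.eq_def.{0,0}) | (have := @Cfsg.Agent.H46.J1.tC7.eq_def.{0}) | (have := @Cfsg.Agent.H46.J1.tC7.eq_def) | skip
  first | (have := @Cfsg.Agent.H46.J1.tC7.eq_1.{0,0,0}) | (have := @Cfsg.Agent.H46.J1.tC7.eq_1.{0,0}) | (have := @Cfsg.Agent.H46.J1.tC7.eq_1.{0}) | (have := @Cfsg.Agent.H46.J1.tC7.eq_1) | skip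
  first | (have := @Cfsg.Agent.H46.J1.tC7.eq_2.{0,0,0}) | (have := @Cfsg.Agent.H46.J1.tC7.eq_2.{0,0}) | (have := @Cfsg.Agent.H46.J1.tC7.eq_2.{0}) | (have := @Cfsg.Agent.H46.J1.tC7.eq_2) | skip
  first | (have := @Cfsg.Agent.H46.J1.tC7.eq_unfold.{0,0,0}) | (have := @Cfsg.Agent.H46.J1.tC7.eq_unfold.{0,0}) | (have := @Cfsg.Agent.H46.J1.tC7.eq_unfold.{0}) | (have := @Cfsg.Agent.H46.J1.tC7.eq_unfold) | skip
  first | (have := @Cfsg.Agent.H46.J1.tC7.congr_simp.{0,0,0}) | (have := @Cfsg.Agent.H46.J1.tC7.congr_simp.{0,0}) | (have := @Cfsg.Agent.H46.J1.tC7.congr_simp.{0}) | (have := @Cfsg.Agent.H46.J1.tC7.congr_simp) | skip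
  first | (have := @Cfsg.Agent.H46.J1.dC11_c0.eq_def.{0,0,0}) | (have := @Cfsg.Agent.H46.J1.dC11_c0.eq_def.{0,0}) | (have := @Cfsg.Agent.H46.J1.dC11_c0.eq_def.{0}) | (have := @Cfsg.Agent.H46.J1.dC11_c0.eq_def) | skip
  first | (have := @Cfsg.Agent.H46.J1.dC11_c0.eq_1.{0,0,0}) | (have := @Cfsg.Agent.H46.J1.dC11_c0.eq_1.{0,0}) | (have := @Cfsg.Agent.H46.J1.dC11_c0.eq_1.{0}) | (have := @Cfsg.Agent.H46.J1.dC11_c0.eq_1) | skip
  first | (have := @Cfsg.Agent.H46.J1.dC11_c0.eq_2.{0,0,0}) | (have := @Cfsg.Agent.H46.J1.dC11_c0.eq_2.{0,0}) | (have := @Cfsg.Agent.H46.J1.dC11_c0.eq_2.{0}) | (have := @Cfsg.Agent.H46.J1.dC11_c0.eq_2) | skip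
  first | (have := @Cfsg.Agent.H46.J1.dC11_c0.eq_unfold.{0,0,0}) | (have := @Cfsg.Agent.H46.J1.dC11_c0.eq_unfold.{0,0}) | (have := @Cfsg.Agent.H46.J1.dC11_c0.eq_unfold.{0}) | (have := @Cfsg.Agent.H46.J1.dC11_c0.eq_unfold) | skip
  first | (have := @Cfsg.Agent.H46.J1.dC11_c0.congr_simp.{0,0,0}) | (have := @Cfsg.Agent.H46.J1.dC11_c0.congr_simp.{0,0}) | (have := @Cfsg.Agent.H46.J1.dC11_c0.congr_simp.{0}) | (have := @Cfsg.Agent.H46.J1.dC11_c0.congr_simp) | skip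
  first | (have := @Cfsg.Agent.H46.J1.dC11.eq_def.{0,0,0}) | (have := @Cfsg.Agent.H46.J1.dC11.eq_def.{0,0}) | (have := @Cfsg.Agent.H46.J1.dC11.eq_def.{0}) | (have := @Cfsg.Agent.H46.J1.dC11.eq_def) | skip
  first | (have := @Cfsg.Agent.H46.J1.dC11.eq_1.{0,0,0}) | (have := @Cfsg.Agent.H46.J1.dC11.eq_1.{0,0}) | (have := @Cfsg.Agent.H46.J1.dC11.eq_1.{0}) | (have := @Cfsg.Agent.H46.J1.dC11.eq_1) | skip
  first | (have := @Cfsg.Agent.H46.J1.dC11.eq_2.{0,0,0}) | (have := @Cfsg.Agent.H46.J1.dC11.eq_2.{0,0}) | (have := @Cfsg.Agent.H46.J1.dC11.eq_2.{0}) | (have := @Cfsg.Agent.H46.J1.dC11.eq_2) | skip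
  first | (have := @Cfsg.Agent.H46.J1.dC11.eq_unfold.{0,0,0}) | (have := @Cfsg.Agent.H46.J1.dC11.eq_unfold.{0,0}) | (have := @Cfsg.Agent.H46.J1.dC11.eq_unfold.{0}) | (have := @Cfsg.Agent.H46.J1.dC11.eq_unfold) | skip
  first | (have := @Cfsg.Agent.H46.J1.dC11.congr_simp.{0,0,0}) | (have := @Cfsg.Agent.H46.J1.dC11.congr_simp.{0,0}) | (have := @Cfsg.Agent.H46.J1.dC11.congr_simp.{0}) | (have := @Cfsg.Agent.H46.J1.dC11.congr_simp) | skip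
  first | (have := @Cfsg.Agent.H46.J1.dC11_par.eq_def.{0,0,0}) | (have := @Cfsg.Agent.H46.J1.dC11_par.eq_def.{0,0}) | (have := @Cfsg.Agent.H46.J1.dC11_par.eq_def.{0}) | (have := @Cfsg.Agent.H46.J1.dC11_par.eq_def) | skip
  first | (have := @Cfsg.Agent.H46.J1.dC11_par.eq_1.{0,0,0}) | (have := @Cfsg.Agent.H46.J1.dC11_par.eq_1.{0,0}) | (have := @Cfsg.Agent.H46.J1.dC11_par.eq_1.{0}) | (have := @Cfsg.Agent.H46.J1.dC11_par.eq_1) | skip
  first | (have := @Cfsg.Agent.H46.J1.dC11_par.eq_2.{0,0,0}) | (have := @Cfsg.Agent.H46.J1.dC11_par.eq_2.{0,0}) | (have := @Cfsg.Agent.H46.J1.dC11_par.eq_2.{0}) | (have := @Cfsg.Agent.H46.J1.dC11_par.eq_2) | skip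
  first | (have := @Cfsg.Agent.H46.J1.dC11_par.eq_unfold.{0,0,0}) | (have := @Cfsg.Agent.H46.J1.dC11_par.eq_unfold.{0,0}) | (have := @Cfsg.Agent.H46.J1.dC11_par.eq_unfold.{0}) | (have := @Cfsg.Agent.H46.J1.dC11_par.eq_unfold) | skip
  first | (have := @Cfsg.Agent.H46.J1.dC11_par.congr_simp.{0,0,0}) | (have := @Cfsg.Agent.H46.J1.dC11_par.congr_simp.{0,0}) | (have := @Cfsg.Agent.H46.J1.dC11_par.congr_simp.{0}) | (have := @Cfsg.Agent.H46.J1.dC11_par.congr_simp) | skip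
  first | (have := @Cfsg.Agent.H46.J1.dC11_gi.eq_def.{0,0,0}) | (have := @Cfsg.Agent.H46.J1.dC11_gi.eq_def.{0,0}) | (have := @Cfsg.Agent.H46.J1.dC11_gi.eq_def.{0}) | (have := @Cfsg.Agent.H46.J1.dC11_gi.eq_def) | skip
  first | (have := @Cfsg.Agent.H46.J1.dC11_gi.eq_1.{0,0,0}) | (have := @Cfsg.Agent.H46.J1.dC11_gi.eq_1.{0,0}) | (have := @Cfsg.Agent.H46.J1.dC11_gi.eq_1.{0}) | (have := @Cfsg.Agent.H46.J1.dC11_gi.eq_1) | skip
  first | (have := @Cfsg.Agent.H46.J1.dC11_gi.eq_2.{0,0,0}) | (have := @Cfsg.Agent.H46.J1.dC11_gi.eq_2.{0,0}) | (have := @Cfsg.Agent.H46.J1.dC11_gi.eq_2.{0}) | (have := @Cfsg.Agent.H46.J1.dC11_gi.eq_2) | skip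
  first | (have := @Cfsg.Agent.H46.J1.dC11_gi.eq_unfold.{0,0,0}) | (have := @Cfsg.Agent.H46.J1.dC11_gi.eq_unfold.{0,0}) | (have := @Cfsg.Agent.H46.J1.dC11_gi.eq_unfold.{0}) | (have := @Cfsg.Agent.H46.J1.dC11_gi.eq_unfold) | skip
  first | (have := @Cfsg.Agent.H46.J1.dC11_gi.congr_simp.{0,0,0}) | (have := @Cfsg.Agent.H46.J1.dC11_gi.congr_simp.{0,0}) | (have := @Cfsg.Agent.H46.J1.dC11_gi.congr_simp.{0}) | (have := @Cfsg.Agent.H46.J1.dC11_gi.congr_simp) | skip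
  first | (have := @Cfsg.Agent.H46.J1.dC11_dep.eq_def.{0,0,0}) | (have := @Cfsg.Agent.H46.J1.dC11_dep.eq_def.{0,0}) | (have := @Cfsg.Agent.H46.J1.dC11_dep.eq_def.{0}) | (have := @Cfsg.Agent.H46.J1.dC11_dep.eq_def) | skip
  first | (have := @Cfsg.Agent.H46.J1.dC11_dep.eq_1.{0,0,0}) | (have := @Cfsg.Agent.H46.J1.dC11_dep.eq_1.{0,0}) | (have := @Cfsg.Agent.H46.J1.dC11_dep.eq_1.{0}) | (have := @Cfsg.Agent.H46.J1.dC11_dep.eq_1) | skip
  first | (have := @Cfsg.Agent.H46.J1.dC11_dep.eq_2.{0,0,0}) | (have := @Cfsg.Agent.H46.J1.dC11_dep.eq_2.{0,0}) | (have := @Cfsg.Agent.H46.J1.dC11_dep.eq_2.{0}) | (have := @Cfsg.Agent.H46.J1.dC11_dep.eq_2) | skip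
  first | (have := @Cfsg.Agent.H46.J1.dC11_dep.eq_unfold.{0,0,0}) | (have := @Cfsg.Agent.H46.J1.dC11_dep.eq_unfold.{0,0}) | (have := @Cfsg.Agent.H46.J1.dC11_dep.eq_unfold.{0}) | (have := @Cfsg.Agent.H46.J1.dC11_dep.eq_unfold) | skip
  first | (have := @Cfsg.Agent.H46.J1.dC11_dep.congr_simp.{0,0,0}) | (have := @Cfsg.Agent.H46.J1.dC11_dep.congr_simp.{0,0}) | (have := @Cfsg.Agent.H46.J1.dC11_dep.congr_simp.{0}) | (have := @Cfsg.Agent.H46.J1.dC11_dep.congr_simp) | skip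
  first | (have := @Cfsg.Agent.H46.J1.tC11.eq_def.{0,0,0}) | (have := @Cfsg.Agent.H46.J1.tC11.eq_def.{0,0}) | (have := @Cfsg.Agent.H46.J1.tC11.eq_def.{0}) | (have := @Cfsg.Agent.H46.J1.tC11.eq_def) | skip
  first | (have := @Cfsg.Agent.H46.J1.tC11.eq_1.{0,0,0}) | (have := @Cfsg.Agent.H46.J1.tC11.eq_1.{0,0}) | (have := @Cfsg.Agent.H46.J1.tC11.eq_1.{0}) | (have := @Cfsg.Agent.H46.J1.tC11.eq_1) | skip
  first | (have := @Cfsg.Agent.H46.J1.tC11.eq_2.{0,0,0}) | (have := @Cfsg.Agent.H46.J1.tC11.eq_2.{0,0}) | (have := @Cfsg.Agent.H46.J1.tC11.eq_2.{0}) | (have := @Cfsg.Agent.H46.J1.tC11.eq_2) | skip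
  first | (have := @Cfsg.Agent.H46.J1.tC11.eq_unfold.{0,0,0}) | (have := @Cfsg.Agent.H46.J1.tC11.eq_unfold.{0,0}) | (have := @Cfsg.Agent.H46.J1.tC11.eq_unfold.{0}) | (have := @Cfsg.Agent.H46.J1.tC11.eq_unfold) | skip
  first | (have := @Cfsg.Agent.H46.J1.tC11.congr_simp.{0,0,0}) | (have := @Cfsg.Agent.H46.J1.tC11.congr_simp.{0,0}) | (have := @Cfsg.Agent.H46.J1.tC11.congr_simp.{0}) | (have := @Cfsg.Agent.H46.J1.tC11.congr_simp) | skip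
  first | (have := @Cfsg.Agent.H46.J1.dS_c0.eq_def.{0,0,0}) | (have := @Cfsg.Agent.H46.J1.dS_c0.eq_def.{0,0}) | (have := @Cfsg.Agent.H46.J1.dS_c0.eq_def.{0}) | (have := @Cfsg.Agent.H46.J1.dS_c0.eq_def) | skip
  first | (have := @Cfsg.Agent.H46.J1.dS_c0.eq_1.{0,0,0}) | (have := @Cfsg.Agent.H46.J1.dS_c0.eq_1.{0,0}) | (have := @Cfsg.Agent.H46.J1.dS_c0.eq_1.{0}) | (have := @Cfsg.Agent.H46.J1.dS_c0.eq_1) | skip
  first | (have := @Cfsg.Agent.H46.J1.dS_c0.eq_2.{0,0,0}) | (have := @Cfsg.Agent.H46.J1.dS_c0.eq_2.{0,0}) | (have := @Cfsg.Agent.H46.J1.dS_c0.eq_2.{0}) | (have := @Cfsg.Agent.H46.J1.dS_c0.eq_2) | skip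
  first | (have := @Cfsg.Agent.H46.J1.dS_c0.eq_unfold.{0,0,0}) | (have := @Cfsg.Agent.H46.J1.dS_c0.eq_unfold.{0,0}) | (have := @Cfsg.Agent.H46.J1.dS_c0.eq_unfold.{0}) | (have := @Cfsg.Agent.H46.J1.dS_c0.eq_unfold) | skip
  first | (have := @Cfsg.Agent.H46.J1.dS_c0.congr_simp.{0,0,0}) | (have := @Cfsg.Agent.H46.J1.dS_c0.congr_simp.{0,0}) | (have := @Cfsg.Agent.H46.J1.dS_c0.congr_simp.{0}) | (have := @Cfsg.Agent.H46.J1.dS_c0.congr_simp) | skip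
  first | (have := @Cfsg.Agent.H46.J1.dS.eq_def.{0,0,0}) | (have := @Cfsg.Agent.H46.J1.dS.eq_def.{0,0}) | (have := @Cfsg.Agent.H46.J1.dS.eq_def.{0}) | (have := @Cfsg.Agent.H46.J1.dS.eq_def) | skip
  first | (have := @Cfsg.Agent.H46.J1.dS.eq_1.{0,0,0}) | (have := @Cfsg.Agent.H46.J1.dS.eq_1.{0,0}) | (have := @Cfsg.Agent.H46.J1.dS.eq_1.{0}) | (have := @Cfsg.Agent.H46.J1.dS.eq_1) | skip
  first | (have := @Cfsg.Agent.H46.J1.dS.eq_2.{0,0,0}) | (have := @Cfsg.Agent.H46.J1.dS.eq_2.{0,0}) | (have := @Cfsg.Agent.H46.J1.dS.eq_2.{0}) | (have := @Cfsg.Agent.H46.J1.dS.eq_2) | skip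
  first | (have := @Cfsg.Agent.H46.J1.dS.eq_unfold.{0,0,0}) | (have := @Cfsg.Agent.H46.J1.dS.eq_unfold.{0,0}) | (have := @Cfsg.Agent.H46.J1.dS.eq_unfold.{0}) | (have := @Cfsg.Agent.H46.J1.dS.eq_unfold) | skip
  first | (have := @Cfsg.Agent.H46.J1.dS.congr_simp.{0,0,0}) | (have := @Cfsg.Agent.H46.J1.dS.congr_simp.{0,0}) | (have := @Cfsg.Agent.H46.J1.dS.congr_simp.{0}) | (have := @Cfsg.Agent.H46.J1.dS.congr_simp) | skip
  first | (have := @Cfsg.Agent.H46.J1.dS_par.eq_def.{0,0,0}) | (have := @Cfsg.Agent.H46.J1.dS_par.eq_def.{0,0}) | (have := @Cfsg.Agent.H46.J1.dS_par.eq_def.{0}) | (have := @Cfsg.Agent.H46.J1.dS_par.eq_def) | skip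
  first | (have := @Cfsg.Agent.H46.J1.dS_par.eq_1.{0,0,0}) | (have := @Cfsg.Agent.H46.J1.dS_par.eq_1.{0,0}) | (have := @Cfsg.Agent.H46.J1.dS_par.eq_1.{0}) | (have := @Cfsg.Agent.H46.J1.dS_par.eq_1) | skip
  first | (have := @Cfsg.Agent.H46.J1.dS_par.eq_2.{0,0,0}) | (have := @Cfsg.Agent.H46.J1.dS_par.eq_2.{0,0}) | (have := @Cfsg.Agent.H46.J1.dS_par.eq_2.{0}) | (have := @Cfsg.Agent.H46.J1.dS_par.eq_2) | skip
  first | (have := @Cfsg.Agent.H46.J1.dS_par.eq_unfold.{0,0,0}) | (have := @Cfsg.Agent.H46.J1.dS_par.eq_unfold.{0,0}) | (have := @Cfsg.Agent.H46.J1.dS_par.eq_unfold.{0}) | (have := @Cfsg.Agent.H46.J1.dS_par.eq_unfold) | skip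
  first | (have := @Cfsg.Agent.H46.J1.dS_par.congr_simp.{0,0,0}) | (have := @Cfsg.Agent.H46.J1.dS_par.congr_simp.{0,0}) | (have := @Cfsg.Agent.H46.J1.dS_par.congr_simp.{0}) | (have := @Cfsg.Agent.H46.J1.dS_par.congr_simp) | skip
  first | (have := @Cfsg.Agent.H46.J1.dS_gi.eq_def.{0,0,0}) | (have := @Cfsg.Agent.H46.J1.dS_gi.eq_def.{0,0}) | (have := @Cfsg.Agent.H46.J1.dS_gi.eq_def.{0}) | (have := @Cfsg.Agent.H46.J1.dS_gi.eq_def) | skip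
  first | (have := @Cfsg.Agent.H46.J1.dS_gi.eq_1.{0,0,0}) | (have := @Cfsg.Agent.H46.J1.dS_gi.eq_1.{0,0}) | (have := @Cfsg.Agent.H46.J1.dS_gi.eq_1.{0}) | (have := @Cfsg.Agent.H46.J1.dS_gi.eq_1) | skip
  first | (have := @Cfsg.Agent.H46.J1.dS_gi.eq_2.{0,0,0}) | (have := @Cfsg.Agent.H46.J1.dS_gi.eq_2.{0,0}) | (have := @Cfsg.Agent.H46.J1.dS_gi.eq_2.{0}) | (have := @Cfsg.Agent.H46.J1.dS_gi.eq_2) | skip
  first | (have := @Cfsg.Agent.H46.J1.dS_gi.eq_unfold.{0,0,0}) | (have := @Cfsg.Agent.H46.J1.dS_gi.eq_unfold.{0,0}) | (have := @Cfsg.Agent.H46.J1.dS_gi.eq_unfold.{0}) | (have := @Cfsg.Agent.H46.J1.dS_gi.eq_unfold) | skip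
  first | (have := @Cfsg.Agent.H46.J1.dS_gi.congr_simp.{0,0,0}) | (have := @Cfsg.Agent.H46.J1.dS_gi.congr_simp.{0,0}) | (have := @Cfsg.Agent.H46.J1.dS_gi.congr_simp.{0}) | (have := @Cfsg.Agent.H46.J1.dS_gi.congr_simp) | skip
  first | (have := @Cfsg.Agent.H46.J1.dS_dep.eq_def.{0,0,0}) | (have := @Cfsg.Agent.H46.J1.dS_dep.eq_def.{0,0}) | (have := @Cfsg.Agent.H46.J1.dS_dep.eq_def.{0}) | (have := @Cfsg.Agent.H46.J1.dS_dep.eq_def) | skip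
  first | (have := @Cfsg.Agent.H46.J1.dS_dep.eq_1.{0,0,0}) | (have := @Cfsg.Agent.H46.J1.dS_dep.eq_1.{0,0}) | (have := @Cfsg.Agent.H46.J1.dS_dep.eq_1.{0}) | (have := @Cfsg.Agent.H46.J1.dS_dep.eq_1) | skip
  first | (have := @Cfsg.Agent.H46.J1.dS_dep.eq_2.{0,0,0}) | (have := @Cfsg.Agent.H46.J1.dS_dep.eq_2.{0,0}) | (have := @Cfsg.Agent.H46.J1.dS_dep.eq_2.{0}) | (have := @Cfsg.Agent.H46.J1.dS_dep.eq_2) | skip
  first | (have := @Cfsg.Agent.H46.J1.dS_dep.eq_unfold.{0,0,0}) | (have := @Cfsg.Agent.H46.J1.dS_dep.eq_unfold.{0,0}) | (have := @Cfsg.Agent.H46.J1.dS_dep.eq_unfold.{0}) | (have := @Cfsg.Agent.H46.J1.dS_dep.eq_unfold) | skip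
  first | (have := @Cfsg.Agent.H46.J1.dS_dep.congr_simp.{0,0,0}) | (have := @Cfsg.Agent.H46.J1.dS_dep.congr_simp.{0,0}) | (have := @Cfsg.Agent.H46.J1.dS_dep.congr_simp.{0}) | (have := @Cfsg.Agent.H46.J1.dS_dep.congr_simp) | skip
  first | (have := @Cfsg.Agent.H46.J1.dST_c0.eq_def.{0,0,0}) | (have := @Cfsg.Agent.H46.J1.dST_c0.eq_def.{0,0}) | (have := @Cfsg.Agent.H46.J1.dST_c0.eq_def.{0}) | (have := @Cfsg.Agent.H46.J1.dST_c0.eq_def) | skip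
  first | (have := @Cfsg.Agent.H46.J1.dST_c0.eq_1.{0,0,0}) | (have := @Cfsg.Agent.H46.J1.dST_c0.eq_1.{0,0}) | (have := @Cfsg.Agent.H46.J1.dST_c0.eq_1.{0}) | (have := @Cfsg.Agent.H46.J1.dST_c0.eq_1) | skip
  first | (have := @Cfsg.Agent.H46.J1.dST_c0.eq_2.{0,0,0}) | (have := @Cfsg.Agent.H46.J1.dST_c0.eq_2.{0,0}) | (have := @Cfsg.Agent.H46.J1.dST_c0.eq_2.{0}) | (have := @Cfsg.Agent.H46.J1.dST_c0.eq_2) | skip
  first | (have := @Cfsg.Agent.H46.J1.dST_c0.eq_unfold.{0,0,0}) | (have := @Cfsg.Agent.H46.J1.dST_c0.eq_unfold.{0,0}) | (have := @Cfsg.Agent.H46.J1.dST_c0.eq_unfold.{0}) | (have := @Cfsg.Agent.H46.J1.dST_c0.eq_unfold) | skip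
  first | (have := @Cfsg.Agent.H46.J1.dST_c0.congr_simp.{0,0,0}) | (have := @Cfsg.Agent.H46.J1.dST_c0.congr_simp.{0,0}) | (have := @Cfsg.Agent.H46.J1.dST_c0.congr_simp.{0}) | (have := @Cfsg.Agent.H46.J1.dST_c0.congr_simp) | skip
  first | (have := @Cfsg.Agent.H46.J1.dST.eq_def.{0,0,0}) | (have := @Cfsg.Agent.H46.J1.dST.eq_def.{0,0}) | (have := @Cfsg.Agent.H46.J1.dST.eq_def.{0}) | (have := @Cfsg.Agent.H46.J1.dST.eq_def) | skip
  first | (have := @Cfsg.Agent.H46.J1.dST.eq_1.{0,0,0}) | (have := @Cfsg.Agent.H46.J1.dST.eq_1.{0,0}) | (have := @Cfsg.Agent.H46.J1.dST.eq_1.{0}) | (have := @Cfsg.Agent.H46.J1.dST.eq_1) | skip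
  first | (have := @Cfsg.Agent.H46.J1.dST.eq_2.{0,0,0}) | (have := @Cfsg.Agent.H46.J1.dST.eq_2.{0,0}) | (have := @Cfsg.Agent.H46.J1.dST.eq_2.{0}) | (have := @Cfsg.Agent.H46.J1.dST.eq_2) | skip
  first | (have := @Cfsg.Agent.H46.J1.dST.eq_unfold.{0,0,0}) | (have := @Cfsg.Agent.H46.J1.dST.eq_unfold.{0,0}) | (have := @Cfsg.Agent.H46.J1.dST.eq_unfold.{0}) | (have := @Cfsg.Agent.H46.J1.dST.eq_unfold) | skip
  first | (have := @Cfsg.Agent.H46.J1.dST.congr_simp.{0,0,0}) | (have := @Cfsg.Agent.H46.J1.dST.congr_simp.{0,0}) | (have := @Cfsg.Agent.H46.J1.dST.congr_simp.{0}) | (have := @Cfsg.Agent.H46.J1.dST.congr_simp) | skip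
  first | (have := @Cfsg.Agent.H46.J1.dST_T.eq_def.{0,0,0}) | (have := @Cfsg.Agent.H46.J1.dST_T.eq_def.{0,0}) | (have := @Cfsg.Agent.H46.J1.dST_T.eq_def.{0}) | (have := @Cfsg.Agent.H46.J1.dST_T.eq_def) | skip
  first | (have := @Cfsg.Agent.H46.J1.dST_T.eq_1.{0,0,0}) | (have := @Cfsg.Agent.H46.J1.dST_T.eq_1.{0,0}) | (have := @Cfsg.Agent.H46.J1.dST_T.eq_1.{0}) | (have := @Cfsg.Agent.H46.J1.dST_T.eq_1) | skip
  first | (have := @Cfsg.Agent.H46.J1.dST_T.eq_2.{0,0,0}) | (have := @Cfsg.Agent.H46.J1.dST_T.eq_2.{0,0}) | (have := @Cfsg.Agent.H46.J1.dST_T.eq_2.{0}) | (have := @Cfsg.Agent.H46.J1.dST_T.eq_2) | skip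
  first | (have := @Cfsg.Agent.H46.J1.dST_T.eq_unfold.{0,0,0}) | (have := @Cfsg.Agent.H46.J1.dST_T.eq_unfold.{0,0}) | (have := @Cfsg.Agent.H46.J1.dST_T.eq_unfold.{0}) | (have := @Cfsg.Agent.H46.J1.dST_T.eq_unfold) | skip
  first | (have := @Cfsg.Agent.H46.J1.dST_T.congr_simp.{0,0,0}) | (have := @Cfsg.Agent.H46.J1.dST_T.congr_simp.{0,0}) | (have := @Cfsg.Agent.H46.J1.dST_T.congr_simp.{0}) | (have := @Cfsg.Agent.H46.J1.dST_T.congr_simp) | skip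
  first | (have := @Cfsg.Agent.H46.J1.dSc_c0.eq_def.{0,0,0}) | (have := @Cfsg.Agent.H46.J1.dSc_c0.eq_def.{0,0}) | (have := @Cfsg.Agent.H46.J1.dSc_c0.eq_def.{0}) | (have := @Cfsg.Agent.H46.J1.dSc_c0.eq_def) | skip
  first | (have := @Cfsg.Agent.H46.J1.dSc_c0.eq_1.{0,0,0}) | (have := @Cfsg.Agent.H46.J1.dSc_c0.eq_1.{0,0}) | (have := @Cfsg.Agent.H46.J1.dSc_c0.eq_1.{0}) | (have := @Cfsg.Agent.H46.J1.dSc_c0.eq_1) | skip
  first | (have := @Cfsg.Agent.H46.J1.dSc_c0.eq_2.{0,0,0}) | (have := @Cfsg.Agent.H46.J1.dSc_c0.eq_2.{0,0}) | (have := @Cfsg.Agent.H46.J1.dSc_c0.eq_2.{0}) | (have := @Cfsg.Agent.H46.J1.dSc_c0.eq_2) | skip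
  first | (have := @Cfsg.Agent.H46.J1.dSc_c0.eq_unfold.{0,0,0}) | (have := @Cfsg.Agent.H46.J1.dSc_c0.eq_unfold.{0,0}) | (have := @Cfsg.Agent.H46.J1.dSc_c0.eq_unfold.{0}) | (have := @Cfsg.Agent.H46.J1.dSc_c0.eq_unfold) | skip
  first | (have := @Cfsg.Agent.H46.J1.dSc_c0.congr_simp.{0,0,0}) | (have := @Cfsg.Agent.H46.J1.dSc_c0.congr_simp.{0,0}) | (have := @Cfsg.Agent.H46.J1.dSc_c0.congr_simp.{0}) | (have := @Cfsg.Agent.H46.J1.dSc_c0.congr_simp) | skip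
  first | (have := @Cfsg.Agent.H46.J1.dSc.eq_def.{0,0,0}) | (have := @Cfsg.Agent.H46.J1.dSc.eq_def.{0,0}) | (have := @Cfsg.Agent.H46.J1.dSc.eq_def.{0}) | (have := @Cfsg.Agent.H46.J1.dSc.eq_def) | skip
  first | (have := @Cfsg.Agent.H46.J1.dSc.eq_1.{0,0,0}) | (have := @Cfsg.Agent.H46.J1.dSc.eq_1.{0,0}) | (have := @Cfsg.Agent.H46.J1.dSc.eq_1.{0}) | (have := @Cfsg.Agent.H46.J1.dSc.eq_1) | skip
  first | (have := @Cfsg.Agent.H46.J1.dSc.eq_2.{0,0,0}) | (have := @Cfsg.Agent.H46.J1.dSc.eq_2.{0,0}) | (have := @Cfsg.Agent.H46.J1.dSc.eq_2.{0}) | (have := @Cfsg.Agent.H46.J1.dSc.eq_2) | skip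
  first | (have := @Cfsg.Agent.H46.J1.dSc.eq_unfold.{0,0,0}) | (have := @Cfsg.Agent.H46.J1.dSc.eq_unfold.{0,0}) | (have := @Cfsg.Agent.H46.J1.dSc.eq_unfold.{0}) | (have := @Cfsg.Agent.H46.J1.dSc.eq_unfold) | skip
  first | (have := @Cfsg.Agent.H46.J1.dSc.congr_simp.{0,0,0}) | (have := @Cfsg.Agent.H46.J1.dSc.congr_simp.{0,0}) | (have := @Cfsg.Agent.H46.J1.dSc.congr_simp.{0}) | (have := @Cfsg.Agent.H46.J1.dSc.congr_simp) | skip
  first | (have := @Cfsg.Agent.H46.J1.dSc_c.eq_def.{0,0,0}) | (have := @Cfsg.Agent.H46.J1.dSc_c.eq_def.{0,0}) | (have := @Cfsg.Agent.H46.J1.dSc_c.eq_def.{0}) | (have := @Cfsg.Agent.H46.J1.dSc_c.eq_def) | skip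
  first | (have := @Cfsg.Agent.H46.J1.dSc_c.eq_1.{0,0,0}) | (have := @Cfsg.Agent.H46.J1.dSc_c.eq_1.{0,0}) | (have := @Cfsg.Agent.H46.J1.dSc_c.eq_1.{0}) | (have := @Cfsg.Agent.H46.J1.dSc_c.eq_1) | skip
  first | (have := @Cfsg.Agent.H46.J1.dSc_c.eq_2.{0,0,0}) | (have := @Cfsg.Agent.H46.J1.dSc_c.eq_2.{0,0}) | (have := @Cfsg.Agent.H46.J1.dSc_c.eq_2.{0}) | (have := @Cfsg.Agent.H46.J1.dSc_c.eq_2) | skip
  first | (have := @Cfsg.Agent.H46.J1.dSc_c.eq_unfold.{0,0,0}) | (have := @Cfsg.Agent.H46.J1.dSc_c.eq_unfold.{0,0}) | (have := @Cfsg.Agent.H46.J1.dSc_c.eq_unfold.{0}) | (have := @Cfsg.Agent.H46.J1.dSc_c.eq_unfold) | skip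
  first | (have := @Cfsg.Agent.H46.J1.dSc_c.congr_simp.{0,0,0}) | (have := @Cfsg.Agent.H46.J1.dSc_c.congr_simp.{0,0}) | (have := @Cfsg.Agent.H46.J1.dSc_c.congr_simp.{0}) | (have := @Cfsg.Agent.H46.J1.dSc_c.congr_simp) | skip
  first | (have := @Cfsg.Agent.H46.J1.tS.eq_def.{0,0,0}) | (have := @Cfsg.Agent.H46.J1.tS.eq_def.{0,0}) | (have := @Cfsg.Agent.H46.J1.tS.eq_def.{0}) | (have := @Cfsg.Agent.H46.J1.tS.eq_def) | skip
  first | (have := @Cfsg.Agent.H46.J1.tS.eq_1.{0,0,0}) | (have := @Cfsg.Agent.H46.J1.tS.eq_1.{0,0}) | (have := @Cfsg.Agent.H46.J1.tS.eq_1.{0}) | (have := @Cfsg.Agent.H46.J1.tS.eq_1) | skip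
  first | (have := @Cfsg.Agent.H46.J1.tS.eq_2.{0,0,0}) | (have := @Cfsg.Agent.H46.J1.tS.eq_2.{0,0}) | (have := @Cfsg.Agent.H46.J1.tS.eq_2.{0}) | (have := @Cfsg.Agent.H46.J1.tS.eq_2) | skip
  first | (have := @Cfsg.Agent.H46.J1.tS.eq_unfold.{0,0,0}) | (have := @Cfsg.Agent.H46.J1.tS.eq_unfold.{0,0}) | (have := @Cfsg.Agent.H46.J1.tS.eq_unfold.{0}) | (have := @Cfsg.Agent.H46.J1.tS.eq_unfold) | skip
  first | (have := @Cfsg.Agent.H46.J1.tS.congr_simp.{0,0,0}) | (have := @Cfsg.Agent.H46.J1.tS.congr_simp.{0,0}) | (have := @Cfsg.Agent.H46.J1.tS.congr_simp.{0}) | (have := @Cfsg.Agent.H46.J1.tS.congr_simp) | skip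
  first | (have := @Cfsg.Agent.H46.J1.ST.eq_def.{0,0,0}) | (have := @Cfsg.Agent.H46.J1.ST.eq_def.{0,0}) | (have := @Cfsg.Agent.H46.J1.ST.eq_def.{0}) | (have := @Cfsg.Agent.H46.J1.ST.eq_def) | skip
  first | (have := @Cfsg.Agent.H46.J1.ST.eq_1.{0,0,0}) | (have := @Cfsg.Agent.H46.J1.ST.eq_1.{0,0}) | (have := @Cfsg.Agent.H46.J1.ST.eq_1.{0}) | (have := @Cfsg.Agent.H46.J1.ST.eq_1) | skip
  first | (have := @Cfsg.Agent.H46.J1.ST.eq_2.{0,0,0}) | (have := @Cfsg.Agent.H46.J1.ST.eq_2.{0,0}) | (have := @Cfsg.Agent.H46.J1.ST.eq_2.{0}) | (have := @Cfsg.Agent.H46.J1.ST.eq_2) | skip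
  first | (have := @Cfsg.Agent.H46.J1.ST.eq_unfold.{0,0,0}) | (have := @Cfsg.Agent.H46.J1.ST.eq_unfold.{0,0}) | (have := @Cfsg.Agent.H46.J1.ST.eq_unfold.{0}) | (have := @Cfsg.Agent.H46.J1.ST.eq_unfold) | skip
  first | (have := @Cfsg.Agent.H46.J1.ST.congr_simp.{0,0,0}) | (have := @Cfsg.Agent.H46.J1.ST.congr_simp.{0,0}) | (have := @Cfsg.Agent.H46.J1.ST.congr_simp.{0}) | (have := @Cfsg.Agent.H46.J1.ST.congr_simp) | skip
  first | (have := @Cfsg.Agent.H46.J1.qU.eq_def.{0,0,0}) | (have := @Cfsg.Agent.H46.J1.qU.eq_def.{0,0}) | (have := @Cfsg.Agent.H46.J1.qU.eq_def.{0}) | (have := @Cfsg.Agent.H46.J1.qU.eq_def) | skip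
  first | (have := @Cfsg.Agent.H46.J1.qU.eq_1.{0,0,0}) | (have := @Cfsg.Agent.H46.J1.qU.eq_1.{0,0}) | (have := @Cfsg.Agent.H46.J1.qU.eq_1.{0}) | (have := @Cfsg.Agent.H46.J1.qU.eq_1) | skip
  first | (have := @Cfsg.Agent.H46.J1.qU.eq_2.{0,0,0}) | (have := @Cfsg.Agent.H46.J1.qU.eq_2.{0,0}) | (have := @Cfsg.Agent.H46.J1.qU.eq_2.{0}) | (have := @Cfsg.Agent.H46.J1.qU.eq_2) | skip
  first | (have := @Cfsg.Agent.H46.J1.qU.eq_unfold.{0,0,0}) | (have := @Cfsg.Agent.H46.J1.qU.eq_unfold.{0,0}) | (have := @Cfsg.Agent.H46.J1.qU.eq_unfold.{0}) | (have := @Cfsg.Agent.H46.J1.qU.eq_unfold) | skip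
  first | (have := @Cfsg.Agent.H46.J1.qU.congr_simp.{0,0,0}) | (have := @Cfsg.Agent.H46.J1.qU.congr_simp.{0,0}) | (have := @Cfsg.Agent.H46.J1.qU.congr_simp.{0}) | (have := @Cfsg.Agent.H46.J1.qU.congr_simp) | skip
  first | (have := @Cfsg.Agent.H46.J1.qV.eq_def.{0,0,0}) | (have := @Cfsg.Agent.H46.J1.qV.eq_def.{0,0}) | (have := @Cfsg.Agent.H46.J1.qV.eq_def.{0}) | (have := @Cfsg.Agent.H46.J1.qV.eq_def) | skip
  first | (have := @Cfsg.Agent.H46.J1.qV.eq_1.{0,0,0}) | (have := @Cfsg.Agent.H46.J1.qV.eq_1.{0,0}) | (have := @Cfsg.Agent.H46.J1.qV.eq_1.{0}) | (have := @Cfsg.Agent.H46.J1.qV.eq_1) | skip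
  first | (have := @Cfsg.Agent.H46.J1.qV.eq_2.{0,0,0}) | (have := @Cfsg.Agent.H46.J1.qV.eq_2.{0,0}) | (have := @Cfsg.Agent.H46.J1.qV.eq_2.{0}) | (have := @Cfsg.Agent.H46.J1.qV.eq_2) | skip
  first | (have := @Cfsg.Agent.H46.J1.qV.eq_unfold.{0,0,0}) | (have := @Cfsg.Agent.H46.J1.qV.eq_unfold.{0,0}) | (have := @Cfsg.Agent.H46.J1.qV.eq_unfold.{0}) | (have := @Cfsg.Agent.H46.J1.qV.eq_unfold) | skip
  first | (have := @Cfsg.Agent.H46.J1.qV.congr_simp.{0,0,0}) | (have := @Cfsg.Agent.H46.J1.qV.congr_simp.{0,0}) | (have := @Cfsg.Agent.H46.J1.qV.congr_simp.{0}) | (have := @Cfsg.Agent.H46.J1.qV.congr_simp) | skip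
  trivial

end Cfsg.Agent.H46.J1
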