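import Mathlib
import Cfsg.Agent.H46.J3Class

/-!
# The third Janko group: local data
-/

set_option autoImplicit false
set_option maxRecDepth 1000000

namespace Cfsg.Agent.H46.J3

open Cfsg.Agent.H42 Cfsg.Agent.H46

noncomputable def genQ : ℕ → ℕ := getL [c_q0, c_q1, c_q2, c_q3]
def dQ_c0 : ℕ := (nat_lit 0x94e728c5ca7a5a871da761de669986795c5615444910458d2340d625090258541484e0300a020000)
noncomputable def dQ : ℕ → ℕ := memo (look1 dQ_c0 (nat_lit 10) (nat_lit 0x3ff))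
noncomputable def dQ_par (i : ℕ) : ℕ := bits (dQ i) (nat_lit 0) (nat_lit 31)
noncomputable def dQ_gi (i : ℕ) : ℕ := bits (dQ i) (nat_lit 5) (nat_lit 3)
noncomputable def dQ_dep (i : ℕ) : ℕ := bits (dQ i) (nat_lit 7) (nat_lit 7)
def dQT_c0 : ℕ := (nat_lit 0xacf3b962dcbd23a62a1e4bdbf72d1d59ff0478efeb54733bcdfa0cc875262fdcaf15697b3a5a13998ec98d5a641df76e4475cea43172f3d8a92c57420e717b06b49c831041ee6818b52408398a020c41)
noncomputable def dQT : ℕ → ℕ := memo (look1 dQT_c0 (nat_lit 5) (nat_lit 31))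
noncomputable def dQT_T (i : ℕ) : ℕ := bits (dQT i) (nat_lit 0) (nat_lit 31)
noncomputable def tQ : ℕ → ℕ := OJ.tabW genQ 4 dQ_par dQ_gi dQ_dep
noncomputable def QT (x j : ℕ) : ℕ := dQT_T (Nat.add (Nat.mul x 4) j)
theorem chkQ_w0 : allW (fun x => allB (OJ.edgeChk genQ tQ 32 QT (fun _ _ => OJ.one) x) 4) 0 32 = true := by decide +kernel
theorem chkQ : ∀ i < 32, (fun x => allB (OJ.edgeChk genQ tQ 32 QT (fun _ _ => OJ.one) x) 4) i = true :=
  all_step (all_zero _) chkQ_w0 rfl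
theorem chkQd : distinctB (fun i => OJ.key (tQ i)) 32 = true := by decide +kernel
def dQn_c0 : ℕ := (nat_lit 0xbd2218dc3f88eff)
noncomputable def dQn : ℕ → ℕ := memo (look1 dQn_c0 (nat_lit 5) (nat_lit 31))
noncomputable def dQn_i (i : ℕ) : ℕ := bits (dQn i) (nat_lit 0) (nat_lit 31)
theorem chkQn : allB (fun j => allB (fun i => OJ.conjB (genC j) (genQ i) (tQ (dQn_i (Nat.add (Nat.mul j 4) i)))) 4) 3 = true := by
  decide +kernel
theorem chkQz : OJ.eqB (tQ 29) ca = true ∧ OJ.commB c_q0 c_q1 = false ∧ Nat.beq (tQ 0) OJ.one = true ∧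
    allB (fun j => OJ.commB (genQ j) ca) 4 = true := by decide +kernel
theorem chkQc : allB (fun i => orB (notB (allB (fun j => OJ.commB (tQ i) (genQ j)) 4))
    (orB (OJ.eqB (tQ i) OJ.one) (OJ.eqB (tQ i) ca))) 32 = true := by decide +kernel
theorem chkQp : allB (fun i => allB (fun j => orB (OJ.commB (tQ i) (tQ j))
    (OJ.eqB (OJ.mul (tQ i) (tQ j)) (OJ.mul (OJ.mul (tQ j) (tQ i)) ca))) 32) 32 = true := by decide +kernel
theorem chkQm : allB (fun i => orB (notB (OJ.powOne (tQ i) 2)) (orB (OJ.eqB (tQ i) OJ.one) (orB (OJ.eqB (tQ i) ca)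
    (allB (fun j => orB (notB (OJ.powOne (tQ j) 2)) (orB (notB (OJ.commB (tQ i) (tQ j)))
      (orB (OJ.eqB (tQ j) OJ.one) (orB (OJ.eqB (tQ j) ca) (orB (OJ.eqB (tQ j) (tQ i))
        (OJ.eqB (tQ j) (OJ.mul (tQ i) ca))))))) 32)))) 32 = true := by decide +kernel
noncomputable def genP : ℕ → ℕ := getL [c_d1, c_d2]
def dP_c0 : ℕ := (nat_lit 0x5fb2fc97deaea574eb9f5cdae45322b8f5c6ae2d7129874c1adf52f6b795bba5dd6ea7673b09d74eb655b3a99d44e9a74b3a39d0ce7653b39c9cdca6e7353999cbce5a52d3959ca4e4a52338f947ce3671928c9c5ce2a5152899c44e1e30d185842c60e305181840c5fe2fd17c8bd45e22ed075839c5c60e317083845be2dd06e8b6c5b20d916a8b4c1a62d11678b345960c91638b1418a2c3160830457e2bd05e8aec5722b705b82d45660b315882c3d5deaae547a9bd49ca2f4f727bd39c9cf4d7263d2dc96f4a7a4b925e90f477a33919e8af447a1bd09e82e4079fbcf9c7cf3d79e38f1e76f3a71d3ce5c72f3879bb8dde6ce3679ab8d5e68e34699b4c9864d31618b4c1a5ec2f69734b5a58c2c695b4a9852d28693b09da4cc26692b095a48d23611b489844d216903081a3ec1f68f3079a3ac1d58e286d634b1950cac61430b1750bac5962aa1558a2851626b125092c45422b105082c3d41e90e486a03521880c485a429014909404a4210109074039c18c0c7053029c10c0870330194088045012008c00400000)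
noncomputable def dP : ℕ → ℕ := memo (look1 dP_c0 (nat_lit 13) (nat_lit 0x1fff))
noncomputable def dP_par (i : ℕ) : ℕ := bits (dP i) (nat_lit 0) (nat_lit 255)
noncomputable def dP_gi (i : ℕ) : ℕ := bits (dP i) (nat_lit 8) (nat_lit 1)
noncomputable def dP_dep (i : ℕ) : ℕ := bits (dP i) (nat_lit 9) (nat_lit 15)
def dPT_c0 : ℕ := (nat_lit 0x7dabdd4d90e03b899a0a4f2f29f87a628f132b6b32e8cae96b9899bf12c26a59e06a122b7f0a7b2f0b40feedfec01e96c746183e512e4e6816779efef73ee1c587c1ae77beded7eea6bece85e8669ebe2775a6eebeae9e3e8e1e770e6857fe5187a84e472de7614e3e07de2e102e0dfde7500d049523dcfcedd3fdc4cd8ddcac90ac5cbdc43c3dbdb51dad944080d4f34d7d8ccd7410bd6d6d5d5d3d148d4cd3ac8d3c146d2c056364bd2d1d0c2cfcecdbfcc4e093ecbc7cac9c857c74053c6c6c4bcc550bbc4c3550cc2bec1c0bfbabebd42bcbb54ba00b9b5b8b72d04b6a8b598b4b31db1b2a2b12aacb0b0afab94afada931aea3239dad9193ac2faa90ab1f8faaa9a8a7a692a5a4a38ea2a10527a09c9f9e9d959c299b9a9a978b99988a979695259493928d91908f338e888d8c2b8b8a89888786781571856466848382828063811162807f7e7d7c65137b7a79786077767519746f73727168705d6f1b6e6d6d6a5c6c6b5b6a6968176766655f6463626160595f5e5d5c5b5a5958573c56555453524d51504f454e394d4c4b4a4a4738494837474645444342413b403f3e3d3c353b3a393837363534333021323120302f2e2d2c2b2a2429282726251e24232221201f1e1d1c161b1a19181710161514131211100f0e0d0c0b0a090807060504030201)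
noncomputable def dPT : ℕ → ℕ := memo (look1 dPT_c0 (nat_lit 8) (nat_lit 255))
noncomputable def dPT_T (i : ℕ) : ℕ := bits (dPT i) (nat_lit 0) (nat_lit 255)
def dPz_c0 : ℕ := (nat_lit 0xce00000c3000004600000be000003b000000e00000d600000c50000049000004500000cd0000057000004c00000c10000040000004800000c900000500000043000004e00000550000053000004b000003e000003400000070000000000002900000a7000009100000980000031000009e0000095000002e00000a30000027030049b000008f0000087000001d00000030000094000002c00000a100000f0000008d0000024000003200000b00000099000002f03004a40000096000006800000e80000078000001b000007d0000064000006b00000e500000720000067000007000000760000019000006e00000620000058000000f000000100000820000079000006900000e0000005f0000016000007b00000e4000006c000002800000b2000009000000330000026000009a000008c000002300000b400000b900000aa00000f2000002d000008e00000250000093000002b000002200000b100000b800000a600000b6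00000af00000a00000006000008a0000020000001200000de000005b000007c00000ee00000e9000007400000ed00000e600000df000005e00000150000063000001a00000e2000006d0000061000001800000140000066000005d00000ef00000eb0000080000001700000e1000006000000d700000da00000d0000005200000d500000cb000000a00000bb0000037000003f00000d800000c0000004a000003d00000c600000bd000003a000000d00000db00000d250258dd000004400000bf000003c000000c00000420000039000007f000007300000ea000001c00000e30000065000008100000e700000770000086000007198d7eec00000130000084000005c000005a00000110000075000006f000007e000008598d7e7a000006a000008300000020000059000001000000d14fc7eca0000051000004100000d900000c2000005600000dc00000cc00000d400000c8000004f0000038000000b00000bc00000540000036000000900000c7000004d00000d300000cf00000c40000047000000800000ba000003500000a9000009f00000b5000002a00000b7000009200000ab00000f100000a200000ae000009d00000b3502582100000ac000008b0000089000001f0000005000009c4fc7ea800000ad00000a50000097000003000000040000088000001e)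
noncomputable def dPz : ℕ → ℕ := memo (look1 dPz_c0 (nat_lit 28) (nat_lit 0xfffffff))
noncomputable def dPz_s (i : ℕ) : ℕ := bits (dPz i) (nat_lit 0) (nat_lit 255)
noncomputable def dPz_g (i : ℕ) : ℕ := bits (dPz i) (nat_lit 8) (nat_lit 0x3ff)
noncomputable def dPz_h (i : ℕ) : ℕ := bits (dPz i) (nat_lit 18) (nat_lit 0x3ff)
noncomputable def tP : ℕ → ℕ := OJ.tabW genP 2 dP_par dP_gi dP_dep
noncomputable def PT (x j : ℕ) : ℕ := dPT_T (Nat.add (Nat.mul x 2) j)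
theorem chkP_w0 : allW (fun x => allB (OJ.edgeChk genP tP 243 PT (fun _ _ => OJ.one) x) 2) 0 243 = true := by decide +kernel
theorem chkP : ∀ i < 243, (fun x => allB (OJ.edgeChk genP tP 243 PT (fun _ _ => OJ.one) x) 2) i = true :=
  all_step (all_zero _) chkP_w0 rfl
theorem chkPs_w0 : allW (sortP (fun i => OJ.key (tP (dPz_s i))) 243) 0 243 = true := by decide +kernel
theorem chkPs : ∀ i < 243, (sortP (fun i => OJ.key (tP (dPz_s i))) 243) i = true :=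
  all_step (all_zero _) chkPs_w0 rfl
theorem chkPz_w0 : allW (fun i => orB (notB (allB (fun j => OJ.commB (genP j) (tP i)) 2)) (orB (OJ.eqB (tP i) OJ.one) (andB (OJ.eqB (OJ.mul (E (dPz_g i)) (E (dPz_h i))) OJ.one) (OJ.ordChk (OJ.mul (tP i) (OJ.mul (OJ.mul (E (dPz_g i)) (tP i)) (E (dPz_h i)))) 17 [17])))) 0 243 = true := by decide +kernel
theorem chkPz : ∀ i < 243, (fun i => orB (notB (allB (fun j => OJ.commB (genP j) (tP i)) 2)) (orB (OJ.eqB (tP i) OJ.one) (andB (OJ.eqB (OJ.mul (E (dPz_g i)) (E (dPz_h i))) OJ.one) (OJ.ordChk (OJ.mul (tP i) (OJ.mul (OJ.mul (E (dPz_g i)) (tP i)) (E (dPz_h i)))) 17 [17])))) i = true :=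
  all_step (all_zero _) chkPz_w0 rfl
theorem chkP0 : Nat.beq (tP 0) OJ.one = true := by decide +kernel
theorem chkPr2 : OJ.ordChk c_p2a 2 [2] = true ∧ OJ.ordChk c_p2b 2 [2] = true ∧
    OJ.ordChk (OJ.mul c_p2a c_p2b) 17 [17] = true := by decide +kernel
theorem chkPr5 : OJ.ordChk c_p5a 5 [5] = true ∧ OJ.ordChk c_p5b 5 [5] = true ∧
    OJ.ordChk (OJ.mul c_p5a c_p5b) 17 [17] = true := by decide +kernel
theorem chkPr19 : OJ.ordChk c_p19a 19 [19] = true ∧ OJ.ordChk c_p19b 19 [19] = true ∧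
    OJ.ordChk (OJ.mul c_p19a c_p19b) 17 [17] = true := by decide +kernel
theorem chkPr17 : OJ.ordChk c_p17a 17 [17] = true ∧ OJ.ordChk c_p17b 17 [17] = true ∧
    OJ.ordChk (OJ.mul c_p17a c_p17b) 2 [2] = true := by decide +kernel
noncomputable def qY (g : ℕ) : Bool := andB (OJ.powOne g 5) (notB (OJ.eqB g OJ.one))
noncomputable def qU (g : ℕ) : Bool :=
  andB (OJ.powOne (OJ.mul c_y g) 3) (andB (OJ.powOne (OJ.mul (OJ.pow c_y 3) g) 4)
    (notB (OJ.powOne g 6)))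
noncomputable def qV (g : ℕ) : Bool :=
  andB (OJ.powOne (OJ.mul (OJ.mul ca c_y) g) 4)
    (OJ.powOne (OJ.mul (OJ.mul c_y g) (OJ.mul c_u g)) 12)
theorem chkY : cnt (fun i => qY (tCt i)) 1920 = 384 := by decide +kernel
theorem chkAu : cnt (fun i => qU (tCt i)) 1920 = 5 := by decide +kernel
theorem chkAv : cnt (fun i => frc (OJ.mul (OJ.mul c_g0 (tCt i)) c_g0i) qV) 1920 = 2 := by
  decide +kernel
noncomputable def genA : ℕ → ℕ := getL [ca, c_y, c_u, c_v]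
theorem chkAut : qU c_u = true ∧ qV c_v = true ∧ OJ.commB c_u ca = true ∧ OJ.commB c_v c_q0 = true ∧
    OJ.eqB (OJ.mul c_g0 c_g0i) OJ.one = true ∧ OJ.conjB c_g0 ca c_q0 = true ∧
    OJ.eqB (OJ.word genA [3, 3, 0, 3, 0, 2, 3, 0, 3, 3, 3, 2, 1, 3, 1]) cb = true ∧
    OJ.eqB (OJ.word genA [0, 1, 2, 1, 1, 1, 2, 1, 1]) c_q0 = true := by decide +kernel

set_option linter.unusedTactic false in
theorem eqns_J3Loc : True := by
  first | (have := @Cfsg.Agent.H46.J3.genQ.eq_def.{0,0,0}) | (have := @Cfsg.Agent.H46.J3.genQ.eq_def.{0,0}) | (have := @Cfsg.Agent.H46.J3.genQ.eq_def.{0}) | (have := @Cfsg.Agent.H46.J3.genQ.eq_def) | skip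
  first | (have := @Cfsg.Agent.H46.J3.genQ.eq_1.{0,0,0}) | (have := @Cfsg.Agent.H46.J3.genQ.eq_1.{0,0}) | (have := @Cfsg.Agent.H46.J3.genQ.eq_1.{0}) | (have := @Cfsg.Agent.H46.J3.genQ.eq_1) | skip
  first | (have := @Cfsg.Agent.H46.J3.genQ.eq_2.{0,0,0}) | (have := @Cfsg.Agent.H46.J3.genQ.eq_2.{0,0}) | (have := @Cfsg.Agent.H46.J3.genQ.eq_2.{0}) | (have := @Cfsg.Agent.H46.J3.genQ.eq_2) | skip
  first | (have := @Cfsg.Agent.H46.J3.genQ.eq_unfold.{0,0,0}) | (have := @Cfsg.Agent.H46.J3.genQ.eq_unfold.{0,0}) | (have := @Cfsg.Agent.H46.J3.genQ.eq_unfold.{0}) | (have := @Cfsg.Agent.H46.J3.genQ.eq_unfold) | skip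
  first | (have := @Cfsg.Agent.H46.J3.genQ.congr_simp.{0,0,0}) | (have := @Cfsg.Agent.H46.J3.genQ.congr_simp.{0,0}) | (have := @Cfsg.Agent.H46.J3.genQ.congr_simp.{0}) | (have := @Cfsg.Agent.H46.J3.genQ.congr_simp) | skip
  first | (have := @Cfsg.Agent.H46.J3.tQ.eq_def.{0,0,0}) | (have := @Cfsg.Agent.H46.J3.tQ.eq_def.{0,0}) | (have := @Cfsg.Agent.H46.J3.tQ.eq_def.{0}) | (have := @Cfsg.Agent.H46.J3.tQ.eq_def) | skip
  first | (have := @Cfsg.Agent.H46.J3.tQ.eq_1.{0,0,0}) | (have := @Cfsg.Agent.H46.J3.tQ.eq_1.{0,0}) | (have := @Cfsg.Agent.H46.J3.tQ.eq_1.{0}) | (have := @Cfsg.Agent.H46.J3.tQ.eq_1) | skip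
  first | (have := @Cfsg.Agent.H46.J3.tQ.eq_2.{0,0,0}) | (have := @Cfsg.Agent.H46.J3.tQ.eq_2.{0,0}) | (have := @Cfsg.Agent.H46.J3.tQ.eq_2.{0}) | (have := @Cfsg.Agent.H46.J3.tQ.eq_2) | skip
  first | (have := @Cfsg.Agent.H46.J3.tQ.eq_unfold.{0,0,0}) | (have := @Cfsg.Agent.H46.J3.tQ.eq_unfold.{0,0}) | (have := @Cfsg.Agent.H46.J3.tQ.eq_unfold.{0}) | (have := @Cfsg.Agent.H46.J3.tQ.eq_unfold) | skip
  first | (have := @Cfsg.Agent.H46.J3.tQ.congr_simp.{0,0,0}) | (have := @Cfsg.Agent.H46.J3.tQ.congr_simp.{0,0}) | (have := @Cfsg.Agent.H46.J3.tQ.congr_simp.{0}) | (have := @Cfsg.Agent.H46.J3.tQ.congr_simp) | skip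
  first | (have := @Cfsg.Agent.H46.J3.QT.eq_def.{0,0,0}) | (have := @Cfsg.Agent.H46.J3.QT.eq_def.{0,0}) | (have := @Cfsg.Agent.H46.J3.QT.eq_def.{0}) | (have := @Cfsg.Agent.H46.J3.QT.eq_def) | skip
  first | (have := @Cfsg.Agent.H46.J3.QT.eq_1.{0,0,0}) | (have := @Cfsg.Agent.H46.J3.QT.eq_1.{0,0}) | (have := @Cfsg.Agent.H46.J3.QT.eq_1.{0}) | (have := @Cfsg.Agent.H46.J3.QT.eq_1) | skip
  first | (have := @Cfsg.Agent.H46.J3.QT.eq_2.{0,0,0}) | (have := @Cfsg.Agent.H46.J3.QT.eq_2.{0,0}) | (have := @Cfsg.Agent.H46.J3.QT.eq_2.{0}) | (have := @Cfsg.Agent.H46.J3.QT.eq_2) | skip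
  first | (have := @Cfsg.Agent.H46.J3.QT.eq_unfold.{0,0,0}) | (have := @Cfsg.Agent.H46.J3.QT.eq_unfold.{0,0}) | (have := @Cfsg.Agent.H46.J3.QT.eq_unfold.{0}) | (have := @Cfsg.Agent.H46.J3.QT.eq_unfold) | skip
  first | (have := @Cfsg.Agent.H46.J3.QT.congr_simp.{0,0,0}) | (have := @Cfsg.Agent.H46.J3.QT.congr_simp.{0,0}) | (have := @Cfsg.Agent.H46.J3.QT.congr_simp.{0}) | (have := @Cfsg.Agent.H46.J3.QT.congr_simp) | skip
  first | (have := @Cfsg.Agent.H46.J3.genP.eq_def.{0,0,0}) | (have := @Cfsg.Agent.H46.J3.genP.eq_def.{0,0}) | (have := @Cfsg.Agent.H46.J3.genP.eq_def.{0}) | (have := @Cfsg.Agent.H46.J3.genP.eq_def) | skip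
  first | (have := @Cfsg.Agent.H46.J3.genP.eq_1.{0,0,0}) | (have := @Cfsg.Agent.H46.J3.genP.eq_1.{0,0}) | (have := @Cfsg.Agent.H46.J3.genP.eq_1.{0}) | (have := @Cfsg.Agent.H46.J3.genP.eq_1) | skip
  first | (have := @Cfsg.Agent.H46.J3.genP.eq_2.{0,0,0}) | (have := @Cfsg.Agent.H46.J3.genP.eq_2.{0,0}) | (have := @Cfsg.Agent.H46.J3.genP.eq_2.{0}) | (have := @Cfsg.Agent.H46.J3.genP.eq_2) | skip
  first | (have := @Cfsg.Agent.H46.J3.genP.eq_unfold.{0,0,0}) | (have := @Cfsg.Agent.H46.J3.genP.eq_unfold.{0,0}) | (have := @Cfsg.Agent.H46.J3.genP.eq_unfold.{0}) | (have := @Cfsg.Agent.H46.J3.genP.eq_unfold) | skip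
  first | (have := @Cfsg.Agent.H46.J3.genP.congr_simp.{0,0,0}) | (have := @Cfsg.Agent.H46.J3.genP.congr_simp.{0,0}) | (have := @Cfsg.Agent.H46.J3.genP.congr_simp.{0}) | (have := @Cfsg.Agent.H46.J3.genP.congr_simp) | skip
  first | (have := @Cfsg.Agent.H46.J3.tP.eq_def.{0,0,0}) | (have := @Cfsg.Agent.H46.J3.tP.eq_def.{0,0}) | (have := @Cfsg.Agent.H46.J3.tP.eq_def.{0}) | (have := @Cfsg.Agent.H46.J3.tP.eq_def) | skip
  first | (have := @Cfsg.Agent.H46.J3.tP.eq_1.{0,0,0}) | (have := @Cfsg.Agent.H46.J3.tP.eq_1.{0,0}) | (have := @Cfsg.Agent.H46.J3.tP.eq_1.{0}) | (have := @Cfsg.Agent.H46.J3.tP.eq_1) | skip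
  first | (have := @Cfsg.Agent.H46.J3.tP.eq_2.{0,0,0}) | (have := @Cfsg.Agent.H46.J3.tP.eq_2.{0,0}) | (have := @Cfsg.Agent.H46.J3.tP.eq_2.{0}) | (have := @Cfsg.Agent.H46.J3.tP.eq_2) | skip
  first | (have := @Cfsg.Agent.H46.J3.tP.eq_unfold.{0,0,0}) | (have := @Cfsg.Agent.H46.J3.tP.eq_unfold.{0,0}) | (have := @Cfsg.Agent.H46.J3.tP.eq_unfold.{0}) | (have := @Cfsg.Agent.H46.J3.tP.eq_unfold) | skip
  first | (have := @Cfsg.Agent.H46.J3.tP.congr_simp.{0,0,0}) | (have := @Cfsg.Agent.H46.J3.tP.congr_simp.{0,0}) | (have := @Cfsg.Agent.H46.J3.tP.congr_simp.{0}) | (have := @Cfsg.Agent.H46.J3.tP.congr_simp) | skip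
  first | (have := @Cfsg.Agent.H46.J3.PT.eq_def.{0,0,0}) | (have := @Cfsg.Agent.H46.J3.PT.eq_def.{0,0}) | (have := @Cfsg.Agent.H46.J3.PT.eq_def.{0}) | (have := @Cfsg.Agent.H46.J3.PT.eq_def) | skip
  first | (have := @Cfsg.Agent.H46.J3.PT.eq_1.{0,0,0}) | (have := @Cfsg.Agent.H46.J3.PT.eq_1.{0,0}) | (have := @Cfsg.Agent.H46.J3.PT.eq_1.{0}) | (have := @Cfsg.Agent.H46.J3.PT.eq_1) | skip
  first | (have := @Cfsg.Agent.H46.J3.PT.eq_2.{0,0,0}) | (have := @Cfsg.Agent.H46.J3.PT.eq_2.{0,0}) | (have := @Cfsg.Agent.H46.J3.PT.eq_2.{0}) | (have := @Cfsg.Agent.H46.J3.PT.eq_2) | skip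
  first | (have := @Cfsg.Agent.H46.J3.PT.eq_unfold.{0,0,0}) | (have := @Cfsg.Agent.H46.J3.PT.eq_unfold.{0,0}) | (have := @Cfsg.Agent.H46.J3.PT.eq_unfold.{0}) | (have := @Cfsg.Agent.H46.J3.PT.eq_unfold) | skip
  first | (have := @Cfsg.Agent.H46.J3.PT.congr_simp.{0,0,0}) | (have := @Cfsg.Agent.H46.J3.PT.congr_simp.{0,0}) | (have := @Cfsg.Agent.H46.J3.PT.congr_simp.{0}) | (have := @Cfsg.Agent.H46.J3.PT.congr_simp) | skip
  first | (have := @Cfsg.Agent.H46.J3.qY.eq_def.{0,0,0}) | (have := @Cfsg.Agent.H46.J3.qY.eq_def.{0,0}) | (have := @Cfsg.Agent.H46.J3.qY.eq_def.{0}) | (have := @Cfsg.Agent.H46.J3.qY.eq_def) | skip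
  first | (have := @Cfsg.Agent.H46.J3.qY.eq_1.{0,0,0}) | (have := @Cfsg.Agent.H46.J3.qY.eq_1.{0,0}) | (have := @Cfsg.Agent.H46.J3.qY.eq_1.{0}) | (have := @Cfsg.Agent.H46.J3.qY.eq_1) | skip
  first | (have := @Cfsg.Agent.H46.J3.qY.eq_2.{0,0,0}) | (have := @Cfsg.Agent.H46.J3.qY.eq_2.{0,0}) | (have := @Cfsg.Agent.H46.J3.qY.eq_2.{0}) | (have := @Cfsg.Agent.H46.J3.qY.eq_2) | skip
  first | (have := @Cfsg.Agent.H46.J3.qY.eq_unfold.{0,0,0}) | (have := @Cfsg.Agent.H46.J3.qY.eq_unfold.{0,0}) | (have := @Cfsg.Agent.H46.J3.qY.eq_unfold.{0}) | (have := @Cfsg.Agent.H46.J3.qY.eq_unfold) | skip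
  first | (have := @Cfsg.Agent.H46.J3.qY.congr_simp.{0,0,0}) | (have := @Cfsg.Agent.H46.J3.qY.congr_simp.{0,0}) | (have := @Cfsg.Agent.H46.J3.qY.congr_simp.{0}) | (have := @Cfsg.Agent.H46.J3.qY.congr_simp) | skip
  first | (have := @Cfsg.Agent.H46.J3.qU.eq_def.{0,0,0}) | (have := @Cfsg.Agent.H46.J3.qU.eq_def.{0,0}) | (have := @Cfsg.Agent.H46.J3.qU.eq_def.{0}) | (have := @Cfsg.Agent.H46.J3.qU.eq_def) | skip
  first | (have := @Cfsg.Agent.H46.J3.qU.eq_1.{0,0,0}) | (have := @Cfsg.Agent.H46.J3.qU.eq_1.{0,0}) | (have := @Cfsg.Agent.H46.J3.qU.eq_1.{0}) | (have := @Cfsg.Agent.H46.J3.qU.eq_1) | skip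
  first | (have := @Cfsg.Agent.H46.J3.qU.eq_2.{0,0,0}) | (have := @Cfsg.Agent.H46.J3.qU.eq_2.{0,0}) | (have := @Cfsg.Agent.H46.J3.qU.eq_2.{0}) | (have := @Cfsg.Agent.H46.J3.qU.eq_2) | skip
  first | (have := @Cfsg.Agent.H46.J3.qU.eq_unfold.{0,0,0}) | (have := @Cfsg.Agent.H46.J3.qU.eq_unfold.{0,0}) | (have := @Cfsg.Agent.H46.J3.qU.eq_unfold.{0}) | (have := @Cfsg.Agent.H46.J3.qU.eq_unfold) | skip
  first | (have := @Cfsg.Agent.H46.J3.qU.congr_simp.{0,0,0}) | (have := @Cfsg.Agent.H46.J3.qU.congr_simp.{0,0}) | (have := @Cfsg.Agent.H46.J3.qU.congr_simp.{0}) | (have := @Cfsg.Agent.H46.J3.qU.congr_simp) | skip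
  first | (have := @Cfsg.Agent.H46.J3.qV.eq_def.{0,0,0}) | (have := @Cfsg.Agent.H46.J3.qV.eq_def.{0,0}) | (have := @Cfsg.Agent.H46.J3.qV.eq_def.{0}) | (have := @Cfsg.Agent.H46.J3.qV.eq_def) | skip
  first | (have := @Cfsg.Agent.H46.J3.qV.eq_1.{0,0,0}) | (have := @Cfsg.Agent.H46.J3.qV.eq_1.{0,0}) | (have := @Cfsg.Agent.H46.J3.qV.eq_1.{0}) | (have := @Cfsg.Agent.H46.J3.qV.eq_1) | skip
  first | (have := @Cfsg.Agent.H46.J3.qV.eq_2.{0,0,0}) | (have := @Cfsg.Agent.H46.J3.qV.eq_2.{0,0}) | (have := @Cfsg.Agent.H46.J3.qV.eq_2.{0}) | (have := @Cfsg.Agent.H46.J3.qV.eq_2) | skip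
  first | (have := @Cfsg.Agent.H46.J3.qV.eq_unfold.{0,0,0}) | (have := @Cfsg.Agent.H46.J3.qV.eq_unfold.{0,0}) | (have := @Cfsg.Agent.H46.J3.qV.eq_unfold.{0}) | (have := @Cfsg.Agent.H46.J3.qV.eq_unfold) | skip
  first | (have := @Cfsg.Agent.H46.J3.qV.congr_simp.{0,0,0}) | (have := @Cfsg.Agent.H46.J3.qV.congr_simp.{0,0}) | (have := @Cfsg.Agent.H46.J3.qV.congr_simp.{0}) | (have := @Cfsg.Agent.H46.J3.qV.congr_simp) | skip
  first | (have := @Cfsg.Agent.H46.J3.genA.eq_def.{0,0,0}) | (have := @Cfsg.Agent.H46.J3.genA.eq_def.{0,0}) | (have := @Cfsg.Agent.H46.J3.genA.eq_def.{0}) | (have := @Cfsg.Agent.H46.J3.genA.eq_def) | skip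
  first | (have := @Cfsg.Agent.H46.J3.genA.eq_1.{0,0,0}) | (have := @Cfsg.Agent.H46.J3.genA.eq_1.{0,0}) | (have := @Cfsg.Agent.H46.J3.genA.eq_1.{0}) | (have := @Cfsg.Agent.H46.J3.genA.eq_1) | skip
  first | (have := @Cfsg.Agent.H46.J3.genA.eq_2.{0,0,0}) | (have := @Cfsg.Agent.H46.J3.genA.eq_2.{0,0}) | (have := @Cfsg.Agent.H46.J3.genA.eq_2.{0}) | (have := @Cfsg.Agent.H46.J3.genA.eq_2) | skip
  first | (have := @Cfsg.Agent.H46.J3.genA.eq_unfold.{0,0,0}) | (have := @Cfsg.Agent.H46.J3.genA.eq_unfold.{0,0}) | (have := @Cfsg.Agent.H46.J3.genA.eq_unfold.{0}) | (have := @Cfsg.Agent.H46.J3.genA.eq_unfold) | skip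
  first | (have := @Cfsg.Agent.H46.J3.genA.congr_simp.{0,0,0}) | (have := @Cfsg.Agent.H46.J3.genA.congr_simp.{0,0}) | (have := @Cfsg.Agent.H46.J3.genA.congr_simp.{0}) | (have := @Cfsg.Agent.H46.J3.genA.congr_simp) | skip
  trivial

end Cfsg.Agent.H46.J3
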