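import Cfsg.Agent.H44.Coset

set_option autoImplicit false
set_option maxRecDepth 1000000
set_option linter.all false
set_option Elab.async false

namespace Cfsg.Agent.H46.J4MK.K
open Cfsg.Agent.H44

noncomputable def rT0 : Tr :=
 (.leaf (nat_lit 0xb68b35cb3b58abdeab966bc4e9d37db44891956b83e7d375ac38715406742670cba53a6653060da630c39d36625205e405f0bb94d85e510593c5b0b38d345a50057d2570ab86ca564f050d6530a37dc6524e04dd04f09b74d44e4d049cc4b0936dc44a349a02245339982041329901e3d319881c39309801a352f97818312e970162d2d968142948024b22704b44b02647020ae230433cac224601caa1f03b34a81e45018a61b0332ca41a289400a1527938081126930060d25928040942004920700b149006410008e030030c8c02229100001219088200))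
noncomputable def gT0 : Tr :=
 (.leaf (nat_lit 0))
/-- The relators. -/
def R : List (List ℕ) := [[1, 1],
  [2, 3],
  [2, 2, 2],
  [1, 2, 1, 2, 1, 2, 1, 3, 1, 3, 1, 3]]
/-- The subgroup generators. -/
def S : List (List ℕ) := []
def Wr : List (List ℕ) := [[1, 1],
  [2, 3],
  [3, 2],
  [3, 3, 3],
  [1, 3, 1, 3, 1, 3, 1, 2, 1, 2, 1, 2],
  [1, 3, 1, 3, 1, 2, 1, 2, 1, 2, 1, 3],
  [1, 2, 1, 3, 1, 3, 1, 3, 1, 2, 1, 2],
  [1, 2, 1, 2, 1, 3, 1, 3, 1, 3, 1, 2],
  [1, 3, 1, 2, 1, 2, 1, 2, 1, 3, 1, 3],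
  [3, 1, 3, 1, 3, 1, 2, 1, 2, 1, 2, 1]]
def Wn : List (List ℕ) := []
def cr : List (ℕ × ℕ × ℕ) := [(0, 0, 0), (0, 0, 0), (0, 0, 0), (2, 2, 0), (1, 3, 6), (1, 3, 8), (1, 3, 4), (1, 3, 2), (1, 3, 10), (1, 3, 7)]
def cn : List (ℕ × ℕ × ℕ) := []
noncomputable def rT : Tr := rT0
noncomputable def gT : Tr := gT0
noncomputable def rC (i : ℕ) : ℕ := rT.get (nat_lit 0) i
noncomputable def gC (i : ℕ) : ℕ := gT.get (nat_lit 0) i
noncomputable def row (p : ℕ) : ℕ := rec2 rC (nat_lit 7) (nat_lit 127) (nat_lit 36) (nat_lit 0xfffffffff) p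
noncomputable def gf (p : ℕ) : ℕ := rec2 gC (nat_lit 8) (nat_lit 255) (nat_lit 17) (nat_lit 131071) p
noncomputable def gw (c : ℕ) : List ℕ := nth [] Wr c
noncomputable def wn (c : ℕ) : ℕ := pack (nat_lit 2) (nth [] Wn c) (nat_lit 0)
noncomputable def C : Cert :=
  { n := (nat_lit 48), na := (nat_lit 0), M := (nat_lit 0), nc := (nat_lit 3), W := (nat_lit 6), EB := (nat_lit 9),
    LB := (nat_lit 2), nreg := (nat_lit 10), ivT := (nat_lit 180), base := (nat_lit 0),
    row := row, gf := gf, gw := gw, wn := wn }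
theorem masks : Masks C (nat_lit 63) (nat_lit 511) (nat_lit 3) (nat_lit 14) (nat_lit 16383) :=
  ⟨by decide +kernel, by decide +kernel, by decide +kernel, by decide +kernel, by decide +kernel⟩
noncomputable def rchk : ℕ → ℕ → ℕ → Bool :=
  rowChk row gf gw (nat_lit 48) (nat_lit 0) (nat_lit 3) (nat_lit 6) (nat_lit 63) (nat_lit 9) (nat_lit 511) (nat_lit 2) (nat_lit 3) (nat_lit 14) (nat_lit 16383) (nat_lit 10) (nat_lit 180) (nat_lit 1) (nat_lit 1) (nat_lit 6) (nat_lit 63)
noncomputable def fchk : ℕ → ℕ → ℕ → Bool :=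
  auxRun row gf wn (nat_lit 48) (nat_lit 0) (nat_lit 0) (nat_lit 3) (nat_lit 6) (nat_lit 63) (nat_lit 9) (nat_lit 511) (nat_lit 2) (nat_lit 3) (nat_lit 14) (nat_lit 180) (nat_lit 0) (nat_lit 2) (nat_lit 3)
theorem rows_of {lo hi : ℕ} {t : JL} (h : t.run rchk (nat_lit 18) hi lo = true) : C.RowsOK lo hi :=
  rowsOK_of_run masks h
theorem facts_of {lo hi : ℕ} {t : JL} (h : t.run fchk (nat_lit 20) hi lo = true) : C.FactsOK lo hi :=
  factsOK_of_run masks h
theorem words_ok : wordsChk 48 3 6 2 10 180 0 R S Wr Wn cr cn = true := by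
  decide +kernel
noncomputable def j0 : JL :=
(.cons (nat_lit 16) (nat_lit 0x1000400811000400811000400810c20030800c20030801000400811000400810c2003081) (nat_lit 0)
(.cons (nat_lit 16) (nat_lit 0x1000400811000400811000400810c20030800c20030800c20030800c2003080100040081) (nat_lit 0)
(.cons (nat_lit 16) (nat_lit 0x100184001282003080282003080100240088100040087100180081100180085100040081) (nat_lit 0)
.nil)))
theorem t0 : C.RowsOK (nat_lit 0) (nat_lit 48) :=
  rows_of (t := j0) (by decide +kernel)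
theorem checked : Checked C R S :=
  ⟨⟨Wr, Wn, cr, cn, fun _ => rfl, fun _ => rfl, words_ok⟩, t0,
    fun _ _ h => absurd h (Nat.not_lt_zero _)⟩

/-- In any group whose elements `g 1, …, g 3` satisfy the relators `R`, a subgroup containing the words
of `S` has index at most 48 in the subgroup generated by these elements. -/
theorem idxLe {G : Type*} [Group G] {g : ℕ → G} (hg : Sat g R) {H : Subgroup G}
    (hS : ∀ s ∈ S, ev g s ∈ H) : IdxLe H (gen g 3) 48 :=
  checked.idxLe hg hS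

end Cfsg.Agent.H46.J4MK.K

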