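import Cfsg.Agent.H46.TDefs

/-!
# Basic facts about the context `Cx`
-/

set_option autoImplicit false
open scoped Pointwise commutatorElement
open Subgroup

namespace Cfsg.Agent.H46.S94
open Cfsg.Agent.H8 Cfsg.Agent.H23.D2

universe u

local notation "C[" A "]" => Subgroup.centralizer (SetLike.coe A)
local notation "N[" A "]" => Subgroup.normalizer (SetLike.coe A)

variable {Γ : Type} [Group Γ] {G : Type u} [Group G] {φ : Γ →* G} {t : G} {O : Subgroup G}

theorem mem_Cz {a x : Γ} : x ∈ Cz a ↔ x * a = a * x := mem_centralizer_singleton_iff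

theorem Inn.one : Inn (1 : MulAut Γ) := ⟨1, by simp⟩

theorem Inn.conj (c : Γ) : Inn (MulAut.conj c) := ⟨c, rfl⟩

theorem Inn.mul {α β : MulAut Γ} (h : Inn α) (k : Inn β) : Inn (α * β) := by
  obtain ⟨a, rfl⟩ := h
  obtain ⟨b, rfl⟩ := k
  exact ⟨a * b, by simp⟩

theorem Inn.inv {α : MulAut Γ} (h : Inn α) : Inn α⁻¹ := by
  obtain ⟨a, rfl⟩ := h
  exact ⟨a⁻¹, by simp⟩

theorem Inn.cj {α : MulAut Γ} (h : Inn α) (β : MulAut Γ) : Inn (β * α * β⁻¹) := by
  obtain ⟨a, rfl⟩ := h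
  exact ⟨β a, by ext x; simp⟩

theorem Inn.of_mul_left {α β : MulAut Γ} (h : Inn α) (k : Inn (α * β)) : Inn β := by
  simpa using h.inv.mul k

theorem Inn.of_mul_right {α β : MulAut Γ} (h : Inn β) (k : Inn (α * β)) : Inn α := by
  simpa using k.mul h.inv

theorem Base.sq (hb : Base Γ) (α : MulAut Γ) : Inn (α * α) := by
  rcases hb.out α α with h | h | h
  exacts [h.mul h, h.mul h, h]

theorem Base.comm (hb : Base Γ) (α β : MulAut Γ) : Inn (α * β * α⁻¹ * β⁻¹) := by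
  rcases hb.out α β with h | h | h
  · have := h.mul (h.inv.cj β)
    simpa [mul_assoc] using this
  · exact (h.cj α).mul h.inv
  · have := h.mul (h.inv.cj β)
    simpa [mul_assoc] using this

theorem Base.eq_one (hb : Base Γ) {a : Γ} (h : ∀ x, a * x = x * a) : a = 1 := by
  have := hb.simple
  rcases (inferInstance : (center Γ).Normal).eq_bot_or_eq_top with e | e
  · have : a ∈ center Γ := mem_center_iff.2 fun x => (h x).symm
    rwa [e, mem_bot] at this
  · exact absurd ⟨⟨fun a b => (mem_center_iff.1 (e ▸ mem_top b : b ∈ center Γ) a)⟩⟩ hb.nc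

theorem Base.conj_inj (hb : Base Γ) {a b : Γ} (h : MulAut.conj a = MulAut.conj b) : a = b := by
  have : b⁻¹ * a = 1 := hb.eq_one fun x => by
    have e := DFunLike.congr_fun h x
    simp only [MulAut.conj_apply] at e
    calc b⁻¹ * a * x = b⁻¹ * (a * x * a⁻¹) * a := by group
      _ = x * (b⁻¹ * a) := by rw [e]; group
  exact (inv_mul_eq_one.1 this).symm

theorem Base.perfect (hb : Base Γ) : ⁅(⊤ : Subgroup Γ), (⊤ : Subgroup Γ)⁆ = ⊤ := by
  have := hb.simple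
  rcases (inferInstance : (⁅(⊤ : Subgroup Γ), (⊤ : Subgroup Γ)⁆).Normal).eq_bot_or_eq_top with e | e
  · refine absurd ⟨⟨fun a b => ?_⟩⟩ hb.nc
    have := commutator_mem_commutator (mem_top a) (mem_top b)
    rw [e, mem_bot] at this
    exact commutatorElement_eq_one_iff_mul_comm.1 this
  · exact e

theorem exists_autHom (hi : Function.Injective φ) :
    ∃ θ : N[φ.range] →* MulAut Γ, ∀ h a, φ (θ h a) = h * φ a * (h : G)⁻¹ := by
  let e := MonoidHom.ofInjective hi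
  refine ⟨(MulAut.congr e.symm).toMonoidHom.comp φ.range.normalizerMonoidHom, fun h a => ?_⟩
  have k : ∀ x : φ.range, φ (e.symm x) = x := fun x => MonoidHom.apply_ofInjective_symm hi x
  simp only [MulEquiv.toMonoidHom_eq_coe, MonoidHom.comp_apply, MonoidHom.coe_coe,
    MulAut.congr_apply, MulEquiv.symm_symm, MulEquiv.trans_apply, k]
  rfl

theorem exists_aut (hi : Function.Injective φ) {h : G} (hh : h ∈ N[φ.range]) :
    ∃ α : MulAut Γ, ∀ a, φ (α a) = h * φ a * h⁻¹ := by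
  obtain ⟨θ, k⟩ := exists_autHom hi
  exact ⟨θ ⟨h, hh⟩, k ⟨h, hh⟩⟩

theorem mem_C_range {c : G} : c ∈ C[φ.range] ↔ ∀ a, φ a * c = c * φ a := by
  rw [mem_C]
  exact ⟨fun h a => h _ ⟨a, rfl⟩, by rintro h _ ⟨a, rfl⟩; exact h a⟩

theorem cent_of_conj {c : G} {a : Γ} (h : ∀ x, c * φ x * c⁻¹ = φ (a * x * a⁻¹)) :
    (φ a)⁻¹ * c ∈ C[φ.range] := by
  refine mem_C_range.2 fun x => ?_
  have e := h x
  simp only [map_mul, map_inv] at e
  calc φ x * ((φ a)⁻¹ * c) = (φ a)⁻¹ * (φ a * φ x * (φ a)⁻¹) * c := by group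
    _ = (φ a)⁻¹ * c * φ x := by rw [← e]; group

theorem range_conj (φ : Γ →* G) (g : G) :
    ((MulAut.conj g).toMonoidHom.comp φ).range = MulAut.conj g • φ.range := by
  ext x
  rw [mem_conj]
  constructor
  · rintro ⟨a, rfl⟩
    exact ⟨a, by simp [mul_assoc]⟩
  · rintro ⟨a, e⟩
    exact ⟨a, by simp [e, mul_assoc]⟩

namespace Cx
variable (h : Cx φ t O)
include h

theorem tinv : t⁻¹ = t := inv_eq_of_mul_eq_one_right h.tt

theorem oA {o : G} (ho : o ∈ O) (a : Γ) : φ a * o = o * φ a := mem_C_range.1 (h.OC ho) a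

theorem tC : t ∈ C[φ.range] := mem_C_range.2 h.AC

theorem aut {c : G} (hc : c * t = t * c) : ∃ α : MulAut Γ, ∀ a, φ (α a) = c * φ a * c⁻¹ :=
  exists_aut h.inj (h.NJ c hc)

theorem split {c : G} (hc : c * t = t * c) {a : Γ} (e : ∀ x, c * φ x * c⁻¹ = φ (a * x * a⁻¹)) :
    ∃ o ∈ O, c = φ a * o ∨ c = φ a * t * o := by
  have k : (φ a)⁻¹ * c * t = t * ((φ a)⁻¹ * c) := by
    rw [mul_assoc, hc, ← mul_assoc, ← map_inv, h.AC, mul_assoc]
  rcases h.tr _ k (cent_of_conj e) with m | m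
  · exact ⟨_, m, Or.inl (by group)⟩
  · refine ⟨_, m, Or.inr ?_⟩
    rw [k, mul_assoc (φ a), ← mul_assoc t t, h.tt]
    group

theorem split' {c : G} (hc : c * t = t * c) {α : MulAut Γ} (hα : ∀ a, φ (α a) = c * φ a * c⁻¹)
    {a : Γ} (e : α = MulAut.conj a) : ∃ o ∈ O, c = φ a * o ∨ c = φ a * t * o :=
  h.split hc fun x => by rw [← hα, e, MulAut.conj_apply]

theorem mem_sup {x : G} : x ∈ φ.range ⊔ O ↔ ∃ a, ∃ o ∈ O, x = φ a * o := by
  constructor
  · intro hx
    let S : Subgroup G :=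
      { carrier := {x | ∃ a, ∃ o ∈ O, x = φ a * o}
        one_mem' := ⟨1, 1, O.one_mem, by simp⟩
        mul_mem' := by
          rintro _ _ ⟨a, o, ho, rfl⟩ ⟨b, p, hp, rfl⟩
          refine ⟨a * b, o * p, O.mul_mem ho hp, ?_⟩
          rw [map_mul, mul_assoc, ← mul_assoc o, ← h.oA ho b]
          group
        inv_mem' := by
          rintro _ ⟨a, o, ho, rfl⟩
          exact ⟨a⁻¹, o⁻¹, O.inv_mem ho, by rw [mul_inv_rev, ← map_inv, h.oA (O.inv_mem ho)]⟩ }
    have : φ.range ⊔ O ≤ S := sup_le (by rintro _ ⟨a, rfl⟩; exact ⟨a, 1, O.one_mem, by simp⟩)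
      fun o ho => ⟨1, o, ho, by simp⟩
    exact this hx
  · rintro ⟨a, o, ho, rfl⟩
    exact mul_mem (mem_sup_left ⟨a, rfl⟩) (mem_sup_right ho)

theorem AO (hb : Base Γ) {a : Γ} (ha : φ a ∈ O) : a = 1 :=
  hb.eq_one fun x => h.inj (by rw [map_mul, map_mul, h.oA ha])

theorem tA (hb : Base Γ) (a : Γ) : φ a ≠ t := fun e => by
  have : a = 1 := hb.eq_one fun x => h.inj (by rw [map_mul, map_mul, e, h.AC])
  exact h.t1 (by rw [← e, this, map_one])

theorem odd_ord {o : G} (ho : o ∈ O) : Odd (orderOf o) :=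
  h.odd.of_dvd_nat (by simpa using orderOf_dvd_natCard (⟨o, ho⟩ : O))

theorem o_one {o : G} (ho : o ∈ O) {n : ℕ} (e : o ^ 2 ^ n = 1) : o = 1 :=
  eq_one_of_odd_two (h.odd_ord ho) e

theorem o_sq {o : G} (ho : o ∈ O) (e : o * o = 1) : o = 1 :=
  h.o_one ho (n := 1) (by simpa [pow_two] using e)

theorem tO : t ∉ O := fun m => h.t1 (h.o_sq m h.tt)

theorem o_of_mul (hb : Base Γ) {a : Γ} {o : G} (ho : o ∈ O) (e : φ a * o = 1) : a = 1 ∧ o = 1 := by
  have k : a = 1 := h.AO hb (by rw [eq_inv_of_mul_eq_one_left e]; exact O.inv_mem ho)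
  exact ⟨k, by simpa [k] using e⟩

theorem inv_mem (hb : Base Γ) {x : G} (hx : x ∈ φ.range ⊔ O) (e : x * x = 1) : x ∈ φ.range := by
  obtain ⟨a, o, ho, rfl⟩ := h.mem_sup.1 hx
  have k : φ (a * a) * (o * o) = 1 := by
    rw [← e, map_mul, mul_assoc, mul_assoc, ← mul_assoc o, ← h.oA ho a]
    group
  rw [h.o_sq ho (h.o_of_mul hb (O.mul_mem ho ho) k).2]
  exact ⟨a, by simp⟩

theorem t_nm (hb : Base Γ) : t ∉ φ.range ⊔ O := fun m => by
  obtain ⟨a, e⟩ := h.inv_mem hb m h.tt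
  exact h.tA hb a e

theorem cj_mem {c x : G} (hc : c * t = t * c) (hx : x ∈ φ.range ⊔ O) :
    c * x * c⁻¹ ∈ φ.range ⊔ O := by
  obtain ⟨a, o, ho, rfl⟩ := h.mem_sup.1 hx
  have : c * (φ a * o) * c⁻¹ = c * φ a * c⁻¹ * (c * o * c⁻¹) := by group
  rw [this]
  exact mul_mem (mem_sup_left (norm_conj (h.NJ c hc) ⟨a, rfl⟩))
    (mem_sup_right (norm_conj (h.NO c hc) ho))

theorem inn_mem {c : G} (hc : c * t = t * c) {α : MulAut Γ} (hα : ∀ a, φ (α a) = c * φ a * c⁻¹)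
    (i : Inn α) : c ∈ φ.range ⊔ O ∨ c * t ∈ φ.range ⊔ O := by
  obtain ⟨a, e⟩ := i
  obtain ⟨o, ho, k | k⟩ := h.split' hc hα e
  · exact Or.inl (h.mem_sup.2 ⟨a, o, ho, k⟩)
  · refine Or.inr (h.mem_sup.2 ⟨a, o, ho, ?_⟩)
    rw [k, mul_assoc, h.Ot o ho, mul_assoc, ← mul_assoc t t, h.tt, one_mul]

theorem br_mem {c d : G} (hd : d * t = t * d)
    (m : c ∈ φ.range ⊔ O ∨ c * t ∈ φ.range ⊔ O) : c * d * c⁻¹ * d⁻¹ ∈ φ.range ⊔ O := by
  have k : ∀ x ∈ φ.range ⊔ O, x * d * x⁻¹ * d⁻¹ ∈ φ.range ⊔ O := fun x hx => by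
    have := mul_mem hx (h.cj_mem hd (Subgroup.inv_mem _ hx))
    simpa [mul_assoc] using this
  rcases m with m | m
  · exact k c m
  · have := k _ m
    have e : c * t * d * (c * t)⁻¹ * d⁻¹ = c * d * c⁻¹ * d⁻¹ := by
      rw [mul_assoc c t d, ← hd]
      group
    rwa [e] at this

theorem der (hb : Base Γ) : ⁅centralizer {t}, centralizer {t}⁆ ≤ φ.range ⊔ O := by
  refine commutator_le.2 fun c hc d hd => ?_
  rw [mem_centralizer_singleton_iff] at hc hd
  obtain ⟨α, hα⟩ := h.aut hc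
  obtain ⟨β, hβ⟩ := h.aut hd
  rw [commutatorElement_def]
  rcases hb.out α β with i | i | i
  · exact h.br_mem hd (h.inn_mem hc hα i)
  · have := Subgroup.inv_mem _ (h.br_mem hc (h.inn_mem hd hβ i))
    simpa [mul_assoc] using this
  · have hcd : c * d * t = t * (c * d) := by rw [mul_assoc, hd, ← mul_assoc, hc, mul_assoc]
    have := h.br_mem hd (h.inn_mem hcd (α := α * β)
      (fun a => by rw [MulAut.mul_apply, hα, hβ]; group) i)
    simpa [mul_assoc] using this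

theorem conj (g : G) :
    Cx ((MulAut.conj g).toMonoidHom.comp φ) (g * t * g⁻¹) (MulAut.conj g • O) := by
  have cc : ∀ c, c * (g * t * g⁻¹) = g * t * g⁻¹ * c → g⁻¹ * c * g * t = t * (g⁻¹ * c * g) :=
    fun c e => by
      calc g⁻¹ * c * g * t = g⁻¹ * (c * (g * t * g⁻¹)) * g := by group
        _ = _ := by rw [e]; group
  have nn : ∀ (V : Subgroup G) c, g⁻¹ * c * g ∈ N[V] →
      c ∈ N[(MulAut.conj g • V : Subgroup G)] := fun V c m => by
    rw [mem_N_iff] at m ⊢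
    rw [← mul_smul, ← map_mul]
    conv_rhs => rw [← m, ← mul_smul, ← map_mul]
    congr 2
    group
  refine ⟨(MulAut.conj g).injective.comp h.inj, ?_, ?_, fun a => ?_, fun c e => ?_, fun c e m => ?_,
    by rw [card_conj]; exact h.odd, fun o ho => ?_, fun o ho => ?_, fun c e => nn _ _ (h.NO _ (cc c e))⟩
  · calc g * t * g⁻¹ * (g * t * g⁻¹) = g * (t * t) * g⁻¹ := by group
      _ = 1 := by rw [h.tt]; group
  · exact fun e => h.t1 (by simpa using e)
  · show g * φ a * g⁻¹ * (g * t * g⁻¹) = g * t * g⁻¹ * (g * φ a * g⁻¹)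
    exact comm_conj_iff.2 (h.AC a)
  · rw [range_conj]
    exact nn _ _ (h.NJ _ (cc c e))
  · rw [range_conj, mem_C_conj] at m
    rw [mem_conj, mem_conj]
    rcases h.tr _ (cc c e) m with k | k
    · exact Or.inl k
    · exact Or.inr (by simpa [mul_assoc] using k)
  · rw [range_conj, mem_C_conj]
    exact h.OC (mem_conj.1 ho)
  · have := h.Ot _ (mem_conj.1 ho)
    calc o * (g * t * g⁻¹) = g * (g⁻¹ * o * g * t) * g⁻¹ := by group
      _ = _ := by rw [this]; group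

/-- an involution of `A` commuting elementwise like `u = g t g⁻¹` lies in `A ^ g` -/
theorem mem_conj_range (hb : Base Γ) {g : G} {a : Γ} (ha : a * a = 1) (cm : a ∈ ⁅Cz a, Cz a⁆)
    (hc : ∀ x, x * a = a * x → φ x * (g * t * g⁻¹) = g * t * g⁻¹ * φ x) :
    ∃ b, φ a = g * φ b * g⁻¹ := by
  have k := h.conj g
  have m : φ a ∈ ⁅centralizer {g * t * g⁻¹}, centralizer {g * t * g⁻¹}⁆ := by
    have l : (Cz a).map φ ≤ centralizer {g * t * g⁻¹} := by
      rintro _ ⟨x, hx, rfl⟩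
      exact mem_centralizer_singleton_iff.2 (hc x (mem_Cz.1 hx))
    refine commutator_mono l l ?_
    rw [← map_commutator]
    exact mem_map_of_mem _ cm
  obtain ⟨b, e⟩ := k.inv_mem hb (k.der hb m) (by rw [← map_mul, ha, map_one])
  exact ⟨b, e.symm⟩

theorem not_conj (hb : Base Γ) (g : G) {a : Γ} (cm : a ∈ ⁅Cz a, Cz a⁆) :
    g * t * g⁻¹ ≠ φ a := fun e => by
  have ha : a * a = 1 := h.inj (by rw [map_mul, ← e, (h.conj g).tt, map_one])
  obtain ⟨b, k⟩ := h.mem_conj_range hb (g := g) ha cm fun x hx => by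
    rw [e, ← map_mul, ← map_mul, hx]
  exact h.tA hb b (by simpa using (e.trans k).symm)

theorem not_isConj (hb : Base Γ) {a : Γ} (cm : a ∈ ⁅Cz a, Cz a⁆) : ¬ IsConj t (φ a) := fun i => by
  obtain ⟨g, e⟩ := isConj_iff.1 i
  exact h.not_conj hb g cm e

theorem swap (hb : Base Γ) {z : Γ} (hz : z * z = 1) (cm : z ∈ ⁅Cz z, Cz z⁆)
    (i : IsConj t (t * φ z)) :
    ∃ g a, g * t * g⁻¹ = t * φ z ∧ g * φ a * g⁻¹ = φ z ∧ g * (t * φ a) * g⁻¹ = t := by
  obtain ⟨g, e⟩ := isConj_iff.1 i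
  obtain ⟨a, k⟩ := h.mem_conj_range hb (g := g) hz cm fun x hx => by
    rw [e, ← mul_assoc, h.AC, mul_assoc, mul_assoc, ← map_mul, ← map_mul, hx]
  refine ⟨g, a, e, k.symm, ?_⟩
  calc g * (t * φ a) * g⁻¹ = g * t * g⁻¹ * (g * φ a * g⁻¹) := by group
    _ = t := by rw [e, ← k, mul_assoc, ← map_mul, hz, map_one, mul_one]

theorem isConj_mul {a b : Γ} (i : IsConj a b) : IsConj (t * φ a) (t * φ b) := by
  obtain ⟨c, rfl⟩ := isConj_iff.1 i
  refine isConj_iff.2 ⟨φ c, ?_⟩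
  rw [map_mul, map_mul, map_inv, ← mul_assoc, h.AC]
  group

/-- a `2`-element `x * o` with `x` a commuting element and `x ^ 2 ^ m` in `A` has `o = 1` -/
theorem o_one_of (hb : Base Γ) {x o : G} (ho : o ∈ O) (hx : x * o = o * x) {m n : ℕ}
    (e1 : x ^ 2 ^ m ∈ φ.range) (e2 : (x * o) ^ 2 ^ n = 1) : o = 1 := by
  obtain ⟨a, ha⟩ := e1
  have k : φ (a ^ 2 ^ n) * o ^ 2 ^ (m + n) = 1 := by
    have : (x * o) ^ 2 ^ (m + n) = 1 := by rw [add_comm, pow_add, pow_mul, e2, one_pow]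
    rw [← this, Commute.mul_pow hx, map_pow, ha, ← pow_mul, ← pow_add]
  exact h.o_one ho (h.o_of_mul hb (O.pow_mem ho _) k).2

theorem two_mem (hb : Base Γ) {x : G} (hx : x ∈ φ.range ⊔ O) {n : ℕ} (e : x ^ 2 ^ n = 1) :
    x ∈ φ.range := by
  obtain ⟨a, o, ho, rfl⟩ := h.mem_sup.1 hx
  rw [h.o_one_of hb ho (h.oA ho a) (m := 0) ⟨a, by simp⟩ e]
  exact ⟨a, by simp⟩

theorem two_cent {x : G} (hc : x * t = t * x) (hx : x ∈ C[φ.range]) {n : ℕ}
    (e : x ^ 2 ^ n = 1) : x = 1 ∨ x = t := by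
  rcases h.tr x hc hx with m | m
  · exact Or.inl (h.o_one m e)
  · refine Or.inr ?_
    have : x * t = 1 := h.o_one m (n := n + 1) (by
      rw [Commute.mul_pow hc, pow_succ, pow_mul, e, one_pow, one_mul, mul_comm, pow_mul,
        pow_two, h.tt, one_pow])
    rw [eq_inv_of_mul_eq_one_left this, h.tinv]

theorem card_two [Finite G] (hb : Base Γ) {n : ℕ} (hs : SylF Γ n) {P : Subgroup G}
    (hP : IsPGroup 2 P) (hc : P ≤ centralizer {t}) : Nat.card P ≤ 4 * n := by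
  classical
  have := hb.fin
  have c : ∀ x ∈ P, x * t = t * x := fun x hx => mem_centralizer_singleton_iff.1 (hc hx)
  let P0 := P ⊓ φ.range
  have h0 : Nat.card P0 ≤ n := by
    have e : (P0.comap φ).map φ = P0 := map_comap_eq_self inf_le_right
    rw [← e, card_map_of_injective h.inj]
    exact hs.le _ ((hP.to_le inf_le_left).comap_of_injective φ h.inj)
  let S : Subgroup G :=
    { carrier := {x | x ∈ P ∧ (x ∈ φ.range ⊔ O ∨ x * t ∈ φ.range ⊔ O)}
      one_mem' := ⟨P.one_mem, Or.inl (one_mem _)⟩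
      mul_mem' := by
        rintro x y ⟨hx, a | a⟩ ⟨hy, b | b⟩ <;> refine ⟨P.mul_mem hx hy, ?_⟩
        · exact Or.inl (mul_mem a b)
        · exact Or.inr (by simpa [mul_assoc] using mul_mem a b)
        · refine Or.inr ?_
          have := mul_mem a b
          rwa [mul_assoc, ← c y hy, ← mul_assoc] at this
        · refine Or.inl ?_
          have := mul_mem a b
          rwa [mul_assoc, c y hy, ← mul_assoc t t, h.tt, one_mul] at this
      inv_mem' := by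
        rintro x ⟨hx, a | a⟩ <;> refine ⟨P.inv_mem hx, ?_⟩
        · exact Or.inl (Subgroup.inv_mem _ a)
        · refine Or.inr ?_
          have := Subgroup.inv_mem _ a
          rwa [c x hx, mul_inv_rev, h.tinv] at this }
  have two : ∀ {H K : Subgroup G}, H ≤ K → (∀ x ∈ K, ∀ y ∈ K, x ∉ H → y ∉ H → x * y ∈ H) →
      Nat.card K ≤ 2 * Nat.card H := fun {H K} l k => by
    by_cases e : K ≤ H
    · have := card_le_of_le e
      omega
    · obtain ⟨a, ha, na⟩ := SetLike.not_le_iff_exists.1 e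
      have i : (H.subgroupOf K).index = 2 := index_eq_two_iff.2 ⟨⟨a, ha⟩, fun b => by
        by_cases m : (b : G) ∈ H
        · refine Or.inr ⟨m, fun w => na ?_⟩
          exact (H.mul_mem_cancel_left m).1 w
        · exact Or.inl ⟨k _ b.2 _ ha m na, m⟩⟩
      have := (H.subgroupOf K).index_mul_card
      rw [i, Nat.card_congr (subgroupOfEquivOfLe l).toEquiv] at this
      omega
  have two' : ∀ x ∈ P, ∃ k, x ^ 2 ^ k = 1 := fun x hx => by
    obtain ⟨k, e⟩ := hP ⟨x, hx⟩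
    exact ⟨k, by simpa using congrArg Subtype.val e⟩
  have h1 : Nat.card P ≤ 2 * Nat.card S := two (fun x hx => hx.1) fun x hx y hy nx ny => by
    obtain ⟨α, hα⟩ := h.aut (c x hx)
    obtain ⟨β, hβ⟩ := h.aut (c y hy)
    rcases hb.out α β with i | i | i
    · exact absurd ⟨hx, h.inn_mem (c x hx) hα i⟩ nx
    · exact absurd ⟨hy, h.inn_mem (c y hy) hβ i⟩ ny
    · exact ⟨P.mul_mem hx hy, h.inn_mem (c _ (P.mul_mem hx hy)) (α := α * β)
        (fun a => by rw [MulAut.mul_apply, hα, hβ]; group) i⟩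
  have mem : ∀ x ∈ P, x ∈ φ.range ⊔ O → x ∈ P0 := fun x hx m => by
    obtain ⟨k, e⟩ := two' x hx
    exact ⟨hx, h.two_mem hb m e⟩
  have h2 : Nat.card S ≤ 2 * Nat.card P0 :=
    two (fun x hx => ⟨hx.1, Or.inl (mem_sup_left hx.2)⟩) fun x hx y hy nx ny => by
      have a := hx.2.resolve_left fun m => nx (mem x hx.1 m)
      have b := hy.2.resolve_left fun m => ny (mem y hy.1 m)
      refine mem _ (P.mul_mem hx.1 hy.1) ?_
      have := mul_mem a b
      rwa [mul_assoc, c y hy.1, ← mul_assoc t t, h.tt, one_mul] at this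
  omega

end Cx

end Cfsg.Agent.H46.S94
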