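import Cfsg.Agent.H46.TKit
import Cfsg.Prelude.Def_Classical
import Mathlib.LinearAlgebra.Matrix.ProjectiveSpecialLinearGroup
import Mathlib.GroupTheory.SpecificGroups.Alternating

/-!
# An involution with centraliser `A₅ × 2 × O`: the definitions
-/

set_option autoImplicit false
open scoped Pointwise commutatorElement
open Subgroup

namespace Cfsg.Agent.H46.S94
open Cfsg.Agent.H8

universe u

local notation "C[" A "]" => Subgroup.centralizer (SetLike.coe A)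
local notation "N[" A "]" => Subgroup.normalizer (SetLike.coe A)

section
variable {X : Type u} [Group X]

/-- `2`-elements -/
def Tw (x : X) : Prop := ∃ n : ℕ, x ^ 2 ^ n = 1

/-- abelian subgroups -/
def Ab (T : Subgroup X) : Prop := ∀ x ∈ T, ∀ y ∈ T, x * y = y * x

/-- `C(t) = Λ × ⟨t⟩ × O`, `Λ ≅ A₅`, `Z⟨σ⟩ ≅ A₄` -/
structure A5C (t σ : X) (Λ O Z : Subgroup X) : Prop where
  tt : t * t = 1
  t1 : t ≠ 1
  iso : Nonempty (Λ ≃* alternatingGroup (Fin 5))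
  Lt : ∀ l ∈ Λ, l * t = t * l
  Ot : ∀ o ∈ O, o * t = t * o
  odd : Odd (Nat.card O)
  OC : O ≤ C[Λ]
  cen : ∀ c, c * t = t * c → ∃ l ∈ Λ, ∃ o ∈ O, c = l * o ∨ c = l * t * o
  ZL : Z ≤ Λ
  cZ : Nat.card Z = 4
  sL : σ ∈ Λ
  so : orderOf σ = 3
  sZ : σ ∈ N[Z]

/-- a `2`-subgroup over `Z` normalised by `t` and `σ` -/
structure IV (t σ : X) (Z P : Subgroup X) : Prop where
  two : IsPGroup 2 P
  ZP : Z ≤ P
  tN : t ∈ N[P]
  sN : σ ∈ N[P]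
  tP : t ∉ P

def HomC (T : Subgroup X) (n : ℕ) : Prop :=
  Nonempty (T ≃* Multiplicative (ZMod (2 ^ n)) × Multiplicative (ZMod (2 ^ n)))

/-- the type of a Sylow `2`-subgroup of `L₃(4)` -/
def L34 (P : Subgroup X) : Prop :=
  ∃ (F : Type) (_ : Field F) (_ : Fintype F), Fintype.card F = 4 ∧
    ∃ S : Sylow 2 (Matrix.ProjectiveSpecialLinearGroup (Fin 3) F),
      Nonempty (P ≃* (S : Subgroup (Matrix.ProjectiveSpecialLinearGroup (Fin 3) F)))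

/-- the type of a Sylow `2`-subgroup of `U₃(4)` -/
def U34 (P : Subgroup X) : Prop :=
  ∃ (F : Type) (_ : Field F) (_ : Fintype F), Fintype.card F = 16 ∧
    ∃ S : Sylow 2 (Cfsg.PSU 3 F 4), Nonempty (P ≃* (S : Subgroup (Cfsg.PSU 3 F 4)))

/-- special of order 64 with centre `Z` -/
structure Sp (Z P : Subgroup X) : Prop where
  card : Nat.card P = 64
  ZC : Z ≤ C[P]
  cZ : P ⊓ C[P] ≤ Z
  sq : ∀ x ∈ P, x * x ∈ Z

/-- `D ≅ 4 × 4` inverted by `t` -/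
structure D4 (t σ : X) (Z D : Subgroup X) : Prop where
  ab : Ab D
  card : Nat.card D = 16
  ZD : Z ≤ D
  inv : ∀ d ∈ D, t * d * t = d⁻¹
  sN : σ ∈ N[D]
  four : ∃ d ∈ D, orderOf d = 4

/-- the transfer -/
structure TR (t : X) (D P X0 : Subgroup X) : Prop where
  tD : ∀ d ∈ D, ∃ p ∈ P, p * t * p⁻¹ = d * t
  tP : ∀ x ∈ P, x * t * (x * t) = 1 → x ∈ D
  syl : IsSylowIn 2 (P ⊔ zpowers t) ⊤
  n0 : X0.Normal
  idx : X0.index = 2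
  tX : t ∉ X0
  PX : P ≤ X0

/-- the component -/
structure MS (Z D P M X0 : Subgroup X) : Prop where
  nM : M.Normal
  qs : IsQuasisimple M
  iso : ∃ (F : Type) (_ : Field F) (_ : Fintype F), Fintype.card F = 4 ∧
    Nonempty ((M ⧸ center M) ≃* Matrix.ProjectiveSpecialLinearGroup (Fin 3) F)
  oC : Odd (Nat.card C[M])
  MX : M ≤ X0
  two : ∀ x ∈ X0, Tw x → x ∈ M
  inv : ∀ x ∈ M, x * x = 1 → ∃ m ∈ M, m * x * m⁻¹ ∈ Z
  odd : ∀ x, Odd (orderOf x) → x ∈ C[D] → x ∈ C[M]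
  top : M ⊔ C[M] = X0 ∨ ∃ δ ∈ N[P], δ ∉ N[D]

end

/-- `PGL₃(F)` -/
abbrev PG3 (F : Type) [Field F] : Type := GL (Fin 3) F ⧸ center (GL (Fin 3) F)

/-- the image of `SL₃(F)` in `PGL₃(F)` -/
def KK (F : Type) [Field F] : Subgroup (PG3 F) :=
  ((QuotientGroup.mk' (center (GL (Fin 3) F))).comp Matrix.SpecialLinearGroup.toGL).range

/-! ### The pieces -/

def HCStmt : Prop :=
  ∀ (X : Type u) [Group X] [Finite X] (σ : X) (Λ Z T : Subgroup X),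
    Nonempty (Λ ≃* alternatingGroup (Fin 5)) → Z ≤ Λ → Nat.card Z = 4 → σ ∈ Λ → orderOf σ = 3 →
    σ ∈ N[Z] → IsSylowIn 2 T ⊤ → Ab T → Z ≤ T → σ ∈ N[T] → (∀ x ∈ T, x * x = 1 → x ∈ Z) →
    (∃ x ∈ T, orderOf x = 4) → False

def PA1Stmt : Prop :=
  ∀ (X : Type u) [Group X] [Finite X] (t σ : X) (Λ O Z T : Subgroup X) (n : ℕ), A5C t σ Λ O Z →
    IV t σ Z T → HomC T n → 2 ≤ n →
    ∃ g ∈ N[T ⊔ zpowers t], ∀ x ∈ T, g * t * g⁻¹ ≠ x * t * x⁻¹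

def PA2Stmt : Prop :=
  ∀ (X : Type u) [Group X] [Finite X] (t σ : X) (Λ O Z T : Subgroup X) (n : ℕ), A5C t σ Λ O Z →
    IV t σ Z T → HomC T n → 2 ≤ n →
    (∃ g ∈ N[T ⊔ zpowers t], ∀ x ∈ T, g * t * g⁻¹ ≠ x * t * x⁻¹) → ∃ P, IV t σ Z P ∧ T < P

def SpStmt : Prop :=
  ∀ (X : Type u) [Group X] [Finite X] (t σ : X) (Λ O Z P : Subgroup X), A5C t σ Λ O Z →
    IV t σ Z P → L34 P ∨ U34 P → Sp Z P

def P5aStmt : Prop :=
  ∀ (X : Type u) [Group X] [Finite X] (t σ : X) (Λ O Z D : Subgroup X), A5C t σ Λ O Z →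
    IV t σ Z D → (∃ d ∈ D, orderOf d = 4) → ∃ P, D ≤ P ∧ IV t σ Z P ∧ (L34 P ∨ U34 P)

def PUStmt : Prop :=
  ∀ (X : Type u) [Group X] [Finite X] (t σ ζ : X) (Λ O Z D P : Subgroup X), A5C t σ Λ O Z →
    IV t σ Z P → Sp Z P → U34 P → D4 t σ Z D → D ≤ P → ζ ∈ D → orderOf ζ = 4 →
    (∀ r ∈ P, r * t * r⁻¹ = ζ * t → r * r ∈ zpowers (ζ * ζ)) → False

def PB1Stmt : Prop :=
  ∀ (X : Type u) [Group X] [Finite X] (t σ : X) (Λ O Z D P : Subgroup X), A5C t σ Λ O Z →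
    IV t σ Z P → Sp Z P → D4 t σ Z D → D ≤ P → ∃ X0, TR t D P X0

def LPStmt : Prop :=
  ∀ (F : Type) [Field F] [Fintype F], Fintype.card F = 4 → ∀ Y : Subgroup (PG3 F),
    64 ∣ Nat.card Y → (∀ Q ≤ Y, IsPGroup 2 Q → Y ≤ N[Q] → Q = ⊥) → KK F ≤ Y

def LQ1Stmt : Prop :=
  ∀ (F : Type) [Field F] [Fintype F], Fintype.card F = 4 →
    (KK F).Normal ∧ (KK F).index = 3 ∧ IsSimpleGroup (KK F) ∧ ¬ IsMulCommutative (KK F) ∧
    Nonempty (KK F ≃* Matrix.ProjectiveSpecialLinearGroup (Fin 3) F) ∧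
    Nat.card (KK F) = 20160 ∧
    (∀ x y : PG3 F, orderOf x = 2 → orderOf y = 2 → ∃ k ∈ KK F, k * x * k⁻¹ = y) ∧
    ∀ x y : PG3 F, Odd (orderOf x) → orderOf y = 4 → x * y = y * x → x = 1

def LQ2Stmt : Prop :=
  ∀ (F : Type) [Field F] [Fintype F], Fintype.card F = 4 → ∀ D P : Subgroup (PG3 F),
    Nat.card P = 64 → D ≤ P → Ab D → Nat.card D = 16 → (∃ d ∈ D, orderOf d = 4) →
    ∃ δ ∈ N[P], δ ∉ N[D]

def PB2Stmt : Prop :=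
  ∀ (X : Type u) [Group X] [Finite X] (t σ : X) (Λ O Z D P X0 : Subgroup X), A5C t σ Λ O Z →
    IV t σ Z P → Sp Z P → L34 P → D4 t σ Z D → D ≤ P → TR t D P X0 → MS Z D P (P ⊔ Λ) X0

set_option linter.unusedTactic false in
theorem eqns_UDefs : True := by
  first | (have := @Cfsg.Agent.H46.S94.Tw.eq_def.{0,0,0}) | (have := @Cfsg.Agent.H46.S94.Tw.eq_def.{0,0}) | (have := @Cfsg.Agent.H46.S94.Tw.eq_def.{0}) | (have := @Cfsg.Agent.H46.S94.Tw.eq_def) | skip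
  first | (have := @Cfsg.Agent.H46.S94.Tw.eq_1.{0,0,0}) | (have := @Cfsg.Agent.H46.S94.Tw.eq_1.{0,0}) | (have := @Cfsg.Agent.H46.S94.Tw.eq_1.{0}) | (have := @Cfsg.Agent.H46.S94.Tw.eq_1) | skip
  first | (have := @Cfsg.Agent.H46.S94.Tw.eq_2.{0,0,0}) | (have := @Cfsg.Agent.H46.S94.Tw.eq_2.{0,0}) | (have := @Cfsg.Agent.H46.S94.Tw.eq_2.{0}) | (have := @Cfsg.Agent.H46.S94.Tw.eq_2) | skip
  first | (have := @Cfsg.Agent.H46.S94.Tw.eq_unfold.{0,0,0}) | (have := @Cfsg.Agent.H46.S94.Tw.eq_unfold.{0,0}) | (have := @Cfsg.Agent.H46.S94.Tw.eq_unfold.{0}) | (have := @Cfsg.Agent.H46.S94.Tw.eq_unfold) | skip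
  first | (have := @Cfsg.Agent.H46.S94.Tw.congr_simp.{0,0,0}) | (have := @Cfsg.Agent.H46.S94.Tw.congr_simp.{0,0}) | (have := @Cfsg.Agent.H46.S94.Tw.congr_simp.{0}) | (have := @Cfsg.Agent.H46.S94.Tw.congr_simp) | skip
  first | (have := @Cfsg.Agent.H46.S94.Ab.eq_def.{0,0,0}) | (have := @Cfsg.Agent.H46.S94.Ab.eq_def.{0,0}) | (have := @Cfsg.Agent.H46.S94.Ab.eq_def.{0}) | (have := @Cfsg.Agent.H46.S94.Ab.eq_def) | skip
  first | (have := @Cfsg.Agent.H46.S94.Ab.eq_1.{0,0,0}) | (have := @Cfsg.Agent.H46.S94.Ab.eq_1.{0,0}) | (have := @Cfsg.Agent.H46.S94.Ab.eq_1.{0}) | (have := @Cfsg.Agent.H46.S94.Ab.eq_1) | skip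
  first | (have := @Cfsg.Agent.H46.S94.Ab.eq_2.{0,0,0}) | (have := @Cfsg.Agent.H46.S94.Ab.eq_2.{0,0}) | (have := @Cfsg.Agent.H46.S94.Ab.eq_2.{0}) | (have := @Cfsg.Agent.H46.S94.Ab.eq_2) | skip
  first | (have := @Cfsg.Agent.H46.S94.Ab.eq_unfold.{0,0,0}) | (have := @Cfsg.Agent.H46.S94.Ab.eq_unfold.{0,0}) | (have := @Cfsg.Agent.H46.S94.Ab.eq_unfold.{0}) | (have := @Cfsg.Agent.H46.S94.Ab.eq_unfold) | skip
  first | (have := @Cfsg.Agent.H46.S94.Ab.congr_simp.{0,0,0}) | (have := @Cfsg.Agent.H46.S94.Ab.congr_simp.{0,0}) | (have := @Cfsg.Agent.H46.S94.Ab.congr_simp.{0}) | (have := @Cfsg.Agent.H46.S94.Ab.congr_simp) | skip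
  first | (have := @Cfsg.Agent.H46.S94.HomC.eq_def.{0,0,0}) | (have := @Cfsg.Agent.H46.S94.HomC.eq_def.{0,0}) | (have := @Cfsg.Agent.H46.S94.HomC.eq_def.{0}) | (have := @Cfsg.Agent.H46.S94.HomC.eq_def) | skip
  first | (have := @Cfsg.Agent.H46.S94.HomC.eq_1.{0,0,0}) | (have := @Cfsg.Agent.H46.S94.HomC.eq_1.{0,0}) | (have := @Cfsg.Agent.H46.S94.HomC.eq_1.{0}) | (have := @Cfsg.Agent.H46.S94.HomC.eq_1) | skip
  first | (have := @Cfsg.Agent.H46.S94.HomC.eq_2.{0,0,0}) | (have := @Cfsg.Agent.H46.S94.HomC.eq_2.{0,0}) | (have := @Cfsg.Agent.H46.S94.HomC.eq_2.{0}) | (have := @Cfsg.Agent.H46.S94.HomC.eq_2) | skip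
  first | (have := @Cfsg.Agent.H46.S94.HomC.eq_unfold.{0,0,0}) | (have := @Cfsg.Agent.H46.S94.HomC.eq_unfold.{0,0}) | (have := @Cfsg.Agent.H46.S94.HomC.eq_unfold.{0}) | (have := @Cfsg.Agent.H46.S94.HomC.eq_unfold) | skip
  first | (have := @Cfsg.Agent.H46.S94.HomC.congr_simp.{0,0,0}) | (have := @Cfsg.Agent.H46.S94.HomC.congr_simp.{0,0}) | (have := @Cfsg.Agent.H46.S94.HomC.congr_simp.{0}) | (have := @Cfsg.Agent.H46.S94.HomC.congr_simp) | skip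
  first | (have := @Cfsg.Agent.H46.S94.L34.eq_def.{0,0,0}) | (have := @Cfsg.Agent.H46.S94.L34.eq_def.{0,0}) | (have := @Cfsg.Agent.H46.S94.L34.eq_def.{0}) | (have := @Cfsg.Agent.H46.S94.L34.eq_def) | skip
  first | (have := @Cfsg.Agent.H46.S94.L34.eq_1.{0,0,0}) | (have := @Cfsg.Agent.H46.S94.L34.eq_1.{0,0}) | (have := @Cfsg.Agent.H46.S94.L34.eq_1.{0}) | (have := @Cfsg.Agent.H46.S94.L34.eq_1) | skip
  first | (have := @Cfsg.Agent.H46.S94.L34.eq_2.{0,0,0}) | (have := @Cfsg.Agent.H46.S94.L34.eq_2.{0,0}) | (have := @Cfsg.Agent.H46.S94.L34.eq_2.{0}) | (have := @Cfsg.Agent.H46.S94.L34.eq_2) | skip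
  first | (have := @Cfsg.Agent.H46.S94.L34.eq_unfold.{0,0,0}) | (have := @Cfsg.Agent.H46.S94.L34.eq_unfold.{0,0}) | (have := @Cfsg.Agent.H46.S94.L34.eq_unfold.{0}) | (have := @Cfsg.Agent.H46.S94.L34.eq_unfold) | skip
  first | (have := @Cfsg.Agent.H46.S94.L34.congr_simp.{0,0,0}) | (have := @Cfsg.Agent.H46.S94.L34.congr_simp.{0,0}) | (have := @Cfsg.Agent.H46.S94.L34.congr_simp.{0}) | (have := @Cfsg.Agent.H46.S94.L34.congr_simp) | skip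
  first | (have := @Cfsg.Agent.H46.S94.U34.eq_def.{0,0,0}) | (have := @Cfsg.Agent.H46.S94.U34.eq_def.{0,0}) | (have := @Cfsg.Agent.H46.S94.U34.eq_def.{0}) | (have := @Cfsg.Agent.H46.S94.U34.eq_def) | skip
  first | (have := @Cfsg.Agent.H46.S94.U34.eq_1.{0,0,0}) | (have := @Cfsg.Agent.H46.S94.U34.eq_1.{0,0}) | (have := @Cfsg.Agent.H46.S94.U34.eq_1.{0}) | (have := @Cfsg.Agent.H46.S94.U34.eq_1) | skip
  first | (have := @Cfsg.Agent.H46.S94.U34.eq_2.{0,0,0}) | (have := @Cfsg.Agent.H46.S94.U34.eq_2.{0,0}) | (have := @Cfsg.Agent.H46.S94.U34.eq_2.{0}) | (have := @Cfsg.Agent.H46.S94.U34.eq_2) | skip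
  first | (have := @Cfsg.Agent.H46.S94.U34.eq_unfold.{0,0,0}) | (have := @Cfsg.Agent.H46.S94.U34.eq_unfold.{0,0}) | (have := @Cfsg.Agent.H46.S94.U34.eq_unfold.{0}) | (have := @Cfsg.Agent.H46.S94.U34.eq_unfold) | skip
  first | (have := @Cfsg.Agent.H46.S94.U34.congr_simp.{0,0,0}) | (have := @Cfsg.Agent.H46.S94.U34.congr_simp.{0,0}) | (have := @Cfsg.Agent.H46.S94.U34.congr_simp.{0}) | (have := @Cfsg.Agent.H46.S94.U34.congr_simp) | skip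
  first | (have := @Cfsg.Agent.H46.S94.PG3.eq_def.{0,0,0}) | (have := @Cfsg.Agent.H46.S94.PG3.eq_def.{0,0}) | (have := @Cfsg.Agent.H46.S94.PG3.eq_def.{0}) | (have := @Cfsg.Agent.H46.S94.PG3.eq_def) | skip
  first | (have := @Cfsg.Agent.H46.S94.PG3.eq_1.{0,0,0}) | (have := @Cfsg.Agent.H46.S94.PG3.eq_1.{0,0}) | (have := @Cfsg.Agent.H46.S94.PG3.eq_1.{0}) | (have := @Cfsg.Agent.H46.S94.PG3.eq_1) | skip
  first | (have := @Cfsg.Agent.H46.S94.PG3.eq_2.{0,0,0}) | (have := @Cfsg.Agent.H46.S94.PG3.eq_2.{0,0}) | (have := @Cfsg.Agent.H46.S94.PG3.eq_2.{0}) | (have := @Cfsg.Agent.H46.S94.PG3.eq_2) | skip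
  first | (have := @Cfsg.Agent.H46.S94.PG3.eq_unfold.{0,0,0}) | (have := @Cfsg.Agent.H46.S94.PG3.eq_unfold.{0,0}) | (have := @Cfsg.Agent.H46.S94.PG3.eq_unfold.{0}) | (have := @Cfsg.Agent.H46.S94.PG3.eq_unfold) | skip
  first | (have := @Cfsg.Agent.H46.S94.PG3.congr_simp.{0,0,0}) | (have := @Cfsg.Agent.H46.S94.PG3.congr_simp.{0,0}) | (have := @Cfsg.Agent.H46.S94.PG3.congr_simp.{0}) | (have := @Cfsg.Agent.H46.S94.PG3.congr_simp) | skip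
  first | (have := @Cfsg.Agent.H46.S94.KK.eq_def.{0,0,0}) | (have := @Cfsg.Agent.H46.S94.KK.eq_def.{0,0}) | (have := @Cfsg.Agent.H46.S94.KK.eq_def.{0}) | (have := @Cfsg.Agent.H46.S94.KK.eq_def) | skip
  first | (have := @Cfsg.Agent.H46.S94.KK.eq_1.{0,0,0}) | (have := @Cfsg.Agent.H46.S94.KK.eq_1.{0,0}) | (have := @Cfsg.Agent.H46.S94.KK.eq_1.{0}) | (have := @Cfsg.Agent.H46.S94.KK.eq_1) | skip
  first | (have := @Cfsg.Agent.H46.S94.KK.eq_2.{0,0,0}) | (have := @Cfsg.Agent.H46.S94.KK.eq_2.{0,0}) | (have := @Cfsg.Agent.H46.S94.KK.eq_2.{0}) | (have := @Cfsg.Agent.H46.S94.KK.eq_2) | skip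
  first | (have := @Cfsg.Agent.H46.S94.KK.eq_unfold.{0,0,0}) | (have := @Cfsg.Agent.H46.S94.KK.eq_unfold.{0,0}) | (have := @Cfsg.Agent.H46.S94.KK.eq_unfold.{0}) | (have := @Cfsg.Agent.H46.S94.KK.eq_unfold) | skip
  first | (have := @Cfsg.Agent.H46.S94.KK.congr_simp.{0,0,0}) | (have := @Cfsg.Agent.H46.S94.KK.congr_simp.{0,0}) | (have := @Cfsg.Agent.H46.S94.KK.congr_simp.{0}) | (have := @Cfsg.Agent.H46.S94.KK.congr_simp) | skip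
  first | (have := @Cfsg.Agent.H46.S94.HCStmt.eq_def.{0,0,0}) | (have := @Cfsg.Agent.H46.S94.HCStmt.eq_def.{0,0}) | (have := @Cfsg.Agent.H46.S94.HCStmt.eq_def.{0}) | (have := @Cfsg.Agent.H46.S94.HCStmt.eq_def) | skip
  first | (have := @Cfsg.Agent.H46.S94.HCStmt.eq_1.{0,0,0}) | (have := @Cfsg.Agent.H46.S94.HCStmt.eq_1.{0,0}) | (have := @Cfsg.Agent.H46.S94.HCStmt.eq_1.{0}) | (have := @Cfsg.Agent.H46.S94.HCStmt.eq_1) | skip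
  first | (have := @Cfsg.Agent.H46.S94.HCStmt.eq_2.{0,0,0}) | (have := @Cfsg.Agent.H46.S94.HCStmt.eq_2.{0,0}) | (have := @Cfsg.Agent.H46.S94.HCStmt.eq_2.{0}) | (have := @Cfsg.Agent.H46.S94.HCStmt.eq_2) | skip
  first | (have := @Cfsg.Agent.H46.S94.HCStmt.eq_unfold.{0,0,0}) | (have := @Cfsg.Agent.H46.S94.HCStmt.eq_unfold.{0,0}) | (have := @Cfsg.Agent.H46.S94.HCStmt.eq_unfold.{0}) | (have := @Cfsg.Agent.H46.S94.HCStmt.eq_unfold) | skip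
  first | (have := @Cfsg.Agent.H46.S94.HCStmt.congr_simp.{0,0,0}) | (have := @Cfsg.Agent.H46.S94.HCStmt.congr_simp.{0,0}) | (have := @Cfsg.Agent.H46.S94.HCStmt.congr_simp.{0}) | (have := @Cfsg.Agent.H46.S94.HCStmt.congr_simp) | skip
  first | (have := @Cfsg.Agent.H46.S94.PA1Stmt.eq_def.{0,0,0}) | (have := @Cfsg.Agent.H46.S94.PA1Stmt.eq_def.{0,0}) | (have := @Cfsg.Agent.H46.S94.PA1Stmt.eq_def.{0}) | (have := @Cfsg.Agent.H46.S94.PA1Stmt.eq_def) | skip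
  first | (have := @Cfsg.Agent.H46.S94.PA1Stmt.eq_1.{0,0,0}) | (have := @Cfsg.Agent.H46.S94.PA1Stmt.eq_1.{0,0}) | (have := @Cfsg.Agent.H46.S94.PA1Stmt.eq_1.{0}) | (have := @Cfsg.Agent.H46.S94.PA1Stmt.eq_1) | skip
  first | (have := @Cfsg.Agent.H46.S94.PA1Stmt.eq_2.{0,0,0}) | (have := @Cfsg.Agent.H46.S94.PA1Stmt.eq_2.{0,0}) | (have := @Cfsg.Agent.H46.S94.PA1Stmt.eq_2.{0}) | (have := @Cfsg.Agent.H46.S94.PA1Stmt.eq_2) | skip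
  first | (have := @Cfsg.Agent.H46.S94.PA1Stmt.eq_unfold.{0,0,0}) | (have := @Cfsg.Agent.H46.S94.PA1Stmt.eq_unfold.{0,0}) | (have := @Cfsg.Agent.H46.S94.PA1Stmt.eq_unfold.{0}) | (have := @Cfsg.Agent.H46.S94.PA1Stmt.eq_unfold) | skip
  first | (have := @Cfsg.Agent.H46.S94.PA1Stmt.congr_simp.{0,0,0}) | (have := @Cfsg.Agent.H46.S94.PA1Stmt.congr_simp.{0,0}) | (have := @Cfsg.Agent.H46.S94.PA1Stmt.congr_simp.{0}) | (have := @Cfsg.Agent.H46.S94.PA1Stmt.congr_simp) | skip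
  first | (have := @Cfsg.Agent.H46.S94.PA2Stmt.eq_def.{0,0,0}) | (have := @Cfsg.Agent.H46.S94.PA2Stmt.eq_def.{0,0}) | (have := @Cfsg.Agent.H46.S94.PA2Stmt.eq_def.{0}) | (have := @Cfsg.Agent.H46.S94.PA2Stmt.eq_def) | skip
  first | (have := @Cfsg.Agent.H46.S94.PA2Stmt.eq_1.{0,0,0}) | (have := @Cfsg.Agent.H46.S94.PA2Stmt.eq_1.{0,0}) | (have := @Cfsg.Agent.H46.S94.PA2Stmt.eq_1.{0}) | (have := @Cfsg.Agent.H46.S94.PA2Stmt.eq_1) | skip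
  first | (have := @Cfsg.Agent.H46.S94.PA2Stmt.eq_2.{0,0,0}) | (have := @Cfsg.Agent.H46.S94.PA2Stmt.eq_2.{0,0}) | (have := @Cfsg.Agent.H46.S94.PA2Stmt.eq_2.{0}) | (have := @Cfsg.Agent.H46.S94.PA2Stmt.eq_2) | skip
  first | (have := @Cfsg.Agent.H46.S94.PA2Stmt.eq_unfold.{0,0,0}) | (have := @Cfsg.Agent.H46.S94.PA2Stmt.eq_unfold.{0,0}) | (have := @Cfsg.Agent.H46.S94.PA2Stmt.eq_unfold.{0}) | (have := @Cfsg.Agent.H46.S94.PA2Stmt.eq_unfold) | skip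
  first | (have := @Cfsg.Agent.H46.S94.PA2Stmt.congr_simp.{0,0,0}) | (have := @Cfsg.Agent.H46.S94.PA2Stmt.congr_simp.{0,0}) | (have := @Cfsg.Agent.H46.S94.PA2Stmt.congr_simp.{0}) | (have := @Cfsg.Agent.H46.S94.PA2Stmt.congr_simp) | skip
  first | (have := @Cfsg.Agent.H46.S94.SpStmt.eq_def.{0,0,0}) | (have := @Cfsg.Agent.H46.S94.SpStmt.eq_def.{0,0}) | (have := @Cfsg.Agent.H46.S94.SpStmt.eq_def.{0}) | (have := @Cfsg.Agent.H46.S94.SpStmt.eq_def) | skip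
  first | (have := @Cfsg.Agent.H46.S94.SpStmt.eq_1.{0,0,0}) | (have := @Cfsg.Agent.H46.S94.SpStmt.eq_1.{0,0}) | (have := @Cfsg.Agent.H46.S94.SpStmt.eq_1.{0}) | (have := @Cfsg.Agent.H46.S94.SpStmt.eq_1) | skip
  first | (have := @Cfsg.Agent.H46.S94.SpStmt.eq_2.{0,0,0}) | (have := @Cfsg.Agent.H46.S94.SpStmt.eq_2.{0,0}) | (have := @Cfsg.Agent.H46.S94.SpStmt.eq_2.{0}) | (have := @Cfsg.Agent.H46.S94.SpStmt.eq_2) | skip
  first | (have := @Cfsg.Agent.H46.S94.SpStmt.eq_unfold.{0,0,0}) | (have := @Cfsg.Agent.H46.S94.SpStmt.eq_unfold.{0,0}) | (have := @Cfsg.Agent.H46.S94.SpStmt.eq_unfold.{0}) | (have := @Cfsg.Agent.H46.S94.SpStmt.eq_unfold) | skip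
  first | (have := @Cfsg.Agent.H46.S94.SpStmt.congr_simp.{0,0,0}) | (have := @Cfsg.Agent.H46.S94.SpStmt.congr_simp.{0,0}) | (have := @Cfsg.Agent.H46.S94.SpStmt.congr_simp.{0}) | (have := @Cfsg.Agent.H46.S94.SpStmt.congr_simp) | skip
  first | (have := @Cfsg.Agent.H46.S94.P5aStmt.eq_def.{0,0,0}) | (have := @Cfsg.Agent.H46.S94.P5aStmt.eq_def.{0,0}) | (have := @Cfsg.Agent.H46.S94.P5aStmt.eq_def.{0}) | (have := @Cfsg.Agent.H46.S94.P5aStmt.eq_def) | skip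
  first | (have := @Cfsg.Agent.H46.S94.P5aStmt.eq_1.{0,0,0}) | (have := @Cfsg.Agent.H46.S94.P5aStmt.eq_1.{0,0}) | (have := @Cfsg.Agent.H46.S94.P5aStmt.eq_1.{0}) | (have := @Cfsg.Agent.H46.S94.P5aStmt.eq_1) | skip
  first | (have := @Cfsg.Agent.H46.S94.P5aStmt.eq_2.{0,0,0}) | (have := @Cfsg.Agent.H46.S94.P5aStmt.eq_2.{0,0}) | (have := @Cfsg.Agent.H46.S94.P5aStmt.eq_2.{0}) | (have := @Cfsg.Agent.H46.S94.P5aStmt.eq_2) | skip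
  first | (have := @Cfsg.Agent.H46.S94.P5aStmt.eq_unfold.{0,0,0}) | (have := @Cfsg.Agent.H46.S94.P5aStmt.eq_unfold.{0,0}) | (have := @Cfsg.Agent.H46.S94.P5aStmt.eq_unfold.{0}) | (have := @Cfsg.Agent.H46.S94.P5aStmt.eq_unfold) | skip
  first | (have := @Cfsg.Agent.H46.S94.P5aStmt.congr_simp.{0,0,0}) | (have := @Cfsg.Agent.H46.S94.P5aStmt.congr_simp.{0,0}) | (have := @Cfsg.Agent.H46.S94.P5aStmt.congr_simp.{0}) | (have := @Cfsg.Agent.H46.S94.P5aStmt.congr_simp) | skip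
  first | (have := @Cfsg.Agent.H46.S94.PUStmt.eq_def.{0,0,0}) | (have := @Cfsg.Agent.H46.S94.PUStmt.eq_def.{0,0}) | (have := @Cfsg.Agent.H46.S94.PUStmt.eq_def.{0}) | (have := @Cfsg.Agent.H46.S94.PUStmt.eq_def) | skip
  first | (have := @Cfsg.Agent.H46.S94.PUStmt.eq_1.{0,0,0}) | (have := @Cfsg.Agent.H46.S94.PUStmt.eq_1.{0,0}) | (have := @Cfsg.Agent.H46.S94.PUStmt.eq_1.{0}) | (have := @Cfsg.Agent.H46.S94.PUStmt.eq_1) | skip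
  first | (have := @Cfsg.Agent.H46.S94.PUStmt.eq_2.{0,0,0}) | (have := @Cfsg.Agent.H46.S94.PUStmt.eq_2.{0,0}) | (have := @Cfsg.Agent.H46.S94.PUStmt.eq_2.{0}) | (have := @Cfsg.Agent.H46.S94.PUStmt.eq_2) | skip
  first | (have := @Cfsg.Agent.H46.S94.PUStmt.eq_unfold.{0,0,0}) | (have := @Cfsg.Agent.H46.S94.PUStmt.eq_unfold.{0,0}) | (have := @Cfsg.Agent.H46.S94.PUStmt.eq_unfold.{0}) | (have := @Cfsg.Agent.H46.S94.PUStmt.eq_unfold) | skip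
  first | (have := @Cfsg.Agent.H46.S94.PUStmt.congr_simp.{0,0,0}) | (have := @Cfsg.Agent.H46.S94.PUStmt.congr_simp.{0,0}) | (have := @Cfsg.Agent.H46.S94.PUStmt.congr_simp.{0}) | (have := @Cfsg.Agent.H46.S94.PUStmt.congr_simp) | skip
  first | (have := @Cfsg.Agent.H46.S94.PB1Stmt.eq_def.{0,0,0}) | (have := @Cfsg.Agent.H46.S94.PB1Stmt.eq_def.{0,0}) | (have := @Cfsg.Agent.H46.S94.PB1Stmt.eq_def.{0}) | (have := @Cfsg.Agent.H46.S94.PB1Stmt.eq_def) | skip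
  first | (have := @Cfsg.Agent.H46.S94.PB1Stmt.eq_1.{0,0,0}) | (have := @Cfsg.Agent.H46.S94.PB1Stmt.eq_1.{0,0}) | (have := @Cfsg.Agent.H46.S94.PB1Stmt.eq_1.{0}) | (have := @Cfsg.Agent.H46.S94.PB1Stmt.eq_1) | skip
  first | (have := @Cfsg.Agent.H46.S94.PB1Stmt.eq_2.{0,0,0}) | (have := @Cfsg.Agent.H46.S94.PB1Stmt.eq_2.{0,0}) | (have := @Cfsg.Agent.H46.S94.PB1Stmt.eq_2.{0}) | (have := @Cfsg.Agent.H46.S94.PB1Stmt.eq_2) | skip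
  first | (have := @Cfsg.Agent.H46.S94.PB1Stmt.eq_unfold.{0,0,0}) | (have := @Cfsg.Agent.H46.S94.PB1Stmt.eq_unfold.{0,0}) | (have := @Cfsg.Agent.H46.S94.PB1Stmt.eq_unfold.{0}) | (have := @Cfsg.Agent.H46.S94.PB1Stmt.eq_unfold) | skip
  first | (have := @Cfsg.Agent.H46.S94.PB1Stmt.congr_simp.{0,0,0}) | (have := @Cfsg.Agent.H46.S94.PB1Stmt.congr_simp.{0,0}) | (have := @Cfsg.Agent.H46.S94.PB1Stmt.congr_simp.{0}) | (have := @Cfsg.Agent.H46.S94.PB1Stmt.congr_simp) | skip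
  first | (have := @Cfsg.Agent.H46.S94.LPStmt.eq_def.{0,0,0}) | (have := @Cfsg.Agent.H46.S94.LPStmt.eq_def.{0,0}) | (have := @Cfsg.Agent.H46.S94.LPStmt.eq_def.{0}) | (have := @Cfsg.Agent.H46.S94.LPStmt.eq_def) | skip
  first | (have := @Cfsg.Agent.H46.S94.LPStmt.eq_1.{0,0,0}) | (have := @Cfsg.Agent.H46.S94.LPStmt.eq_1.{0,0}) | (have := @Cfsg.Agent.H46.S94.LPStmt.eq_1.{0}) | (have := @Cfsg.Agent.H46.S94.LPStmt.eq_1) | skip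
  first | (have := @Cfsg.Agent.H46.S94.LPStmt.eq_2.{0,0,0}) | (have := @Cfsg.Agent.H46.S94.LPStmt.eq_2.{0,0}) | (have := @Cfsg.Agent.H46.S94.LPStmt.eq_2.{0}) | (have := @Cfsg.Agent.H46.S94.LPStmt.eq_2) | skip
  first | (have := @Cfsg.Agent.H46.S94.LPStmt.eq_unfold.{0,0,0}) | (have := @Cfsg.Agent.H46.S94.LPStmt.eq_unfold.{0,0}) | (have := @Cfsg.Agent.H46.S94.LPStmt.eq_unfold.{0}) | (have := @Cfsg.Agent.H46.S94.LPStmt.eq_unfold) | skip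
  first | (have := @Cfsg.Agent.H46.S94.LPStmt.congr_simp.{0,0,0}) | (have := @Cfsg.Agent.H46.S94.LPStmt.congr_simp.{0,0}) | (have := @Cfsg.Agent.H46.S94.LPStmt.congr_simp.{0}) | (have := @Cfsg.Agent.H46.S94.LPStmt.congr_simp) | skip
  first | (have := @Cfsg.Agent.H46.S94.LQ1Stmt.eq_def.{0,0,0}) | (have := @Cfsg.Agent.H46.S94.LQ1Stmt.eq_def.{0,0}) | (have := @Cfsg.Agent.H46.S94.LQ1Stmt.eq_def.{0}) | (have := @Cfsg.Agent.H46.S94.LQ1Stmt.eq_def) | skip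
  first | (have := @Cfsg.Agent.H46.S94.LQ1Stmt.eq_1.{0,0,0}) | (have := @Cfsg.Agent.H46.S94.LQ1Stmt.eq_1.{0,0}) | (have := @Cfsg.Agent.H46.S94.LQ1Stmt.eq_1.{0}) | (have := @Cfsg.Agent.H46.S94.LQ1Stmt.eq_1) | skip
  first | (have := @Cfsg.Agent.H46.S94.LQ1Stmt.eq_2.{0,0,0}) | (have := @Cfsg.Agent.H46.S94.LQ1Stmt.eq_2.{0,0}) | (have := @Cfsg.Agent.H46.S94.LQ1Stmt.eq_2.{0}) | (have := @Cfsg.Agent.H46.S94.LQ1Stmt.eq_2) | skip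
  first | (have := @Cfsg.Agent.H46.S94.LQ1Stmt.eq_unfold.{0,0,0}) | (have := @Cfsg.Agent.H46.S94.LQ1Stmt.eq_unfold.{0,0}) | (have := @Cfsg.Agent.H46.S94.LQ1Stmt.eq_unfold.{0}) | (have := @Cfsg.Agent.H46.S94.LQ1Stmt.eq_unfold) | skip
  first | (have := @Cfsg.Agent.H46.S94.LQ1Stmt.congr_simp.{0,0,0}) | (have := @Cfsg.Agent.H46.S94.LQ1Stmt.congr_simp.{0,0}) | (have := @Cfsg.Agent.H46.S94.LQ1Stmt.congr_simp.{0}) | (have := @Cfsg.Agent.H46.S94.LQ1Stmt.congr_simp) | skip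
  first | (have := @Cfsg.Agent.H46.S94.LQ2Stmt.eq_def.{0,0,0}) | (have := @Cfsg.Agent.H46.S94.LQ2Stmt.eq_def.{0,0}) | (have := @Cfsg.Agent.H46.S94.LQ2Stmt.eq_def.{0}) | (have := @Cfsg.Agent.H46.S94.LQ2Stmt.eq_def) | skip
  first | (have := @Cfsg.Agent.H46.S94.LQ2Stmt.eq_1.{0,0,0}) | (have := @Cfsg.Agent.H46.S94.LQ2Stmt.eq_1.{0,0}) | (have := @Cfsg.Agent.H46.S94.LQ2Stmt.eq_1.{0}) | (have := @Cfsg.Agent.H46.S94.LQ2Stmt.eq_1) | skip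
  first | (have := @Cfsg.Agent.H46.S94.LQ2Stmt.eq_2.{0,0,0}) | (have := @Cfsg.Agent.H46.S94.LQ2Stmt.eq_2.{0,0}) | (have := @Cfsg.Agent.H46.S94.LQ2Stmt.eq_2.{0}) | (have := @Cfsg.Agent.H46.S94.LQ2Stmt.eq_2) | skip
  first | (have := @Cfsg.Agent.H46.S94.LQ2Stmt.eq_unfold.{0,0,0}) | (have := @Cfsg.Agent.H46.S94.LQ2Stmt.eq_unfold.{0,0}) | (have := @Cfsg.Agent.H46.S94.LQ2Stmt.eq_unfold.{0}) | (have := @Cfsg.Agent.H46.S94.LQ2Stmt.eq_unfold) | skip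
  first | (have := @Cfsg.Agent.H46.S94.LQ2Stmt.congr_simp.{0,0,0}) | (have := @Cfsg.Agent.H46.S94.LQ2Stmt.congr_simp.{0,0}) | (have := @Cfsg.Agent.H46.S94.LQ2Stmt.congr_simp.{0}) | (have := @Cfsg.Agent.H46.S94.LQ2Stmt.congr_simp) | skip
  first | (have := @Cfsg.Agent.H46.S94.PB2Stmt.eq_def.{0,0,0}) | (have := @Cfsg.Agent.H46.S94.PB2Stmt.eq_def.{0,0}) | (have := @Cfsg.Agent.H46.S94.PB2Stmt.eq_def.{0}) | (have := @Cfsg.Agent.H46.S94.PB2Stmt.eq_def) | skip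
  first | (have := @Cfsg.Agent.H46.S94.PB2Stmt.eq_1.{0,0,0}) | (have := @Cfsg.Agent.H46.S94.PB2Stmt.eq_1.{0,0}) | (have := @Cfsg.Agent.H46.S94.PB2Stmt.eq_1.{0}) | (have := @Cfsg.Agent.H46.S94.PB2Stmt.eq_1) | skip
  first | (have := @Cfsg.Agent.H46.S94.PB2Stmt.eq_2.{0,0,0}) | (have := @Cfsg.Agent.H46.S94.PB2Stmt.eq_2.{0,0}) | (have := @Cfsg.Agent.H46.S94.PB2Stmt.eq_2.{0}) | (have := @Cfsg.Agent.H46.S94.PB2Stmt.eq_2) | skip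
  first | (have := @Cfsg.Agent.H46.S94.PB2Stmt.eq_unfold.{0,0,0}) | (have := @Cfsg.Agent.H46.S94.PB2Stmt.eq_unfold.{0,0}) | (have := @Cfsg.Agent.H46.S94.PB2Stmt.eq_unfold.{0}) | (have := @Cfsg.Agent.H46.S94.PB2Stmt.eq_unfold) | skip
  first | (have := @Cfsg.Agent.H46.S94.PB2Stmt.congr_simp.{0,0,0}) | (have := @Cfsg.Agent.H46.S94.PB2Stmt.congr_simp.{0,0}) | (have := @Cfsg.Agent.H46.S94.PB2Stmt.congr_simp.{0}) | (have := @Cfsg.Agent.H46.S94.PB2Stmt.congr_simp) | skip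
  trivial

end Cfsg.Agent.H46.S94
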