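import Cfsg.Agent.H46.UDefs
import Cfsg.Prelude.Def_Spor_Suz

/-!
# A standard subgroup of type `J₂`: the definitions
-/

set_option autoImplicit false
open scoped Pointwise commutatorElement
open Subgroup

namespace Cfsg.Agent.H46.S94
open Cfsg.Agent.H8

universe u

local notation "C[" A "]" => Subgroup.centralizer (SetLike.coe A)
local notation "N[" A "]" => Subgroup.normalizer (SetLike.coe A)

section Facts
variable {Γ : Type} [Group Γ]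

/-- the four-group of a line -/
abbrev Z2 (z y : Γ) : Subgroup Γ := closure {z, y}

/-- the data of the reduction -/
structure RJ (z b u : Γ) (Λ E : Subgroup Γ) : Prop where
  rd : RD z b Λ E
  rz : RC z z (Cz z) (zpowers z)
  el : El E
  inv : ∀ l ∈ Λ, l * l = 1 → l ≠ 1 → IsConj z l
  der : ⁅C[E], C[E]⁆ ≤ Λ
  uE : ∀ e ∈ E, u * e * u⁻¹ * e⁻¹ ∈ Λ
  mv : ∃ e ∈ E, u * e ≠ e * u

/-- the elementary abelian group of order 16 -/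
structure WF (z : Γ) (Z W : Subgroup Γ) : Prop where
  el : El W
  card : Nat.card W = 16
  ZW : Z ≤ W
  cZ : Nat.card Z = 4
  zZ : z ∈ Z
  z1 : z ≠ 1
  cm : z ∈ ⁅Cz z, Cz z⁆
  cov : ∀ a, a * a = 1 → ∃ c, c * a * c⁻¹ ∈ W
  trZ : ∀ a ∈ Z, a ≠ 1 → ∃ n ∈ N[W], n * z * n⁻¹ = a
  trW : ∀ a ∈ W, a ∉ Z → ∀ b ∈ W, b ∉ Z → ∃ n ∈ N[W], n * a * n⁻¹ = b
  mv : ∀ e ∈ W, e ∉ Z → ∀ a ∈ Z, ∃ r, (∀ b ∈ Z, r * b = b * r) ∧ (∀ w ∈ W, r * w * r⁻¹ * w ∈ Z) ∧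
    r * e * r⁻¹ = e * a
  fix : ∀ α : MulAut Γ, (∀ a ∈ Z, α a = a) → (∀ w ∈ W, α w * w ∈ Z) → ∀ e ∈ W, e ∉ Z → α e = e →
    ∀ w ∈ W, α w = w

/-- the elementary abelian subgroups of order 16 of the automorphism group -/
def E16 (W : Subgroup Γ) : Prop :=
  ∀ P : Subgroup (MulAut Γ), (∀ α ∈ P, α * α = 1) → 16 ≤ Nat.card P →
    ∃ c, ∀ α, α ∈ P ↔ ∃ w ∈ W, α = MulAut.conj (c * w * c⁻¹)

/-- `α` normalises `W` and fixes exactly `Y` -/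
def FX (W Y : Subgroup Γ) (α : MulAut Γ) : Prop := ∀ w ∈ W, α w ∈ W ∧ (α w = w ↔ w ∈ Y)

def Tef (W : Subgroup Γ) : Prop :=
  ∀ (α β : MulAut Γ) (Y : Subgroup Γ), α * α = 1 → β * β = 1 → Y ≤ W → Nat.card Y = 4 →
    FX W Y α → FX W Y β → FX W Y (α * β) → α * β = β * α

/-- a line -/
structure LN (z y σ : Γ) : Prop where
  z1 : z ≠ 1
  zy : z * y = y * z
  s1 : σ * z * σ⁻¹ = y
  s2 : σ * y * σ⁻¹ = z * y
  cen : ∀ α : MulAut Γ, (∀ c, c * z = z * c → c * y = y * c → α c = c) →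
    ∃ c ∈ Z2 z y, α = MulAut.conj c

/-- `A₄ × A₅` -/
structure JF (z y σ τ : Γ) (E Λ : Subgroup Γ) : Prop where
  iso : Nonempty (Λ ≃* alternatingGroup (Fin 5))
  zL : z ∈ Λ
  sL : σ ∈ Λ
  so : orderOf σ = 3
  cE4 : Nat.card E = 4
  EC : E ≤ C[Λ]
  tC : τ ∈ C[Λ]
  ot : orderOf τ = 3
  tN : τ ∈ N[E]
  tE : ∀ a ∈ E, a ≠ 1 → ∀ b ∈ E, b ≠ 1 → ∃ i : ℕ, τ ^ i * a * (τ ^ i)⁻¹ = b
  cze : ∀ e ∈ E, e ≠ 1 → Cz e ≤ E ⊔ Λ
  ce : ∀ α : MulAut Γ, ∀ e ∈ E, e ≠ 1 → α e = e → ∀ x ∈ E, α x ∈ E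
  cE : ∀ α : MulAut Γ, (∀ e ∈ E, α e = e) → ∃ c ∈ E ⊔ Λ, α = MulAut.conj c
  ceZ : ∀ α : MulAut Γ, ∀ e ∈ E, e ≠ 1 → α e = e → α z = z → α y = y → ∀ x ∈ E, α x = x
  cL : ∀ α : MulAut Γ, (∀ l ∈ Λ, α l = l) → Tw α → ∀ x ∈ E, α x = x

/-- two involutions of the other elementary abelian group of order 16 -/
structure UF (z y e uz uy : Γ) (W : Subgroup Γ) : Prop where
  eW : e ∈ W
  zz : uz * uz = 1
  yy : uy * uy = 1
  com : uz * uy = uy * uz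
  c1 : ∀ a ∈ Z2 z y, uz * a = a * uz
  c2 : ∀ a ∈ Z2 z y, uy * a = a * uy
  w1 : ∀ w ∈ W, uz * w * uz * w ∈ Z2 z y
  w2 : ∀ w ∈ W, uy * w * uy * w ∈ Z2 z y
  e1 : uz * e * uz = e * z
  e2 : uy * e * uy = e * y

/-- equality modulo `z` -/
def Md (z u v : Γ) : Prop := u = v ∨ u = v * z

/-- `x` permutes the points `y₁, …, y₄` as a four-group does -/
def Mv (z y y1 y2 y3 y4 x : Γ) : Prop :=
  x * z = z * x ∧ x * y = y * x ∧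
    (Md z (x * y1 * x⁻¹) y1 ∧ Md z (x * y2 * x⁻¹) y2 ∨ Md z (x * y1 * x⁻¹) y2 ∧ Md z (x * y2 * x⁻¹) y1 ∨
      Md z (x * y1 * x⁻¹) y3 ∧ Md z (x * y2 * x⁻¹) y4 ∨ Md z (x * y1 * x⁻¹) y4 ∧ Md z (x * y2 * x⁻¹) y3)

/-- the extraspecial group `2^{1+4}_-` with its five points -/
structure QF (z y y1 y2 y3 y4 e e' σ : Γ) : Prop where
  z1 : z ≠ 1
  r1 : IsConj z y1
  c0 : z * y = y * z
  c1 : z * y1 = y1 * z
  br : List.Pairwise (fun u v => u * v = v * u * z) [y, y1, y2, y3, y4]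
  prod : y * y1 * y2 * y3 * y4 ∈ zpowers z
  cQ : ∀ α : MulAut Γ, (∀ v ∈ [y, y1, y2, y3, y4], α v = v) → ∃ c ∈ zpowers z, α = MulAut.conj c
  ee : e * e = 1
  ez : e * z = z * e
  ey : e * y = y * e
  ee' : e * e' = e' * e
  d2 : y2 = e * y1 * e
  d3 : y3 = e' * y1 * e'
  d4 : y4 = e' * y2 * e'
  s1 : σ * z * σ⁻¹ = y
  s2 : σ * y * σ⁻¹ = z * y
  s3 : σ * e * σ⁻¹ = e'
  s4 : σ * e' * σ⁻¹ = e * e'
  s5 : σ ^ 3 = 1
  m1 : Mv z y y1 y2 y3 y4 (σ * (y1 * y2) * σ⁻¹)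
  m2 : Mv z y y1 y2 y3 y4 (σ⁻¹ * (y1 * y2) * σ)
  qq : y1 * y2 * (σ * (y1 * y2) * σ⁻¹) * (σ⁻¹ * (y1 * y2) * σ) ∈ Z2 z y
  eqv : ∀ α : MulAut Γ, α z = z → α y = y → ∀ a ∈ Z2 z y, α e = e * a →
    α e' = e' * (σ * a * σ⁻¹) → a = 1

/-- roots at distance at most 2 -/
def L2 (z s x : Γ) : Prop := IsConj z x ∧ (s * x = x * s ∨ orderOf (s * x) = 4)

def St (z : Γ) (P : Γ → Prop) (x : Γ) : Prop :=
  ∃ r r', P r ∧ P r' ∧ L2 z r r' ∧ x = r' * r * r'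

/-- the geometry of the roots -/
structure Geo (z : Γ) : Prop where
  lines : ∀ s s', IsConj z s → IsConj z s' → z * s = s * z → z * s' = s' * z → s ≠ z → s' ≠ z →
    ∃ a ∈ Cz z, a * s * a⁻¹ = s'
  tr2 : ∀ s s', IsConj z s → IsConj z s' → orderOf (z * s) = 4 → orderOf (z * s') = 4 →
    ∃ a ∈ Cz z, a * s * a⁻¹ = s'
  geo : ∀ x, IsConj z x → L2 z z x ∨ St z (L2 z z) x ∨ St z (St z (L2 z z)) x

/-- all facts of the non-split case -/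
structure JA (z y σ τ : Γ) (E Λ : Subgroup Γ) : Prop where
  base : Base Γ
  wf : WF z (Z2 z y) (E ⊔ Z2 z y)
  ln : LN z y σ
  jf : JF z y σ τ E Λ

end Facts

section Group
variable {Γ : Type} [Group Γ] {G : Type u} [Group G]

/-- the non-split line -/
def NE (φ : Γ →* G) (t : G) (f : Γ → G) (z y : Γ) : Prop := f z * f y * f (z * y) = φ y * t

structure DS (φ : Γ →* G) (t : G) (O : Subgroup G) (f : Γ → G) (z y σ : Γ) (D : Subgroup G) :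
    Prop where
  d4 : D4 t (φ σ) ((Z2 z y).map φ) D
  mem : f z * t ∈ D
  cC : ∀ c, c * z = z * c → c * y = y * c → φ c ∈ C[D]
  OD : O ≤ C[D]
  om : ∀ d ∈ D, d * d = 1 → d ∈ (Z2 z y).map φ
  sq : ∀ a ∈ (Z2 z y).map φ, ∃ d ∈ D, d * d = a

/-- the fusion of `t` -/
structure FT (φ : Γ →* G) (t : G) (E : Subgroup Γ) : Prop where
  nc : ∀ a, ¬ IsConj t (φ a)
  te : ∀ e ∈ E, e ≠ 1 → ¬ IsConj t (t * φ e)

/-- the group of order 64 -/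
structure PJ (t σ τ : G) (E Z D P : Subgroup G) : Prop where
  iv : IV t σ Z P
  sp : Sp Z P
  l34 : L34 P
  DP : D ≤ P
  cE : P ≤ C[E]
  ct : ∀ p ∈ P, p * τ = τ * p

/-- the component of `C(E)` -/
structure YS (t τ : G) (E Z D P M : Subgroup G) : Prop where
  qs : IsQuasisimple M
  iso : ∃ (F : Type) (_ : Field F) (_ : Fintype F), Fintype.card F = 4 ∧
    Nonempty ((M ⧸ center M) ≃* Matrix.ProjectiveSpecialLinearGroup (Fin 3) F)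
  oZ : Odd (Nat.card (center M))
  nE : N[E] ≤ N[M]
  EM : E ≤ C[M]
  tau : τ ∈ C[M]
  two : ∀ x ∈ C[E], x ∈ C[M] → Tw x → x ∈ E
  syl : IsSylowIn 2 (P ⊔ E ⊔ zpowers t) C[E]
  PM : (P ⊔ E ⊔ zpowers t) ⊓ M = P
  tD : ∀ d ∈ D, ∃ p ∈ P, p * t * p⁻¹ = d * t
  tS : ∀ s ∈ P ⊔ E ⊔ zpowers t, IsConj t s → ∃ d ∈ D, s = d * t
  inv : ∀ x ∈ C[E], x * x = 1 →
    ∃ c ∈ C[E], c * x * c⁻¹ ∈ E ⊔ Z ∨ ∃ e ∈ E, c * x * c⁻¹ = t * e

end Group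

/-! ### The pieces -/

def RedJStmt : Prop :=
  ∀ (Γ : Type) [Group Γ] (G : Type u) [Group G] [Finite G] (φ : Γ →* G), Base Γ →
    Function.Injective φ → IsStandardSubgroup φ.range → ∀ (z b u : Γ) (Λ E : Subgroup Γ), RJ z b u Λ E →
    ∀ g ∉ N[φ.range], ¬ 4 ∣ Nat.card (JJ φ g)

def FusStmt : Prop :=
  ∀ (Γ : Type) [Group Γ] (G : Type u) [Group G] [Finite G] (φ : Γ →* G) (t : G) (O : Subgroup G)
    (W : Subgroup Γ), Base Γ → El W → Nat.card W = 16 → E16 W → Cx φ t O →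
    ∀ s ∈ W.map φ ⊔ zpowers t, IsConj t s → ∃ n ∈ N[W.map φ ⊔ zpowers t], n * t * n⁻¹ = s

def NCStmt : Prop :=
  ∀ (Γ : Type) [Group Γ] (G : Type u) [Group G] [Finite G] (φ : Γ →* G) (t : G) (O : Subgroup G)
    (z : Γ) (Z W : Subgroup Γ), Base Γ → WF z Z W → Cx φ t O →
    (∀ s ∈ W.map φ ⊔ zpowers t, IsConj t s → ∃ n ∈ N[W.map φ ⊔ zpowers t], n * t * n⁻¹ = s) →
    (∃ a, a * a = 1 ∧ a ≠ 1 ∧ (IsConj t (t * φ a) ∨ IsConj t (φ a))) →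
    (∀ a, ¬ IsConj t (φ a)) ∧ IsConj t (t * φ z)

def LineJStmt : Prop :=
  ∀ (Γ : Type) [Group Γ] (G : Type u) [Group G] [Finite G] (φ : Γ →* G) (t : G) (O : Subgroup G)
    (f : Γ → G) (z y σ : Γ), Base Γ → LN z y σ → Cx φ t O → Lf φ t z f → LO O z f →
    f z * f y = f (z * y) ∨ NE φ t f z y ∧ ∃ D, DS φ t O f z y σ D

def A1Stmt : Prop :=
  ∀ (Γ : Type) [Group Γ] (G : Type u) [Group G] [Finite G] (φ : Γ →* G) (t : G) (O : Subgroup G)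
    (f : Γ → G) (z y y1 y2 y3 y4 e e' σ : Γ), Base Γ → QF z y y1 y2 y3 y4 e e' σ → Cx φ t O →
    Lf φ t z f → LO O z f → Ex z f →
    List.Pairwise (fun u v => (f u * f v) ^ 2 = f z ∨ (f u * f v) ^ 2 = f z * φ z)
      [y, y1, y2, y3, y4] ∧ f y * f y1 * f y2 * f y3 * f y4 ∈ closure {f z, φ z}

def A2Stmt : Prop :=
  ∀ (Γ : Type) [Group Γ] (G : Type u) [Group G] [Finite G] (φ : Γ →* G) (t : G) (O : Subgroup G)
    (f : Γ → G) (z y y1 y2 y3 y4 e e' σ : Γ), Base Γ → QF z y y1 y2 y3 y4 e e' σ → Cx φ t O →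
    Lf φ t z f → Ex z f →
    List.Pairwise (fun u v => (f u * f v) ^ 2 = f z ∨ (f u * f v) ^ 2 = f z * φ z)
      [y, y1, y2, y3, y4] → f y * f y1 * f y2 * f y3 * f y4 ∈ closure {f z, φ z} →
    Good t f y1 y2

def TEStmt : Prop :=
  ∀ (Γ : Type) [Group Γ] (G : Type u) [Group G] [Finite G] (φ : Γ →* G) (t : G) (O : Subgroup G)
    (f : Γ → G) (z y e uz uy : Γ) (W : Subgroup Γ), Base Γ → WF z (Z2 z y) W → Tef W →
    UF z y e uz uy W → y ≠ 1 → y ≠ z → Cx φ t O → Lf φ t z f → NE φ t f z y →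
    (∀ s ∈ W.map φ ⊔ zpowers t, IsConj t s → ∃ n ∈ N[W.map φ ⊔ zpowers t], n * t * n⁻¹ = s) →
    (∀ a, ¬ IsConj t (φ a)) → ∀ w ∈ W, w ∉ Z2 z y → ¬ IsConj t (t * φ w)

def HPStmt : Prop :=
  ∀ (Γ : Type) [Group Γ] (G : Type u) [Group G] [Finite G] (φ : Γ →* G) (t : G) (O D : Subgroup G)
    (f : Γ → G) (z y σ τ : Γ) (E Λ : Subgroup Γ) (y' x' : Cz z), JA z y σ τ E Λ → HF z y' x' →
    (y' : Γ) = y → (x' : Γ) = τ → Cx φ t O → Lf φ t z f → DS φ t O f z y σ D →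
    ∃ P, PJ t (φ σ) (φ τ) (E.map φ) ((Z2 z y).map φ) D P

def YMStmt : Prop :=
  ∀ (Γ : Type) [Group Γ] (G : Type u) [Group G] [Finite G] (φ : Γ →* G) (t : G)
    (O D P : Subgroup G) (f : Γ → G) (z y σ τ : Γ) (E Λ : Subgroup Γ), JA z y σ τ E Λ →
    Cx φ t O → FT φ t E → DS φ t O f z y σ D →
    PJ t (φ σ) (φ τ) (E.map φ) ((Z2 z y).map φ) D P →
    YS t (φ τ) (E.map φ) ((Z2 z y).map φ) D P (P ⊔ Λ.map φ)

def WCStmt : Prop :=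
  ∀ (Γ : Type) [Group Γ] (G : Type u) [Group G] [Finite G] (φ : Γ →* G) (t : G)
    (O D P M : Subgroup G) (f : Γ → G) (z y σ τ : Γ) (E Λ : Subgroup Γ), JA z y σ τ E Λ →
    Cx φ t O → FT φ t E → DS φ t O f z y σ D →
    PJ t (φ σ) (φ τ) (E.map φ) ((Z2 z y).map φ) D P →
    YS t (φ τ) (E.map φ) ((Z2 z y).map φ) D P M →
    ∀ e ∈ E.map φ, e ≠ 1 → ∀ c, c * e = e * c → MulAut.conj c • E.map φ ≤ N[E.map φ] →
      c ∈ N[E.map φ]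

def ZSStmt : Prop :=
  ∀ (Γ : Type) [Group Γ] (G : Type u) [Group G] [Finite G] (φ : Γ →* G) (t : G)
    (O D P M : Subgroup G) (f : Γ → G) (z y σ τ : Γ) (E Λ : Subgroup Γ), JA z y σ τ E Λ →
    Cx φ t O → DS φ t O f z y σ D → PJ t (φ σ) (φ τ) (E.map φ) ((Z2 z y).map φ) D P →
    YS t (φ τ) (E.map φ) ((Z2 z y).map φ) D P M →
    ∀ e ∈ E.map φ, e ≠ 1 →
      (∀ c, c * e = e * c → MulAut.conj c • E.map φ ≤ N[E.map φ] → c ∈ N[E.map φ]) →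
      ∀ c, c * e = e * c → c ∈ N[M]

def SYStmt : Prop :=
  ∀ (Γ : Type) [Group Γ] (G : Type u) [Group G] [Finite G] (φ : Γ →* G) (t : G)
    (O D P M : Subgroup G) (z y σ τ : Γ) (E Λ : Subgroup Γ), JA z y σ τ E Λ →
    Cx φ t O → FT φ t E → YS t (φ τ) (E.map φ) ((Z2 z y).map φ) D P M → Λ.map φ ≤ M →
    IsSylowIn 2 (E.map φ) C[M]

def STDStmt : Prop :=
  ∀ (G : Type u) [Group G] [Finite G] (M E : Subgroup G), IsQuasisimple M → 8 ∣ Nat.card M →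
    IsSylowIn 2 E C[M] → Nat.card E = 4 →
    (∀ a ∈ E, a ≠ 1 → ∀ b ∈ E, b ≠ 1 → ∃ k ∈ C[M], k * a * k⁻¹ = b) →
    (∀ e ∈ E, e ≠ 1 → ∀ c, c * e = e * c → c ∈ N[M]) → IsStandardSubgroup M

def FINStmt : Prop :=
  ∀ (G : Type u) [Group G] [Finite G] (F M E : Subgroup G), AS F → IsStandardSubgroup M →
    (∃ (K : Type) (_ : Field K) (_ : Fintype K), Fintype.card K = 4 ∧
      Nonempty ((M ⧸ center M) ≃* Matrix.ProjectiveSpecialLinearGroup (Fin 3) K)) →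
    Odd (Nat.card (center M)) → E ≤ C[M] → Nat.card E = 4 → (∀ e ∈ E, e * e = 1) →
    (∃ x ∈ M ⊓ F, x * x = 1 ∧ x ≠ 1) → Spor.IsoSuz F

set_option linter.unusedTactic false in
theorem eqns_J2Defs : True := by
  first | (have := @Cfsg.Agent.H46.S94.Z2.eq_def.{0,0,0}) | (have := @Cfsg.Agent.H46.S94.Z2.eq_def.{0,0}) | (have := @Cfsg.Agent.H46.S94.Z2.eq_def.{0}) | (have := @Cfsg.Agent.H46.S94.Z2.eq_def) | skip
  first | (have := @Cfsg.Agent.H46.S94.Z2.eq_1.{0,0,0}) | (have := @Cfsg.Agent.H46.S94.Z2.eq_1.{0,0}) | (have := @Cfsg.Agent.H46.S94.Z2.eq_1.{0}) | (have := @Cfsg.Agent.H46.S94.Z2.eq_1) | skip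
  first | (have := @Cfsg.Agent.H46.S94.Z2.eq_2.{0,0,0}) | (have := @Cfsg.Agent.H46.S94.Z2.eq_2.{0,0}) | (have := @Cfsg.Agent.H46.S94.Z2.eq_2.{0}) | (have := @Cfsg.Agent.H46.S94.Z2.eq_2) | skip
  first | (have := @Cfsg.Agent.H46.S94.Z2.eq_unfold.{0,0,0}) | (have := @Cfsg.Agent.H46.S94.Z2.eq_unfold.{0,0}) | (have := @Cfsg.Agent.H46.S94.Z2.eq_unfold.{0}) | (have := @Cfsg.Agent.H46.S94.Z2.eq_unfold) | skip
  first | (have := @Cfsg.Agent.H46.S94.Z2.congr_simp.{0,0,0}) | (have := @Cfsg.Agent.H46.S94.Z2.congr_simp.{0,0}) | (have := @Cfsg.Agent.H46.S94.Z2.congr_simp.{0}) | (have := @Cfsg.Agent.H46.S94.Z2.congr_simp) | skip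
  first | (have := @Cfsg.Agent.H46.S94.E16.eq_def.{0,0,0}) | (have := @Cfsg.Agent.H46.S94.E16.eq_def.{0,0}) | (have := @Cfsg.Agent.H46.S94.E16.eq_def.{0}) | (have := @Cfsg.Agent.H46.S94.E16.eq_def) | skip
  first | (have := @Cfsg.Agent.H46.S94.E16.eq_1.{0,0,0}) | (have := @Cfsg.Agent.H46.S94.E16.eq_1.{0,0}) | (have := @Cfsg.Agent.H46.S94.E16.eq_1.{0}) | (have := @Cfsg.Agent.H46.S94.E16.eq_1) | skip
  first | (have := @Cfsg.Agent.H46.S94.E16.eq_2.{0,0,0}) | (have := @Cfsg.Agent.H46.S94.E16.eq_2.{0,0}) | (have := @Cfsg.Agent.H46.S94.E16.eq_2.{0}) | (have := @Cfsg.Agent.H46.S94.E16.eq_2) | skip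
  first | (have := @Cfsg.Agent.H46.S94.E16.eq_unfold.{0,0,0}) | (have := @Cfsg.Agent.H46.S94.E16.eq_unfold.{0,0}) | (have := @Cfsg.Agent.H46.S94.E16.eq_unfold.{0}) | (have := @Cfsg.Agent.H46.S94.E16.eq_unfold) | skip
  first | (have := @Cfsg.Agent.H46.S94.E16.congr_simp.{0,0,0}) | (have := @Cfsg.Agent.H46.S94.E16.congr_simp.{0,0}) | (have := @Cfsg.Agent.H46.S94.E16.congr_simp.{0}) | (have := @Cfsg.Agent.H46.S94.E16.congr_simp) | skip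
  first | (have := @Cfsg.Agent.H46.S94.FX.eq_def.{0,0,0}) | (have := @Cfsg.Agent.H46.S94.FX.eq_def.{0,0}) | (have := @Cfsg.Agent.H46.S94.FX.eq_def.{0}) | (have := @Cfsg.Agent.H46.S94.FX.eq_def) | skip
  first | (have := @Cfsg.Agent.H46.S94.FX.eq_1.{0,0,0}) | (have := @Cfsg.Agent.H46.S94.FX.eq_1.{0,0}) | (have := @Cfsg.Agent.H46.S94.FX.eq_1.{0}) | (have := @Cfsg.Agent.H46.S94.FX.eq_1) | skip
  first | (have := @Cfsg.Agent.H46.S94.FX.eq_2.{0,0,0}) | (have := @Cfsg.Agent.H46.S94.FX.eq_2.{0,0}) | (have := @Cfsg.Agent.H46.S94.FX.eq_2.{0}) | (have := @Cfsg.Agent.H46.S94.FX.eq_2) | skip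
  first | (have := @Cfsg.Agent.H46.S94.FX.eq_unfold.{0,0,0}) | (have := @Cfsg.Agent.H46.S94.FX.eq_unfold.{0,0}) | (have := @Cfsg.Agent.H46.S94.FX.eq_unfold.{0}) | (have := @Cfsg.Agent.H46.S94.FX.eq_unfold) | skip
  first | (have := @Cfsg.Agent.H46.S94.FX.congr_simp.{0,0,0}) | (have := @Cfsg.Agent.H46.S94.FX.congr_simp.{0,0}) | (have := @Cfsg.Agent.H46.S94.FX.congr_simp.{0}) | (have := @Cfsg.Agent.H46.S94.FX.congr_simp) | skip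
  first | (have := @Cfsg.Agent.H46.S94.Tef.eq_def.{0,0,0}) | (have := @Cfsg.Agent.H46.S94.Tef.eq_def.{0,0}) | (have := @Cfsg.Agent.H46.S94.Tef.eq_def.{0}) | (have := @Cfsg.Agent.H46.S94.Tef.eq_def) | skip
  first | (have := @Cfsg.Agent.H46.S94.Tef.eq_1.{0,0,0}) | (have := @Cfsg.Agent.H46.S94.Tef.eq_1.{0,0}) | (have := @Cfsg.Agent.H46.S94.Tef.eq_1.{0}) | (have := @Cfsg.Agent.H46.S94.Tef.eq_1) | skip
  first | (have := @Cfsg.Agent.H46.S94.Tef.eq_2.{0,0,0}) | (have := @Cfsg.Agent.H46.S94.Tef.eq_2.{0,0}) | (have := @Cfsg.Agent.H46.S94.Tef.eq_2.{0}) | (have := @Cfsg.Agent.H46.S94.Tef.eq_2) | skip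
  first | (have := @Cfsg.Agent.H46.S94.Tef.eq_unfold.{0,0,0}) | (have := @Cfsg.Agent.H46.S94.Tef.eq_unfold.{0,0}) | (have := @Cfsg.Agent.H46.S94.Tef.eq_unfold.{0}) | (have := @Cfsg.Agent.H46.S94.Tef.eq_unfold) | skip
  first | (have := @Cfsg.Agent.H46.S94.Tef.congr_simp.{0,0,0}) | (have := @Cfsg.Agent.H46.S94.Tef.congr_simp.{0,0}) | (have := @Cfsg.Agent.H46.S94.Tef.congr_simp.{0}) | (have := @Cfsg.Agent.H46.S94.Tef.congr_simp) | skip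
  first | (have := @Cfsg.Agent.H46.S94.Md.eq_def.{0,0,0}) | (have := @Cfsg.Agent.H46.S94.Md.eq_def.{0,0}) | (have := @Cfsg.Agent.H46.S94.Md.eq_def.{0}) | (have := @Cfsg.Agent.H46.S94.Md.eq_def) | skip
  first | (have := @Cfsg.Agent.H46.S94.Md.eq_1.{0,0,0}) | (have := @Cfsg.Agent.H46.S94.Md.eq_1.{0,0}) | (have := @Cfsg.Agent.H46.S94.Md.eq_1.{0}) | (have := @Cfsg.Agent.H46.S94.Md.eq_1) | skip
  first | (have := @Cfsg.Agent.H46.S94.Md.eq_2.{0,0,0}) | (have := @Cfsg.Agent.H46.S94.Md.eq_2.{0,0}) | (have := @Cfsg.Agent.H46.S94.Md.eq_2.{0}) | (have := @Cfsg.Agent.H46.S94.Md.eq_2) | skip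
  first | (have := @Cfsg.Agent.H46.S94.Md.eq_unfold.{0,0,0}) | (have := @Cfsg.Agent.H46.S94.Md.eq_unfold.{0,0}) | (have := @Cfsg.Agent.H46.S94.Md.eq_unfold.{0}) | (have := @Cfsg.Agent.H46.S94.Md.eq_unfold) | skip
  first | (have := @Cfsg.Agent.H46.S94.Md.congr_simp.{0,0,0}) | (have := @Cfsg.Agent.H46.S94.Md.congr_simp.{0,0}) | (have := @Cfsg.Agent.H46.S94.Md.congr_simp.{0}) | (have := @Cfsg.Agent.H46.S94.Md.congr_simp) | skip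
  first | (have := @Cfsg.Agent.H46.S94.Mv.eq_def.{0,0,0}) | (have := @Cfsg.Agent.H46.S94.Mv.eq_def.{0,0}) | (have := @Cfsg.Agent.H46.S94.Mv.eq_def.{0}) | (have := @Cfsg.Agent.H46.S94.Mv.eq_def) | skip
  first | (have := @Cfsg.Agent.H46.S94.Mv.eq_1.{0,0,0}) | (have := @Cfsg.Agent.H46.S94.Mv.eq_1.{0,0}) | (have := @Cfsg.Agent.H46.S94.Mv.eq_1.{0}) | (have := @Cfsg.Agent.H46.S94.Mv.eq_1) | skip
  first | (have := @Cfsg.Agent.H46.S94.Mv.eq_2.{0,0,0}) | (have := @Cfsg.Agent.H46.S94.Mv.eq_2.{0,0}) | (have := @Cfsg.Agent.H46.S94.Mv.eq_2.{0}) | (have := @Cfsg.Agent.H46.S94.Mv.eq_2) | skip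
  first | (have := @Cfsg.Agent.H46.S94.Mv.eq_unfold.{0,0,0}) | (have := @Cfsg.Agent.H46.S94.Mv.eq_unfold.{0,0}) | (have := @Cfsg.Agent.H46.S94.Mv.eq_unfold.{0}) | (have := @Cfsg.Agent.H46.S94.Mv.eq_unfold) | skip
  first | (have := @Cfsg.Agent.H46.S94.Mv.congr_simp.{0,0,0}) | (have := @Cfsg.Agent.H46.S94.Mv.congr_simp.{0,0}) | (have := @Cfsg.Agent.H46.S94.Mv.congr_simp.{0}) | (have := @Cfsg.Agent.H46.S94.Mv.congr_simp) | skip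
  first | (have := @Cfsg.Agent.H46.S94.L2.eq_def.{0,0,0}) | (have := @Cfsg.Agent.H46.S94.L2.eq_def.{0,0}) | (have := @Cfsg.Agent.H46.S94.L2.eq_def.{0}) | (have := @Cfsg.Agent.H46.S94.L2.eq_def) | skip
  first | (have := @Cfsg.Agent.H46.S94.L2.eq_1.{0,0,0}) | (have := @Cfsg.Agent.H46.S94.L2.eq_1.{0,0}) | (have := @Cfsg.Agent.H46.S94.L2.eq_1.{0}) | (have := @Cfsg.Agent.H46.S94.L2.eq_1) | skip
  first | (have := @Cfsg.Agent.H46.S94.L2.eq_2.{0,0,0}) | (have := @Cfsg.Agent.H46.S94.L2.eq_2.{0,0}) | (have := @Cfsg.Agent.H46.S94.L2.eq_2.{0}) | (have := @Cfsg.Agent.H46.S94.L2.eq_2) | skip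
  first | (have := @Cfsg.Agent.H46.S94.L2.eq_unfold.{0,0,0}) | (have := @Cfsg.Agent.H46.S94.L2.eq_unfold.{0,0}) | (have := @Cfsg.Agent.H46.S94.L2.eq_unfold.{0}) | (have := @Cfsg.Agent.H46.S94.L2.eq_unfold) | skip
  first | (have := @Cfsg.Agent.H46.S94.L2.congr_simp.{0,0,0}) | (have := @Cfsg.Agent.H46.S94.L2.congr_simp.{0,0}) | (have := @Cfsg.Agent.H46.S94.L2.congr_simp.{0}) | (have := @Cfsg.Agent.H46.S94.L2.congr_simp) | skip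
  first | (have := @Cfsg.Agent.H46.S94.St.eq_def.{0,0,0}) | (have := @Cfsg.Agent.H46.S94.St.eq_def.{0,0}) | (have := @Cfsg.Agent.H46.S94.St.eq_def.{0}) | (have := @Cfsg.Agent.H46.S94.St.eq_def) | skip
  first | (have := @Cfsg.Agent.H46.S94.St.eq_1.{0,0,0}) | (have := @Cfsg.Agent.H46.S94.St.eq_1.{0,0}) | (have := @Cfsg.Agent.H46.S94.St.eq_1.{0}) | (have := @Cfsg.Agent.H46.S94.St.eq_1) | skip
  first | (have := @Cfsg.Agent.H46.S94.St.eq_2.{0,0,0}) | (have := @Cfsg.Agent.H46.S94.St.eq_2.{0,0}) | (have := @Cfsg.Agent.H46.S94.St.eq_2.{0}) | (have := @Cfsg.Agent.H46.S94.St.eq_2) | skip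
  first | (have := @Cfsg.Agent.H46.S94.St.eq_unfold.{0,0,0}) | (have := @Cfsg.Agent.H46.S94.St.eq_unfold.{0,0}) | (have := @Cfsg.Agent.H46.S94.St.eq_unfold.{0}) | (have := @Cfsg.Agent.H46.S94.St.eq_unfold) | skip
  first | (have := @Cfsg.Agent.H46.S94.St.congr_simp.{0,0,0}) | (have := @Cfsg.Agent.H46.S94.St.congr_simp.{0,0}) | (have := @Cfsg.Agent.H46.S94.St.congr_simp.{0}) | (have := @Cfsg.Agent.H46.S94.St.congr_simp) | skip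
  first | (have := @Cfsg.Agent.H46.S94.NE.eq_def.{0,0,0}) | (have := @Cfsg.Agent.H46.S94.NE.eq_def.{0,0}) | (have := @Cfsg.Agent.H46.S94.NE.eq_def.{0}) | (have := @Cfsg.Agent.H46.S94.NE.eq_def) | skip
  first | (have := @Cfsg.Agent.H46.S94.NE.eq_1.{0,0,0}) | (have := @Cfsg.Agent.H46.S94.NE.eq_1.{0,0}) | (have := @Cfsg.Agent.H46.S94.NE.eq_1.{0}) | (have := @Cfsg.Agent.H46.S94.NE.eq_1) | skip
  first | (have := @Cfsg.Agent.H46.S94.NE.eq_2.{0,0,0}) | (have := @Cfsg.Agent.H46.S94.NE.eq_2.{0,0}) | (have := @Cfsg.Agent.H46.S94.NE.eq_2.{0}) | (have := @Cfsg.Agent.H46.S94.NE.eq_2) | skip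
  first | (have := @Cfsg.Agent.H46.S94.NE.eq_unfold.{0,0,0}) | (have := @Cfsg.Agent.H46.S94.NE.eq_unfold.{0,0}) | (have := @Cfsg.Agent.H46.S94.NE.eq_unfold.{0}) | (have := @Cfsg.Agent.H46.S94.NE.eq_unfold) | skip
  first | (have := @Cfsg.Agent.H46.S94.NE.congr_simp.{0,0,0}) | (have := @Cfsg.Agent.H46.S94.NE.congr_simp.{0,0}) | (have := @Cfsg.Agent.H46.S94.NE.congr_simp.{0}) | (have := @Cfsg.Agent.H46.S94.NE.congr_simp) | skip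
  first | (have := @Cfsg.Agent.H46.S94.RedJStmt.eq_def.{0,0,0}) | (have := @Cfsg.Agent.H46.S94.RedJStmt.eq_def.{0,0}) | (have := @Cfsg.Agent.H46.S94.RedJStmt.eq_def.{0}) | (have := @Cfsg.Agent.H46.S94.RedJStmt.eq_def) | skip
  first | (have := @Cfsg.Agent.H46.S94.RedJStmt.eq_1.{0,0,0}) | (have := @Cfsg.Agent.H46.S94.RedJStmt.eq_1.{0,0}) | (have := @Cfsg.Agent.H46.S94.RedJStmt.eq_1.{0}) | (have := @Cfsg.Agent.H46.S94.RedJStmt.eq_1) | skip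
  first | (have := @Cfsg.Agent.H46.S94.RedJStmt.eq_2.{0,0,0}) | (have := @Cfsg.Agent.H46.S94.RedJStmt.eq_2.{0,0}) | (have := @Cfsg.Agent.H46.S94.RedJStmt.eq_2.{0}) | (have := @Cfsg.Agent.H46.S94.RedJStmt.eq_2) | skip
  first | (have := @Cfsg.Agent.H46.S94.RedJStmt.eq_unfold.{0,0,0}) | (have := @Cfsg.Agent.H46.S94.RedJStmt.eq_unfold.{0,0}) | (have := @Cfsg.Agent.H46.S94.RedJStmt.eq_unfold.{0}) | (have := @Cfsg.Agent.H46.S94.RedJStmt.eq_unfold) | skip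
  first | (have := @Cfsg.Agent.H46.S94.RedJStmt.congr_simp.{0,0,0}) | (have := @Cfsg.Agent.H46.S94.RedJStmt.congr_simp.{0,0}) | (have := @Cfsg.Agent.H46.S94.RedJStmt.congr_simp.{0}) | (have := @Cfsg.Agent.H46.S94.RedJStmt.congr_simp) | skip
  first | (have := @Cfsg.Agent.H46.S94.FusStmt.eq_def.{0,0,0}) | (have := @Cfsg.Agent.H46.S94.FusStmt.eq_def.{0,0}) | (have := @Cfsg.Agent.H46.S94.FusStmt.eq_def.{0}) | (have := @Cfsg.Agent.H46.S94.FusStmt.eq_def) | skip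
  first | (have := @Cfsg.Agent.H46.S94.FusStmt.eq_1.{0,0,0}) | (have := @Cfsg.Agent.H46.S94.FusStmt.eq_1.{0,0}) | (have := @Cfsg.Agent.H46.S94.FusStmt.eq_1.{0}) | (have := @Cfsg.Agent.H46.S94.FusStmt.eq_1) | skip
  first | (have := @Cfsg.Agent.H46.S94.FusStmt.eq_2.{0,0,0}) | (have := @Cfsg.Agent.H46.S94.FusStmt.eq_2.{0,0}) | (have := @Cfsg.Agent.H46.S94.FusStmt.eq_2.{0}) | (have := @Cfsg.Agent.H46.S94.FusStmt.eq_2) | skip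
  first | (have := @Cfsg.Agent.H46.S94.FusStmt.eq_unfold.{0,0,0}) | (have := @Cfsg.Agent.H46.S94.FusStmt.eq_unfold.{0,0}) | (have := @Cfsg.Agent.H46.S94.FusStmt.eq_unfold.{0}) | (have := @Cfsg.Agent.H46.S94.FusStmt.eq_unfold) | skip
  first | (have := @Cfsg.Agent.H46.S94.FusStmt.congr_simp.{0,0,0}) | (have := @Cfsg.Agent.H46.S94.FusStmt.congr_simp.{0,0}) | (have := @Cfsg.Agent.H46.S94.FusStmt.congr_simp.{0}) | (have := @Cfsg.Agent.H46.S94.FusStmt.congr_simp) | skip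
  first | (have := @Cfsg.Agent.H46.S94.NCStmt.eq_def.{0,0,0}) | (have := @Cfsg.Agent.H46.S94.NCStmt.eq_def.{0,0}) | (have := @Cfsg.Agent.H46.S94.NCStmt.eq_def.{0}) | (have := @Cfsg.Agent.H46.S94.NCStmt.eq_def) | skip
  first | (have := @Cfsg.Agent.H46.S94.NCStmt.eq_1.{0,0,0}) | (have := @Cfsg.Agent.H46.S94.NCStmt.eq_1.{0,0}) | (have := @Cfsg.Agent.H46.S94.NCStmt.eq_1.{0}) | (have := @Cfsg.Agent.H46.S94.NCStmt.eq_1) | skip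
  first | (have := @Cfsg.Agent.H46.S94.NCStmt.eq_2.{0,0,0}) | (have := @Cfsg.Agent.H46.S94.NCStmt.eq_2.{0,0}) | (have := @Cfsg.Agent.H46.S94.NCStmt.eq_2.{0}) | (have := @Cfsg.Agent.H46.S94.NCStmt.eq_2) | skip
  first | (have := @Cfsg.Agent.H46.S94.NCStmt.eq_unfold.{0,0,0}) | (have := @Cfsg.Agent.H46.S94.NCStmt.eq_unfold.{0,0}) | (have := @Cfsg.Agent.H46.S94.NCStmt.eq_unfold.{0}) | (have := @Cfsg.Agent.H46.S94.NCStmt.eq_unfold) | skip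
  first | (have := @Cfsg.Agent.H46.S94.NCStmt.congr_simp.{0,0,0}) | (have := @Cfsg.Agent.H46.S94.NCStmt.congr_simp.{0,0}) | (have := @Cfsg.Agent.H46.S94.NCStmt.congr_simp.{0}) | (have := @Cfsg.Agent.H46.S94.NCStmt.congr_simp) | skip
  first | (have := @Cfsg.Agent.H46.S94.LineJStmt.eq_def.{0,0,0}) | (have := @Cfsg.Agent.H46.S94.LineJStmt.eq_def.{0,0}) | (have := @Cfsg.Agent.H46.S94.LineJStmt.eq_def.{0}) | (have := @Cfsg.Agent.H46.S94.LineJStmt.eq_def) | skip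
  first | (have := @Cfsg.Agent.H46.S94.LineJStmt.eq_1.{0,0,0}) | (have := @Cfsg.Agent.H46.S94.LineJStmt.eq_1.{0,0}) | (have := @Cfsg.Agent.H46.S94.LineJStmt.eq_1.{0}) | (have := @Cfsg.Agent.H46.S94.LineJStmt.eq_1) | skip
  first | (have := @Cfsg.Agent.H46.S94.LineJStmt.eq_2.{0,0,0}) | (have := @Cfsg.Agent.H46.S94.LineJStmt.eq_2.{0,0}) | (have := @Cfsg.Agent.H46.S94.LineJStmt.eq_2.{0}) | (have := @Cfsg.Agent.H46.S94.LineJStmt.eq_2) | skip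
  first | (have := @Cfsg.Agent.H46.S94.LineJStmt.eq_unfold.{0,0,0}) | (have := @Cfsg.Agent.H46.S94.LineJStmt.eq_unfold.{0,0}) | (have := @Cfsg.Agent.H46.S94.LineJStmt.eq_unfold.{0}) | (have := @Cfsg.Agent.H46.S94.LineJStmt.eq_unfold) | skip
  first | (have := @Cfsg.Agent.H46.S94.LineJStmt.congr_simp.{0,0,0}) | (have := @Cfsg.Agent.H46.S94.LineJStmt.congr_simp.{0,0}) | (have := @Cfsg.Agent.H46.S94.LineJStmt.congr_simp.{0}) | (have := @Cfsg.Agent.H46.S94.LineJStmt.congr_simp) | skip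
  first | (have := @Cfsg.Agent.H46.S94.A1Stmt.eq_def.{0,0,0}) | (have := @Cfsg.Agent.H46.S94.A1Stmt.eq_def.{0,0}) | (have := @Cfsg.Agent.H46.S94.A1Stmt.eq_def.{0}) | (have := @Cfsg.Agent.H46.S94.A1Stmt.eq_def) | skip
  first | (have := @Cfsg.Agent.H46.S94.A1Stmt.eq_1.{0,0,0}) | (have := @Cfsg.Agent.H46.S94.A1Stmt.eq_1.{0,0}) | (have := @Cfsg.Agent.H46.S94.A1Stmt.eq_1.{0}) | (have := @Cfsg.Agent.H46.S94.A1Stmt.eq_1) | skip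
  first | (have := @Cfsg.Agent.H46.S94.A1Stmt.eq_2.{0,0,0}) | (have := @Cfsg.Agent.H46.S94.A1Stmt.eq_2.{0,0}) | (have := @Cfsg.Agent.H46.S94.A1Stmt.eq_2.{0}) | (have := @Cfsg.Agent.H46.S94.A1Stmt.eq_2) | skip
  first | (have := @Cfsg.Agent.H46.S94.A1Stmt.eq_unfold.{0,0,0}) | (have := @Cfsg.Agent.H46.S94.A1Stmt.eq_unfold.{0,0}) | (have := @Cfsg.Agent.H46.S94.A1Stmt.eq_unfold.{0}) | (have := @Cfsg.Agent.H46.S94.A1Stmt.eq_unfold) | skip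
  first | (have := @Cfsg.Agent.H46.S94.A1Stmt.congr_simp.{0,0,0}) | (have := @Cfsg.Agent.H46.S94.A1Stmt.congr_simp.{0,0}) | (have := @Cfsg.Agent.H46.S94.A1Stmt.congr_simp.{0}) | (have := @Cfsg.Agent.H46.S94.A1Stmt.congr_simp) | skip
  first | (have := @Cfsg.Agent.H46.S94.A2Stmt.eq_def.{0,0,0}) | (have := @Cfsg.Agent.H46.S94.A2Stmt.eq_def.{0,0}) | (have := @Cfsg.Agent.H46.S94.A2Stmt.eq_def.{0}) | (have := @Cfsg.Agent.H46.S94.A2Stmt.eq_def) | skip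
  first | (have := @Cfsg.Agent.H46.S94.A2Stmt.eq_1.{0,0,0}) | (have := @Cfsg.Agent.H46.S94.A2Stmt.eq_1.{0,0}) | (have := @Cfsg.Agent.H46.S94.A2Stmt.eq_1.{0}) | (have := @Cfsg.Agent.H46.S94.A2Stmt.eq_1) | skip
  first | (have := @Cfsg.Agent.H46.S94.A2Stmt.eq_2.{0,0,0}) | (have := @Cfsg.Agent.H46.S94.A2Stmt.eq_2.{0,0}) | (have := @Cfsg.Agent.H46.S94.A2Stmt.eq_2.{0}) | (have := @Cfsg.Agent.H46.S94.A2Stmt.eq_2) | skip
  first | (have := @Cfsg.Agent.H46.S94.A2Stmt.eq_unfold.{0,0,0}) | (have := @Cfsg.Agent.H46.S94.A2Stmt.eq_unfold.{0,0}) | (have := @Cfsg.Agent.H46.S94.A2Stmt.eq_unfold.{0}) | (have := @Cfsg.Agent.H46.S94.A2Stmt.eq_unfold) | skip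
  first | (have := @Cfsg.Agent.H46.S94.A2Stmt.congr_simp.{0,0,0}) | (have := @Cfsg.Agent.H46.S94.A2Stmt.congr_simp.{0,0}) | (have := @Cfsg.Agent.H46.S94.A2Stmt.congr_simp.{0}) | (have := @Cfsg.Agent.H46.S94.A2Stmt.congr_simp) | skip
  first | (have := @Cfsg.Agent.H46.S94.TEStmt.eq_def.{0,0,0}) | (have := @Cfsg.Agent.H46.S94.TEStmt.eq_def.{0,0}) | (have := @Cfsg.Agent.H46.S94.TEStmt.eq_def.{0}) | (have := @Cfsg.Agent.H46.S94.TEStmt.eq_def) | skip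
  first | (have := @Cfsg.Agent.H46.S94.TEStmt.eq_1.{0,0,0}) | (have := @Cfsg.Agent.H46.S94.TEStmt.eq_1.{0,0}) | (have := @Cfsg.Agent.H46.S94.TEStmt.eq_1.{0}) | (have := @Cfsg.Agent.H46.S94.TEStmt.eq_1) | skip
  first | (have := @Cfsg.Agent.H46.S94.TEStmt.eq_2.{0,0,0}) | (have := @Cfsg.Agent.H46.S94.TEStmt.eq_2.{0,0}) | (have := @Cfsg.Agent.H46.S94.TEStmt.eq_2.{0}) | (have := @Cfsg.Agent.H46.S94.TEStmt.eq_2) | skip
  first | (have := @Cfsg.Agent.H46.S94.TEStmt.eq_unfold.{0,0,0}) | (have := @Cfsg.Agent.H46.S94.TEStmt.eq_unfold.{0,0}) | (have := @Cfsg.Agent.H46.S94.TEStmt.eq_unfold.{0}) | (have := @Cfsg.Agent.H46.S94.TEStmt.eq_unfold) | skip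
  first | (have := @Cfsg.Agent.H46.S94.TEStmt.congr_simp.{0,0,0}) | (have := @Cfsg.Agent.H46.S94.TEStmt.congr_simp.{0,0}) | (have := @Cfsg.Agent.H46.S94.TEStmt.congr_simp.{0}) | (have := @Cfsg.Agent.H46.S94.TEStmt.congr_simp) | skip
  first | (have := @Cfsg.Agent.H46.S94.HPStmt.eq_def.{0,0,0}) | (have := @Cfsg.Agent.H46.S94.HPStmt.eq_def.{0,0}) | (have := @Cfsg.Agent.H46.S94.HPStmt.eq_def.{0}) | (have := @Cfsg.Agent.H46.S94.HPStmt.eq_def) | skip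
  first | (have := @Cfsg.Agent.H46.S94.HPStmt.eq_1.{0,0,0}) | (have := @Cfsg.Agent.H46.S94.HPStmt.eq_1.{0,0}) | (have := @Cfsg.Agent.H46.S94.HPStmt.eq_1.{0}) | (have := @Cfsg.Agent.H46.S94.HPStmt.eq_1) | skip
  first | (have := @Cfsg.Agent.H46.S94.HPStmt.eq_2.{0,0,0}) | (have := @Cfsg.Agent.H46.S94.HPStmt.eq_2.{0,0}) | (have := @Cfsg.Agent.H46.S94.HPStmt.eq_2.{0}) | (have := @Cfsg.Agent.H46.S94.HPStmt.eq_2) | skip
  first | (have := @Cfsg.Agent.H46.S94.HPStmt.eq_unfold.{0,0,0}) | (have := @Cfsg.Agent.H46.S94.HPStmt.eq_unfold.{0,0}) | (have := @Cfsg.Agent.H46.S94.HPStmt.eq_unfold.{0}) | (have := @Cfsg.Agent.H46.S94.HPStmt.eq_unfold) | skip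
  first | (have := @Cfsg.Agent.H46.S94.HPStmt.congr_simp.{0,0,0}) | (have := @Cfsg.Agent.H46.S94.HPStmt.congr_simp.{0,0}) | (have := @Cfsg.Agent.H46.S94.HPStmt.congr_simp.{0}) | (have := @Cfsg.Agent.H46.S94.HPStmt.congr_simp) | skip
  first | (have := @Cfsg.Agent.H46.S94.YMStmt.eq_def.{0,0,0}) | (have := @Cfsg.Agent.H46.S94.YMStmt.eq_def.{0,0}) | (have := @Cfsg.Agent.H46.S94.YMStmt.eq_def.{0}) | (have := @Cfsg.Agent.H46.S94.YMStmt.eq_def) | skip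
  first | (have := @Cfsg.Agent.H46.S94.YMStmt.eq_1.{0,0,0}) | (have := @Cfsg.Agent.H46.S94.YMStmt.eq_1.{0,0}) | (have := @Cfsg.Agent.H46.S94.YMStmt.eq_1.{0}) | (have := @Cfsg.Agent.H46.S94.YMStmt.eq_1) | skip
  first | (have := @Cfsg.Agent.H46.S94.YMStmt.eq_2.{0,0,0}) | (have := @Cfsg.Agent.H46.S94.YMStmt.eq_2.{0,0}) | (have := @Cfsg.Agent.H46.S94.YMStmt.eq_2.{0}) | (have := @Cfsg.Agent.H46.S94.YMStmt.eq_2) | skip
  first | (have := @Cfsg.Agent.H46.S94.YMStmt.eq_unfold.{0,0,0}) | (have := @Cfsg.Agent.H46.S94.YMStmt.eq_unfold.{0,0}) | (have := @Cfsg.Agent.H46.S94.YMStmt.eq_unfold.{0}) | (have := @Cfsg.Agent.H46.S94.YMStmt.eq_unfold) | skip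
  first | (have := @Cfsg.Agent.H46.S94.YMStmt.congr_simp.{0,0,0}) | (have := @Cfsg.Agent.H46.S94.YMStmt.congr_simp.{0,0}) | (have := @Cfsg.Agent.H46.S94.YMStmt.congr_simp.{0}) | (have := @Cfsg.Agent.H46.S94.YMStmt.congr_simp) | skip
  first | (have := @Cfsg.Agent.H46.S94.WCStmt.eq_def.{0,0,0}) | (have := @Cfsg.Agent.H46.S94.WCStmt.eq_def.{0,0}) | (have := @Cfsg.Agent.H46.S94.WCStmt.eq_def.{0}) | (have := @Cfsg.Agent.H46.S94.WCStmt.eq_def) | skip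
  first | (have := @Cfsg.Agent.H46.S94.WCStmt.eq_1.{0,0,0}) | (have := @Cfsg.Agent.H46.S94.WCStmt.eq_1.{0,0}) | (have := @Cfsg.Agent.H46.S94.WCStmt.eq_1.{0}) | (have := @Cfsg.Agent.H46.S94.WCStmt.eq_1) | skip
  first | (have := @Cfsg.Agent.H46.S94.WCStmt.eq_2.{0,0,0}) | (have := @Cfsg.Agent.H46.S94.WCStmt.eq_2.{0,0}) | (have := @Cfsg.Agent.H46.S94.WCStmt.eq_2.{0}) | (have := @Cfsg.Agent.H46.S94.WCStmt.eq_2) | skip
  first | (have := @Cfsg.Agent.H46.S94.WCStmt.eq_unfold.{0,0,0}) | (have := @Cfsg.Agent.H46.S94.WCStmt.eq_unfold.{0,0}) | (have := @Cfsg.Agent.H46.S94.WCStmt.eq_unfold.{0}) | (have := @Cfsg.Agent.H46.S94.WCStmt.eq_unfold) | skip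
  first | (have := @Cfsg.Agent.H46.S94.WCStmt.congr_simp.{0,0,0}) | (have := @Cfsg.Agent.H46.S94.WCStmt.congr_simp.{0,0}) | (have := @Cfsg.Agent.H46.S94.WCStmt.congr_simp.{0}) | (have := @Cfsg.Agent.H46.S94.WCStmt.congr_simp) | skip
  first | (have := @Cfsg.Agent.H46.S94.ZSStmt.eq_def.{0,0,0}) | (have := @Cfsg.Agent.H46.S94.ZSStmt.eq_def.{0,0}) | (have := @Cfsg.Agent.H46.S94.ZSStmt.eq_def.{0}) | (have := @Cfsg.Agent.H46.S94.ZSStmt.eq_def) | skip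
  first | (have := @Cfsg.Agent.H46.S94.ZSStmt.eq_1.{0,0,0}) | (have := @Cfsg.Agent.H46.S94.ZSStmt.eq_1.{0,0}) | (have := @Cfsg.Agent.H46.S94.ZSStmt.eq_1.{0}) | (have := @Cfsg.Agent.H46.S94.ZSStmt.eq_1) | skip
  first | (have := @Cfsg.Agent.H46.S94.ZSStmt.eq_2.{0,0,0}) | (have := @Cfsg.Agent.H46.S94.ZSStmt.eq_2.{0,0}) | (have := @Cfsg.Agent.H46.S94.ZSStmt.eq_2.{0}) | (have := @Cfsg.Agent.H46.S94.ZSStmt.eq_2) | skip
  first | (have := @Cfsg.Agent.H46.S94.ZSStmt.eq_unfold.{0,0,0}) | (have := @Cfsg.Agent.H46.S94.ZSStmt.eq_unfold.{0,0}) | (have := @Cfsg.Agent.H46.S94.ZSStmt.eq_unfold.{0}) | (have := @Cfsg.Agent.H46.S94.ZSStmt.eq_unfold) | skip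
  first | (have := @Cfsg.Agent.H46.S94.ZSStmt.congr_simp.{0,0,0}) | (have := @Cfsg.Agent.H46.S94.ZSStmt.congr_simp.{0,0}) | (have := @Cfsg.Agent.H46.S94.ZSStmt.congr_simp.{0}) | (have := @Cfsg.Agent.H46.S94.ZSStmt.congr_simp) | skip
  first | (have := @Cfsg.Agent.H46.S94.SYStmt.eq_def.{0,0,0}) | (have := @Cfsg.Agent.H46.S94.SYStmt.eq_def.{0,0}) | (have := @Cfsg.Agent.H46.S94.SYStmt.eq_def.{0}) | (have := @Cfsg.Agent.H46.S94.SYStmt.eq_def) | skip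
  first | (have := @Cfsg.Agent.H46.S94.SYStmt.eq_1.{0,0,0}) | (have := @Cfsg.Agent.H46.S94.SYStmt.eq_1.{0,0}) | (have := @Cfsg.Agent.H46.S94.SYStmt.eq_1.{0}) | (have := @Cfsg.Agent.H46.S94.SYStmt.eq_1) | skip
  first | (have := @Cfsg.Agent.H46.S94.SYStmt.eq_2.{0,0,0}) | (have := @Cfsg.Agent.H46.S94.SYStmt.eq_2.{0,0}) | (have := @Cfsg.Agent.H46.S94.SYStmt.eq_2.{0}) | (have := @Cfsg.Agent.H46.S94.SYStmt.eq_2) | skip
  first | (have := @Cfsg.Agent.H46.S94.SYStmt.eq_unfold.{0,0,0}) | (have := @Cfsg.Agent.H46.S94.SYStmt.eq_unfold.{0,0}) | (have := @Cfsg.Agent.H46.S94.SYStmt.eq_unfold.{0}) | (have := @Cfsg.Agent.H46.S94.SYStmt.eq_unfold) | skip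
  first | (have := @Cfsg.Agent.H46.S94.SYStmt.congr_simp.{0,0,0}) | (have := @Cfsg.Agent.H46.S94.SYStmt.congr_simp.{0,0}) | (have := @Cfsg.Agent.H46.S94.SYStmt.congr_simp.{0}) | (have := @Cfsg.Agent.H46.S94.SYStmt.congr_simp) | skip
  first | (have := @Cfsg.Agent.H46.S94.STDStmt.eq_def.{0,0,0}) | (have := @Cfsg.Agent.H46.S94.STDStmt.eq_def.{0,0}) | (have := @Cfsg.Agent.H46.S94.STDStmt.eq_def.{0}) | (have := @Cfsg.Agent.H46.S94.STDStmt.eq_def) | skip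
  first | (have := @Cfsg.Agent.H46.S94.STDStmt.eq_1.{0,0,0}) | (have := @Cfsg.Agent.H46.S94.STDStmt.eq_1.{0,0}) | (have := @Cfsg.Agent.H46.S94.STDStmt.eq_1.{0}) | (have := @Cfsg.Agent.H46.S94.STDStmt.eq_1) | skip
  first | (have := @Cfsg.Agent.H46.S94.STDStmt.eq_2.{0,0,0}) | (have := @Cfsg.Agent.H46.S94.STDStmt.eq_2.{0,0}) | (have := @Cfsg.Agent.H46.S94.STDStmt.eq_2.{0}) | (have := @Cfsg.Agent.H46.S94.STDStmt.eq_2) | skip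
  first | (have := @Cfsg.Agent.H46.S94.STDStmt.eq_unfold.{0,0,0}) | (have := @Cfsg.Agent.H46.S94.STDStmt.eq_unfold.{0,0}) | (have := @Cfsg.Agent.H46.S94.STDStmt.eq_unfold.{0}) | (have := @Cfsg.Agent.H46.S94.STDStmt.eq_unfold) | skip
  first | (have := @Cfsg.Agent.H46.S94.STDStmt.congr_simp.{0,0,0}) | (have := @Cfsg.Agent.H46.S94.STDStmt.congr_simp.{0,0}) | (have := @Cfsg.Agent.H46.S94.STDStmt.congr_simp.{0}) | (have := @Cfsg.Agent.H46.S94.STDStmt.congr_simp) | skip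
  first | (have := @Cfsg.Agent.H46.S94.FINStmt.eq_def.{0,0,0}) | (have := @Cfsg.Agent.H46.S94.FINStmt.eq_def.{0,0}) | (have := @Cfsg.Agent.H46.S94.FINStmt.eq_def.{0}) | (have := @Cfsg.Agent.H46.S94.FINStmt.eq_def) | skip
  first | (have := @Cfsg.Agent.H46.S94.FINStmt.eq_1.{0,0,0}) | (have := @Cfsg.Agent.H46.S94.FINStmt.eq_1.{0,0}) | (have := @Cfsg.Agent.H46.S94.FINStmt.eq_1.{0}) | (have := @Cfsg.Agent.H46.S94.FINStmt.eq_1) | skip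
  first | (have := @Cfsg.Agent.H46.S94.FINStmt.eq_2.{0,0,0}) | (have := @Cfsg.Agent.H46.S94.FINStmt.eq_2.{0,0}) | (have := @Cfsg.Agent.H46.S94.FINStmt.eq_2.{0}) | (have := @Cfsg.Agent.H46.S94.FINStmt.eq_2) | skip
  first | (have := @Cfsg.Agent.H46.S94.FINStmt.eq_unfold.{0,0,0}) | (have := @Cfsg.Agent.H46.S94.FINStmt.eq_unfold.{0,0}) | (have := @Cfsg.Agent.H46.S94.FINStmt.eq_unfold.{0}) | (have := @Cfsg.Agent.H46.S94.FINStmt.eq_unfold) | skip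
  first | (have := @Cfsg.Agent.H46.S94.FINStmt.congr_simp.{0,0,0}) | (have := @Cfsg.Agent.H46.S94.FINStmt.congr_simp.{0,0}) | (have := @Cfsg.Agent.H46.S94.FINStmt.congr_simp.{0}) | (have := @Cfsg.Agent.H46.S94.FINStmt.congr_simp) | skip
  trivial

end Cfsg.Agent.H46.S94
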