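import Mathlib
import Cfsg.Agent.H43.Cent
import Cfsg.Agent.H55.EjA
import Cfsg.Agent.H17.EvJ2
import Cfsg.Agent.H46.J2Defs

set_option autoImplicit false
set_option maxRecDepth 200000
set_option linter.style.longLine false

namespace Cfsg.Agent.H46.J2M

open Cfsg.Agent.H43 Cfsg.Agent.H17

theorem k_hn : NOk 100 := by decide

theorem k_hk : 100 ≤ 2 ^ 7 := by decide

noncomputable def k_g1 : Net := (Net.cons (nat_lit 1) (nat_lit 0x510550004055114101510144) (Net.cons (nat_lit 2) (nat_lit 0x2320132201322012032202300) (Net.cons (nat_lit 4) (nat_lit 0x1020101010d0f010d030504) (Net.cons (nat_lit 8) (nat_lit 0x80036001c00d700cb0009) (Net.cons (nat_lit 16) (nat_lit 0x9c240000a2410000000d) (Net.cons (nat_lit 32) (nat_lit 0x4000000005c323e40) (Net.cons (nat_lit 64) (nat_lit 0xe7f7bff48) (Net.cons (nat_lit 32) (nat_lit 0xb00000000e1a75fd8) (Net.cons (nat_lit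 16) (nat_lit 0xdac80000994d00006c6a) (Net.cons (nat_lit 8) (nat_lit 0x28003600e100b7005e0068) (Net.cons (nat_lit 4) (nat_lit 0x4010a0101010b000e0a0104) (Net.cons (nat_lit 2) (nat_lit 0x2311102211122310232133332) (Net.cons (nat_lit 1) (nat_lit 0x4541005451440441544044411) Net.nil)))))))))))))

theorem k_g1_ok : Net.ok 100 k_g1 = true := by decide +kernel

noncomputable def k_g2 : Net := (Net.cons (nat_lit 1) (nat_lit 0x4505415550100151044441450) (Net.cons (nat_lit 2) (nat_lit 0x3022332301020102302213200) (Net.cons (nat_lit 4) (nat_lit 0xc0a0d010b070705060b0206) (Net.cons (nat_lit 8) (nat_lit 0x3d00ae0040002d00400000) (Net.cons (nat_lit 16) (nat_lit 0xf81200002b0200000008) (Net.cons (nat_lit 32) (nat_lit 0xa0000000088070340) (Net.cons (nat_lit 64) (nat_lit 0x2ba374b49) (Net.cons (nat_lit 32) (nat_lit 0x400000000a11649ee) (Net.cons (nat_lit 16) (nat_lit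 0x5e0d000069290000c909) (Net.cons (nat_lit 8) (nat_lit 0x5600bf004d000600020043) (Net.cons (nat_lit 4) (nat_lit 0x404090f03070107070b0200) (Net.cons (nat_lit 2) (nat_lit 0x1030132313102131003100311) (Net.cons (nat_lit 1) (nat_lit 0x4055141014545144141054541) Net.nil)))))))))))))

theorem k_g2_ok : Net.ok 100 k_g2 = true := by decide +kernel

noncomputable def k_g3 : Net := (Net.cons (nat_lit 1) (nat_lit 0x5540010401045015005004110) (Net.cons (nat_lit 2) (nat_lit 0x3230001010112032032303000) (Net.cons (nat_lit 4) (nat_lit 0x30d0904060702030f01000c) (Net.cons (nat_lit 8) (nat_lit 0x450011002900c100440004) (Net.cons (nat_lit 16) (nat_lit 0x69280000515900000008) (Net.cons (nat_lit 32) (nat_lit 0x50000000016d00920) (Net.cons (nat_lit 64) (nat_lit 0x856d6293d) (Net.cons (nat_lit 32) (nat_lit 0x5000000006a5920d6) (Net.cons (nat_lit 16) (nat_lit 0x60280000139500006e39)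 (Net.cons (nat_lit 8) (nat_lit 0x92005200d2000300d70030) (Net.cons (nat_lit 4) (nat_lit 0x2080f0d0d0b010b0e040a) (Net.cons (nat_lit 2) (nat_lit 0x2011211001232001031032311) (Net.cons (nat_lit 1) (nat_lit 0x4154410114115450440441410) Net.nil)))))))))))))

theorem k_g3_ok : Net.ok 100 k_g3 = true := by decide +kernel

noncomputable def k_g4 : Net := (Net.cons (nat_lit 1) (nat_lit 0x4044011050450011415450450) (Net.cons (nat_lit 2) (nat_lit 0x112332021301001330023000) (Net.cons (nat_lit 4) (nat_lit 0x80c03040f050a0c04060503) (Net.cons (nat_lit 8) (nat_lit 0x8f008b0097008e00470006) (Net.cons (nat_lit 16) (nat_lit 0x88a1000049250000000b) (Net.cons (nat_lit 32) (nat_lit 0x1021ca50) (Net.cons (nat_lit 64) (nat_lit 0xdd8a7fe73) (Net.cons (nat_lit 32) (nat_lit 0x60000000031f9ec86) (Net.cons (nat_lit 16) (nat_lit 0x81a80000908a0000d135) (Net.cons (nat_lit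 8) (nat_lit 0x7600f400ff007f0057006f) (Net.cons (nat_lit 4) (nat_lit 0x1030e020f0a050702060a0c) (Net.cons (nat_lit 2) (nat_lit 0x3112002321031331003320333) (Net.cons (nat_lit 1) (nat_lit 0x1511544505105544140105105) Net.nil)))))))))))))

theorem k_g4_ok : Net.ok 100 k_g4 = true := by decide +kernel

noncomputable def k_g5 : Net := (Net.cons (nat_lit 1) (nat_lit 0x1405410001404110104500010) (Net.cons (nat_lit 2) (nat_lit 0x213301233001201230130120) (Net.cons (nat_lit 4) (nat_lit 0xf0e0703020b080302070806) (Net.cons (nat_lit 8) (nat_lit 0x3a00ad00d5006a0040000f) (Net.cons (nat_lit 16) (nat_lit 0x8520000840f00000004) (Net.cons (nat_lit 32) (nat_lit 0xa00000000e9401690) (Net.cons (nat_lit 64) (nat_lit 0xfefcdff90) (Net.cons (nat_lit 32) (nat_lit 0x5000000008642db80) (Net.cons (nat_lit 16) (nat_lit 0xf52100003acf0000f1fa) (Net.cons (nat_lit 8) (nat_lit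 0x55000e006a009500f000bc) (Net.cons (nat_lit 4) (nat_lit 0xd0c0b020107070b0009050b) (Net.cons (nat_lit 2) (nat_lit 0x123112033022000330330210) (Net.cons (nat_lit 1) (nat_lit 0x4150145554151445451055545) Net.nil)))))))))))))

theorem k_g5_ok : Net.ok 100 k_g5 = true := by decide +kernel

noncomputable def k_g6 : Net := (Net.cons (nat_lit 1) (nat_lit 0x1405550451041005544040000) (Net.cons (nat_lit 2) (nat_lit 0x3120032100012022032010300) (Net.cons (nat_lit 4) (nat_lit 0xd08040c010c0b0c030a00) (Net.cons (nat_lit 8) (nat_lit 0x9007200a100a800120008) (Net.cons (nat_lit 16) (nat_lit 0x98690000413200000007) (Net.cons (nat_lit 32) (nat_lit 0x1000000000006d530) (Net.cons (nat_lit 64) (nat_lit 0xa0d77d57b) (Net.cons (nat_lit 32) (nat_lit 0xd00000000c612d968) (Net.cons (nat_lit 16) (nat_lit 0xbcf9000065e600001417) (Net.cons (nat_lit 8) (nat_lit 0x9007200a900a80012008a)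 (Net.cons (nat_lit 4) (nat_lit 0x908040d050c0f0c030a04) (Net.cons (nat_lit 2) (nat_lit 0x3120132100013022032010300) (Net.cons (nat_lit 1) (nat_lit 0x1405550451041005544040000) Net.nil)))))))))))))

theorem k_g6_ok : Net.ok 100 k_g6 = true := by decide +kernel

noncomputable def k_g7 : Net := (Net.cons (nat_lit 1) (nat_lit 0x4040540011544505415140000) (Net.cons (nat_lit 2) (nat_lit 0x2133001021100030111013200) (Net.cons (nat_lit 4) (nat_lit 0xf05050b070b0a0002010e09) (Net.cons (nat_lit 8) (nat_lit 0xc3005a009a008000520008) (Net.cons (nat_lit 16) (nat_lit 0xdfea0000a94200000004) (Net.cons (nat_lit 32) (nat_lit 0xccc653b0) (Net.cons (nat_lit 64) (nat_lit 0xfccc77fff) (Net.cons (nat_lit 32) (nat_lit 0x400000000924afca8) (Net.cons (nat_lit 16) (nat_lit 0x733c0000ee8200005b6d) (Net.cons (nat_lit 8) (nat_lit 0xfb001c00ed007d00a200b0) (Net.cons (nat_lit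 4) (nat_lit 0xe010f04010e050b080c0a0e) (Net.cons (nat_lit 2) (nat_lit 0x3311112201302003303111132) (Net.cons (nat_lit 1) (nat_lit 0x1401001454155515550051451) Net.nil)))))))))))))

theorem k_g7_ok : Net.ok 100 k_g7 = true := by decide +kernel

theorem z_G : Net.toPerm 100 EvJ2.p_g18 ∈ (grp 100 H47.J2P.h_E0) :=
  (le_refl (grp 100 H47.J2P.h_E0)) (mem_grp_of_memB k_hn k_hk H47.J2P.h_E0_ok EvJ2.p_g18_ok (w := (nat_lit 0xc07030d)) (by decide +kernel))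

theorem y_G : Net.toPerm 100 EvJ2.p_g190 ∈ (grp 100 H47.J2P.h_E0) :=
  (le_refl (grp 100 H47.J2P.h_E0)) (mem_grp_of_memB k_hn k_hk H47.J2P.h_E0_ok EvJ2.p_g190_ok (w := (nat_lit 0x18110b0b020214)) (by decide +kernel))

theorem e_G : Net.toPerm 100 k_g1 ∈ (grp 100 H47.J2P.h_E0) :=
  (le_refl (grp 100 H47.J2P.h_E0)) (mem_grp_of_memB k_hn k_hk H47.J2P.h_E0_ok k_g1_ok (w := (nat_lit 0x160f1107110316)) (by decide +kernel))

theorem tau_G : Net.toPerm 100 k_g2 ∈ (grp 100 H47.J2P.h_E0) :=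
  (le_refl (grp 100 H47.J2P.h_E0)) (mem_grp_of_memB k_hn k_hk H47.J2P.h_E0_ok k_g2_ok (w := (nat_lit 0x150707110108)) (by decide +kernel))

theorem sig_G : Net.toPerm 100 k_g3 ∈ (grp 100 H47.J2P.h_E0) :=
  (le_refl (grp 100 H47.J2P.h_E0)) (mem_grp_of_memB k_hn k_hk H47.J2P.h_E0_ok k_g3_ok (w := (nat_lit 0x15100709030b)) (by decide +kernel))

theorem uz_G : Net.toPerm 100 k_g4 ∈ (grp 100 H47.J2P.h_E0) :=
  (le_refl (grp 100 H47.J2P.h_E0)) (mem_grp_of_memB k_hn k_hk H47.J2P.h_E0_ok k_g4_ok (w := (nat_lit 0x15170f12070b18050f)) (by decide +kernel))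

theorem uy_G : Net.toPerm 100 k_g5 ∈ (grp 100 H47.J2P.h_E0) :=
  (le_refl (grp 100 H47.J2P.h_E0)) (mem_grp_of_memB k_hn k_hk H47.J2P.h_E0_ok k_g5_ok (w := (nat_lit 0x1719170f11070108)) (by decide +kernel))

theorem y1_G : Net.toPerm 100 k_g6 ∈ (grp 100 H47.J2P.h_E0) :=
  (le_refl (grp 100 H47.J2P.h_E0)) (mem_grp_of_memB k_hn k_hk H47.J2P.h_E0_ok k_g6_ok (w := (nat_lit 0x170d010518)) (by decide +kernel))

theorem a5_G : Net.toPerm 100 k_g7 ∈ (grp 100 H47.J2P.h_E0) :=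
  (le_refl (grp 100 H47.J2P.h_E0)) (mem_grp_of_memB k_hn k_hk H47.J2P.h_E0_ok k_g7_ok (w := (nat_lit 0x1a100d160518)) (by decide +kernel))


open Subgroup Cfsg.Agent.H46.S94

/-- the permutation representation of degree 100 -/
noncomputable def ι : Spor.J2 →* Equiv.Perm (Fin 100) :=
  (grp 100 H47.J2P.h_E0).subtype.comp H47.eH0.toMonoidHom

theorem em : H55.Ej.Em (grp 100 H47.J2P.h_E0) (grp 100 EvJ2.EG) ι :=
  H55.Ej.em_of EvJ2.amb H47.eH0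

/-- the element given by a permutation -/
noncomputable def el (p : Equiv.Perm (Fin 100)) (h : p ∈ grp 100 H47.J2P.h_E0) : Spor.J2 :=
  H47.eH0.symm ⟨p, h⟩

theorem ι_el (p : Equiv.Perm (Fin 100)) (h : p ∈ grp 100 H47.J2P.h_E0) : ι (el p h) = p := by
  simp [ι, el]

noncomputable def z : Spor.J2 := el _ z_G

theorem ι_z : ι z = Net.toPerm 100 EvJ2.p_g18 := ι_el _ _

noncomputable def y : Spor.J2 := el _ y_G

theorem ι_y : ι y = Net.toPerm 100 EvJ2.p_g190 := ι_el _ _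

noncomputable def e : Spor.J2 := el _ e_G

theorem ι_e : ι e = Net.toPerm 100 k_g1 := ι_el _ _

noncomputable def τ : Spor.J2 := el _ tau_G

theorem ι_τ : ι τ = Net.toPerm 100 k_g2 := ι_el _ _

noncomputable def σ : Spor.J2 := el _ sig_G

theorem ι_σ : ι σ = Net.toPerm 100 k_g3 := ι_el _ _

noncomputable def uz : Spor.J2 := el _ uz_G

theorem ι_uz : ι uz = Net.toPerm 100 k_g4 := ι_el _ _

noncomputable def uy : Spor.J2 := el _ uy_G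

theorem ι_uy : ι uy = Net.toPerm 100 k_g5 := ι_el _ _

noncomputable def y1 : Spor.J2 := el _ y1_G

theorem ι_y1 : ι y1 = Net.toPerm 100 k_g6 := ι_el _ _

noncomputable def a5 : Spor.J2 := el _ a5_G

theorem ι_a5 : ι a5 = Net.toPerm 100 k_g7 := ι_el _ _

/-- `A₅` -/
noncomputable def Λ : Subgroup Spor.J2 := closure {z, a5}

/-- the four-group centralising `Λ` -/
noncomputable def E : Subgroup Spor.J2 := closure {e, τ * e * τ⁻¹}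

noncomputable abbrev W : Subgroup Spor.J2 := E ⊔ Z2 z y

/-! ### The facts -/

def BaseS : Prop := Base Spor.J2 ∧ OutF Spor.J2

def SylS : Prop := SylF Spor.J2 128

def EFS : Prop := OutM Spor.J2 4 ∧ OiF Spor.J2 4 ∧ OoF Spor.J2

def RJS : Prop := RJ z e uz Λ E

def WFS : Prop := WF z (Z2 z y) W ∧ UF z y e uz uy W

def E16S : Prop := E16 W

def TefS : Prop := Tef W

def JFS : Prop := LN z y σ ∧ JF z y σ τ E Λ

def HFS : Prop := ∃ y' x' : Cz z, (y' : Spor.J2) = y ∧ (x' : Spor.J2) = τ ∧ HF z y' x'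

def QFS : Prop :=
  QF z y y1 (e * y1 * e) (τ * e * τ⁻¹ * y1 * (τ * e * τ⁻¹))
    (τ * e * τ⁻¹ * (e * y1 * e) * (τ * e * τ⁻¹)) e (τ * e * τ⁻¹) (σ * τ)

def GeoS : Prop := Geo z

set_option linter.unusedTactic false in
theorem eqns_J2M : True := by
  first | (have := @Cfsg.Agent.H46.J2M.k_g1.eq_def.{0,0,0}) | (have := @Cfsg.Agent.H46.J2M.k_g1.eq_def.{0,0}) | (have := @Cfsg.Agent.H46.J2M.k_g1.eq_def.{0}) | (have := @Cfsg.Agent.H46.J2M.k_g1.eq_def) | skip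
  first | (have := @Cfsg.Agent.H46.J2M.k_g1.eq_1.{0,0,0}) | (have := @Cfsg.Agent.H46.J2M.k_g1.eq_1.{0,0}) | (have := @Cfsg.Agent.H46.J2M.k_g1.eq_1.{0}) | (have := @Cfsg.Agent.H46.J2M.k_g1.eq_1) | skip
  first | (have := @Cfsg.Agent.H46.J2M.k_g1.eq_2.{0,0,0}) | (have := @Cfsg.Agent.H46.J2M.k_g1.eq_2.{0,0}) | (have := @Cfsg.Agent.H46.J2M.k_g1.eq_2.{0}) | (have := @Cfsg.Agent.H46.J2M.k_g1.eq_2) | skip
  first | (have := @Cfsg.Agent.H46.J2M.k_g1.eq_unfold.{0,0,0}) | (have := @Cfsg.Agent.H46.J2M.k_g1.eq_unfold.{0,0}) | (have := @Cfsg.Agent.H46.J2M.k_g1.eq_unfold.{0}) | (have := @Cfsg.Agent.H46.J2M.k_g1.eq_unfold) | skip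
  first | (have := @Cfsg.Agent.H46.J2M.k_g1.congr_simp.{0,0,0}) | (have := @Cfsg.Agent.H46.J2M.k_g1.congr_simp.{0,0}) | (have := @Cfsg.Agent.H46.J2M.k_g1.congr_simp.{0}) | (have := @Cfsg.Agent.H46.J2M.k_g1.congr_simp) | skip
  first | (have := @Cfsg.Agent.H46.J2M.k_g2.eq_def.{0,0,0}) | (have := @Cfsg.Agent.H46.J2M.k_g2.eq_def.{0,0}) | (have := @Cfsg.Agent.H46.J2M.k_g2.eq_def.{0}) | (have := @Cfsg.Agent.H46.J2M.k_g2.eq_def) | skip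
  first | (have := @Cfsg.Agent.H46.J2M.k_g2.eq_1.{0,0,0}) | (have := @Cfsg.Agent.H46.J2M.k_g2.eq_1.{0,0}) | (have := @Cfsg.Agent.H46.J2M.k_g2.eq_1.{0}) | (have := @Cfsg.Agent.H46.J2M.k_g2.eq_1) | skip
  first | (have := @Cfsg.Agent.H46.J2M.k_g2.eq_2.{0,0,0}) | (have := @Cfsg.Agent.H46.J2M.k_g2.eq_2.{0,0}) | (have := @Cfsg.Agent.H46.J2M.k_g2.eq_2.{0}) | (have := @Cfsg.Agent.H46.J2M.k_g2.eq_2) | skip
  first | (have := @Cfsg.Agent.H46.J2M.k_g2.eq_unfold.{0,0,0}) | (have := @Cfsg.Agent.H46.J2M.k_g2.eq_unfold.{0,0}) | (have := @Cfsg.Agent.H46.J2M.k_g2.eq_unfold.{0}) | (have := @Cfsg.Agent.H46.J2M.k_g2.eq_unfold) | skip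
  first | (have := @Cfsg.Agent.H46.J2M.k_g2.congr_simp.{0,0,0}) | (have := @Cfsg.Agent.H46.J2M.k_g2.congr_simp.{0,0}) | (have := @Cfsg.Agent.H46.J2M.k_g2.congr_simp.{0}) | (have := @Cfsg.Agent.H46.J2M.k_g2.congr_simp) | skip
  first | (have := @Cfsg.Agent.H46.J2M.k_g3.eq_def.{0,0,0}) | (have := @Cfsg.Agent.H46.J2M.k_g3.eq_def.{0,0}) | (have := @Cfsg.Agent.H46.J2M.k_g3.eq_def.{0}) | (have := @Cfsg.Agent.H46.J2M.k_g3.eq_def) | skip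
  first | (have := @Cfsg.Agent.H46.J2M.k_g3.eq_1.{0,0,0}) | (have := @Cfsg.Agent.H46.J2M.k_g3.eq_1.{0,0}) | (have := @Cfsg.Agent.H46.J2M.k_g3.eq_1.{0}) | (have := @Cfsg.Agent.H46.J2M.k_g3.eq_1) | skip
  first | (have := @Cfsg.Agent.H46.J2M.k_g3.eq_2.{0,0,0}) | (have := @Cfsg.Agent.H46.J2M.k_g3.eq_2.{0,0}) | (have := @Cfsg.Agent.H46.J2M.k_g3.eq_2.{0}) | (have := @Cfsg.Agent.H46.J2M.k_g3.eq_2) | skip
  first | (have := @Cfsg.Agent.H46.J2M.k_g3.eq_unfold.{0,0,0}) | (have := @Cfsg.Agent.H46.J2M.k_g3.eq_unfold.{0,0}) | (have := @Cfsg.Agent.H46.J2M.k_g3.eq_unfold.{0}) | (have := @Cfsg.Agent.H46.J2M.k_g3.eq_unfold) | skip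
  first | (have := @Cfsg.Agent.H46.J2M.k_g3.congr_simp.{0,0,0}) | (have := @Cfsg.Agent.H46.J2M.k_g3.congr_simp.{0,0}) | (have := @Cfsg.Agent.H46.J2M.k_g3.congr_simp.{0}) | (have := @Cfsg.Agent.H46.J2M.k_g3.congr_simp) | skip
  first | (have := @Cfsg.Agent.H46.J2M.k_g4.eq_def.{0,0,0}) | (have := @Cfsg.Agent.H46.J2M.k_g4.eq_def.{0,0}) | (have := @Cfsg.Agent.H46.J2M.k_g4.eq_def.{0}) | (have := @Cfsg.Agent.H46.J2M.k_g4.eq_def) | skip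
  first | (have := @Cfsg.Agent.H46.J2M.k_g4.eq_1.{0,0,0}) | (have := @Cfsg.Agent.H46.J2M.k_g4.eq_1.{0,0}) | (have := @Cfsg.Agent.H46.J2M.k_g4.eq_1.{0}) | (have := @Cfsg.Agent.H46.J2M.k_g4.eq_1) | skip
  first | (have := @Cfsg.Agent.H46.J2M.k_g4.eq_2.{0,0,0}) | (have := @Cfsg.Agent.H46.J2M.k_g4.eq_2.{0,0}) | (have := @Cfsg.Agent.H46.J2M.k_g4.eq_2.{0}) | (have := @Cfsg.Agent.H46.J2M.k_g4.eq_2) | skip
  first | (have := @Cfsg.Agent.H46.J2M.k_g4.eq_unfold.{0,0,0}) | (have := @Cfsg.Agent.H46.J2M.k_g4.eq_unfold.{0,0}) | (have := @Cfsg.Agent.H46.J2M.k_g4.eq_unfold.{0}) | (have := @Cfsg.Agent.H46.J2M.k_g4.eq_unfold) | skip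
  first | (have := @Cfsg.Agent.H46.J2M.k_g4.congr_simp.{0,0,0}) | (have := @Cfsg.Agent.H46.J2M.k_g4.congr_simp.{0,0}) | (have := @Cfsg.Agent.H46.J2M.k_g4.congr_simp.{0}) | (have := @Cfsg.Agent.H46.J2M.k_g4.congr_simp) | skip
  first | (have := @Cfsg.Agent.H46.J2M.k_g5.eq_def.{0,0,0}) | (have := @Cfsg.Agent.H46.J2M.k_g5.eq_def.{0,0}) | (have := @Cfsg.Agent.H46.J2M.k_g5.eq_def.{0}) | (have := @Cfsg.Agent.H46.J2M.k_g5.eq_def) | skip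
  first | (have := @Cfsg.Agent.H46.J2M.k_g5.eq_1.{0,0,0}) | (have := @Cfsg.Agent.H46.J2M.k_g5.eq_1.{0,0}) | (have := @Cfsg.Agent.H46.J2M.k_g5.eq_1.{0}) | (have := @Cfsg.Agent.H46.J2M.k_g5.eq_1) | skip
  first | (have := @Cfsg.Agent.H46.J2M.k_g5.eq_2.{0,0,0}) | (have := @Cfsg.Agent.H46.J2M.k_g5.eq_2.{0,0}) | (have := @Cfsg.Agent.H46.J2M.k_g5.eq_2.{0}) | (have := @Cfsg.Agent.H46.J2M.k_g5.eq_2) | skip
  first | (have := @Cfsg.Agent.H46.J2M.k_g5.eq_unfold.{0,0,0}) | (have := @Cfsg.Agent.H46.J2M.k_g5.eq_unfold.{0,0}) | (have := @Cfsg.Agent.H46.J2M.k_g5.eq_unfold.{0}) | (have := @Cfsg.Agent.H46.J2M.k_g5.eq_unfold) | skip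
  first | (have := @Cfsg.Agent.H46.J2M.k_g5.congr_simp.{0,0,0}) | (have := @Cfsg.Agent.H46.J2M.k_g5.congr_simp.{0,0}) | (have := @Cfsg.Agent.H46.J2M.k_g5.congr_simp.{0}) | (have := @Cfsg.Agent.H46.J2M.k_g5.congr_simp) | skip
  first | (have := @Cfsg.Agent.H46.J2M.k_g6.eq_def.{0,0,0}) | (have := @Cfsg.Agent.H46.J2M.k_g6.eq_def.{0,0}) | (have := @Cfsg.Agent.H46.J2M.k_g6.eq_def.{0}) | (have := @Cfsg.Agent.H46.J2M.k_g6.eq_def) | skip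
  first | (have := @Cfsg.Agent.H46.J2M.k_g6.eq_1.{0,0,0}) | (have := @Cfsg.Agent.H46.J2M.k_g6.eq_1.{0,0}) | (have := @Cfsg.Agent.H46.J2M.k_g6.eq_1.{0}) | (have := @Cfsg.Agent.H46.J2M.k_g6.eq_1) | skip
  first | (have := @Cfsg.Agent.H46.J2M.k_g6.eq_2.{0,0,0}) | (have := @Cfsg.Agent.H46.J2M.k_g6.eq_2.{0,0}) | (have := @Cfsg.Agent.H46.J2M.k_g6.eq_2.{0}) | (have := @Cfsg.Agent.H46.J2M.k_g6.eq_2) | skip
  first | (have := @Cfsg.Agent.H46.J2M.k_g6.eq_unfold.{0,0,0}) | (have := @Cfsg.Agent.H46.J2M.k_g6.eq_unfold.{0,0}) | (have := @Cfsg.Agent.H46.J2M.k_g6.eq_unfold.{0}) | (have := @Cfsg.Agent.H46.J2M.k_g6.eq_unfold) | skip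
  first | (have := @Cfsg.Agent.H46.J2M.k_g6.congr_simp.{0,0,0}) | (have := @Cfsg.Agent.H46.J2M.k_g6.congr_simp.{0,0}) | (have := @Cfsg.Agent.H46.J2M.k_g6.congr_simp.{0}) | (have := @Cfsg.Agent.H46.J2M.k_g6.congr_simp) | skip
  first | (have := @Cfsg.Agent.H46.J2M.k_g7.eq_def.{0,0,0}) | (have := @Cfsg.Agent.H46.J2M.k_g7.eq_def.{0,0}) | (have := @Cfsg.Agent.H46.J2M.k_g7.eq_def.{0}) | (have := @Cfsg.Agent.H46.J2M.k_g7.eq_def) | skip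
  first | (have := @Cfsg.Agent.H46.J2M.k_g7.eq_1.{0,0,0}) | (have := @Cfsg.Agent.H46.J2M.k_g7.eq_1.{0,0}) | (have := @Cfsg.Agent.H46.J2M.k_g7.eq_1.{0}) | (have := @Cfsg.Agent.H46.J2M.k_g7.eq_1) | skip
  first | (have := @Cfsg.Agent.H46.J2M.k_g7.eq_2.{0,0,0}) | (have := @Cfsg.Agent.H46.J2M.k_g7.eq_2.{0,0}) | (have := @Cfsg.Agent.H46.J2M.k_g7.eq_2.{0}) | (have := @Cfsg.Agent.H46.J2M.k_g7.eq_2) | skip
  first | (have := @Cfsg.Agent.H46.J2M.k_g7.eq_unfold.{0,0,0}) | (have := @Cfsg.Agent.H46.J2M.k_g7.eq_unfold.{0,0}) | (have := @Cfsg.Agent.H46.J2M.k_g7.eq_unfold.{0}) | (have := @Cfsg.Agent.H46.J2M.k_g7.eq_unfold) | skip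
  first | (have := @Cfsg.Agent.H46.J2M.k_g7.congr_simp.{0,0,0}) | (have := @Cfsg.Agent.H46.J2M.k_g7.congr_simp.{0,0}) | (have := @Cfsg.Agent.H46.J2M.k_g7.congr_simp.{0}) | (have := @Cfsg.Agent.H46.J2M.k_g7.congr_simp) | skip
  first | (have := @Cfsg.Agent.H46.J2M.ι.eq_def.{0,0,0}) | (have := @Cfsg.Agent.H46.J2M.ι.eq_def.{0,0}) | (have := @Cfsg.Agent.H46.J2M.ι.eq_def.{0}) | (have := @Cfsg.Agent.H46.J2M.ι.eq_def) | skip
  first | (have := @Cfsg.Agent.H46.J2M.ι.eq_1.{0,0,0}) | (have := @Cfsg.Agent.H46.J2M.ι.eq_1.{0,0}) | (have := @Cfsg.Agent.H46.J2M.ι.eq_1.{0}) | (have := @Cfsg.Agent.H46.J2M.ι.eq_1) | skip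
  first | (have := @Cfsg.Agent.H46.J2M.ι.eq_2.{0,0,0}) | (have := @Cfsg.Agent.H46.J2M.ι.eq_2.{0,0}) | (have := @Cfsg.Agent.H46.J2M.ι.eq_2.{0}) | (have := @Cfsg.Agent.H46.J2M.ι.eq_2) | skip
  first | (have := @Cfsg.Agent.H46.J2M.ι.eq_unfold.{0,0,0}) | (have := @Cfsg.Agent.H46.J2M.ι.eq_unfold.{0,0}) | (have := @Cfsg.Agent.H46.J2M.ι.eq_unfold.{0}) | (have := @Cfsg.Agent.H46.J2M.ι.eq_unfold) | skip
  first | (have := @Cfsg.Agent.H46.J2M.ι.congr_simp.{0,0,0}) | (have := @Cfsg.Agent.H46.J2M.ι.congr_simp.{0,0}) | (have := @Cfsg.Agent.H46.J2M.ι.congr_simp.{0}) | (have := @Cfsg.Agent.H46.J2M.ι.congr_simp) | skip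
  first | (have := @Cfsg.Agent.H46.J2M.el.eq_def.{0,0,0}) | (have := @Cfsg.Agent.H46.J2M.el.eq_def.{0,0}) | (have := @Cfsg.Agent.H46.J2M.el.eq_def.{0}) | (have := @Cfsg.Agent.H46.J2M.el.eq_def) | skip
  first | (have := @Cfsg.Agent.H46.J2M.el.eq_1.{0,0,0}) | (have := @Cfsg.Agent.H46.J2M.el.eq_1.{0,0}) | (have := @Cfsg.Agent.H46.J2M.el.eq_1.{0}) | (have := @Cfsg.Agent.H46.J2M.el.eq_1) | skip
  first | (have := @Cfsg.Agent.H46.J2M.el.eq_2.{0,0,0}) | (have := @Cfsg.Agent.H46.J2M.el.eq_2.{0,0}) | (have := @Cfsg.Agent.H46.J2M.el.eq_2.{0}) | (have := @Cfsg.Agent.H46.J2M.el.eq_2) | skip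
  first | (have := @Cfsg.Agent.H46.J2M.el.eq_unfold.{0,0,0}) | (have := @Cfsg.Agent.H46.J2M.el.eq_unfold.{0,0}) | (have := @Cfsg.Agent.H46.J2M.el.eq_unfold.{0}) | (have := @Cfsg.Agent.H46.J2M.el.eq_unfold) | skip
  first | (have := @Cfsg.Agent.H46.J2M.el.congr_simp.{0,0,0}) | (have := @Cfsg.Agent.H46.J2M.el.congr_simp.{0,0}) | (have := @Cfsg.Agent.H46.J2M.el.congr_simp.{0}) | (have := @Cfsg.Agent.H46.J2M.el.congr_simp) | skip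
  first | (have := @Cfsg.Agent.H46.J2M.z.eq_def.{0,0,0}) | (have := @Cfsg.Agent.H46.J2M.z.eq_def.{0,0}) | (have := @Cfsg.Agent.H46.J2M.z.eq_def.{0}) | (have := @Cfsg.Agent.H46.J2M.z.eq_def) | skip
  first | (have := @Cfsg.Agent.H46.J2M.z.eq_1.{0,0,0}) | (have := @Cfsg.Agent.H46.J2M.z.eq_1.{0,0}) | (have := @Cfsg.Agent.H46.J2M.z.eq_1.{0}) | (have := @Cfsg.Agent.H46.J2M.z.eq_1) | skip
  first | (have := @Cfsg.Agent.H46.J2M.z.eq_2.{0,0,0}) | (have := @Cfsg.Agent.H46.J2M.z.eq_2.{0,0}) | (have := @Cfsg.Agent.H46.J2M.z.eq_2.{0}) | (have := @Cfsg.Agent.H46.J2M.z.eq_2) | skip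
  first | (have := @Cfsg.Agent.H46.J2M.z.eq_unfold.{0,0,0}) | (have := @Cfsg.Agent.H46.J2M.z.eq_unfold.{0,0}) | (have := @Cfsg.Agent.H46.J2M.z.eq_unfold.{0}) | (have := @Cfsg.Agent.H46.J2M.z.eq_unfold) | skip
  first | (have := @Cfsg.Agent.H46.J2M.z.congr_simp.{0,0,0}) | (have := @Cfsg.Agent.H46.J2M.z.congr_simp.{0,0}) | (have := @Cfsg.Agent.H46.J2M.z.congr_simp.{0}) | (have := @Cfsg.Agent.H46.J2M.z.congr_simp) | skip
  first | (have := @Cfsg.Agent.H46.J2M.y.eq_def.{0,0,0}) | (have := @Cfsg.Agent.H46.J2M.y.eq_def.{0,0}) | (have := @Cfsg.Agent.H46.J2M.y.eq_def.{0}) | (have := @Cfsg.Agent.H46.J2M.y.eq_def) | skip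
  first | (have := @Cfsg.Agent.H46.J2M.y.eq_1.{0,0,0}) | (have := @Cfsg.Agent.H46.J2M.y.eq_1.{0,0}) | (have := @Cfsg.Agent.H46.J2M.y.eq_1.{0}) | (have := @Cfsg.Agent.H46.J2M.y.eq_1) | skip
  first | (have := @Cfsg.Agent.H46.J2M.y.eq_2.{0,0,0}) | (have := @Cfsg.Agent.H46.J2M.y.eq_2.{0,0}) | (have := @Cfsg.Agent.H46.J2M.y.eq_2.{0}) | (have := @Cfsg.Agent.H46.J2M.y.eq_2) | skip
  first | (have := @Cfsg.Agent.H46.J2M.y.eq_unfold.{0,0,0}) | (have := @Cfsg.Agent.H46.J2M.y.eq_unfold.{0,0}) | (have := @Cfsg.Agent.H46.J2M.y.eq_unfold.{0}) | (have := @Cfsg.Agent.H46.J2M.y.eq_unfold) | skip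
  first | (have := @Cfsg.Agent.H46.J2M.y.congr_simp.{0,0,0}) | (have := @Cfsg.Agent.H46.J2M.y.congr_simp.{0,0}) | (have := @Cfsg.Agent.H46.J2M.y.congr_simp.{0}) | (have := @Cfsg.Agent.H46.J2M.y.congr_simp) | skip
  first | (have := @Cfsg.Agent.H46.J2M.e.eq_def.{0,0,0}) | (have := @Cfsg.Agent.H46.J2M.e.eq_def.{0,0}) | (have := @Cfsg.Agent.H46.J2M.e.eq_def.{0}) | (have := @Cfsg.Agent.H46.J2M.e.eq_def) | skip
  first | (have := @Cfsg.Agent.H46.J2M.e.eq_1.{0,0,0}) | (have := @Cfsg.Agent.H46.J2M.e.eq_1.{0,0}) | (have := @Cfsg.Agent.H46.J2M.e.eq_1.{0}) | (have := @Cfsg.Agent.H46.J2M.e.eq_1) | skip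
  first | (have := @Cfsg.Agent.H46.J2M.e.eq_2.{0,0,0}) | (have := @Cfsg.Agent.H46.J2M.e.eq_2.{0,0}) | (have := @Cfsg.Agent.H46.J2M.e.eq_2.{0}) | (have := @Cfsg.Agent.H46.J2M.e.eq_2) | skip
  first | (have := @Cfsg.Agent.H46.J2M.e.eq_unfold.{0,0,0}) | (have := @Cfsg.Agent.H46.J2M.e.eq_unfold.{0,0}) | (have := @Cfsg.Agent.H46.J2M.e.eq_unfold.{0}) | (have := @Cfsg.Agent.H46.J2M.e.eq_unfold) | skip
  first | (have := @Cfsg.Agent.H46.J2M.e.congr_simp.{0,0,0}) | (have := @Cfsg.Agent.H46.J2M.e.congr_simp.{0,0}) | (have := @Cfsg.Agent.H46.J2M.e.congr_simp.{0}) | (have := @Cfsg.Agent.H46.J2M.e.congr_simp) | skip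
  first | (have := @Cfsg.Agent.H46.J2M.τ.eq_def.{0,0,0}) | (have := @Cfsg.Agent.H46.J2M.τ.eq_def.{0,0}) | (have := @Cfsg.Agent.H46.J2M.τ.eq_def.{0}) | (have := @Cfsg.Agent.H46.J2M.τ.eq_def) | skip
  first | (have := @Cfsg.Agent.H46.J2M.τ.eq_1.{0,0,0}) | (have := @Cfsg.Agent.H46.J2M.τ.eq_1.{0,0}) | (have := @Cfsg.Agent.H46.J2M.τ.eq_1.{0}) | (have := @Cfsg.Agent.H46.J2M.τ.eq_1) | skip
  first | (have := @Cfsg.Agent.H46.J2M.τ.eq_2.{0,0,0}) | (have := @Cfsg.Agent.H46.J2M.τ.eq_2.{0,0}) | (have := @Cfsg.Agent.H46.J2M.τ.eq_2.{0}) | (have := @Cfsg.Agent.H46.J2M.τ.eq_2) | skip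
  first | (have := @Cfsg.Agent.H46.J2M.τ.eq_unfold.{0,0,0}) | (have := @Cfsg.Agent.H46.J2M.τ.eq_unfold.{0,0}) | (have := @Cfsg.Agent.H46.J2M.τ.eq_unfold.{0}) | (have := @Cfsg.Agent.H46.J2M.τ.eq_unfold) | skip
  first | (have := @Cfsg.Agent.H46.J2M.τ.congr_simp.{0,0,0}) | (have := @Cfsg.Agent.H46.J2M.τ.congr_simp.{0,0}) | (have := @Cfsg.Agent.H46.J2M.τ.congr_simp.{0}) | (have := @Cfsg.Agent.H46.J2M.τ.congr_simp) | skip
  first | (have := @Cfsg.Agent.H46.J2M.σ.eq_def.{0,0,0}) | (have := @Cfsg.Agent.H46.J2M.σ.eq_def.{0,0}) | (have := @Cfsg.Agent.H46.J2M.σ.eq_def.{0}) | (have := @Cfsg.Agent.H46.J2M.σ.eq_def) | skip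
  first | (have := @Cfsg.Agent.H46.J2M.σ.eq_1.{0,0,0}) | (have := @Cfsg.Agent.H46.J2M.σ.eq_1.{0,0}) | (have := @Cfsg.Agent.H46.J2M.σ.eq_1.{0}) | (have := @Cfsg.Agent.H46.J2M.σ.eq_1) | skip
  first | (have := @Cfsg.Agent.H46.J2M.σ.eq_2.{0,0,0}) | (have := @Cfsg.Agent.H46.J2M.σ.eq_2.{0,0}) | (have := @Cfsg.Agent.H46.J2M.σ.eq_2.{0}) | (have := @Cfsg.Agent.H46.J2M.σ.eq_2) | skip
  first | (have := @Cfsg.Agent.H46.J2M.σ.eq_unfold.{0,0,0}) | (have := @Cfsg.Agent.H46.J2M.σ.eq_unfold.{0,0}) | (have := @Cfsg.Agent.H46.J2M.σ.eq_unfold.{0}) | (have := @Cfsg.Agent.H46.J2M.σ.eq_unfold) | skip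
  first | (have := @Cfsg.Agent.H46.J2M.σ.congr_simp.{0,0,0}) | (have := @Cfsg.Agent.H46.J2M.σ.congr_simp.{0,0}) | (have := @Cfsg.Agent.H46.J2M.σ.congr_simp.{0}) | (have := @Cfsg.Agent.H46.J2M.σ.congr_simp) | skip
  first | (have := @Cfsg.Agent.H46.J2M.uz.eq_def.{0,0,0}) | (have := @Cfsg.Agent.H46.J2M.uz.eq_def.{0,0}) | (have := @Cfsg.Agent.H46.J2M.uz.eq_def.{0}) | (have := @Cfsg.Agent.H46.J2M.uz.eq_def) | skip
  first | (have := @Cfsg.Agent.H46.J2M.uz.eq_1.{0,0,0}) | (have := @Cfsg.Agent.H46.J2M.uz.eq_1.{0,0}) | (have := @Cfsg.Agent.H46.J2M.uz.eq_1.{0}) | (have := @Cfsg.Agent.H46.J2M.uz.eq_1) | skip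
  first | (have := @Cfsg.Agent.H46.J2M.uz.eq_2.{0,0,0}) | (have := @Cfsg.Agent.H46.J2M.uz.eq_2.{0,0}) | (have := @Cfsg.Agent.H46.J2M.uz.eq_2.{0}) | (have := @Cfsg.Agent.H46.J2M.uz.eq_2) | skip
  first | (have := @Cfsg.Agent.H46.J2M.uz.eq_unfold.{0,0,0}) | (have := @Cfsg.Agent.H46.J2M.uz.eq_unfold.{0,0}) | (have := @Cfsg.Agent.H46.J2M.uz.eq_unfold.{0}) | (have := @Cfsg.Agent.H46.J2M.uz.eq_unfold) | skip
  first | (have := @Cfsg.Agent.H46.J2M.uz.congr_simp.{0,0,0}) | (have := @Cfsg.Agent.H46.J2M.uz.congr_simp.{0,0}) | (have := @Cfsg.Agent.H46.J2M.uz.congr_simp.{0}) | (have := @Cfsg.Agent.H46.J2M.uz.congr_simp) | skip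
  first | (have := @Cfsg.Agent.H46.J2M.uy.eq_def.{0,0,0}) | (have := @Cfsg.Agent.H46.J2M.uy.eq_def.{0,0}) | (have := @Cfsg.Agent.H46.J2M.uy.eq_def.{0}) | (have := @Cfsg.Agent.H46.J2M.uy.eq_def) | skip
  first | (have := @Cfsg.Agent.H46.J2M.uy.eq_1.{0,0,0}) | (have := @Cfsg.Agent.H46.J2M.uy.eq_1.{0,0}) | (have := @Cfsg.Agent.H46.J2M.uy.eq_1.{0}) | (have := @Cfsg.Agent.H46.J2M.uy.eq_1) | skip
  first | (have := @Cfsg.Agent.H46.J2M.uy.eq_2.{0,0,0}) | (have := @Cfsg.Agent.H46.J2M.uy.eq_2.{0,0}) | (have := @Cfsg.Agent.H46.J2M.uy.eq_2.{0}) | (have := @Cfsg.Agent.H46.J2M.uy.eq_2) | skip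
  first | (have := @Cfsg.Agent.H46.J2M.uy.eq_unfold.{0,0,0}) | (have := @Cfsg.Agent.H46.J2M.uy.eq_unfold.{0,0}) | (have := @Cfsg.Agent.H46.J2M.uy.eq_unfold.{0}) | (have := @Cfsg.Agent.H46.J2M.uy.eq_unfold) | skip
  first | (have := @Cfsg.Agent.H46.J2M.uy.congr_simp.{0,0,0}) | (have := @Cfsg.Agent.H46.J2M.uy.congr_simp.{0,0}) | (have := @Cfsg.Agent.H46.J2M.uy.congr_simp.{0}) | (have := @Cfsg.Agent.H46.J2M.uy.congr_simp) | skip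
  first | (have := @Cfsg.Agent.H46.J2M.y1.eq_def.{0,0,0}) | (have := @Cfsg.Agent.H46.J2M.y1.eq_def.{0,0}) | (have := @Cfsg.Agent.H46.J2M.y1.eq_def.{0}) | (have := @Cfsg.Agent.H46.J2M.y1.eq_def) | skip
  first | (have := @Cfsg.Agent.H46.J2M.y1.eq_1.{0,0,0}) | (have := @Cfsg.Agent.H46.J2M.y1.eq_1.{0,0}) | (have := @Cfsg.Agent.H46.J2M.y1.eq_1.{0}) | (have := @Cfsg.Agent.H46.J2M.y1.eq_1) | skip
  first | (have := @Cfsg.Agent.H46.J2M.y1.eq_2.{0,0,0}) | (have := @Cfsg.Agent.H46.J2M.y1.eq_2.{0,0}) | (have := @Cfsg.Agent.H46.J2M.y1.eq_2.{0}) | (have := @Cfsg.Agent.H46.J2M.y1.eq_2) | skip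
  first | (have := @Cfsg.Agent.H46.J2M.y1.eq_unfold.{0,0,0}) | (have := @Cfsg.Agent.H46.J2M.y1.eq_unfold.{0,0}) | (have := @Cfsg.Agent.H46.J2M.y1.eq_unfold.{0}) | (have := @Cfsg.Agent.H46.J2M.y1.eq_unfold) | skip
  first | (have := @Cfsg.Agent.H46.J2M.y1.congr_simp.{0,0,0}) | (have := @Cfsg.Agent.H46.J2M.y1.congr_simp.{0,0}) | (have := @Cfsg.Agent.H46.J2M.y1.congr_simp.{0}) | (have := @Cfsg.Agent.H46.J2M.y1.congr_simp) | skip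
  first | (have := @Cfsg.Agent.H46.J2M.a5.eq_def.{0,0,0}) | (have := @Cfsg.Agent.H46.J2M.a5.eq_def.{0,0}) | (have := @Cfsg.Agent.H46.J2M.a5.eq_def.{0}) | (have := @Cfsg.Agent.H46.J2M.a5.eq_def) | skip
  first | (have := @Cfsg.Agent.H46.J2M.a5.eq_1.{0,0,0}) | (have := @Cfsg.Agent.H46.J2M.a5.eq_1.{0,0}) | (have := @Cfsg.Agent.H46.J2M.a5.eq_1.{0}) | (have := @Cfsg.Agent.H46.J2M.a5.eq_1) | skip
  first | (have := @Cfsg.Agent.H46.J2M.a5.eq_2.{0,0,0}) | (have := @Cfsg.Agent.H46.J2M.a5.eq_2.{0,0}) | (have := @Cfsg.Agent.H46.J2M.a5.eq_2.{0}) | (have := @Cfsg.Agent.H46.J2M.a5.eq_2) | skip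
  first | (have := @Cfsg.Agent.H46.J2M.a5.eq_unfold.{0,0,0}) | (have := @Cfsg.Agent.H46.J2M.a5.eq_unfold.{0,0}) | (have := @Cfsg.Agent.H46.J2M.a5.eq_unfold.{0}) | (have := @Cfsg.Agent.H46.J2M.a5.eq_unfold) | skip
  first | (have := @Cfsg.Agent.H46.J2M.a5.congr_simp.{0,0,0}) | (have := @Cfsg.Agent.H46.J2M.a5.congr_simp.{0,0}) | (have := @Cfsg.Agent.H46.J2M.a5.congr_simp.{0}) | (have := @Cfsg.Agent.H46.J2M.a5.congr_simp) | skip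
  first | (have := @Cfsg.Agent.H46.J2M.Λ.eq_def.{0,0,0}) | (have := @Cfsg.Agent.H46.J2M.Λ.eq_def.{0,0}) | (have := @Cfsg.Agent.H46.J2M.Λ.eq_def.{0}) | (have := @Cfsg.Agent.H46.J2M.Λ.eq_def) | skip
  first | (have := @Cfsg.Agent.H46.J2M.Λ.eq_1.{0,0,0}) | (have := @Cfsg.Agent.H46.J2M.Λ.eq_1.{0,0}) | (have := @Cfsg.Agent.H46.J2M.Λ.eq_1.{0}) | (have := @Cfsg.Agent.H46.J2M.Λ.eq_1) | skip
  first | (have := @Cfsg.Agent.H46.J2M.Λ.eq_2.{0,0,0}) | (have := @Cfsg.Agent.H46.J2M.Λ.eq_2.{0,0}) | (have := @Cfsg.Agent.H46.J2M.Λ.eq_2.{0}) | (have := @Cfsg.Agent.H46.J2M.Λ.eq_2) | skip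
  first | (have := @Cfsg.Agent.H46.J2M.Λ.eq_unfold.{0,0,0}) | (have := @Cfsg.Agent.H46.J2M.Λ.eq_unfold.{0,0}) | (have := @Cfsg.Agent.H46.J2M.Λ.eq_unfold.{0}) | (have := @Cfsg.Agent.H46.J2M.Λ.eq_unfold) | skip
  first | (have := @Cfsg.Agent.H46.J2M.Λ.congr_simp.{0,0,0}) | (have := @Cfsg.Agent.H46.J2M.Λ.congr_simp.{0,0}) | (have := @Cfsg.Agent.H46.J2M.Λ.congr_simp.{0}) | (have := @Cfsg.Agent.H46.J2M.Λ.congr_simp) | skip
  first | (have := @Cfsg.Agent.H46.J2M.E.eq_def.{0,0,0}) | (have := @Cfsg.Agent.H46.J2M.E.eq_def.{0,0}) | (have := @Cfsg.Agent.H46.J2M.E.eq_def.{0}) | (have := @Cfsg.Agent.H46.J2M.E.eq_def) | skip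
  first | (have := @Cfsg.Agent.H46.J2M.E.eq_1.{0,0,0}) | (have := @Cfsg.Agent.H46.J2M.E.eq_1.{0,0}) | (have := @Cfsg.Agent.H46.J2M.E.eq_1.{0}) | (have := @Cfsg.Agent.H46.J2M.E.eq_1) | skip
  first | (have := @Cfsg.Agent.H46.J2M.E.eq_2.{0,0,0}) | (have := @Cfsg.Agent.H46.J2M.E.eq_2.{0,0}) | (have := @Cfsg.Agent.H46.J2M.E.eq_2.{0}) | (have := @Cfsg.Agent.H46.J2M.E.eq_2) | skip
  first | (have := @Cfsg.Agent.H46.J2M.E.eq_unfold.{0,0,0}) | (have := @Cfsg.Agent.H46.J2M.E.eq_unfold.{0,0}) | (have := @Cfsg.Agent.H46.J2M.E.eq_unfold.{0}) | (have := @Cfsg.Agent.H46.J2M.E.eq_unfold) | skip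
  first | (have := @Cfsg.Agent.H46.J2M.E.congr_simp.{0,0,0}) | (have := @Cfsg.Agent.H46.J2M.E.congr_simp.{0,0}) | (have := @Cfsg.Agent.H46.J2M.E.congr_simp.{0}) | (have := @Cfsg.Agent.H46.J2M.E.congr_simp) | skip
  first | (have := @Cfsg.Agent.H46.J2M.W.eq_def.{0,0,0}) | (have := @Cfsg.Agent.H46.J2M.W.eq_def.{0,0}) | (have := @Cfsg.Agent.H46.J2M.W.eq_def.{0}) | (have := @Cfsg.Agent.H46.J2M.W.eq_def) | skip
  first | (have := @Cfsg.Agent.H46.J2M.W.eq_1.{0,0,0}) | (have := @Cfsg.Agent.H46.J2M.W.eq_1.{0,0}) | (have := @Cfsg.Agent.H46.J2M.W.eq_1.{0}) | (have := @Cfsg.Agent.H46.J2M.W.eq_1) | skip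
  first | (have := @Cfsg.Agent.H46.J2M.W.eq_2.{0,0,0}) | (have := @Cfsg.Agent.H46.J2M.W.eq_2.{0,0}) | (have := @Cfsg.Agent.H46.J2M.W.eq_2.{0}) | (have := @Cfsg.Agent.H46.J2M.W.eq_2) | skip
  first | (have := @Cfsg.Agent.H46.J2M.W.eq_unfold.{0,0,0}) | (have := @Cfsg.Agent.H46.J2M.W.eq_unfold.{0,0}) | (have := @Cfsg.Agent.H46.J2M.W.eq_unfold.{0}) | (have := @Cfsg.Agent.H46.J2M.W.eq_unfold) | skip
  first | (have := @Cfsg.Agent.H46.J2M.W.congr_simp.{0,0,0}) | (have := @Cfsg.Agent.H46.J2M.W.congr_simp.{0,0}) | (have := @Cfsg.Agent.H46.J2M.W.congr_simp.{0}) | (have := @Cfsg.Agent.H46.J2M.W.congr_simp) | skip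
  first | (have := @Cfsg.Agent.H46.J2M.BaseS.eq_def.{0,0,0}) | (have := @Cfsg.Agent.H46.J2M.BaseS.eq_def.{0,0}) | (have := @Cfsg.Agent.H46.J2M.BaseS.eq_def.{0}) | (have := @Cfsg.Agent.H46.J2M.BaseS.eq_def) | skip
  first | (have := @Cfsg.Agent.H46.J2M.BaseS.eq_1.{0,0,0}) | (have := @Cfsg.Agent.H46.J2M.BaseS.eq_1.{0,0}) | (have := @Cfsg.Agent.H46.J2M.BaseS.eq_1.{0}) | (have := @Cfsg.Agent.H46.J2M.BaseS.eq_1) | skip
  first | (have := @Cfsg.Agent.H46.J2M.BaseS.eq_2.{0,0,0}) | (have := @Cfsg.Agent.H46.J2M.BaseS.eq_2.{0,0}) | (have := @Cfsg.Agent.H46.J2M.BaseS.eq_2.{0}) | (have := @Cfsg.Agent.H46.J2M.BaseS.eq_2) | skip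
  first | (have := @Cfsg.Agent.H46.J2M.BaseS.eq_unfold.{0,0,0}) | (have := @Cfsg.Agent.H46.J2M.BaseS.eq_unfold.{0,0}) | (have := @Cfsg.Agent.H46.J2M.BaseS.eq_unfold.{0}) | (have := @Cfsg.Agent.H46.J2M.BaseS.eq_unfold) | skip
  first | (have := @Cfsg.Agent.H46.J2M.BaseS.congr_simp.{0,0,0}) | (have := @Cfsg.Agent.H46.J2M.BaseS.congr_simp.{0,0}) | (have := @Cfsg.Agent.H46.J2M.BaseS.congr_simp.{0}) | (have := @Cfsg.Agent.H46.J2M.BaseS.congr_simp) | skip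
  first | (have := @Cfsg.Agent.H46.J2M.SylS.eq_def.{0,0,0}) | (have := @Cfsg.Agent.H46.J2M.SylS.eq_def.{0,0}) | (have := @Cfsg.Agent.H46.J2M.SylS.eq_def.{0}) | (have := @Cfsg.Agent.H46.J2M.SylS.eq_def) | skip
  first | (have := @Cfsg.Agent.H46.J2M.SylS.eq_1.{0,0,0}) | (have := @Cfsg.Agent.H46.J2M.SylS.eq_1.{0,0}) | (have := @Cfsg.Agent.H46.J2M.SylS.eq_1.{0}) | (have := @Cfsg.Agent.H46.J2M.SylS.eq_1) | skip
  first | (have := @Cfsg.Agent.H46.J2M.SylS.eq_2.{0,0,0}) | (have := @Cfsg.Agent.H46.J2M.SylS.eq_2.{0,0}) | (have := @Cfsg.Agent.H46.J2M.SylS.eq_2.{0}) | (have := @Cfsg.Agent.H46.J2M.SylS.eq_2) | skip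
  first | (have := @Cfsg.Agent.H46.J2M.SylS.eq_unfold.{0,0,0}) | (have := @Cfsg.Agent.H46.J2M.SylS.eq_unfold.{0,0}) | (have := @Cfsg.Agent.H46.J2M.SylS.eq_unfold.{0}) | (have := @Cfsg.Agent.H46.J2M.SylS.eq_unfold) | skip
  first | (have := @Cfsg.Agent.H46.J2M.SylS.congr_simp.{0,0,0}) | (have := @Cfsg.Agent.H46.J2M.SylS.congr_simp.{0,0}) | (have := @Cfsg.Agent.H46.J2M.SylS.congr_simp.{0}) | (have := @Cfsg.Agent.H46.J2M.SylS.congr_simp) | skip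
  first | (have := @Cfsg.Agent.H46.J2M.EFS.eq_def.{0,0,0}) | (have := @Cfsg.Agent.H46.J2M.EFS.eq_def.{0,0}) | (have := @Cfsg.Agent.H46.J2M.EFS.eq_def.{0}) | (have := @Cfsg.Agent.H46.J2M.EFS.eq_def) | skip
  first | (have := @Cfsg.Agent.H46.J2M.EFS.eq_1.{0,0,0}) | (have := @Cfsg.Agent.H46.J2M.EFS.eq_1.{0,0}) | (have := @Cfsg.Agent.H46.J2M.EFS.eq_1.{0}) | (have := @Cfsg.Agent.H46.J2M.EFS.eq_1) | skip
  first | (have := @Cfsg.Agent.H46.J2M.EFS.eq_2.{0,0,0}) | (have := @Cfsg.Agent.H46.J2M.EFS.eq_2.{0,0}) | (have := @Cfsg.Agent.H46.J2M.EFS.eq_2.{0}) | (have := @Cfsg.Agent.H46.J2M.EFS.eq_2) | skip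
  first | (have := @Cfsg.Agent.H46.J2M.EFS.eq_unfold.{0,0,0}) | (have := @Cfsg.Agent.H46.J2M.EFS.eq_unfold.{0,0}) | (have := @Cfsg.Agent.H46.J2M.EFS.eq_unfold.{0}) | (have := @Cfsg.Agent.H46.J2M.EFS.eq_unfold) | skip
  first | (have := @Cfsg.Agent.H46.J2M.EFS.congr_simp.{0,0,0}) | (have := @Cfsg.Agent.H46.J2M.EFS.congr_simp.{0,0}) | (have := @Cfsg.Agent.H46.J2M.EFS.congr_simp.{0}) | (have := @Cfsg.Agent.H46.J2M.EFS.congr_simp) | skip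
  first | (have := @Cfsg.Agent.H46.J2M.RJS.eq_def.{0,0,0}) | (have := @Cfsg.Agent.H46.J2M.RJS.eq_def.{0,0}) | (have := @Cfsg.Agent.H46.J2M.RJS.eq_def.{0}) | (have := @Cfsg.Agent.H46.J2M.RJS.eq_def) | skip
  first | (have := @Cfsg.Agent.H46.J2M.RJS.eq_1.{0,0,0}) | (have := @Cfsg.Agent.H46.J2M.RJS.eq_1.{0,0}) | (have := @Cfsg.Agent.H46.J2M.RJS.eq_1.{0}) | (have := @Cfsg.Agent.H46.J2M.RJS.eq_1) | skip
  first | (have := @Cfsg.Agent.H46.J2M.RJS.eq_2.{0,0,0}) | (have := @Cfsg.Agent.H46.J2M.RJS.eq_2.{0,0}) | (have := @Cfsg.Agent.H46.J2M.RJS.eq_2.{0}) | (have := @Cfsg.Agent.H46.J2M.RJS.eq_2) | skip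
  first | (have := @Cfsg.Agent.H46.J2M.RJS.eq_unfold.{0,0,0}) | (have := @Cfsg.Agent.H46.J2M.RJS.eq_unfold.{0,0}) | (have := @Cfsg.Agent.H46.J2M.RJS.eq_unfold.{0}) | (have := @Cfsg.Agent.H46.J2M.RJS.eq_unfold) | skip
  first | (have := @Cfsg.Agent.H46.J2M.RJS.congr_simp.{0,0,0}) | (have := @Cfsg.Agent.H46.J2M.RJS.congr_simp.{0,0}) | (have := @Cfsg.Agent.H46.J2M.RJS.congr_simp.{0}) | (have := @Cfsg.Agent.H46.J2M.RJS.congr_simp) | skip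
  first | (have := @Cfsg.Agent.H46.J2M.WFS.eq_def.{0,0,0}) | (have := @Cfsg.Agent.H46.J2M.WFS.eq_def.{0,0}) | (have := @Cfsg.Agent.H46.J2M.WFS.eq_def.{0}) | (have := @Cfsg.Agent.H46.J2M.WFS.eq_def) | skip
  first | (have := @Cfsg.Agent.H46.J2M.WFS.eq_1.{0,0,0}) | (have := @Cfsg.Agent.H46.J2M.WFS.eq_1.{0,0}) | (have := @Cfsg.Agent.H46.J2M.WFS.eq_1.{0}) | (have := @Cfsg.Agent.H46.J2M.WFS.eq_1) | skip
  first | (have := @Cfsg.Agent.H46.J2M.WFS.eq_2.{0,0,0}) | (have := @Cfsg.Agent.H46.J2M.WFS.eq_2.{0,0}) | (have := @Cfsg.Agent.H46.J2M.WFS.eq_2.{0}) | (have := @Cfsg.Agent.H46.J2M.WFS.eq_2) | skip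
  first | (have := @Cfsg.Agent.H46.J2M.WFS.eq_unfold.{0,0,0}) | (have := @Cfsg.Agent.H46.J2M.WFS.eq_unfold.{0,0}) | (have := @Cfsg.Agent.H46.J2M.WFS.eq_unfold.{0}) | (have := @Cfsg.Agent.H46.J2M.WFS.eq_unfold) | skip
  first | (have := @Cfsg.Agent.H46.J2M.WFS.congr_simp.{0,0,0}) | (have := @Cfsg.Agent.H46.J2M.WFS.congr_simp.{0,0}) | (have := @Cfsg.Agent.H46.J2M.WFS.congr_simp.{0}) | (have := @Cfsg.Agent.H46.J2M.WFS.congr_simp) | skip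
  first | (have := @Cfsg.Agent.H46.J2M.E16S.eq_def.{0,0,0}) | (have := @Cfsg.Agent.H46.J2M.E16S.eq_def.{0,0}) | (have := @Cfsg.Agent.H46.J2M.E16S.eq_def.{0}) | (have := @Cfsg.Agent.H46.J2M.E16S.eq_def) | skip
  first | (have := @Cfsg.Agent.H46.J2M.E16S.eq_1.{0,0,0}) | (have := @Cfsg.Agent.H46.J2M.E16S.eq_1.{0,0}) | (have := @Cfsg.Agent.H46.J2M.E16S.eq_1.{0}) | (have := @Cfsg.Agent.H46.J2M.E16S.eq_1) | skip
  first | (have := @Cfsg.Agent.H46.J2M.E16S.eq_2.{0,0,0}) | (have := @Cfsg.Agent.H46.J2M.E16S.eq_2.{0,0}) | (have := @Cfsg.Agent.H46.J2M.E16S.eq_2.{0}) | (have := @Cfsg.Agent.H46.J2M.E16S.eq_2) | skip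
  first | (have := @Cfsg.Agent.H46.J2M.E16S.eq_unfold.{0,0,0}) | (have := @Cfsg.Agent.H46.J2M.E16S.eq_unfold.{0,0}) | (have := @Cfsg.Agent.H46.J2M.E16S.eq_unfold.{0}) | (have := @Cfsg.Agent.H46.J2M.E16S.eq_unfold) | skip
  first | (have := @Cfsg.Agent.H46.J2M.E16S.congr_simp.{0,0,0}) | (have := @Cfsg.Agent.H46.J2M.E16S.congr_simp.{0,0}) | (have := @Cfsg.Agent.H46.J2M.E16S.congr_simp.{0}) | (have := @Cfsg.Agent.H46.J2M.E16S.congr_simp) | skip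
  first | (have := @Cfsg.Agent.H46.J2M.TefS.eq_def.{0,0,0}) | (have := @Cfsg.Agent.H46.J2M.TefS.eq_def.{0,0}) | (have := @Cfsg.Agent.H46.J2M.TefS.eq_def.{0}) | (have := @Cfsg.Agent.H46.J2M.TefS.eq_def) | skip
  first | (have := @Cfsg.Agent.H46.J2M.TefS.eq_1.{0,0,0}) | (have := @Cfsg.Agent.H46.J2M.TefS.eq_1.{0,0}) | (have := @Cfsg.Agent.H46.J2M.TefS.eq_1.{0}) | (have := @Cfsg.Agent.H46.J2M.TefS.eq_1) | skip
  first | (have := @Cfsg.Agent.H46.J2M.TefS.eq_2.{0,0,0}) | (have := @Cfsg.Agent.H46.J2M.TefS.eq_2.{0,0}) | (have := @Cfsg.Agent.H46.J2M.TefS.eq_2.{0}) | (have := @Cfsg.Agent.H46.J2M.TefS.eq_2) | skip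
  first | (have := @Cfsg.Agent.H46.J2M.TefS.eq_unfold.{0,0,0}) | (have := @Cfsg.Agent.H46.J2M.TefS.eq_unfold.{0,0}) | (have := @Cfsg.Agent.H46.J2M.TefS.eq_unfold.{0}) | (have := @Cfsg.Agent.H46.J2M.TefS.eq_unfold) | skip
  first | (have := @Cfsg.Agent.H46.J2M.TefS.congr_simp.{0,0,0}) | (have := @Cfsg.Agent.H46.J2M.TefS.congr_simp.{0,0}) | (have := @Cfsg.Agent.H46.J2M.TefS.congr_simp.{0}) | (have := @Cfsg.Agent.H46.J2M.TefS.congr_simp) | skip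
  first | (have := @Cfsg.Agent.H46.J2M.JFS.eq_def.{0,0,0}) | (have := @Cfsg.Agent.H46.J2M.JFS.eq_def.{0,0}) | (have := @Cfsg.Agent.H46.J2M.JFS.eq_def.{0}) | (have := @Cfsg.Agent.H46.J2M.JFS.eq_def) | skip
  first | (have := @Cfsg.Agent.H46.J2M.JFS.eq_1.{0,0,0}) | (have := @Cfsg.Agent.H46.J2M.JFS.eq_1.{0,0}) | (have := @Cfsg.Agent.H46.J2M.JFS.eq_1.{0}) | (have := @Cfsg.Agent.H46.J2M.JFS.eq_1) | skip
  first | (have := @Cfsg.Agent.H46.J2M.JFS.eq_2.{0,0,0}) | (have := @Cfsg.Agent.H46.J2M.JFS.eq_2.{0,0}) | (have := @Cfsg.Agent.H46.J2M.JFS.eq_2.{0}) | (have := @Cfsg.Agent.H46.J2M.JFS.eq_2) | skip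
  first | (have := @Cfsg.Agent.H46.J2M.JFS.eq_unfold.{0,0,0}) | (have := @Cfsg.Agent.H46.J2M.JFS.eq_unfold.{0,0}) | (have := @Cfsg.Agent.H46.J2M.JFS.eq_unfold.{0}) | (have := @Cfsg.Agent.H46.J2M.JFS.eq_unfold) | skip
  first | (have := @Cfsg.Agent.H46.J2M.JFS.congr_simp.{0,0,0}) | (have := @Cfsg.Agent.H46.J2M.JFS.congr_simp.{0,0}) | (have := @Cfsg.Agent.H46.J2M.JFS.congr_simp.{0}) | (have := @Cfsg.Agent.H46.J2M.JFS.congr_simp) | skip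
  first | (have := @Cfsg.Agent.H46.J2M.HFS.eq_def.{0,0,0}) | (have := @Cfsg.Agent.H46.J2M.HFS.eq_def.{0,0}) | (have := @Cfsg.Agent.H46.J2M.HFS.eq_def.{0}) | (have := @Cfsg.Agent.H46.J2M.HFS.eq_def) | skip
  first | (have := @Cfsg.Agent.H46.J2M.HFS.eq_1.{0,0,0}) | (have := @Cfsg.Agent.H46.J2M.HFS.eq_1.{0,0}) | (have := @Cfsg.Agent.H46.J2M.HFS.eq_1.{0}) | (have := @Cfsg.Agent.H46.J2M.HFS.eq_1) | skip
  first | (have := @Cfsg.Agent.H46.J2M.HFS.eq_2.{0,0,0}) | (have := @Cfsg.Agent.H46.J2M.HFS.eq_2.{0,0}) | (have := @Cfsg.Agent.H46.J2M.HFS.eq_2.{0}) | (have := @Cfsg.Agent.H46.J2M.HFS.eq_2) | skip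
  first | (have := @Cfsg.Agent.H46.J2M.HFS.eq_unfold.{0,0,0}) | (have := @Cfsg.Agent.H46.J2M.HFS.eq_unfold.{0,0}) | (have := @Cfsg.Agent.H46.J2M.HFS.eq_unfold.{0}) | (have := @Cfsg.Agent.H46.J2M.HFS.eq_unfold) | skip
  first | (have := @Cfsg.Agent.H46.J2M.HFS.congr_simp.{0,0,0}) | (have := @Cfsg.Agent.H46.J2M.HFS.congr_simp.{0,0}) | (have := @Cfsg.Agent.H46.J2M.HFS.congr_simp.{0}) | (have := @Cfsg.Agent.H46.J2M.HFS.congr_simp) | skip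
  first | (have := @Cfsg.Agent.H46.J2M.QFS.eq_def.{0,0,0}) | (have := @Cfsg.Agent.H46.J2M.QFS.eq_def.{0,0}) | (have := @Cfsg.Agent.H46.J2M.QFS.eq_def.{0}) | (have := @Cfsg.Agent.H46.J2M.QFS.eq_def) | skip
  first | (have := @Cfsg.Agent.H46.J2M.QFS.eq_1.{0,0,0}) | (have := @Cfsg.Agent.H46.J2M.QFS.eq_1.{0,0}) | (have := @Cfsg.Agent.H46.J2M.QFS.eq_1.{0}) | (have := @Cfsg.Agent.H46.J2M.QFS.eq_1) | skip
  first | (have := @Cfsg.Agent.H46.J2M.QFS.eq_2.{0,0,0}) | (have := @Cfsg.Agent.H46.J2M.QFS.eq_2.{0,0}) | (have := @Cfsg.Agent.H46.J2M.QFS.eq_2.{0}) | (have := @Cfsg.Agent.H46.J2M.QFS.eq_2) | skip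
  first | (have := @Cfsg.Agent.H46.J2M.QFS.eq_unfold.{0,0,0}) | (have := @Cfsg.Agent.H46.J2M.QFS.eq_unfold.{0,0}) | (have := @Cfsg.Agent.H46.J2M.QFS.eq_unfold.{0}) | (have := @Cfsg.Agent.H46.J2M.QFS.eq_unfold) | skip
  first | (have := @Cfsg.Agent.H46.J2M.QFS.congr_simp.{0,0,0}) | (have := @Cfsg.Agent.H46.J2M.QFS.congr_simp.{0,0}) | (have := @Cfsg.Agent.H46.J2M.QFS.congr_simp.{0}) | (have := @Cfsg.Agent.H46.J2M.QFS.congr_simp) | skip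
  first | (have := @Cfsg.Agent.H46.J2M.GeoS.eq_def.{0,0,0}) | (have := @Cfsg.Agent.H46.J2M.GeoS.eq_def.{0,0}) | (have := @Cfsg.Agent.H46.J2M.GeoS.eq_def.{0}) | (have := @Cfsg.Agent.H46.J2M.GeoS.eq_def) | skip
  first | (have := @Cfsg.Agent.H46.J2M.GeoS.eq_1.{0,0,0}) | (have := @Cfsg.Agent.H46.J2M.GeoS.eq_1.{0,0}) | (have := @Cfsg.Agent.H46.J2M.GeoS.eq_1.{0}) | (have := @Cfsg.Agent.H46.J2M.GeoS.eq_1) | skip
  first | (have := @Cfsg.Agent.H46.J2M.GeoS.eq_2.{0,0,0}) | (have := @Cfsg.Agent.H46.J2M.GeoS.eq_2.{0,0}) | (have := @Cfsg.Agent.H46.J2M.GeoS.eq_2.{0}) | (have := @Cfsg.Agent.H46.J2M.GeoS.eq_2) | skip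
  first | (have := @Cfsg.Agent.H46.J2M.GeoS.eq_unfold.{0,0,0}) | (have := @Cfsg.Agent.H46.J2M.GeoS.eq_unfold.{0,0}) | (have := @Cfsg.Agent.H46.J2M.GeoS.eq_unfold.{0}) | (have := @Cfsg.Agent.H46.J2M.GeoS.eq_unfold) | skip
  first | (have := @Cfsg.Agent.H46.J2M.GeoS.congr_simp.{0,0,0}) | (have := @Cfsg.Agent.H46.J2M.GeoS.congr_simp.{0,0}) | (have := @Cfsg.Agent.H46.J2M.GeoS.congr_simp.{0}) | (have := @Cfsg.Agent.H46.J2M.GeoS.congr_simp) | skip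
  trivial

end Cfsg.Agent.H46.J2M
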