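import Cfsg.Agent.H46.UDefs
import Cfsg.Agent.H8.GHODefs
import Cfsg.Prelude.Def_Spor_J1
import Cfsg.Prelude.Def_Spor_ON
import Cfsg.Prelude.Def_Spor_Mathieu
import Mathlib.GroupTheory.SpecificGroups.Quaternion

/-!
# A standard subgroup of type `J₁`: the definitions
-/

set_option autoImplicit false
open scoped Pointwise commutatorElement
open Subgroup

namespace Cfsg.Agent.H46.S94
open Cfsg.Agent.H8

universe u

local notation "C[" A "]" => Subgroup.centralizer (SetLike.coe A)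
local notation "N[" A "]" => Subgroup.normalizer (SetLike.coe A)

/-- the facts about `J₁` -/
structure J1F {Γ : Type} [Group Γ] (z σ ρ : Γ) (V L : Subgroup Γ) : Prop where
  base : Base Γ
  inn : ∀ α : MulAut Γ, Inn α
  card : Nat.card Γ = 175560
  el : El V
  cV : Nat.card V = 8
  cls : ∀ a, a * a = 1 → a ≠ 1 → IsConj z a
  zV : z ∈ V
  z1 : z ≠ 1
  CV : C[V] ≤ V
  cN : Nat.card N[V] = 168
  sN : σ ∈ N[V]
  so : orderOf σ = 7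
  tr : ∀ v ∈ V, v ≠ 1 → ∃ i : ℕ, σ ^ i * z * (σ ^ i)⁻¹ = v
  rN : ρ ∈ N[V]
  ro : orderOf ρ = 3
  rs : ρ * σ * ρ⁻¹ ∈ zpowers σ
  rL : ρ ∈ L
  iso : Nonempty (L ≃* alternatingGroup (Fin 5))
  Lz : L ≤ Cz z
  cz : ∀ c ∈ Cz z, c ∈ L ∨ c * z ∈ L
  zL : z ∉ L
  cU : Nat.card (V ⊓ L : Subgroup Γ) = 4
  gen : ∀ y ∈ L, y * y = 1 → y ≠ 1 → Cz z ⊔ Cz y = ⊤

section
variable {Γ : Type} [Group Γ] {G : Type u} [Group G]

/-- `H` induces all automorphisms of `V` -/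
def GLV (H V : Subgroup G) : Prop :=
  H ≤ N[V] ∧ ∀ α : MulAut V, ∃ n ∈ H, ∀ v : V, n * v * n⁻¹ = α v

/-- `T⟨t⟩` -/
abbrev St1 (T : Subgroup G) (t : G) : Subgroup G := T ⊔ zpowers t

/-- the common situation -/
structure C1 (φ : Γ →* G) (F : Subgroup G) (t : G) (O : Subgroup G) (z σ ρ : Γ)
    (V L : Subgroup Γ) : Prop where
  jf : J1F z σ ρ V L
  as : AS F
  cx : Cx φ t O
  AF : φ.range ≤ F
  nc : ∀ a, ¬ IsConj t (φ a)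
  tr : ∀ v ∈ V, ∃ n ∈ N[St1 (V.map φ) t], n * t * n⁻¹ = t * φ v

/-- the branch without translations -/
structure CG (φ : Γ →* G) (F : Subgroup G) (t : G) (O : Subgroup G) (z σ ρ : Γ)
    (V L : Subgroup Γ) : Prop extends C1 φ F t O z σ ρ V L where
  hG : ∀ n ∈ N[St1 (V.map φ) t], n ∈ C[V.map φ] → n * t = t * n
  gl : GLV N[St1 (V.map φ) t] (V.map φ)

structure GA (H F O V : Subgroup G) (t : G) : Prop where
  tF : t ∉ F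
  gl : GLV (H ⊓ F) V
  inv : ∀ j ∈ H, j * j = 1 → j ∉ St1 V t → j ∈ F
  ex : ∃ j ∈ H, j * j = 1 ∧ j ∉ St1 V t
  ker : H ⊓ F ⊓ C[V] ≤ V ⊔ O
  odd : Odd H.index

/-- a Sylow `2`-subgroup `(Q₈ ∘ Q₈).2` -/
structure GQ (F : Subgroup G) (z s : G) (Q1 Q2 : Subgroup G) : Prop where
  q1 : Nonempty (Q1 ≃* QuaternionGroup 2)
  q2 : Nonempty (Q2 ≃* QuaternionGroup 2)
  com : Q1 ≤ C[Q2]
  inter : Q1 ⊓ Q2 = zpowers z
  z1 : z ≠ 1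
  ss : s * s = 1
  sQ : s ∉ Q1 ⊔ Q2
  sN : s ∈ N[Q1 ⊔ Q2]
  syl : IsSylowIn 2 (Q1 ⊔ Q2 ⊔ zpowers s) F

/-- `s` induces an outer automorphism -/
def G2T (z s : G) (Q : Subgroup G) : Prop := s ∈ N[Q] ∧ ∃ x ∈ Q, s * x * s⁻¹ * x⁻¹ ∉ zpowers z

/-- the centraliser of an involution of type `G₂(q)` -/
structure G2X (F : Subgroup G) (z : G) (Q1 Q2 L1 L2 : Subgroup G) : Prop where
  le : L1 ⊔ L2 ≤ F ⊓ centralizer {z}
  s1 : IsSylowIn 2 Q1 L1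
  s2 : IsSylowIn 2 Q2 L2
  n1 : F ⊓ centralizer {z} ≤ N[L1]
  n2 : F ⊓ centralizer {z} ≤ N[L2]
  i1 : ∃ (K : Type) (_ : Field K) (_ : Fintype K),
    Nonempty (L1 ≃* Matrix.SpecialLinearGroup (Fin 2) K)
  i2 : ∃ (K : Type) (_ : Field K) (_ : Fintype K),
    Nonempty (L2 ≃* Matrix.SpecialLinearGroup (Fin 2) K)
  com : L1 ≤ C[L2]
  inter : L1 ⊓ L2 = zpowers z
  core : ∀ R ≤ F ⊓ centralizer {z}, F ⊓ centralizer {z} ≤ N[R] → Odd (Nat.card R) → R = ⊥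
  idx : ∃ δ, Odd δ ∧ (L1 ⊔ L2).relIndex (F ⊓ centralizer {z}) = 2 * δ

/-- the family of abelian `2`-groups -/
structure TF (t σ ρ : G) (O V T : Subgroup G) : Prop where
  ab : Ab T
  two : IsPGroup 2 T
  VT : V ≤ T
  OC : T ≤ C[O]
  tN : t ∈ N[T]
  sN : σ ∈ N[T]
  rN : ρ ∈ N[T]
  tT : t ∉ T

/-- `T` is homocyclic of rank 3 and inverted by `t` -/
structure LS (t : G) (V T : Subgroup G) : Prop where
  inv : ∀ x ∈ T, t * x * t = x⁻¹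
  om : ∀ x ∈ T, x * x = 1 → x ∈ V
  sq : ∀ v ∈ V, ∃ x ∈ T, x * x = v
  tr : ∀ x ∈ T, ∃ n ∈ N[St1 T t], n * t * n⁻¹ = x * t

/-- the extension by the translations -/
structure PK (t σ ρ : G) (O V T P : Subgroup G) : Prop where
  two : IsPGroup 2 P
  TP : T ≤ P
  idx : T.relIndex P = 8
  OC : P ≤ C[O]
  tN : t ∈ N[P]
  sN : σ ∈ N[P]
  rN : ρ ∈ N[P]
  tP : t ∉ P
  cV : P ≤ C[V]
  nT : P ≤ N[T]
  sq : ∀ p ∈ P, p * p ∈ T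
  br : ∀ p ∈ P, p * t * p⁻¹ * t ∈ T
  tr : ∀ x ∈ T, ∃ p ∈ P, p * t * p⁻¹ = x * t

/-- after the transfer -/
structure LT (F : Subgroup G) (t : G) (O V T : Subgroup G) : Prop where
  tF : t ∉ F
  le : T ≤ F
  nT : N[St1 T t] ≤ N[T]
  nO : N[St1 T t] ≤ N[O]
  gl : GLV (N[St1 T t] ⊓ F) V
  ker : N[St1 T t] ⊓ F ⊓ C[V] ≤ T ⊔ (O ⊓ F)
  odd : Odd ((N[St1 T t] ⊓ F).relIndex F)
  sylV : IsSylowIn 2 T (F ⊓ C[V])

/-- `j` is trivial on `V / ⟨z⟩` -/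
def Tz (V : Subgroup G) (z j : G) : Prop := ∀ v ∈ V, j * v * j⁻¹ * v⁻¹ ∈ zpowers z

/-- the action of `L₃(2)` on `4³` -/
structure AB (H V T : Subgroup G) (z ρ ζ : G) : Prop where
  mem : ζ ∈ T
  sq : ζ * ζ = z
  rz : ρ * ζ = ζ * ρ
  a : ∀ j ∈ H, Tz V z j → j * ζ = ζ * j
  b : ∀ m ∈ H, m * z = z * m → m ∈ N[zpowers ζ]
  c : ∀ m ∈ H, m * ζ = ζ * m → ∃ i : ℕ, Tz V z ((ρ ^ i)⁻¹ * m)

/-- the branch `4³ · L₃(2)` -/
structure C2 (φ : Γ →* G) (F : Subgroup G) (t : G) (O : Subgroup G) (z σ ρ : Γ)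
    (V L : Subgroup Γ) (T : Subgroup G) (ζ : G) : Prop extends C1 φ F t O z σ ρ V L where
  tf : TF t (φ σ) (φ ρ) O (V.map φ) T
  ls : LS t (V.map φ) T
  lt : LT F t O (V.map φ) T
  ab : AB (N[St1 T t] ⊓ F) (V.map φ) T (φ z) (φ ρ) ζ

/-- `C_T(ρ)` -/
abbrev T1 (T : Subgroup G) (ρ : G) : Subgroup G := T ⊓ centralizer {ρ}

/-- `C_F(R)⟨t⟩` -/
abbrev YY (F R : Subgroup G) (t : G) : Subgroup G := F ⊓ C[R] ⊔ zpowers t

/-- the image of a subgroup -/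
abbrev im {Y : Subgroup G} {X : Type u} [Group X] (π : Y →* X) (H : Subgroup G) : Subgroup X :=
  (H.subgroupOf Y).map π

/-- the preimage of a subgroup -/
abbrev pre {Y : Subgroup G} {X : Type u} [Group X] (π : Y →* X) (H : Subgroup X) : Subgroup G :=
  (H.comap π).map Y.subtype

/-- the quotient of `Y` by `R` -/
structure QX {Y : Subgroup G} {X : Type u} [Group X] (π : Y →* X) (R : Subgroup G) (t ρ : G)
    (t' ρ' : X) : Prop where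
  surj : Function.Surjective π
  ker : ∀ y : Y, π y = 1 ↔ (y : G) ∈ R
  et : ∃ y : Y, (y : G) = t ∧ π y = t'
  er : ∃ y : Y, (y : G) = ρ ∧ π y = ρ'

structure N1F (F : Subgroup G) (t : G) (R L : Subgroup G) : Prop where
  cL : L ≤ C[R]
  sq : ∀ c ∈ F ⊓ C[R], ∀ w ∈ R, c * t * c⁻¹ = w * t → ∃ b ∈ R, w = b * b

/-- the group of order 256 -/
structure PH (H V T R P : Subgroup G) (z ζ : G) : Prop where
  cT : Nat.card T = 64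
  ex : ∀ x ∈ T, x * x ∈ V
  eR : R = zpowers ζ
  TP : T ≤ P
  card : Nat.card P = 256
  le : P ≤ H
  pz : ∀ p ∈ P, Tz V z p
  all : ∀ y ∈ H, Tw y → Tz V z y → y ∈ P

/-- the component `4 · L₃(4)` -/
structure OS (F U T P M : Subgroup G) (ζ : G) : Prop where
  PM : P ≤ M
  le : M ≤ F ⊓ centralizer {ζ}
  qs : IsQuasisimple M
  iso : ∃ (K : Type) (_ : Field K) (_ : Fintype K), Fintype.card K = 4 ∧
    Nonempty ((M ⧸ center M) ≃* Matrix.ProjectiveSpecialLinearGroup (Fin 3) K)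
  cen : F ⊓ centralizer {ζ} ≤ M ⊔ (F ⊓ C[M])
  two : ∀ x ∈ F ⊓ C[M], Tw x → x ∈ zpowers ζ
  twoM : ∀ x ∈ F ⊓ centralizer {ζ}, Tw x → x ∈ M
  nrm : F ⊓ N[zpowers ζ] ≤ N[M]
  inv : ∀ x ∈ M, x * x ∈ zpowers ζ → ∃ m ∈ M, m * x * m⁻¹ ∈ U ⊔ zpowers ζ
  odd : ∀ x ∈ F, Odd (orderOf x) → x ∈ C[T] → x ∈ C[M]
  syl : IsSylowIn 2 P (F ⊓ centralizer {ζ})
  ex : ∃ j ∈ P, j * j = 1 ∧ j ∉ T

end

/-! ### The pieces -/

def J1FStmt : Prop := ∃ (z σ ρ : Spor.J1) (V L : Subgroup Spor.J1), J1F z σ ρ V L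

def GLStmt : Prop :=
  ∀ (G : Type u) [Group G] [Finite G] (H V : Subgroup G), (∀ v ∈ V, v * v = 1) → Nat.card V = 8 →
    H ≤ N[V] → (168 ≤ (H ⊓ C[V]).relIndex H → GLV H V) ∧
      (GLV H V → (H ⊓ C[V]).relIndex H = 168 ∧
        (∀ K ≤ H, H ≤ N[K] → ¬ K ≤ C[V] → GLV K V) ∧
        ∀ x ∈ H, ∀ y ∈ H, x * x ∈ C[V] → x ∉ C[V] → y * y ∈ C[V] → y ∉ C[V] →
          ∃ m ∈ H, m * x * m⁻¹ * y⁻¹ ∈ C[V])

def HLStmt : Prop :=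
  ∀ (V : Type u) [CommGroup V] [Finite V] (s : MulAut V) (β : V → V → V), Nat.card V = 8 →
    (∀ v : V, v * v = 1) → orderOf s = 7 → (∀ a b c, β (a * b) c = β a c * β b c) →
    (∀ a b c, β a (b * c) = β a b * β a c) → (∀ a, β a a = 1) →
    (∀ a b, β (s a) (s b) = s (β a b)) → ∀ a b, β a b = 1

def JAStmt : Prop :=
  ∀ (Γ : Type) [Group Γ] (G : Type u) [Group G] [Finite G] (φ : Γ →* G) (z σ ρ : Γ)
    (V L : Subgroup Γ), J1F z σ ρ V L → Function.Injective φ → IsStandardSubgroup φ.range →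
    ∀ g ∉ N[φ.range], ¬ 4 ∣ Nat.card (JJ φ g)

def JEStmt : Prop :=
  ∀ (Γ : Type) [Group Γ] (G : Type u) [Group G] [Finite G] (φ : Γ →* G) (t : G) (O : Subgroup G)
    (z σ ρ : Γ) (V L : Subgroup Γ), J1F z σ ρ V L → Cx φ t O →
    (∃ a, a * a = 1 ∧ a ≠ 1 ∧ (IsConj t (t * φ a) ∨ IsConj t (φ a))) →
    (∀ a, ¬ IsConj t (φ a)) ∧ ∀ v ∈ V, ∃ n ∈ N[St1 (V.map φ) t], n * t * n⁻¹ = t * φ v

def JG0Stmt : Prop :=
  ∀ (Γ : Type) [Group Γ] (G : Type u) [Group G] [Finite G] (φ : Γ →* G) (F : Subgroup G) (t : G)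
    (O : Subgroup G) (z σ ρ : Γ) (V L : Subgroup Γ), C1 φ F t O z σ ρ V L →
    (∀ n ∈ N[St1 (V.map φ) t], n ∈ C[V.map φ] → n * t = t * n) →
    GLV N[St1 (V.map φ) t] (V.map φ)

def JG1Stmt : Prop :=
  ∀ (Γ : Type) [Group Γ] (G : Type u) [Group G] [Finite G] (φ : Γ →* G) (F : Subgroup G) (t : G)
    (O : Subgroup G) (z σ ρ : Γ) (V L : Subgroup Γ), CG φ F t O z σ ρ V L →
    Odd (N[St1 (V.map φ) t]).index

def JG2Stmt : Prop :=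
  ∀ (Γ : Type) [Group Γ] (G : Type u) [Group G] [Finite G] (φ : Γ →* G) (F : Subgroup G) (t : G)
    (O : Subgroup G) (z σ ρ : Γ) (V L : Subgroup Γ), CG φ F t O z σ ρ V L →
    Odd (N[St1 (V.map φ) t]).index → ∃ j ∈ N[St1 (V.map φ) t], j * j = 1 ∧ j ∉ St1 (V.map φ) t

def JG3aStmt : Prop :=
  ∀ (Γ : Type) [Group Γ] (G : Type u) [Group G] [Finite G] (φ : Γ →* G) (F : Subgroup G) (t : G)
    (O : Subgroup G) (z σ ρ : Γ) (V L : Subgroup Γ), CG φ F t O z σ ρ V L →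
    (∃ j ∈ N[St1 (V.map φ) t], j * j = 1 ∧ j ∉ St1 (V.map φ) t) →
    ∃ N0 : Subgroup G, N0.relIndex N[St1 (V.map φ) t] = 2 ∧ t ∉ N0 ∧ V.map φ ⊔ O ≤ N0

def JG3bStmt : Prop :=
  ∀ (Γ : Type) [Group Γ] (G : Type u) [Group G] [Finite G] (φ : Γ →* G) (F : Subgroup G) (t : G)
    (O : Subgroup G) (z σ ρ : Γ) (V L : Subgroup Γ) (N0 : Subgroup G), CG φ F t O z σ ρ V L →
    N0.relIndex N[St1 (V.map φ) t] = 2 → t ∉ N0 → V.map φ ⊔ O ≤ N0 →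
    ∀ j ∈ N[St1 (V.map φ) t], j * j = 1 → j ∉ St1 (V.map φ) t → j ∈ N0 ∧ ¬ IsConj t j

def JG3cStmt : Prop :=
  ∀ (Γ : Type) [Group Γ] (G : Type u) [Group G] [Finite G] (φ : Γ →* G) (F : Subgroup G) (t : G)
    (O : Subgroup G) (z σ ρ : Γ) (V L : Subgroup Γ), CG φ F t O z σ ρ V L →
    Odd (N[St1 (V.map φ) t]).index →
    (∃ j ∈ N[St1 (V.map φ) t], j * j = 1 ∧ j ∉ St1 (V.map φ) t) →
    GA N[St1 (V.map φ) t] F O (V.map φ) t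

def JG3dStmt : Prop :=
  ∀ (Γ : Type) [Group Γ] (G : Type u) [Group G] [Finite G] (φ : Γ →* G) (F : Subgroup G) (t : G)
    (O : Subgroup G) (z σ ρ : Γ) (V L : Subgroup Γ), CG φ F t O z σ ρ V L →
    GA N[St1 (V.map φ) t] F O (V.map φ) t →
    ∃ s Q1 Q2, GQ F (φ z) s Q1 Q2 ∧ MulAut.conj t • Q1 = Q2 ∧
      (G2T (φ z) s Q1 ∧ G2T (φ z) s Q2 ∨ MulAut.conj s • Q1 = Q2)

def JG4aStmt : Prop :=
  ∀ (G : Type u) [Group G] [Finite G] (F : Subgroup G) (z s : G) (Q1 Q2 : Subgroup G),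
    GQ F z s Q1 Q2 →
    (G2T z s Q1 → G2T z s Q2 →
      Nonempty ((Q1 ⊔ Q2 ⊔ zpowers s : Subgroup G) ≃* GHO.G2S (2 ^ 2))) ∧
    (MulAut.conj s • Q1 = Q2 → Nonempty ((Q1 ⊔ Q2 ⊔ zpowers s : Subgroup G) ≃* GHO.SPS (2 ^ 2)))

def JG4bStmt : Prop :=
  ∀ (G : Type u) [Group G] [Finite G] (F : Subgroup G) (z s : G) (Q1 Q2 : Subgroup G),
    IsSimpleGroup F → GQ F z s Q1 Q2 → G2T z s Q1 → G2T z s Q2 →
    Nonempty ((Q1 ⊔ Q2 ⊔ zpowers s : Subgroup G) ≃* GHO.G2S (2 ^ 2)) →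
    Spor.IsoM12 F ∨ ∃ L1 L2, G2X F z Q1 Q2 L1 L2

def JG4cStmt : Prop :=
  ∀ (Γ : Type) [Group Γ] (G : Type u) [Group G] [Finite G] (φ : Γ →* G) (F : Subgroup G) (t s : G)
    (O Q1 Q2 : Subgroup G) (z σ ρ : Γ) (V L : Subgroup Γ), C1 φ F t O z σ ρ V L →
    GQ F (φ z) s Q1 Q2 → MulAut.conj t • Q1 = Q2 →
    (Spor.IsoM12 F ∨ ∃ L1 L2, G2X F (φ z) Q1 Q2 L1 L2) → False

def JG5Stmt : Prop :=
  ∀ (G : Type u) [Group G] [Finite G] (F S V : Subgroup G) (σ : G), IsSimpleGroup F →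
    IsSylowIn 2 S F → Nonempty (S ≃* GHO.SPS (2 ^ 2)) → 11 ∣ Nat.card F → V ≤ F → σ ∈ F →
    (∀ v ∈ V, v * v = 1) → Nat.card V = 8 → σ ∈ N[V] → orderOf σ = 7 → σ ∉ C[V] → False

def AbSStmt : Prop :=
  ∀ (G : Type u) [Group G] [Finite G] (F T : Subgroup G) (z a : G), IsSimpleGroup F →
    IsSylowIn 2 T F → Ab T → 175560 ∣ Nat.card F → z ∈ F → a ∈ F → orderOf z = 2 →
    orderOf a = 5 → z * a = a * z → Nat.card F = 175560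

def C2sStmt : Prop :=
  ∀ (G : Type u) [Group G] [Finite G] (F P : Subgroup G), IsSimpleGroup F → IsSylowIn 2 P F →
    ¬ Ab P → ⁅P, P⁆ ≤ C[P] → Nat.card P = 512 → 11 ∣ Nat.card F → False

def JAbStmt : Prop :=
  ∀ (Γ : Type) [Group Γ] (G : Type u) [Group G] [Finite G] (φ : Γ →* G) (F : Subgroup G) (t : G)
    (O T : Subgroup G) (z σ ρ : Γ) (V L : Subgroup Γ), C1 φ F t O z σ ρ V L →
    TF t (φ σ) (φ ρ) O (V.map φ) T → 32 ≤ Nat.card T → ¬ IsSylowIn 2 (St1 T t) ⊤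

def JB0Stmt : Prop :=
  ∀ (Γ : Type) [Group Γ] (G : Type u) [Group G] [Finite G] (φ : Γ →* G) (F : Subgroup G) (t : G)
    (O : Subgroup G) (z σ ρ : Γ) (V L : Subgroup Γ), C1 φ F t O z σ ρ V L →
    (∃ n ∈ N[St1 (V.map φ) t], n ∈ C[V.map φ] ∧ n * t ≠ t * n) →
    ∃ B, TF t (φ σ) (φ ρ) O (V.map φ) B ∧ Nat.card B = 64

def JT1Stmt : Prop :=
  ∀ (Γ : Type) [Group Γ] (G : Type u) [Group G] [Finite G] (φ : Γ →* G) (F : Subgroup G) (t : G)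
    (O T : Subgroup G) (z σ ρ : Γ) (V L : Subgroup Γ), C1 φ F t O z σ ρ V L →
    TF t (φ σ) (φ ρ) O (V.map φ) T → 32 ≤ Nat.card T → ¬ IsSylowIn 2 (St1 T t) ⊤ →
    LS t (V.map φ) T

def JT2aStmt : Prop :=
  ∀ (Γ : Type) [Group Γ] (G : Type u) [Group G] [Finite G] (φ : Γ →* G) (F : Subgroup G) (t : G)
    (O T : Subgroup G) (z σ ρ : Γ) (V L : Subgroup Γ), C1 φ F t O z σ ρ V L →
    TF t (φ σ) (φ ρ) O (V.map φ) T → LS t (V.map φ) T →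
    ¬ N[St1 T t] ⊓ C[V.map φ] ≤ St1 T t ⊔ O → ∃ P, PK t (φ σ) (φ ρ) O (V.map φ) T P

def JT2bStmt : Prop :=
  ∀ (Γ : Type) [Group Γ] (G : Type u) [Group G] [Finite G] (φ : Γ →* G) (F : Subgroup G) (t : G)
    (O T P : Subgroup G) (z σ ρ : Γ) (V L : Subgroup Γ), C1 φ F t O z σ ρ V L →
    TF t (φ σ) (φ ρ) O (V.map φ) T → LS t (V.map φ) T → PK t (φ σ) (φ ρ) O (V.map φ) T P →
    Ab P ∨ ⁅P, P⁆ ≤ V.map φ ∧ Nat.card P = 512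

def JT2cStmt : Prop :=
  ∀ (Γ : Type) [Group Γ] (G : Type u) [Group G] [Finite G] (φ : Γ →* G) (F : Subgroup G) (t : G)
    (O T P : Subgroup G) (z σ ρ : Γ) (V L : Subgroup Γ), C1 φ F t O z σ ρ V L →
    TF t (φ σ) (φ ρ) O (V.map φ) T → PK t (φ σ) (φ ρ) O (V.map φ) T P → ¬ Ab P →
    ⁅P, P⁆ ≤ V.map φ → Nat.card P = 512 → IsSylowIn 2 P F

def JL1Stmt : Prop :=
  ∀ (Γ : Type) [Group Γ] (G : Type u) [Group G] [Finite G] (φ : Γ →* G) (F : Subgroup G) (t : G)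
    (O T : Subgroup G) (z σ ρ : Γ) (V L : Subgroup Γ), C1 φ F t O z σ ρ V L →
    TF t (φ σ) (φ ρ) O (V.map φ) T → LS t (V.map φ) T →
    N[St1 T t] ⊓ C[V.map φ] ≤ St1 T t ⊔ O →
    N[St1 T t] ≤ N[T] ∧ N[St1 T t] ≤ N[O] ∧ GLV N[St1 T t] (V.map φ) ∧
      (∀ g, g * t * g⁻¹ ∈ N[St1 T t] → ∃ x ∈ T, g * t * g⁻¹ = x * t) ∧ Odd (N[St1 T t]).index

def DETStmt : Prop :=
  ∀ (T : Type u) [CommGroup T] [Finite T], Nat.card {x : T // x * x = 1} = 8 →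
    (∀ v : T, v * v = 1 → ∃ x, x * x = v) →
    ∃ δ : MulAut T →* (ZMod 4)ˣ, δ (MulEquiv.inv T) = -1

def JL3Stmt : Prop :=
  ∀ (Γ : Type) [Group Γ] (G : Type u) [Group G] [Finite G] (φ : Γ →* G) (F : Subgroup G) (t : G)
    (O T : Subgroup G) (z σ ρ : Γ) (V L : Subgroup Γ), C1 φ F t O z σ ρ V L →
    TF t (φ σ) (φ ρ) O (V.map φ) T → LS t (V.map φ) T →
    N[St1 T t] ⊓ C[V.map φ] ≤ St1 T t ⊔ O → N[St1 T t] ≤ N[T] → N[St1 T t] ≤ N[O] →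
    GLV N[St1 T t] (V.map φ) →
    (∀ g, g * t * g⁻¹ ∈ N[St1 T t] → ∃ x ∈ T, g * t * g⁻¹ = x * t) → Odd (N[St1 T t]).index →
    LT F t O (V.map φ) T

def AUTBStmt : Prop :=
  ∀ (G : Type u) [Group G] [Finite G] (H V T : Subgroup G) (z ρ : G), Ab T → IsPGroup 2 T →
    V ≤ T → (∀ v ∈ V, v * v = 1) → Nat.card V = 8 → (∀ x ∈ T, x * x = 1 → x ∈ V) →
    (∀ v ∈ V, ∃ x ∈ T, x * x = v) → H ≤ N[T] → GLV H V → H ⊓ C[V] ≤ C[T] → ρ ∈ H →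
    orderOf ρ = 3 → ρ ∉ C[V] → z ∈ V → z ≠ 1 → ρ * z = z * ρ → ∃ ζ, AB H V T z ρ ζ

def JN1Stmt : Prop :=
  ∀ (Γ : Type) [Group Γ] (G : Type u) [Group G] [Finite G] (φ : Γ →* G) (F : Subgroup G) (t ζ : G)
    (O T : Subgroup G) (z σ ρ : Γ) (V L : Subgroup Γ), C2 φ F t O z σ ρ V L T ζ →
    N1F F t (T1 T (φ ρ)) (L.map φ)

def JN2aStmt : Prop :=
  ∀ (Γ : Type) [Group Γ] (G : Type u) [Group G] [Finite G] (φ : Γ →* G) (F : Subgroup G) (t ζ : G)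
    (O T : Subgroup G) (z σ ρ : Γ) (V L : Subgroup Γ) (X : Type u) [Group X] (t' ρ' : X)
    (π : YY F (T1 T (φ ρ)) t →* X), C2 φ F t O z σ ρ V L T ζ → N1F F t (T1 T (φ ρ)) (L.map φ) →
    QX π (T1 T (φ ρ)) t (φ ρ) t' ρ' →
    A5C t' ρ' (im π (L.map φ)) (im π (O ⊓ F)) (im π ((V ⊓ L).map φ)) ∧
      IV t' ρ' (im π ((V ⊓ L).map φ)) (im π T) ∧ ∃ d ∈ im π T, orderOf d = 4

def JN2bStmt : Prop :=
  ∀ (Γ : Type) [Group Γ] (G : Type u) [Group G] [Finite G] (φ : Γ →* G) (F : Subgroup G) (t ζ : G)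
    (O T : Subgroup G) (z σ ρ : Γ) (V L : Subgroup Γ) (X : Type u) [Group X] (t' ρ' : X)
    (π : YY F (T1 T (φ ρ)) t →* X) (P : Subgroup X), C2 φ F t O z σ ρ V L T ζ →
    QX π (T1 T (φ ρ)) t (φ ρ) t' ρ' →
    A5C t' ρ' (im π (L.map φ)) (im π (O ⊓ F)) (im π ((V ⊓ L).map φ)) →
    IV t' ρ' (im π ((V ⊓ L).map φ)) P → Sp (im π ((V ⊓ L).map φ)) P → im π T ≤ P →
    D4 t' ρ' (im π ((V ⊓ L).map φ)) (im π T) ∧
      PH (N[St1 T t] ⊓ F) (V.map φ) T (T1 T (φ ρ)) (pre π P) (φ z) ζ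

def JN2xStmt : Prop :=
  ∀ (Γ : Type) [Group Γ] (G : Type u) [Group G] [Finite G] (φ : Γ →* G) (F : Subgroup G) (t ζ : G)
    (O T : Subgroup G) (z σ ρ : Γ) (V L : Subgroup Γ) (X : Type u) [Group X] (t' ρ' : X)
    (π : YY F (T1 T (φ ρ)) t →* X) (P : Subgroup X), C2 φ F t O z σ ρ V L T ζ →
    QX π (T1 T (φ ρ)) t (φ ρ) t' ρ' →
    A5C t' ρ' (im π (L.map φ)) (im π (O ⊓ F)) (im π ((V ⊓ L).map φ)) →
    IV t' ρ' (im π ((V ⊓ L).map φ)) P → Sp (im π ((V ⊓ L).map φ)) P →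
    PH (N[St1 T t] ⊓ F) (V.map φ) T (T1 T (φ ρ)) (pre π P) (φ z) ζ → L34 P

def JUStmt : Prop :=
  ∀ (G : Type u) [Group G] [Finite G] (H V T R P : Subgroup G) (z ζ : G), Ab T → V ≤ T →
    (∀ v ∈ V, v * v = 1) → Nat.card V = 8 → (∀ x ∈ T, x * x = 1 → x ∈ V) → z * z = 1 →
    H ≤ N[T] → P ⊓ C[V] ≤ T → PH H V T R P z ζ →
    V ⊓ C[P] ≤ zpowers z ∧ ∀ A ≤ P, Ab A → Nat.card A = 64 → A = T

def JN2cStmt : Prop :=
  ∀ (Γ : Type) [Group Γ] (G : Type u) [Group G] [Finite G] (φ : Γ →* G) (F : Subgroup G) (t ζ : G)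
    (O T : Subgroup G) (z σ ρ : Γ) (V L : Subgroup Γ) (X : Type u) [Group X] (t' ρ' : X)
    (π : YY F (T1 T (φ ρ)) t →* X) (P X0 : Subgroup X), C2 φ F t O z σ ρ V L T ζ →
    N1F F t (T1 T (φ ρ)) (L.map φ) → QX π (T1 T (φ ρ)) t (φ ρ) t' ρ' →
    PH (N[St1 T t] ⊓ F) (V.map φ) T (T1 T (φ ρ)) (pre π P) (φ z) ζ →
    (∀ A ≤ pre π P, Ab A → Nat.card A = 64 → A = T) → L34 P → TR t' (im π T) P X0 →
    MS (im π ((V ⊓ L).map φ)) (im π T) P (P ⊔ im π (L.map φ)) X0 →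
    OS F ((V ⊓ L).map φ) T (pre π P) (pre π P ⊔ L.map φ) ζ

def JXStmt : Prop :=
  ∀ (Γ : Type) [Group Γ] (G : Type u) [Group G] [Finite G] (φ : Γ →* G) (F : Subgroup G) (t ζ : G)
    (O T R P M : Subgroup G) (z σ ρ : Γ) (V L : Subgroup Γ), C2 φ F t O z σ ρ V L T ζ →
    PH (N[St1 T t] ⊓ F) (V.map φ) T R P (φ z) ζ → OS F ((V ⊓ L).map φ) T P M ζ →
    ∀ y ∈ N[St1 T t] ⊓ F, y * y = φ z → y * ζ = ζ * y

def JZ1Stmt : Prop :=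
  ∀ (Γ : Type) [Group Γ] (G : Type u) [Group G] [Finite G] (φ : Γ →* G) (F : Subgroup G) (t ζ : G)
    (O T R P M : Subgroup G) (z σ ρ : Γ) (V L : Subgroup Γ), C2 φ F t O z σ ρ V L T ζ →
    PH (N[St1 T t] ⊓ F) (V.map φ) T R P (φ z) ζ → OS F ((V ⊓ L).map φ) T P M ζ →
    (∀ A ≤ P, Ab A → Nat.card A = 64 → A = T) →
    (∀ y ∈ N[St1 T t] ⊓ F, y * y = φ z → y * ζ = ζ * y) →
    ∀ c ∈ F, c * φ z = φ z * c → c * ζ * c⁻¹ ∈ N[zpowers ζ] → c ∈ N[zpowers ζ]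

def JZ2Stmt : Prop :=
  ∀ (Γ : Type) [Group Γ] (G : Type u) [Group G] [Finite G] (φ : Γ →* G) (F : Subgroup G) (t ζ : G)
    (O T P M : Subgroup G) (z σ ρ : Γ) (V L : Subgroup Γ), C2 φ F t O z σ ρ V L T ζ →
    T ≤ P → L.map φ ≤ M → OS F ((V ⊓ L).map φ) T P M ζ →
    (∀ c ∈ F, c * φ z = φ z * c → c * ζ * c⁻¹ ∈ N[zpowers ζ] → c ∈ N[zpowers ζ]) →
    ∀ c ∈ F, c * φ z = φ z * c → c ∈ N[zpowers ζ]

def JOStmt : Prop :=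
  ∀ (Γ : Type) [Group Γ] (G : Type u) [Group G] [Finite G] (φ : Γ →* G) (F : Subgroup G) (t ζ : G)
    (O T R P M : Subgroup G) (z σ ρ : Γ) (V L : Subgroup Γ), C2 φ F t O z σ ρ V L T ζ →
    PH (N[St1 T t] ⊓ F) (V.map φ) T R P (φ z) ζ → OS F ((V ⊓ L).map φ) T P M ζ →
    V.map φ ⊓ C[P] ≤ zpowers (φ z) → (∀ c ∈ F, c * φ z = φ z * c → c ∈ N[zpowers ζ]) →
    F ⊓ C[M] ≤ zpowers ζ

def JFinStmt : Prop :=
  ∀ (Γ : Type) [Group Γ] (G : Type u) [Group G] [Finite G] (φ : Γ →* G) (F : Subgroup G) (t ζ : G)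
    (O T P M : Subgroup G) (z σ ρ : Γ) (V L : Subgroup Γ), C2 φ F t O z σ ρ V L T ζ →
    T ≤ P → OS F ((V ⊓ L).map φ) T P M ζ → (∀ c ∈ F, c * φ z = φ z * c → c ∈ N[zpowers ζ]) →
    F ⊓ C[M] ≤ zpowers ζ → Spor.IsoON F

set_option linter.unusedTactic false in
theorem eqns_J1Defs : True := by
  first | (have := @Cfsg.Agent.H46.S94.GLV.eq_def.{0,0,0}) | (have := @Cfsg.Agent.H46.S94.GLV.eq_def.{0,0}) | (have := @Cfsg.Agent.H46.S94.GLV.eq_def.{0}) | (have := @Cfsg.Agent.H46.S94.GLV.eq_def) | skip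
  first | (have := @Cfsg.Agent.H46.S94.GLV.eq_1.{0,0,0}) | (have := @Cfsg.Agent.H46.S94.GLV.eq_1.{0,0}) | (have := @Cfsg.Agent.H46.S94.GLV.eq_1.{0}) | (have := @Cfsg.Agent.H46.S94.GLV.eq_1) | skip
  first | (have := @Cfsg.Agent.H46.S94.GLV.eq_2.{0,0,0}) | (have := @Cfsg.Agent.H46.S94.GLV.eq_2.{0,0}) | (have := @Cfsg.Agent.H46.S94.GLV.eq_2.{0}) | (have := @Cfsg.Agent.H46.S94.GLV.eq_2) | skip
  first | (have := @Cfsg.Agent.H46.S94.GLV.eq_unfold.{0,0,0}) | (have := @Cfsg.Agent.H46.S94.GLV.eq_unfold.{0,0}) | (have := @Cfsg.Agent.H46.S94.GLV.eq_unfold.{0}) | (have := @Cfsg.Agent.H46.S94.GLV.eq_unfold) | skip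
  first | (have := @Cfsg.Agent.H46.S94.GLV.congr_simp.{0,0,0}) | (have := @Cfsg.Agent.H46.S94.GLV.congr_simp.{0,0}) | (have := @Cfsg.Agent.H46.S94.GLV.congr_simp.{0}) | (have := @Cfsg.Agent.H46.S94.GLV.congr_simp) | skip
  first | (have := @Cfsg.Agent.H46.S94.St1.eq_def.{0,0,0}) | (have := @Cfsg.Agent.H46.S94.St1.eq_def.{0,0}) | (have := @Cfsg.Agent.H46.S94.St1.eq_def.{0}) | (have := @Cfsg.Agent.H46.S94.St1.eq_def) | skip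
  first | (have := @Cfsg.Agent.H46.S94.St1.eq_1.{0,0,0}) | (have := @Cfsg.Agent.H46.S94.St1.eq_1.{0,0}) | (have := @Cfsg.Agent.H46.S94.St1.eq_1.{0}) | (have := @Cfsg.Agent.H46.S94.St1.eq_1) | skip
  first | (have := @Cfsg.Agent.H46.S94.St1.eq_2.{0,0,0}) | (have := @Cfsg.Agent.H46.S94.St1.eq_2.{0,0}) | (have := @Cfsg.Agent.H46.S94.St1.eq_2.{0}) | (have := @Cfsg.Agent.H46.S94.St1.eq_2) | skip
  first | (have := @Cfsg.Agent.H46.S94.St1.eq_unfold.{0,0,0}) | (have := @Cfsg.Agent.H46.S94.St1.eq_unfold.{0,0}) | (have := @Cfsg.Agent.H46.S94.St1.eq_unfold.{0}) | (have := @Cfsg.Agent.H46.S94.St1.eq_unfold) | skip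
  first | (have := @Cfsg.Agent.H46.S94.St1.congr_simp.{0,0,0}) | (have := @Cfsg.Agent.H46.S94.St1.congr_simp.{0,0}) | (have := @Cfsg.Agent.H46.S94.St1.congr_simp.{0}) | (have := @Cfsg.Agent.H46.S94.St1.congr_simp) | skip
  first | (have := @Cfsg.Agent.H46.S94.G2T.eq_def.{0,0,0}) | (have := @Cfsg.Agent.H46.S94.G2T.eq_def.{0,0}) | (have := @Cfsg.Agent.H46.S94.G2T.eq_def.{0}) | (have := @Cfsg.Agent.H46.S94.G2T.eq_def) | skip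
  first | (have := @Cfsg.Agent.H46.S94.G2T.eq_1.{0,0,0}) | (have := @Cfsg.Agent.H46.S94.G2T.eq_1.{0,0}) | (have := @Cfsg.Agent.H46.S94.G2T.eq_1.{0}) | (have := @Cfsg.Agent.H46.S94.G2T.eq_1) | skip
  first | (have := @Cfsg.Agent.H46.S94.G2T.eq_2.{0,0,0}) | (have := @Cfsg.Agent.H46.S94.G2T.eq_2.{0,0}) | (have := @Cfsg.Agent.H46.S94.G2T.eq_2.{0}) | (have := @Cfsg.Agent.H46.S94.G2T.eq_2) | skip
  first | (have := @Cfsg.Agent.H46.S94.G2T.eq_unfold.{0,0,0}) | (have := @Cfsg.Agent.H46.S94.G2T.eq_unfold.{0,0}) | (have := @Cfsg.Agent.H46.S94.G2T.eq_unfold.{0}) | (have := @Cfsg.Agent.H46.S94.G2T.eq_unfold) | skip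
  first | (have := @Cfsg.Agent.H46.S94.G2T.congr_simp.{0,0,0}) | (have := @Cfsg.Agent.H46.S94.G2T.congr_simp.{0,0}) | (have := @Cfsg.Agent.H46.S94.G2T.congr_simp.{0}) | (have := @Cfsg.Agent.H46.S94.G2T.congr_simp) | skip
  first | (have := @Cfsg.Agent.H46.S94.Tz.eq_def.{0,0,0}) | (have := @Cfsg.Agent.H46.S94.Tz.eq_def.{0,0}) | (have := @Cfsg.Agent.H46.S94.Tz.eq_def.{0}) | (have := @Cfsg.Agent.H46.S94.Tz.eq_def) | skip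
  first | (have := @Cfsg.Agent.H46.S94.Tz.eq_1.{0,0,0}) | (have := @Cfsg.Agent.H46.S94.Tz.eq_1.{0,0}) | (have := @Cfsg.Agent.H46.S94.Tz.eq_1.{0}) | (have := @Cfsg.Agent.H46.S94.Tz.eq_1) | skip
  first | (have := @Cfsg.Agent.H46.S94.Tz.eq_2.{0,0,0}) | (have := @Cfsg.Agent.H46.S94.Tz.eq_2.{0,0}) | (have := @Cfsg.Agent.H46.S94.Tz.eq_2.{0}) | (have := @Cfsg.Agent.H46.S94.Tz.eq_2) | skip
  first | (have := @Cfsg.Agent.H46.S94.Tz.eq_unfold.{0,0,0}) | (have := @Cfsg.Agent.H46.S94.Tz.eq_unfold.{0,0}) | (have := @Cfsg.Agent.H46.S94.Tz.eq_unfold.{0}) | (have := @Cfsg.Agent.H46.S94.Tz.eq_unfold) | skip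
  first | (have := @Cfsg.Agent.H46.S94.Tz.congr_simp.{0,0,0}) | (have := @Cfsg.Agent.H46.S94.Tz.congr_simp.{0,0}) | (have := @Cfsg.Agent.H46.S94.Tz.congr_simp.{0}) | (have := @Cfsg.Agent.H46.S94.Tz.congr_simp) | skip
  first | (have := @Cfsg.Agent.H46.S94.T1.eq_def.{0,0,0}) | (have := @Cfsg.Agent.H46.S94.T1.eq_def.{0,0}) | (have := @Cfsg.Agent.H46.S94.T1.eq_def.{0}) | (have := @Cfsg.Agent.H46.S94.T1.eq_def) | skip
  first | (have := @Cfsg.Agent.H46.S94.T1.eq_1.{0,0,0}) | (have := @Cfsg.Agent.H46.S94.T1.eq_1.{0,0}) | (have := @Cfsg.Agent.H46.S94.T1.eq_1.{0}) | (have := @Cfsg.Agent.H46.S94.T1.eq_1) | skip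
  first | (have := @Cfsg.Agent.H46.S94.T1.eq_2.{0,0,0}) | (have := @Cfsg.Agent.H46.S94.T1.eq_2.{0,0}) | (have := @Cfsg.Agent.H46.S94.T1.eq_2.{0}) | (have := @Cfsg.Agent.H46.S94.T1.eq_2) | skip
  first | (have := @Cfsg.Agent.H46.S94.T1.eq_unfold.{0,0,0}) | (have := @Cfsg.Agent.H46.S94.T1.eq_unfold.{0,0}) | (have := @Cfsg.Agent.H46.S94.T1.eq_unfold.{0}) | (have := @Cfsg.Agent.H46.S94.T1.eq_unfold) | skip
  first | (have := @Cfsg.Agent.H46.S94.T1.congr_simp.{0,0,0}) | (have := @Cfsg.Agent.H46.S94.T1.congr_simp.{0,0}) | (have := @Cfsg.Agent.H46.S94.T1.congr_simp.{0}) | (have := @Cfsg.Agent.H46.S94.T1.congr_simp) | skip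
  first | (have := @Cfsg.Agent.H46.S94.YY.eq_def.{0,0,0}) | (have := @Cfsg.Agent.H46.S94.YY.eq_def.{0,0}) | (have := @Cfsg.Agent.H46.S94.YY.eq_def.{0}) | (have := @Cfsg.Agent.H46.S94.YY.eq_def) | skip
  first | (have := @Cfsg.Agent.H46.S94.YY.eq_1.{0,0,0}) | (have := @Cfsg.Agent.H46.S94.YY.eq_1.{0,0}) | (have := @Cfsg.Agent.H46.S94.YY.eq_1.{0}) | (have := @Cfsg.Agent.H46.S94.YY.eq_1) | skip
  first | (have := @Cfsg.Agent.H46.S94.YY.eq_2.{0,0,0}) | (have := @Cfsg.Agent.H46.S94.YY.eq_2.{0,0}) | (have := @Cfsg.Agent.H46.S94.YY.eq_2.{0}) | (have := @Cfsg.Agent.H46.S94.YY.eq_2) | skip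
  first | (have := @Cfsg.Agent.H46.S94.YY.eq_unfold.{0,0,0}) | (have := @Cfsg.Agent.H46.S94.YY.eq_unfold.{0,0}) | (have := @Cfsg.Agent.H46.S94.YY.eq_unfold.{0}) | (have := @Cfsg.Agent.H46.S94.YY.eq_unfold) | skip
  first | (have := @Cfsg.Agent.H46.S94.YY.congr_simp.{0,0,0}) | (have := @Cfsg.Agent.H46.S94.YY.congr_simp.{0,0}) | (have := @Cfsg.Agent.H46.S94.YY.congr_simp.{0}) | (have := @Cfsg.Agent.H46.S94.YY.congr_simp) | skip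
  first | (have := @Cfsg.Agent.H46.S94.im.eq_def.{0,0,0}) | (have := @Cfsg.Agent.H46.S94.im.eq_def.{0,0}) | (have := @Cfsg.Agent.H46.S94.im.eq_def.{0}) | (have := @Cfsg.Agent.H46.S94.im.eq_def) | skip
  first | (have := @Cfsg.Agent.H46.S94.im.eq_1.{0,0,0}) | (have := @Cfsg.Agent.H46.S94.im.eq_1.{0,0}) | (have := @Cfsg.Agent.H46.S94.im.eq_1.{0}) | (have := @Cfsg.Agent.H46.S94.im.eq_1) | skip
  first | (have := @Cfsg.Agent.H46.S94.im.eq_2.{0,0,0}) | (have := @Cfsg.Agent.H46.S94.im.eq_2.{0,0}) | (have := @Cfsg.Agent.H46.S94.im.eq_2.{0}) | (have := @Cfsg.Agent.H46.S94.im.eq_2) | skip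
  first | (have := @Cfsg.Agent.H46.S94.im.eq_unfold.{0,0,0}) | (have := @Cfsg.Agent.H46.S94.im.eq_unfold.{0,0}) | (have := @Cfsg.Agent.H46.S94.im.eq_unfold.{0}) | (have := @Cfsg.Agent.H46.S94.im.eq_unfold) | skip
  first | (have := @Cfsg.Agent.H46.S94.im.congr_simp.{0,0,0}) | (have := @Cfsg.Agent.H46.S94.im.congr_simp.{0,0}) | (have := @Cfsg.Agent.H46.S94.im.congr_simp.{0}) | (have := @Cfsg.Agent.H46.S94.im.congr_simp) | skip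
  first | (have := @Cfsg.Agent.H46.S94.pre.eq_def.{0,0,0}) | (have := @Cfsg.Agent.H46.S94.pre.eq_def.{0,0}) | (have := @Cfsg.Agent.H46.S94.pre.eq_def.{0}) | (have := @Cfsg.Agent.H46.S94.pre.eq_def) | skip
  first | (have := @Cfsg.Agent.H46.S94.pre.eq_1.{0,0,0}) | (have := @Cfsg.Agent.H46.S94.pre.eq_1.{0,0}) | (have := @Cfsg.Agent.H46.S94.pre.eq_1.{0}) | (have := @Cfsg.Agent.H46.S94.pre.eq_1) | skip
  first | (have := @Cfsg.Agent.H46.S94.pre.eq_2.{0,0,0}) | (have := @Cfsg.Agent.H46.S94.pre.eq_2.{0,0}) | (have := @Cfsg.Agent.H46.S94.pre.eq_2.{0}) | (have := @Cfsg.Agent.H46.S94.pre.eq_2) | skip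
  first | (have := @Cfsg.Agent.H46.S94.pre.eq_unfold.{0,0,0}) | (have := @Cfsg.Agent.H46.S94.pre.eq_unfold.{0,0}) | (have := @Cfsg.Agent.H46.S94.pre.eq_unfold.{0}) | (have := @Cfsg.Agent.H46.S94.pre.eq_unfold) | skip
  first | (have := @Cfsg.Agent.H46.S94.pre.congr_simp.{0,0,0}) | (have := @Cfsg.Agent.H46.S94.pre.congr_simp.{0,0}) | (have := @Cfsg.Agent.H46.S94.pre.congr_simp.{0}) | (have := @Cfsg.Agent.H46.S94.pre.congr_simp) | skip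
  first | (have := @Cfsg.Agent.H46.S94.J1FStmt.eq_def.{0,0,0}) | (have := @Cfsg.Agent.H46.S94.J1FStmt.eq_def.{0,0}) | (have := @Cfsg.Agent.H46.S94.J1FStmt.eq_def.{0}) | (have := @Cfsg.Agent.H46.S94.J1FStmt.eq_def) | skip
  first | (have := @Cfsg.Agent.H46.S94.J1FStmt.eq_1.{0,0,0}) | (have := @Cfsg.Agent.H46.S94.J1FStmt.eq_1.{0,0}) | (have := @Cfsg.Agent.H46.S94.J1FStmt.eq_1.{0}) | (have := @Cfsg.Agent.H46.S94.J1FStmt.eq_1) | skip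
  first | (have := @Cfsg.Agent.H46.S94.J1FStmt.eq_2.{0,0,0}) | (have := @Cfsg.Agent.H46.S94.J1FStmt.eq_2.{0,0}) | (have := @Cfsg.Agent.H46.S94.J1FStmt.eq_2.{0}) | (have := @Cfsg.Agent.H46.S94.J1FStmt.eq_2) | skip
  first | (have := @Cfsg.Agent.H46.S94.J1FStmt.eq_unfold.{0,0,0}) | (have := @Cfsg.Agent.H46.S94.J1FStmt.eq_unfold.{0,0}) | (have := @Cfsg.Agent.H46.S94.J1FStmt.eq_unfold.{0}) | (have := @Cfsg.Agent.H46.S94.J1FStmt.eq_unfold) | skip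
  first | (have := @Cfsg.Agent.H46.S94.J1FStmt.congr_simp.{0,0,0}) | (have := @Cfsg.Agent.H46.S94.J1FStmt.congr_simp.{0,0}) | (have := @Cfsg.Agent.H46.S94.J1FStmt.congr_simp.{0}) | (have := @Cfsg.Agent.H46.S94.J1FStmt.congr_simp) | skip
  first | (have := @Cfsg.Agent.H46.S94.GLStmt.eq_def.{0,0,0}) | (have := @Cfsg.Agent.H46.S94.GLStmt.eq_def.{0,0}) | (have := @Cfsg.Agent.H46.S94.GLStmt.eq_def.{0}) | (have := @Cfsg.Agent.H46.S94.GLStmt.eq_def) | skip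
  first | (have := @Cfsg.Agent.H46.S94.GLStmt.eq_1.{0,0,0}) | (have := @Cfsg.Agent.H46.S94.GLStmt.eq_1.{0,0}) | (have := @Cfsg.Agent.H46.S94.GLStmt.eq_1.{0}) | (have := @Cfsg.Agent.H46.S94.GLStmt.eq_1) | skip
  first | (have := @Cfsg.Agent.H46.S94.GLStmt.eq_2.{0,0,0}) | (have := @Cfsg.Agent.H46.S94.GLStmt.eq_2.{0,0}) | (have := @Cfsg.Agent.H46.S94.GLStmt.eq_2.{0}) | (have := @Cfsg.Agent.H46.S94.GLStmt.eq_2) | skip
  first | (have := @Cfsg.Agent.H46.S94.GLStmt.eq_unfold.{0,0,0}) | (have := @Cfsg.Agent.H46.S94.GLStmt.eq_unfold.{0,0}) | (have := @Cfsg.Agent.H46.S94.GLStmt.eq_unfold.{0}) | (have := @Cfsg.Agent.H46.S94.GLStmt.eq_unfold) | skip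
  first | (have := @Cfsg.Agent.H46.S94.GLStmt.congr_simp.{0,0,0}) | (have := @Cfsg.Agent.H46.S94.GLStmt.congr_simp.{0,0}) | (have := @Cfsg.Agent.H46.S94.GLStmt.congr_simp.{0}) | (have := @Cfsg.Agent.H46.S94.GLStmt.congr_simp) | skip
  first | (have := @Cfsg.Agent.H46.S94.HLStmt.eq_def.{0,0,0}) | (have := @Cfsg.Agent.H46.S94.HLStmt.eq_def.{0,0}) | (have := @Cfsg.Agent.H46.S94.HLStmt.eq_def.{0}) | (have := @Cfsg.Agent.H46.S94.HLStmt.eq_def) | skip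
  first | (have := @Cfsg.Agent.H46.S94.HLStmt.eq_1.{0,0,0}) | (have := @Cfsg.Agent.H46.S94.HLStmt.eq_1.{0,0}) | (have := @Cfsg.Agent.H46.S94.HLStmt.eq_1.{0}) | (have := @Cfsg.Agent.H46.S94.HLStmt.eq_1) | skip
  first | (have := @Cfsg.Agent.H46.S94.HLStmt.eq_2.{0,0,0}) | (have := @Cfsg.Agent.H46.S94.HLStmt.eq_2.{0,0}) | (have := @Cfsg.Agent.H46.S94.HLStmt.eq_2.{0}) | (have := @Cfsg.Agent.H46.S94.HLStmt.eq_2) | skip
  first | (have := @Cfsg.Agent.H46.S94.HLStmt.eq_unfold.{0,0,0}) | (have := @Cfsg.Agent.H46.S94.HLStmt.eq_unfold.{0,0}) | (have := @Cfsg.Agent.H46.S94.HLStmt.eq_unfold.{0}) | (have := @Cfsg.Agent.H46.S94.HLStmt.eq_unfold) | skip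
  first | (have := @Cfsg.Agent.H46.S94.HLStmt.congr_simp.{0,0,0}) | (have := @Cfsg.Agent.H46.S94.HLStmt.congr_simp.{0,0}) | (have := @Cfsg.Agent.H46.S94.HLStmt.congr_simp.{0}) | (have := @Cfsg.Agent.H46.S94.HLStmt.congr_simp) | skip
  first | (have := @Cfsg.Agent.H46.S94.JAStmt.eq_def.{0,0,0}) | (have := @Cfsg.Agent.H46.S94.JAStmt.eq_def.{0,0}) | (have := @Cfsg.Agent.H46.S94.JAStmt.eq_def.{0}) | (have := @Cfsg.Agent.H46.S94.JAStmt.eq_def) | skip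
  first | (have := @Cfsg.Agent.H46.S94.JAStmt.eq_1.{0,0,0}) | (have := @Cfsg.Agent.H46.S94.JAStmt.eq_1.{0,0}) | (have := @Cfsg.Agent.H46.S94.JAStmt.eq_1.{0}) | (have := @Cfsg.Agent.H46.S94.JAStmt.eq_1) | skip
  first | (have := @Cfsg.Agent.H46.S94.JAStmt.eq_2.{0,0,0}) | (have := @Cfsg.Agent.H46.S94.JAStmt.eq_2.{0,0}) | (have := @Cfsg.Agent.H46.S94.JAStmt.eq_2.{0}) | (have := @Cfsg.Agent.H46.S94.JAStmt.eq_2) | skip
  first | (have := @Cfsg.Agent.H46.S94.JAStmt.eq_unfold.{0,0,0}) | (have := @Cfsg.Agent.H46.S94.JAStmt.eq_unfold.{0,0}) | (have := @Cfsg.Agent.H46.S94.JAStmt.eq_unfold.{0}) | (have := @Cfsg.Agent.H46.S94.JAStmt.eq_unfold) | skip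
  first | (have := @Cfsg.Agent.H46.S94.JAStmt.congr_simp.{0,0,0}) | (have := @Cfsg.Agent.H46.S94.JAStmt.congr_simp.{0,0}) | (have := @Cfsg.Agent.H46.S94.JAStmt.congr_simp.{0}) | (have := @Cfsg.Agent.H46.S94.JAStmt.congr_simp) | skip
  first | (have := @Cfsg.Agent.H46.S94.JEStmt.eq_def.{0,0,0}) | (have := @Cfsg.Agent.H46.S94.JEStmt.eq_def.{0,0}) | (have := @Cfsg.Agent.H46.S94.JEStmt.eq_def.{0}) | (have := @Cfsg.Agent.H46.S94.JEStmt.eq_def) | skip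
  first | (have := @Cfsg.Agent.H46.S94.JEStmt.eq_1.{0,0,0}) | (have := @Cfsg.Agent.H46.S94.JEStmt.eq_1.{0,0}) | (have := @Cfsg.Agent.H46.S94.JEStmt.eq_1.{0}) | (have := @Cfsg.Agent.H46.S94.JEStmt.eq_1) | skip
  first | (have := @Cfsg.Agent.H46.S94.JEStmt.eq_2.{0,0,0}) | (have := @Cfsg.Agent.H46.S94.JEStmt.eq_2.{0,0}) | (have := @Cfsg.Agent.H46.S94.JEStmt.eq_2.{0}) | (have := @Cfsg.Agent.H46.S94.JEStmt.eq_2) | skip
  first | (have := @Cfsg.Agent.H46.S94.JEStmt.eq_unfold.{0,0,0}) | (have := @Cfsg.Agent.H46.S94.JEStmt.eq_unfold.{0,0}) | (have := @Cfsg.Agent.H46.S94.JEStmt.eq_unfold.{0}) | (have := @Cfsg.Agent.H46.S94.JEStmt.eq_unfold) | skip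
  first | (have := @Cfsg.Agent.H46.S94.JEStmt.congr_simp.{0,0,0}) | (have := @Cfsg.Agent.H46.S94.JEStmt.congr_simp.{0,0}) | (have := @Cfsg.Agent.H46.S94.JEStmt.congr_simp.{0}) | (have := @Cfsg.Agent.H46.S94.JEStmt.congr_simp) | skip
  first | (have := @Cfsg.Agent.H46.S94.JG0Stmt.eq_def.{0,0,0}) | (have := @Cfsg.Agent.H46.S94.JG0Stmt.eq_def.{0,0}) | (have := @Cfsg.Agent.H46.S94.JG0Stmt.eq_def.{0}) | (have := @Cfsg.Agent.H46.S94.JG0Stmt.eq_def) | skip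
  first | (have := @Cfsg.Agent.H46.S94.JG0Stmt.eq_1.{0,0,0}) | (have := @Cfsg.Agent.H46.S94.JG0Stmt.eq_1.{0,0}) | (have := @Cfsg.Agent.H46.S94.JG0Stmt.eq_1.{0}) | (have := @Cfsg.Agent.H46.S94.JG0Stmt.eq_1) | skip
  first | (have := @Cfsg.Agent.H46.S94.JG0Stmt.eq_2.{0,0,0}) | (have := @Cfsg.Agent.H46.S94.JG0Stmt.eq_2.{0,0}) | (have := @Cfsg.Agent.H46.S94.JG0Stmt.eq_2.{0}) | (have := @Cfsg.Agent.H46.S94.JG0Stmt.eq_2) | skip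
  first | (have := @Cfsg.Agent.H46.S94.JG0Stmt.eq_unfold.{0,0,0}) | (have := @Cfsg.Agent.H46.S94.JG0Stmt.eq_unfold.{0,0}) | (have := @Cfsg.Agent.H46.S94.JG0Stmt.eq_unfold.{0}) | (have := @Cfsg.Agent.H46.S94.JG0Stmt.eq_unfold) | skip
  first | (have := @Cfsg.Agent.H46.S94.JG0Stmt.congr_simp.{0,0,0}) | (have := @Cfsg.Agent.H46.S94.JG0Stmt.congr_simp.{0,0}) | (have := @Cfsg.Agent.H46.S94.JG0Stmt.congr_simp.{0}) | (have := @Cfsg.Agent.H46.S94.JG0Stmt.congr_simp) | skip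
  first | (have := @Cfsg.Agent.H46.S94.JG1Stmt.eq_def.{0,0,0}) | (have := @Cfsg.Agent.H46.S94.JG1Stmt.eq_def.{0,0}) | (have := @Cfsg.Agent.H46.S94.JG1Stmt.eq_def.{0}) | (have := @Cfsg.Agent.H46.S94.JG1Stmt.eq_def) | skip
  first | (have := @Cfsg.Agent.H46.S94.JG1Stmt.eq_1.{0,0,0}) | (have := @Cfsg.Agent.H46.S94.JG1Stmt.eq_1.{0,0}) | (have := @Cfsg.Agent.H46.S94.JG1Stmt.eq_1.{0}) | (have := @Cfsg.Agent.H46.S94.JG1Stmt.eq_1) | skip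
  first | (have := @Cfsg.Agent.H46.S94.JG1Stmt.eq_2.{0,0,0}) | (have := @Cfsg.Agent.H46.S94.JG1Stmt.eq_2.{0,0}) | (have := @Cfsg.Agent.H46.S94.JG1Stmt.eq_2.{0}) | (have := @Cfsg.Agent.H46.S94.JG1Stmt.eq_2) | skip
  first | (have := @Cfsg.Agent.H46.S94.JG1Stmt.eq_unfold.{0,0,0}) | (have := @Cfsg.Agent.H46.S94.JG1Stmt.eq_unfold.{0,0}) | (have := @Cfsg.Agent.H46.S94.JG1Stmt.eq_unfold.{0}) | (have := @Cfsg.Agent.H46.S94.JG1Stmt.eq_unfold) | skip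
  first | (have := @Cfsg.Agent.H46.S94.JG1Stmt.congr_simp.{0,0,0}) | (have := @Cfsg.Agent.H46.S94.JG1Stmt.congr_simp.{0,0}) | (have := @Cfsg.Agent.H46.S94.JG1Stmt.congr_simp.{0}) | (have := @Cfsg.Agent.H46.S94.JG1Stmt.congr_simp) | skip
  first | (have := @Cfsg.Agent.H46.S94.JG2Stmt.eq_def.{0,0,0}) | (have := @Cfsg.Agent.H46.S94.JG2Stmt.eq_def.{0,0}) | (have := @Cfsg.Agent.H46.S94.JG2Stmt.eq_def.{0}) | (have := @Cfsg.Agent.H46.S94.JG2Stmt.eq_def) | skip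
  first | (have := @Cfsg.Agent.H46.S94.JG2Stmt.eq_1.{0,0,0}) | (have := @Cfsg.Agent.H46.S94.JG2Stmt.eq_1.{0,0}) | (have := @Cfsg.Agent.H46.S94.JG2Stmt.eq_1.{0}) | (have := @Cfsg.Agent.H46.S94.JG2Stmt.eq_1) | skip
  first | (have := @Cfsg.Agent.H46.S94.JG2Stmt.eq_2.{0,0,0}) | (have := @Cfsg.Agent.H46.S94.JG2Stmt.eq_2.{0,0}) | (have := @Cfsg.Agent.H46.S94.JG2Stmt.eq_2.{0}) | (have := @Cfsg.Agent.H46.S94.JG2Stmt.eq_2) | skip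
  first | (have := @Cfsg.Agent.H46.S94.JG2Stmt.eq_unfold.{0,0,0}) | (have := @Cfsg.Agent.H46.S94.JG2Stmt.eq_unfold.{0,0}) | (have := @Cfsg.Agent.H46.S94.JG2Stmt.eq_unfold.{0}) | (have := @Cfsg.Agent.H46.S94.JG2Stmt.eq_unfold) | skip
  first | (have := @Cfsg.Agent.H46.S94.JG2Stmt.congr_simp.{0,0,0}) | (have := @Cfsg.Agent.H46.S94.JG2Stmt.congr_simp.{0,0}) | (have := @Cfsg.Agent.H46.S94.JG2Stmt.congr_simp.{0}) | (have := @Cfsg.Agent.H46.S94.JG2Stmt.congr_simp) | skip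
  first | (have := @Cfsg.Agent.H46.S94.JG3aStmt.eq_def.{0,0,0}) | (have := @Cfsg.Agent.H46.S94.JG3aStmt.eq_def.{0,0}) | (have := @Cfsg.Agent.H46.S94.JG3aStmt.eq_def.{0}) | (have := @Cfsg.Agent.H46.S94.JG3aStmt.eq_def) | skip
  first | (have := @Cfsg.Agent.H46.S94.JG3aStmt.eq_1.{0,0,0}) | (have := @Cfsg.Agent.H46.S94.JG3aStmt.eq_1.{0,0}) | (have := @Cfsg.Agent.H46.S94.JG3aStmt.eq_1.{0}) | (have := @Cfsg.Agent.H46.S94.JG3aStmt.eq_1) | skip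
  first | (have := @Cfsg.Agent.H46.S94.JG3aStmt.eq_2.{0,0,0}) | (have := @Cfsg.Agent.H46.S94.JG3aStmt.eq_2.{0,0}) | (have := @Cfsg.Agent.H46.S94.JG3aStmt.eq_2.{0}) | (have := @Cfsg.Agent.H46.S94.JG3aStmt.eq_2) | skip
  first | (have := @Cfsg.Agent.H46.S94.JG3aStmt.eq_unfold.{0,0,0}) | (have := @Cfsg.Agent.H46.S94.JG3aStmt.eq_unfold.{0,0}) | (have := @Cfsg.Agent.H46.S94.JG3aStmt.eq_unfold.{0}) | (have := @Cfsg.Agent.H46.S94.JG3aStmt.eq_unfold) | skip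
  first | (have := @Cfsg.Agent.H46.S94.JG3aStmt.congr_simp.{0,0,0}) | (have := @Cfsg.Agent.H46.S94.JG3aStmt.congr_simp.{0,0}) | (have := @Cfsg.Agent.H46.S94.JG3aStmt.congr_simp.{0}) | (have := @Cfsg.Agent.H46.S94.JG3aStmt.congr_simp) | skip
  first | (have := @Cfsg.Agent.H46.S94.JG3bStmt.eq_def.{0,0,0}) | (have := @Cfsg.Agent.H46.S94.JG3bStmt.eq_def.{0,0}) | (have := @Cfsg.Agent.H46.S94.JG3bStmt.eq_def.{0}) | (have := @Cfsg.Agent.H46.S94.JG3bStmt.eq_def) | skip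
  first | (have := @Cfsg.Agent.H46.S94.JG3bStmt.eq_1.{0,0,0}) | (have := @Cfsg.Agent.H46.S94.JG3bStmt.eq_1.{0,0}) | (have := @Cfsg.Agent.H46.S94.JG3bStmt.eq_1.{0}) | (have := @Cfsg.Agent.H46.S94.JG3bStmt.eq_1) | skip
  first | (have := @Cfsg.Agent.H46.S94.JG3bStmt.eq_2.{0,0,0}) | (have := @Cfsg.Agent.H46.S94.JG3bStmt.eq_2.{0,0}) | (have := @Cfsg.Agent.H46.S94.JG3bStmt.eq_2.{0}) | (have := @Cfsg.Agent.H46.S94.JG3bStmt.eq_2) | skip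
  first | (have := @Cfsg.Agent.H46.S94.JG3bStmt.eq_unfold.{0,0,0}) | (have := @Cfsg.Agent.H46.S94.JG3bStmt.eq_unfold.{0,0}) | (have := @Cfsg.Agent.H46.S94.JG3bStmt.eq_unfold.{0}) | (have := @Cfsg.Agent.H46.S94.JG3bStmt.eq_unfold) | skip
  first | (have := @Cfsg.Agent.H46.S94.JG3bStmt.congr_simp.{0,0,0}) | (have := @Cfsg.Agent.H46.S94.JG3bStmt.congr_simp.{0,0}) | (have := @Cfsg.Agent.H46.S94.JG3bStmt.congr_simp.{0}) | (have := @Cfsg.Agent.H46.S94.JG3bStmt.congr_simp) | skip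
  first | (have := @Cfsg.Agent.H46.S94.JG3cStmt.eq_def.{0,0,0}) | (have := @Cfsg.Agent.H46.S94.JG3cStmt.eq_def.{0,0}) | (have := @Cfsg.Agent.H46.S94.JG3cStmt.eq_def.{0}) | (have := @Cfsg.Agent.H46.S94.JG3cStmt.eq_def) | skip
  first | (have := @Cfsg.Agent.H46.S94.JG3cStmt.eq_1.{0,0,0}) | (have := @Cfsg.Agent.H46.S94.JG3cStmt.eq_1.{0,0}) | (have := @Cfsg.Agent.H46.S94.JG3cStmt.eq_1.{0}) | (have := @Cfsg.Agent.H46.S94.JG3cStmt.eq_1) | skip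
  first | (have := @Cfsg.Agent.H46.S94.JG3cStmt.eq_2.{0,0,0}) | (have := @Cfsg.Agent.H46.S94.JG3cStmt.eq_2.{0,0}) | (have := @Cfsg.Agent.H46.S94.JG3cStmt.eq_2.{0}) | (have := @Cfsg.Agent.H46.S94.JG3cStmt.eq_2) | skip
  first | (have := @Cfsg.Agent.H46.S94.JG3cStmt.eq_unfold.{0,0,0}) | (have := @Cfsg.Agent.H46.S94.JG3cStmt.eq_unfold.{0,0}) | (have := @Cfsg.Agent.H46.S94.JG3cStmt.eq_unfold.{0}) | (have := @Cfsg.Agent.H46.S94.JG3cStmt.eq_unfold) | skip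
  first | (have := @Cfsg.Agent.H46.S94.JG3cStmt.congr_simp.{0,0,0}) | (have := @Cfsg.Agent.H46.S94.JG3cStmt.congr_simp.{0,0}) | (have := @Cfsg.Agent.H46.S94.JG3cStmt.congr_simp.{0}) | (have := @Cfsg.Agent.H46.S94.JG3cStmt.congr_simp) | skip
  first | (have := @Cfsg.Agent.H46.S94.JG3dStmt.eq_def.{0,0,0}) | (have := @Cfsg.Agent.H46.S94.JG3dStmt.eq_def.{0,0}) | (have := @Cfsg.Agent.H46.S94.JG3dStmt.eq_def.{0}) | (have := @Cfsg.Agent.H46.S94.JG3dStmt.eq_def) | skip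
  first | (have := @Cfsg.Agent.H46.S94.JG3dStmt.eq_1.{0,0,0}) | (have := @Cfsg.Agent.H46.S94.JG3dStmt.eq_1.{0,0}) | (have := @Cfsg.Agent.H46.S94.JG3dStmt.eq_1.{0}) | (have := @Cfsg.Agent.H46.S94.JG3dStmt.eq_1) | skip
  first | (have := @Cfsg.Agent.H46.S94.JG3dStmt.eq_2.{0,0,0}) | (have := @Cfsg.Agent.H46.S94.JG3dStmt.eq_2.{0,0}) | (have := @Cfsg.Agent.H46.S94.JG3dStmt.eq_2.{0}) | (have := @Cfsg.Agent.H46.S94.JG3dStmt.eq_2) | skip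
  first | (have := @Cfsg.Agent.H46.S94.JG3dStmt.eq_unfold.{0,0,0}) | (have := @Cfsg.Agent.H46.S94.JG3dStmt.eq_unfold.{0,0}) | (have := @Cfsg.Agent.H46.S94.JG3dStmt.eq_unfold.{0}) | (have := @Cfsg.Agent.H46.S94.JG3dStmt.eq_unfold) | skip
  first | (have := @Cfsg.Agent.H46.S94.JG3dStmt.congr_simp.{0,0,0}) | (have := @Cfsg.Agent.H46.S94.JG3dStmt.congr_simp.{0,0}) | (have := @Cfsg.Agent.H46.S94.JG3dStmt.congr_simp.{0}) | (have := @Cfsg.Agent.H46.S94.JG3dStmt.congr_simp) | skip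
  first | (have := @Cfsg.Agent.H46.S94.JG4aStmt.eq_def.{0,0,0}) | (have := @Cfsg.Agent.H46.S94.JG4aStmt.eq_def.{0,0}) | (have := @Cfsg.Agent.H46.S94.JG4aStmt.eq_def.{0}) | (have := @Cfsg.Agent.H46.S94.JG4aStmt.eq_def) | skip
  first | (have := @Cfsg.Agent.H46.S94.JG4aStmt.eq_1.{0,0,0}) | (have := @Cfsg.Agent.H46.S94.JG4aStmt.eq_1.{0,0}) | (have := @Cfsg.Agent.H46.S94.JG4aStmt.eq_1.{0}) | (have := @Cfsg.Agent.H46.S94.JG4aStmt.eq_1) | skip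
  first | (have := @Cfsg.Agent.H46.S94.JG4aStmt.eq_2.{0,0,0}) | (have := @Cfsg.Agent.H46.S94.JG4aStmt.eq_2.{0,0}) | (have := @Cfsg.Agent.H46.S94.JG4aStmt.eq_2.{0}) | (have := @Cfsg.Agent.H46.S94.JG4aStmt.eq_2) | skip
  first | (have := @Cfsg.Agent.H46.S94.JG4aStmt.eq_unfold.{0,0,0}) | (have := @Cfsg.Agent.H46.S94.JG4aStmt.eq_unfold.{0,0}) | (have := @Cfsg.Agent.H46.S94.JG4aStmt.eq_unfold.{0}) | (have := @Cfsg.Agent.H46.S94.JG4aStmt.eq_unfold) | skip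
  first | (have := @Cfsg.Agent.H46.S94.JG4aStmt.congr_simp.{0,0,0}) | (have := @Cfsg.Agent.H46.S94.JG4aStmt.congr_simp.{0,0}) | (have := @Cfsg.Agent.H46.S94.JG4aStmt.congr_simp.{0}) | (have := @Cfsg.Agent.H46.S94.JG4aStmt.congr_simp) | skip
  first | (have := @Cfsg.Agent.H46.S94.JG4bStmt.eq_def.{0,0,0}) | (have := @Cfsg.Agent.H46.S94.JG4bStmt.eq_def.{0,0}) | (have := @Cfsg.Agent.H46.S94.JG4bStmt.eq_def.{0}) | (have := @Cfsg.Agent.H46.S94.JG4bStmt.eq_def) | skip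
  first | (have := @Cfsg.Agent.H46.S94.JG4bStmt.eq_1.{0,0,0}) | (have := @Cfsg.Agent.H46.S94.JG4bStmt.eq_1.{0,0}) | (have := @Cfsg.Agent.H46.S94.JG4bStmt.eq_1.{0}) | (have := @Cfsg.Agent.H46.S94.JG4bStmt.eq_1) | skip
  first | (have := @Cfsg.Agent.H46.S94.JG4bStmt.eq_2.{0,0,0}) | (have := @Cfsg.Agent.H46.S94.JG4bStmt.eq_2.{0,0}) | (have := @Cfsg.Agent.H46.S94.JG4bStmt.eq_2.{0}) | (have := @Cfsg.Agent.H46.S94.JG4bStmt.eq_2) | skip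
  first | (have := @Cfsg.Agent.H46.S94.JG4bStmt.eq_unfold.{0,0,0}) | (have := @Cfsg.Agent.H46.S94.JG4bStmt.eq_unfold.{0,0}) | (have := @Cfsg.Agent.H46.S94.JG4bStmt.eq_unfold.{0}) | (have := @Cfsg.Agent.H46.S94.JG4bStmt.eq_unfold) | skip
  first | (have := @Cfsg.Agent.H46.S94.JG4bStmt.congr_simp.{0,0,0}) | (have := @Cfsg.Agent.H46.S94.JG4bStmt.congr_simp.{0,0}) | (have := @Cfsg.Agent.H46.S94.JG4bStmt.congr_simp.{0}) | (have := @Cfsg.Agent.H46.S94.JG4bStmt.congr_simp) | skip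
  first | (have := @Cfsg.Agent.H46.S94.JG4cStmt.eq_def.{0,0,0}) | (have := @Cfsg.Agent.H46.S94.JG4cStmt.eq_def.{0,0}) | (have := @Cfsg.Agent.H46.S94.JG4cStmt.eq_def.{0}) | (have := @Cfsg.Agent.H46.S94.JG4cStmt.eq_def) | skip
  first | (have := @Cfsg.Agent.H46.S94.JG4cStmt.eq_1.{0,0,0}) | (have := @Cfsg.Agent.H46.S94.JG4cStmt.eq_1.{0,0}) | (have := @Cfsg.Agent.H46.S94.JG4cStmt.eq_1.{0}) | (have := @Cfsg.Agent.H46.S94.JG4cStmt.eq_1) | skip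
  first | (have := @Cfsg.Agent.H46.S94.JG4cStmt.eq_2.{0,0,0}) | (have := @Cfsg.Agent.H46.S94.JG4cStmt.eq_2.{0,0}) | (have := @Cfsg.Agent.H46.S94.JG4cStmt.eq_2.{0}) | (have := @Cfsg.Agent.H46.S94.JG4cStmt.eq_2) | skip
  first | (have := @Cfsg.Agent.H46.S94.JG4cStmt.eq_unfold.{0,0,0}) | (have := @Cfsg.Agent.H46.S94.JG4cStmt.eq_unfold.{0,0}) | (have := @Cfsg.Agent.H46.S94.JG4cStmt.eq_unfold.{0}) | (have := @Cfsg.Agent.H46.S94.JG4cStmt.eq_unfold) | skip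
  first | (have := @Cfsg.Agent.H46.S94.JG4cStmt.congr_simp.{0,0,0}) | (have := @Cfsg.Agent.H46.S94.JG4cStmt.congr_simp.{0,0}) | (have := @Cfsg.Agent.H46.S94.JG4cStmt.congr_simp.{0}) | (have := @Cfsg.Agent.H46.S94.JG4cStmt.congr_simp) | skip
  first | (have := @Cfsg.Agent.H46.S94.JG5Stmt.eq_def.{0,0,0}) | (have := @Cfsg.Agent.H46.S94.JG5Stmt.eq_def.{0,0}) | (have := @Cfsg.Agent.H46.S94.JG5Stmt.eq_def.{0}) | (have := @Cfsg.Agent.H46.S94.JG5Stmt.eq_def) | skip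
  first | (have := @Cfsg.Agent.H46.S94.JG5Stmt.eq_1.{0,0,0}) | (have := @Cfsg.Agent.H46.S94.JG5Stmt.eq_1.{0,0}) | (have := @Cfsg.Agent.H46.S94.JG5Stmt.eq_1.{0}) | (have := @Cfsg.Agent.H46.S94.JG5Stmt.eq_1) | skip
  first | (have := @Cfsg.Agent.H46.S94.JG5Stmt.eq_2.{0,0,0}) | (have := @Cfsg.Agent.H46.S94.JG5Stmt.eq_2.{0,0}) | (have := @Cfsg.Agent.H46.S94.JG5Stmt.eq_2.{0}) | (have := @Cfsg.Agent.H46.S94.JG5Stmt.eq_2) | skip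
  first | (have := @Cfsg.Agent.H46.S94.JG5Stmt.eq_unfold.{0,0,0}) | (have := @Cfsg.Agent.H46.S94.JG5Stmt.eq_unfold.{0,0}) | (have := @Cfsg.Agent.H46.S94.JG5Stmt.eq_unfold.{0}) | (have := @Cfsg.Agent.H46.S94.JG5Stmt.eq_unfold) | skip
  first | (have := @Cfsg.Agent.H46.S94.JG5Stmt.congr_simp.{0,0,0}) | (have := @Cfsg.Agent.H46.S94.JG5Stmt.congr_simp.{0,0}) | (have := @Cfsg.Agent.H46.S94.JG5Stmt.congr_simp.{0}) | (have := @Cfsg.Agent.H46.S94.JG5Stmt.congr_simp) | skip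
  first | (have := @Cfsg.Agent.H46.S94.AbSStmt.eq_def.{0,0,0}) | (have := @Cfsg.Agent.H46.S94.AbSStmt.eq_def.{0,0}) | (have := @Cfsg.Agent.H46.S94.AbSStmt.eq_def.{0}) | (have := @Cfsg.Agent.H46.S94.AbSStmt.eq_def) | skip
  first | (have := @Cfsg.Agent.H46.S94.AbSStmt.eq_1.{0,0,0}) | (have := @Cfsg.Agent.H46.S94.AbSStmt.eq_1.{0,0}) | (have := @Cfsg.Agent.H46.S94.AbSStmt.eq_1.{0}) | (have := @Cfsg.Agent.H46.S94.AbSStmt.eq_1) | skip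
  first | (have := @Cfsg.Agent.H46.S94.AbSStmt.eq_2.{0,0,0}) | (have := @Cfsg.Agent.H46.S94.AbSStmt.eq_2.{0,0}) | (have := @Cfsg.Agent.H46.S94.AbSStmt.eq_2.{0}) | (have := @Cfsg.Agent.H46.S94.AbSStmt.eq_2) | skip
  first | (have := @Cfsg.Agent.H46.S94.AbSStmt.eq_unfold.{0,0,0}) | (have := @Cfsg.Agent.H46.S94.AbSStmt.eq_unfold.{0,0}) | (have := @Cfsg.Agent.H46.S94.AbSStmt.eq_unfold.{0}) | (have := @Cfsg.Agent.H46.S94.AbSStmt.eq_unfold) | skip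
  first | (have := @Cfsg.Agent.H46.S94.AbSStmt.congr_simp.{0,0,0}) | (have := @Cfsg.Agent.H46.S94.AbSStmt.congr_simp.{0,0}) | (have := @Cfsg.Agent.H46.S94.AbSStmt.congr_simp.{0}) | (have := @Cfsg.Agent.H46.S94.AbSStmt.congr_simp) | skip
  first | (have := @Cfsg.Agent.H46.S94.C2sStmt.eq_def.{0,0,0}) | (have := @Cfsg.Agent.H46.S94.C2sStmt.eq_def.{0,0}) | (have := @Cfsg.Agent.H46.S94.C2sStmt.eq_def.{0}) | (have := @Cfsg.Agent.H46.S94.C2sStmt.eq_def) | skip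
  first | (have := @Cfsg.Agent.H46.S94.C2sStmt.eq_1.{0,0,0}) | (have := @Cfsg.Agent.H46.S94.C2sStmt.eq_1.{0,0}) | (have := @Cfsg.Agent.H46.S94.C2sStmt.eq_1.{0}) | (have := @Cfsg.Agent.H46.S94.C2sStmt.eq_1) | skip
  first | (have := @Cfsg.Agent.H46.S94.C2sStmt.eq_2.{0,0,0}) | (have := @Cfsg.Agent.H46.S94.C2sStmt.eq_2.{0,0}) | (have := @Cfsg.Agent.H46.S94.C2sStmt.eq_2.{0}) | (have := @Cfsg.Agent.H46.S94.C2sStmt.eq_2) | skip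
  first | (have := @Cfsg.Agent.H46.S94.C2sStmt.eq_unfold.{0,0,0}) | (have := @Cfsg.Agent.H46.S94.C2sStmt.eq_unfold.{0,0}) | (have := @Cfsg.Agent.H46.S94.C2sStmt.eq_unfold.{0}) | (have := @Cfsg.Agent.H46.S94.C2sStmt.eq_unfold) | skip
  first | (have := @Cfsg.Agent.H46.S94.C2sStmt.congr_simp.{0,0,0}) | (have := @Cfsg.Agent.H46.S94.C2sStmt.congr_simp.{0,0}) | (have := @Cfsg.Agent.H46.S94.C2sStmt.congr_simp.{0}) | (have := @Cfsg.Agent.H46.S94.C2sStmt.congr_simp) | skip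
  first | (have := @Cfsg.Agent.H46.S94.JAbStmt.eq_def.{0,0,0}) | (have := @Cfsg.Agent.H46.S94.JAbStmt.eq_def.{0,0}) | (have := @Cfsg.Agent.H46.S94.JAbStmt.eq_def.{0}) | (have := @Cfsg.Agent.H46.S94.JAbStmt.eq_def) | skip
  first | (have := @Cfsg.Agent.H46.S94.JAbStmt.eq_1.{0,0,0}) | (have := @Cfsg.Agent.H46.S94.JAbStmt.eq_1.{0,0}) | (have := @Cfsg.Agent.H46.S94.JAbStmt.eq_1.{0}) | (have := @Cfsg.Agent.H46.S94.JAbStmt.eq_1) | skip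
  first | (have := @Cfsg.Agent.H46.S94.JAbStmt.eq_2.{0,0,0}) | (have := @Cfsg.Agent.H46.S94.JAbStmt.eq_2.{0,0}) | (have := @Cfsg.Agent.H46.S94.JAbStmt.eq_2.{0}) | (have := @Cfsg.Agent.H46.S94.JAbStmt.eq_2) | skip
  first | (have := @Cfsg.Agent.H46.S94.JAbStmt.eq_unfold.{0,0,0}) | (have := @Cfsg.Agent.H46.S94.JAbStmt.eq_unfold.{0,0}) | (have := @Cfsg.Agent.H46.S94.JAbStmt.eq_unfold.{0}) | (have := @Cfsg.Agent.H46.S94.JAbStmt.eq_unfold) | skip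
  first | (have := @Cfsg.Agent.H46.S94.JAbStmt.congr_simp.{0,0,0}) | (have := @Cfsg.Agent.H46.S94.JAbStmt.congr_simp.{0,0}) | (have := @Cfsg.Agent.H46.S94.JAbStmt.congr_simp.{0}) | (have := @Cfsg.Agent.H46.S94.JAbStmt.congr_simp) | skip
  first | (have := @Cfsg.Agent.H46.S94.JB0Stmt.eq_def.{0,0,0}) | (have := @Cfsg.Agent.H46.S94.JB0Stmt.eq_def.{0,0}) | (have := @Cfsg.Agent.H46.S94.JB0Stmt.eq_def.{0}) | (have := @Cfsg.Agent.H46.S94.JB0Stmt.eq_def) | skip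
  first | (have := @Cfsg.Agent.H46.S94.JB0Stmt.eq_1.{0,0,0}) | (have := @Cfsg.Agent.H46.S94.JB0Stmt.eq_1.{0,0}) | (have := @Cfsg.Agent.H46.S94.JB0Stmt.eq_1.{0}) | (have := @Cfsg.Agent.H46.S94.JB0Stmt.eq_1) | skip
  first | (have := @Cfsg.Agent.H46.S94.JB0Stmt.eq_2.{0,0,0}) | (have := @Cfsg.Agent.H46.S94.JB0Stmt.eq_2.{0,0}) | (have := @Cfsg.Agent.H46.S94.JB0Stmt.eq_2.{0}) | (have := @Cfsg.Agent.H46.S94.JB0Stmt.eq_2) | skip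
  first | (have := @Cfsg.Agent.H46.S94.JB0Stmt.eq_unfold.{0,0,0}) | (have := @Cfsg.Agent.H46.S94.JB0Stmt.eq_unfold.{0,0}) | (have := @Cfsg.Agent.H46.S94.JB0Stmt.eq_unfold.{0}) | (have := @Cfsg.Agent.H46.S94.JB0Stmt.eq_unfold) | skip
  first | (have := @Cfsg.Agent.H46.S94.JB0Stmt.congr_simp.{0,0,0}) | (have := @Cfsg.Agent.H46.S94.JB0Stmt.congr_simp.{0,0}) | (have := @Cfsg.Agent.H46.S94.JB0Stmt.congr_simp.{0}) | (have := @Cfsg.Agent.H46.S94.JB0Stmt.congr_simp) | skip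
  first | (have := @Cfsg.Agent.H46.S94.JT1Stmt.eq_def.{0,0,0}) | (have := @Cfsg.Agent.H46.S94.JT1Stmt.eq_def.{0,0}) | (have := @Cfsg.Agent.H46.S94.JT1Stmt.eq_def.{0}) | (have := @Cfsg.Agent.H46.S94.JT1Stmt.eq_def) | skip
  first | (have := @Cfsg.Agent.H46.S94.JT1Stmt.eq_1.{0,0,0}) | (have := @Cfsg.Agent.H46.S94.JT1Stmt.eq_1.{0,0}) | (have := @Cfsg.Agent.H46.S94.JT1Stmt.eq_1.{0}) | (have := @Cfsg.Agent.H46.S94.JT1Stmt.eq_1) | skip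
  first | (have := @Cfsg.Agent.H46.S94.JT1Stmt.eq_2.{0,0,0}) | (have := @Cfsg.Agent.H46.S94.JT1Stmt.eq_2.{0,0}) | (have := @Cfsg.Agent.H46.S94.JT1Stmt.eq_2.{0}) | (have := @Cfsg.Agent.H46.S94.JT1Stmt.eq_2) | skip
  first | (have := @Cfsg.Agent.H46.S94.JT1Stmt.eq_unfold.{0,0,0}) | (have := @Cfsg.Agent.H46.S94.JT1Stmt.eq_unfold.{0,0}) | (have := @Cfsg.Agent.H46.S94.JT1Stmt.eq_unfold.{0}) | (have := @Cfsg.Agent.H46.S94.JT1Stmt.eq_unfold) | skip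
  first | (have := @Cfsg.Agent.H46.S94.JT1Stmt.congr_simp.{0,0,0}) | (have := @Cfsg.Agent.H46.S94.JT1Stmt.congr_simp.{0,0}) | (have := @Cfsg.Agent.H46.S94.JT1Stmt.congr_simp.{0}) | (have := @Cfsg.Agent.H46.S94.JT1Stmt.congr_simp) | skip
  first | (have := @Cfsg.Agent.H46.S94.JT2aStmt.eq_def.{0,0,0}) | (have := @Cfsg.Agent.H46.S94.JT2aStmt.eq_def.{0,0}) | (have := @Cfsg.Agent.H46.S94.JT2aStmt.eq_def.{0}) | (have := @Cfsg.Agent.H46.S94.JT2aStmt.eq_def) | skip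
  first | (have := @Cfsg.Agent.H46.S94.JT2aStmt.eq_1.{0,0,0}) | (have := @Cfsg.Agent.H46.S94.JT2aStmt.eq_1.{0,0}) | (have := @Cfsg.Agent.H46.S94.JT2aStmt.eq_1.{0}) | (have := @Cfsg.Agent.H46.S94.JT2aStmt.eq_1) | skip
  first | (have := @Cfsg.Agent.H46.S94.JT2aStmt.eq_2.{0,0,0}) | (have := @Cfsg.Agent.H46.S94.JT2aStmt.eq_2.{0,0}) | (have := @Cfsg.Agent.H46.S94.JT2aStmt.eq_2.{0}) | (have := @Cfsg.Agent.H46.S94.JT2aStmt.eq_2) | skip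
  first | (have := @Cfsg.Agent.H46.S94.JT2aStmt.eq_unfold.{0,0,0}) | (have := @Cfsg.Agent.H46.S94.JT2aStmt.eq_unfold.{0,0}) | (have := @Cfsg.Agent.H46.S94.JT2aStmt.eq_unfold.{0}) | (have := @Cfsg.Agent.H46.S94.JT2aStmt.eq_unfold) | skip
  first | (have := @Cfsg.Agent.H46.S94.JT2aStmt.congr_simp.{0,0,0}) | (have := @Cfsg.Agent.H46.S94.JT2aStmt.congr_simp.{0,0}) | (have := @Cfsg.Agent.H46.S94.JT2aStmt.congr_simp.{0}) | (have := @Cfsg.Agent.H46.S94.JT2aStmt.congr_simp) | skip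
  first | (have := @Cfsg.Agent.H46.S94.JT2bStmt.eq_def.{0,0,0}) | (have := @Cfsg.Agent.H46.S94.JT2bStmt.eq_def.{0,0}) | (have := @Cfsg.Agent.H46.S94.JT2bStmt.eq_def.{0}) | (have := @Cfsg.Agent.H46.S94.JT2bStmt.eq_def) | skip
  first | (have := @Cfsg.Agent.H46.S94.JT2bStmt.eq_1.{0,0,0}) | (have := @Cfsg.Agent.H46.S94.JT2bStmt.eq_1.{0,0}) | (have := @Cfsg.Agent.H46.S94.JT2bStmt.eq_1.{0}) | (have := @Cfsg.Agent.H46.S94.JT2bStmt.eq_1) | skip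
  first | (have := @Cfsg.Agent.H46.S94.JT2bStmt.eq_2.{0,0,0}) | (have := @Cfsg.Agent.H46.S94.JT2bStmt.eq_2.{0,0}) | (have := @Cfsg.Agent.H46.S94.JT2bStmt.eq_2.{0}) | (have := @Cfsg.Agent.H46.S94.JT2bStmt.eq_2) | skip
  first | (have := @Cfsg.Agent.H46.S94.JT2bStmt.eq_unfold.{0,0,0}) | (have := @Cfsg.Agent.H46.S94.JT2bStmt.eq_unfold.{0,0}) | (have := @Cfsg.Agent.H46.S94.JT2bStmt.eq_unfold.{0}) | (have := @Cfsg.Agent.H46.S94.JT2bStmt.eq_unfold) | skip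
  first | (have := @Cfsg.Agent.H46.S94.JT2bStmt.congr_simp.{0,0,0}) | (have := @Cfsg.Agent.H46.S94.JT2bStmt.congr_simp.{0,0}) | (have := @Cfsg.Agent.H46.S94.JT2bStmt.congr_simp.{0}) | (have := @Cfsg.Agent.H46.S94.JT2bStmt.congr_simp) | skip
  first | (have := @Cfsg.Agent.H46.S94.JT2cStmt.eq_def.{0,0,0}) | (have := @Cfsg.Agent.H46.S94.JT2cStmt.eq_def.{0,0}) | (have := @Cfsg.Agent.H46.S94.JT2cStmt.eq_def.{0}) | (have := @Cfsg.Agent.H46.S94.JT2cStmt.eq_def) | skip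
  first | (have := @Cfsg.Agent.H46.S94.JT2cStmt.eq_1.{0,0,0}) | (have := @Cfsg.Agent.H46.S94.JT2cStmt.eq_1.{0,0}) | (have := @Cfsg.Agent.H46.S94.JT2cStmt.eq_1.{0}) | (have := @Cfsg.Agent.H46.S94.JT2cStmt.eq_1) | skip
  first | (have := @Cfsg.Agent.H46.S94.JT2cStmt.eq_2.{0,0,0}) | (have := @Cfsg.Agent.H46.S94.JT2cStmt.eq_2.{0,0}) | (have := @Cfsg.Agent.H46.S94.JT2cStmt.eq_2.{0}) | (have := @Cfsg.Agent.H46.S94.JT2cStmt.eq_2) | skip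
  first | (have := @Cfsg.Agent.H46.S94.JT2cStmt.eq_unfold.{0,0,0}) | (have := @Cfsg.Agent.H46.S94.JT2cStmt.eq_unfold.{0,0}) | (have := @Cfsg.Agent.H46.S94.JT2cStmt.eq_unfold.{0}) | (have := @Cfsg.Agent.H46.S94.JT2cStmt.eq_unfold) | skip
  first | (have := @Cfsg.Agent.H46.S94.JT2cStmt.congr_simp.{0,0,0}) | (have := @Cfsg.Agent.H46.S94.JT2cStmt.congr_simp.{0,0}) | (have := @Cfsg.Agent.H46.S94.JT2cStmt.congr_simp.{0}) | (have := @Cfsg.Agent.H46.S94.JT2cStmt.congr_simp) | skip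
  first | (have := @Cfsg.Agent.H46.S94.JL1Stmt.eq_def.{0,0,0}) | (have := @Cfsg.Agent.H46.S94.JL1Stmt.eq_def.{0,0}) | (have := @Cfsg.Agent.H46.S94.JL1Stmt.eq_def.{0}) | (have := @Cfsg.Agent.H46.S94.JL1Stmt.eq_def) | skip
  first | (have := @Cfsg.Agent.H46.S94.JL1Stmt.eq_1.{0,0,0}) | (have := @Cfsg.Agent.H46.S94.JL1Stmt.eq_1.{0,0}) | (have := @Cfsg.Agent.H46.S94.JL1Stmt.eq_1.{0}) | (have := @Cfsg.Agent.H46.S94.JL1Stmt.eq_1) | skip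
  first | (have := @Cfsg.Agent.H46.S94.JL1Stmt.eq_2.{0,0,0}) | (have := @Cfsg.Agent.H46.S94.JL1Stmt.eq_2.{0,0}) | (have := @Cfsg.Agent.H46.S94.JL1Stmt.eq_2.{0}) | (have := @Cfsg.Agent.H46.S94.JL1Stmt.eq_2) | skip
  first | (have := @Cfsg.Agent.H46.S94.JL1Stmt.eq_unfold.{0,0,0}) | (have := @Cfsg.Agent.H46.S94.JL1Stmt.eq_unfold.{0,0}) | (have := @Cfsg.Agent.H46.S94.JL1Stmt.eq_unfold.{0}) | (have := @Cfsg.Agent.H46.S94.JL1Stmt.eq_unfold) | skip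
  first | (have := @Cfsg.Agent.H46.S94.JL1Stmt.congr_simp.{0,0,0}) | (have := @Cfsg.Agent.H46.S94.JL1Stmt.congr_simp.{0,0}) | (have := @Cfsg.Agent.H46.S94.JL1Stmt.congr_simp.{0}) | (have := @Cfsg.Agent.H46.S94.JL1Stmt.congr_simp) | skip
  first | (have := @Cfsg.Agent.H46.S94.DETStmt.eq_def.{0,0,0}) | (have := @Cfsg.Agent.H46.S94.DETStmt.eq_def.{0,0}) | (have := @Cfsg.Agent.H46.S94.DETStmt.eq_def.{0}) | (have := @Cfsg.Agent.H46.S94.DETStmt.eq_def) | skip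
  first | (have := @Cfsg.Agent.H46.S94.DETStmt.eq_1.{0,0,0}) | (have := @Cfsg.Agent.H46.S94.DETStmt.eq_1.{0,0}) | (have := @Cfsg.Agent.H46.S94.DETStmt.eq_1.{0}) | (have := @Cfsg.Agent.H46.S94.DETStmt.eq_1) | skip
  first | (have := @Cfsg.Agent.H46.S94.DETStmt.eq_2.{0,0,0}) | (have := @Cfsg.Agent.H46.S94.DETStmt.eq_2.{0,0}) | (have := @Cfsg.Agent.H46.S94.DETStmt.eq_2.{0}) | (have := @Cfsg.Agent.H46.S94.DETStmt.eq_2) | skip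
  first | (have := @Cfsg.Agent.H46.S94.DETStmt.eq_unfold.{0,0,0}) | (have := @Cfsg.Agent.H46.S94.DETStmt.eq_unfold.{0,0}) | (have := @Cfsg.Agent.H46.S94.DETStmt.eq_unfold.{0}) | (have := @Cfsg.Agent.H46.S94.DETStmt.eq_unfold) | skip
  first | (have := @Cfsg.Agent.H46.S94.DETStmt.congr_simp.{0,0,0}) | (have := @Cfsg.Agent.H46.S94.DETStmt.congr_simp.{0,0}) | (have := @Cfsg.Agent.H46.S94.DETStmt.congr_simp.{0}) | (have := @Cfsg.Agent.H46.S94.DETStmt.congr_simp) | skip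
  first | (have := @Cfsg.Agent.H46.S94.JL3Stmt.eq_def.{0,0,0}) | (have := @Cfsg.Agent.H46.S94.JL3Stmt.eq_def.{0,0}) | (have := @Cfsg.Agent.H46.S94.JL3Stmt.eq_def.{0}) | (have := @Cfsg.Agent.H46.S94.JL3Stmt.eq_def) | skip
  first | (have := @Cfsg.Agent.H46.S94.JL3Stmt.eq_1.{0,0,0}) | (have := @Cfsg.Agent.H46.S94.JL3Stmt.eq_1.{0,0}) | (have := @Cfsg.Agent.H46.S94.JL3Stmt.eq_1.{0}) | (have := @Cfsg.Agent.H46.S94.JL3Stmt.eq_1) | skip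
  first | (have := @Cfsg.Agent.H46.S94.JL3Stmt.eq_2.{0,0,0}) | (have := @Cfsg.Agent.H46.S94.JL3Stmt.eq_2.{0,0}) | (have := @Cfsg.Agent.H46.S94.JL3Stmt.eq_2.{0}) | (have := @Cfsg.Agent.H46.S94.JL3Stmt.eq_2) | skip
  first | (have := @Cfsg.Agent.H46.S94.JL3Stmt.eq_unfold.{0,0,0}) | (have := @Cfsg.Agent.H46.S94.JL3Stmt.eq_unfold.{0,0}) | (have := @Cfsg.Agent.H46.S94.JL3Stmt.eq_unfold.{0}) | (have := @Cfsg.Agent.H46.S94.JL3Stmt.eq_unfold) | skip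
  first | (have := @Cfsg.Agent.H46.S94.JL3Stmt.congr_simp.{0,0,0}) | (have := @Cfsg.Agent.H46.S94.JL3Stmt.congr_simp.{0,0}) | (have := @Cfsg.Agent.H46.S94.JL3Stmt.congr_simp.{0}) | (have := @Cfsg.Agent.H46.S94.JL3Stmt.congr_simp) | skip
  first | (have := @Cfsg.Agent.H46.S94.AUTBStmt.eq_def.{0,0,0}) | (have := @Cfsg.Agent.H46.S94.AUTBStmt.eq_def.{0,0}) | (have := @Cfsg.Agent.H46.S94.AUTBStmt.eq_def.{0}) | (have := @Cfsg.Agent.H46.S94.AUTBStmt.eq_def) | skip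
  first | (have := @Cfsg.Agent.H46.S94.AUTBStmt.eq_1.{0,0,0}) | (have := @Cfsg.Agent.H46.S94.AUTBStmt.eq_1.{0,0}) | (have := @Cfsg.Agent.H46.S94.AUTBStmt.eq_1.{0}) | (have := @Cfsg.Agent.H46.S94.AUTBStmt.eq_1) | skip
  first | (have := @Cfsg.Agent.H46.S94.AUTBStmt.eq_2.{0,0,0}) | (have := @Cfsg.Agent.H46.S94.AUTBStmt.eq_2.{0,0}) | (have := @Cfsg.Agent.H46.S94.AUTBStmt.eq_2.{0}) | (have := @Cfsg.Agent.H46.S94.AUTBStmt.eq_2) | skip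
  first | (have := @Cfsg.Agent.H46.S94.AUTBStmt.eq_unfold.{0,0,0}) | (have := @Cfsg.Agent.H46.S94.AUTBStmt.eq_unfold.{0,0}) | (have := @Cfsg.Agent.H46.S94.AUTBStmt.eq_unfold.{0}) | (have := @Cfsg.Agent.H46.S94.AUTBStmt.eq_unfold) | skip
  first | (have := @Cfsg.Agent.H46.S94.AUTBStmt.congr_simp.{0,0,0}) | (have := @Cfsg.Agent.H46.S94.AUTBStmt.congr_simp.{0,0}) | (have := @Cfsg.Agent.H46.S94.AUTBStmt.congr_simp.{0}) | (have := @Cfsg.Agent.H46.S94.AUTBStmt.congr_simp) | skip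
  first | (have := @Cfsg.Agent.H46.S94.JN1Stmt.eq_def.{0,0,0}) | (have := @Cfsg.Agent.H46.S94.JN1Stmt.eq_def.{0,0}) | (have := @Cfsg.Agent.H46.S94.JN1Stmt.eq_def.{0}) | (have := @Cfsg.Agent.H46.S94.JN1Stmt.eq_def) | skip
  first | (have := @Cfsg.Agent.H46.S94.JN1Stmt.eq_1.{0,0,0}) | (have := @Cfsg.Agent.H46.S94.JN1Stmt.eq_1.{0,0}) | (have := @Cfsg.Agent.H46.S94.JN1Stmt.eq_1.{0}) | (have := @Cfsg.Agent.H46.S94.JN1Stmt.eq_1) | skip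
  first | (have := @Cfsg.Agent.H46.S94.JN1Stmt.eq_2.{0,0,0}) | (have := @Cfsg.Agent.H46.S94.JN1Stmt.eq_2.{0,0}) | (have := @Cfsg.Agent.H46.S94.JN1Stmt.eq_2.{0}) | (have := @Cfsg.Agent.H46.S94.JN1Stmt.eq_2) | skip
  first | (have := @Cfsg.Agent.H46.S94.JN1Stmt.eq_unfold.{0,0,0}) | (have := @Cfsg.Agent.H46.S94.JN1Stmt.eq_unfold.{0,0}) | (have := @Cfsg.Agent.H46.S94.JN1Stmt.eq_unfold.{0}) | (have := @Cfsg.Agent.H46.S94.JN1Stmt.eq_unfold) | skip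
  first | (have := @Cfsg.Agent.H46.S94.JN1Stmt.congr_simp.{0,0,0}) | (have := @Cfsg.Agent.H46.S94.JN1Stmt.congr_simp.{0,0}) | (have := @Cfsg.Agent.H46.S94.JN1Stmt.congr_simp.{0}) | (have := @Cfsg.Agent.H46.S94.JN1Stmt.congr_simp) | skip
  first | (have := @Cfsg.Agent.H46.S94.JN2aStmt.eq_def.{0,0,0}) | (have := @Cfsg.Agent.H46.S94.JN2aStmt.eq_def.{0,0}) | (have := @Cfsg.Agent.H46.S94.JN2aStmt.eq_def.{0}) | (have := @Cfsg.Agent.H46.S94.JN2aStmt.eq_def) | skip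
  first | (have := @Cfsg.Agent.H46.S94.JN2aStmt.eq_1.{0,0,0}) | (have := @Cfsg.Agent.H46.S94.JN2aStmt.eq_1.{0,0}) | (have := @Cfsg.Agent.H46.S94.JN2aStmt.eq_1.{0}) | (have := @Cfsg.Agent.H46.S94.JN2aStmt.eq_1) | skip
  first | (have := @Cfsg.Agent.H46.S94.JN2aStmt.eq_2.{0,0,0}) | (have := @Cfsg.Agent.H46.S94.JN2aStmt.eq_2.{0,0}) | (have := @Cfsg.Agent.H46.S94.JN2aStmt.eq_2.{0}) | (have := @Cfsg.Agent.H46.S94.JN2aStmt.eq_2) | skip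
  first | (have := @Cfsg.Agent.H46.S94.JN2aStmt.eq_unfold.{0,0,0}) | (have := @Cfsg.Agent.H46.S94.JN2aStmt.eq_unfold.{0,0}) | (have := @Cfsg.Agent.H46.S94.JN2aStmt.eq_unfold.{0}) | (have := @Cfsg.Agent.H46.S94.JN2aStmt.eq_unfold) | skip
  first | (have := @Cfsg.Agent.H46.S94.JN2aStmt.congr_simp.{0,0,0}) | (have := @Cfsg.Agent.H46.S94.JN2aStmt.congr_simp.{0,0}) | (have := @Cfsg.Agent.H46.S94.JN2aStmt.congr_simp.{0}) | (have := @Cfsg.Agent.H46.S94.JN2aStmt.congr_simp) | skip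
  first | (have := @Cfsg.Agent.H46.S94.JN2bStmt.eq_def.{0,0,0}) | (have := @Cfsg.Agent.H46.S94.JN2bStmt.eq_def.{0,0}) | (have := @Cfsg.Agent.H46.S94.JN2bStmt.eq_def.{0}) | (have := @Cfsg.Agent.H46.S94.JN2bStmt.eq_def) | skip
  first | (have := @Cfsg.Agent.H46.S94.JN2bStmt.eq_1.{0,0,0}) | (have := @Cfsg.Agent.H46.S94.JN2bStmt.eq_1.{0,0}) | (have := @Cfsg.Agent.H46.S94.JN2bStmt.eq_1.{0}) | (have := @Cfsg.Agent.H46.S94.JN2bStmt.eq_1) | skip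
  first | (have := @Cfsg.Agent.H46.S94.JN2bStmt.eq_2.{0,0,0}) | (have := @Cfsg.Agent.H46.S94.JN2bStmt.eq_2.{0,0}) | (have := @Cfsg.Agent.H46.S94.JN2bStmt.eq_2.{0}) | (have := @Cfsg.Agent.H46.S94.JN2bStmt.eq_2) | skip
  first | (have := @Cfsg.Agent.H46.S94.JN2bStmt.eq_unfold.{0,0,0}) | (have := @Cfsg.Agent.H46.S94.JN2bStmt.eq_unfold.{0,0}) | (have := @Cfsg.Agent.H46.S94.JN2bStmt.eq_unfold.{0}) | (have := @Cfsg.Agent.H46.S94.JN2bStmt.eq_unfold) | skip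
  first | (have := @Cfsg.Agent.H46.S94.JN2bStmt.congr_simp.{0,0,0}) | (have := @Cfsg.Agent.H46.S94.JN2bStmt.congr_simp.{0,0}) | (have := @Cfsg.Agent.H46.S94.JN2bStmt.congr_simp.{0}) | (have := @Cfsg.Agent.H46.S94.JN2bStmt.congr_simp) | skip
  first | (have := @Cfsg.Agent.H46.S94.JN2xStmt.eq_def.{0,0,0}) | (have := @Cfsg.Agent.H46.S94.JN2xStmt.eq_def.{0,0}) | (have := @Cfsg.Agent.H46.S94.JN2xStmt.eq_def.{0}) | (have := @Cfsg.Agent.H46.S94.JN2xStmt.eq_def) | skip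
  first | (have := @Cfsg.Agent.H46.S94.JN2xStmt.eq_1.{0,0,0}) | (have := @Cfsg.Agent.H46.S94.JN2xStmt.eq_1.{0,0}) | (have := @Cfsg.Agent.H46.S94.JN2xStmt.eq_1.{0}) | (have := @Cfsg.Agent.H46.S94.JN2xStmt.eq_1) | skip
  first | (have := @Cfsg.Agent.H46.S94.JN2xStmt.eq_2.{0,0,0}) | (have := @Cfsg.Agent.H46.S94.JN2xStmt.eq_2.{0,0}) | (have := @Cfsg.Agent.H46.S94.JN2xStmt.eq_2.{0}) | (have := @Cfsg.Agent.H46.S94.JN2xStmt.eq_2) | skip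
  first | (have := @Cfsg.Agent.H46.S94.JN2xStmt.eq_unfold.{0,0,0}) | (have := @Cfsg.Agent.H46.S94.JN2xStmt.eq_unfold.{0,0}) | (have := @Cfsg.Agent.H46.S94.JN2xStmt.eq_unfold.{0}) | (have := @Cfsg.Agent.H46.S94.JN2xStmt.eq_unfold) | skip
  first | (have := @Cfsg.Agent.H46.S94.JN2xStmt.congr_simp.{0,0,0}) | (have := @Cfsg.Agent.H46.S94.JN2xStmt.congr_simp.{0,0}) | (have := @Cfsg.Agent.H46.S94.JN2xStmt.congr_simp.{0}) | (have := @Cfsg.Agent.H46.S94.JN2xStmt.congr_simp) | skip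
  first | (have := @Cfsg.Agent.H46.S94.JUStmt.eq_def.{0,0,0}) | (have := @Cfsg.Agent.H46.S94.JUStmt.eq_def.{0,0}) | (have := @Cfsg.Agent.H46.S94.JUStmt.eq_def.{0}) | (have := @Cfsg.Agent.H46.S94.JUStmt.eq_def) | skip
  first | (have := @Cfsg.Agent.H46.S94.JUStmt.eq_1.{0,0,0}) | (have := @Cfsg.Agent.H46.S94.JUStmt.eq_1.{0,0}) | (have := @Cfsg.Agent.H46.S94.JUStmt.eq_1.{0}) | (have := @Cfsg.Agent.H46.S94.JUStmt.eq_1) | skip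
  first | (have := @Cfsg.Agent.H46.S94.JUStmt.eq_2.{0,0,0}) | (have := @Cfsg.Agent.H46.S94.JUStmt.eq_2.{0,0}) | (have := @Cfsg.Agent.H46.S94.JUStmt.eq_2.{0}) | (have := @Cfsg.Agent.H46.S94.JUStmt.eq_2) | skip
  first | (have := @Cfsg.Agent.H46.S94.JUStmt.eq_unfold.{0,0,0}) | (have := @Cfsg.Agent.H46.S94.JUStmt.eq_unfold.{0,0}) | (have := @Cfsg.Agent.H46.S94.JUStmt.eq_unfold.{0}) | (have := @Cfsg.Agent.H46.S94.JUStmt.eq_unfold) | skip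
  first | (have := @Cfsg.Agent.H46.S94.JUStmt.congr_simp.{0,0,0}) | (have := @Cfsg.Agent.H46.S94.JUStmt.congr_simp.{0,0}) | (have := @Cfsg.Agent.H46.S94.JUStmt.congr_simp.{0}) | (have := @Cfsg.Agent.H46.S94.JUStmt.congr_simp) | skip
  first | (have := @Cfsg.Agent.H46.S94.JN2cStmt.eq_def.{0,0,0}) | (have := @Cfsg.Agent.H46.S94.JN2cStmt.eq_def.{0,0}) | (have := @Cfsg.Agent.H46.S94.JN2cStmt.eq_def.{0}) | (have := @Cfsg.Agent.H46.S94.JN2cStmt.eq_def) | skip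
  first | (have := @Cfsg.Agent.H46.S94.JN2cStmt.eq_1.{0,0,0}) | (have := @Cfsg.Agent.H46.S94.JN2cStmt.eq_1.{0,0}) | (have := @Cfsg.Agent.H46.S94.JN2cStmt.eq_1.{0}) | (have := @Cfsg.Agent.H46.S94.JN2cStmt.eq_1) | skip
  first | (have := @Cfsg.Agent.H46.S94.JN2cStmt.eq_2.{0,0,0}) | (have := @Cfsg.Agent.H46.S94.JN2cStmt.eq_2.{0,0}) | (have := @Cfsg.Agent.H46.S94.JN2cStmt.eq_2.{0}) | (have := @Cfsg.Agent.H46.S94.JN2cStmt.eq_2) | skip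
  first | (have := @Cfsg.Agent.H46.S94.JN2cStmt.eq_unfold.{0,0,0}) | (have := @Cfsg.Agent.H46.S94.JN2cStmt.eq_unfold.{0,0}) | (have := @Cfsg.Agent.H46.S94.JN2cStmt.eq_unfold.{0}) | (have := @Cfsg.Agent.H46.S94.JN2cStmt.eq_unfold) | skip
  first | (have := @Cfsg.Agent.H46.S94.JN2cStmt.congr_simp.{0,0,0}) | (have := @Cfsg.Agent.H46.S94.JN2cStmt.congr_simp.{0,0}) | (have := @Cfsg.Agent.H46.S94.JN2cStmt.congr_simp.{0}) | (have := @Cfsg.Agent.H46.S94.JN2cStmt.congr_simp) | skip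
  first | (have := @Cfsg.Agent.H46.S94.JXStmt.eq_def.{0,0,0}) | (have := @Cfsg.Agent.H46.S94.JXStmt.eq_def.{0,0}) | (have := @Cfsg.Agent.H46.S94.JXStmt.eq_def.{0}) | (have := @Cfsg.Agent.H46.S94.JXStmt.eq_def) | skip
  first | (have := @Cfsg.Agent.H46.S94.JXStmt.eq_1.{0,0,0}) | (have := @Cfsg.Agent.H46.S94.JXStmt.eq_1.{0,0}) | (have := @Cfsg.Agent.H46.S94.JXStmt.eq_1.{0}) | (have := @Cfsg.Agent.H46.S94.JXStmt.eq_1) | skip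
  first | (have := @Cfsg.Agent.H46.S94.JXStmt.eq_2.{0,0,0}) | (have := @Cfsg.Agent.H46.S94.JXStmt.eq_2.{0,0}) | (have := @Cfsg.Agent.H46.S94.JXStmt.eq_2.{0}) | (have := @Cfsg.Agent.H46.S94.JXStmt.eq_2) | skip
  first | (have := @Cfsg.Agent.H46.S94.JXStmt.eq_unfold.{0,0,0}) | (have := @Cfsg.Agent.H46.S94.JXStmt.eq_unfold.{0,0}) | (have := @Cfsg.Agent.H46.S94.JXStmt.eq_unfold.{0}) | (have := @Cfsg.Agent.H46.S94.JXStmt.eq_unfold) | skip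
  first | (have := @Cfsg.Agent.H46.S94.JXStmt.congr_simp.{0,0,0}) | (have := @Cfsg.Agent.H46.S94.JXStmt.congr_simp.{0,0}) | (have := @Cfsg.Agent.H46.S94.JXStmt.congr_simp.{0}) | (have := @Cfsg.Agent.H46.S94.JXStmt.congr_simp) | skip
  first | (have := @Cfsg.Agent.H46.S94.JZ1Stmt.eq_def.{0,0,0}) | (have := @Cfsg.Agent.H46.S94.JZ1Stmt.eq_def.{0,0}) | (have := @Cfsg.Agent.H46.S94.JZ1Stmt.eq_def.{0}) | (have := @Cfsg.Agent.H46.S94.JZ1Stmt.eq_def) | skip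
  first | (have := @Cfsg.Agent.H46.S94.JZ1Stmt.eq_1.{0,0,0}) | (have := @Cfsg.Agent.H46.S94.JZ1Stmt.eq_1.{0,0}) | (have := @Cfsg.Agent.H46.S94.JZ1Stmt.eq_1.{0}) | (have := @Cfsg.Agent.H46.S94.JZ1Stmt.eq_1) | skip
  first | (have := @Cfsg.Agent.H46.S94.JZ1Stmt.eq_2.{0,0,0}) | (have := @Cfsg.Agent.H46.S94.JZ1Stmt.eq_2.{0,0}) | (have := @Cfsg.Agent.H46.S94.JZ1Stmt.eq_2.{0}) | (have := @Cfsg.Agent.H46.S94.JZ1Stmt.eq_2) | skip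
  first | (have := @Cfsg.Agent.H46.S94.JZ1Stmt.eq_unfold.{0,0,0}) | (have := @Cfsg.Agent.H46.S94.JZ1Stmt.eq_unfold.{0,0}) | (have := @Cfsg.Agent.H46.S94.JZ1Stmt.eq_unfold.{0}) | (have := @Cfsg.Agent.H46.S94.JZ1Stmt.eq_unfold) | skip
  first | (have := @Cfsg.Agent.H46.S94.JZ1Stmt.congr_simp.{0,0,0}) | (have := @Cfsg.Agent.H46.S94.JZ1Stmt.congr_simp.{0,0}) | (have := @Cfsg.Agent.H46.S94.JZ1Stmt.congr_simp.{0}) | (have := @Cfsg.Agent.H46.S94.JZ1Stmt.congr_simp) | skip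
  first | (have := @Cfsg.Agent.H46.S94.JZ2Stmt.eq_def.{0,0,0}) | (have := @Cfsg.Agent.H46.S94.JZ2Stmt.eq_def.{0,0}) | (have := @Cfsg.Agent.H46.S94.JZ2Stmt.eq_def.{0}) | (have := @Cfsg.Agent.H46.S94.JZ2Stmt.eq_def) | skip
  first | (have := @Cfsg.Agent.H46.S94.JZ2Stmt.eq_1.{0,0,0}) | (have := @Cfsg.Agent.H46.S94.JZ2Stmt.eq_1.{0,0}) | (have := @Cfsg.Agent.H46.S94.JZ2Stmt.eq_1.{0}) | (have := @Cfsg.Agent.H46.S94.JZ2Stmt.eq_1) | skip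
  first | (have := @Cfsg.Agent.H46.S94.JZ2Stmt.eq_2.{0,0,0}) | (have := @Cfsg.Agent.H46.S94.JZ2Stmt.eq_2.{0,0}) | (have := @Cfsg.Agent.H46.S94.JZ2Stmt.eq_2.{0}) | (have := @Cfsg.Agent.H46.S94.JZ2Stmt.eq_2) | skip
  first | (have := @Cfsg.Agent.H46.S94.JZ2Stmt.eq_unfold.{0,0,0}) | (have := @Cfsg.Agent.H46.S94.JZ2Stmt.eq_unfold.{0,0}) | (have := @Cfsg.Agent.H46.S94.JZ2Stmt.eq_unfold.{0}) | (have := @Cfsg.Agent.H46.S94.JZ2Stmt.eq_unfold) | skip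
  first | (have := @Cfsg.Agent.H46.S94.JZ2Stmt.congr_simp.{0,0,0}) | (have := @Cfsg.Agent.H46.S94.JZ2Stmt.congr_simp.{0,0}) | (have := @Cfsg.Agent.H46.S94.JZ2Stmt.congr_simp.{0}) | (have := @Cfsg.Agent.H46.S94.JZ2Stmt.congr_simp) | skip
  first | (have := @Cfsg.Agent.H46.S94.JOStmt.eq_def.{0,0,0}) | (have := @Cfsg.Agent.H46.S94.JOStmt.eq_def.{0,0}) | (have := @Cfsg.Agent.H46.S94.JOStmt.eq_def.{0}) | (have := @Cfsg.Agent.H46.S94.JOStmt.eq_def) | skip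
  first | (have := @Cfsg.Agent.H46.S94.JOStmt.eq_1.{0,0,0}) | (have := @Cfsg.Agent.H46.S94.JOStmt.eq_1.{0,0}) | (have := @Cfsg.Agent.H46.S94.JOStmt.eq_1.{0}) | (have := @Cfsg.Agent.H46.S94.JOStmt.eq_1) | skip
  first | (have := @Cfsg.Agent.H46.S94.JOStmt.eq_2.{0,0,0}) | (have := @Cfsg.Agent.H46.S94.JOStmt.eq_2.{0,0}) | (have := @Cfsg.Agent.H46.S94.JOStmt.eq_2.{0}) | (have := @Cfsg.Agent.H46.S94.JOStmt.eq_2) | skip
  first | (have := @Cfsg.Agent.H46.S94.JOStmt.eq_unfold.{0,0,0}) | (have := @Cfsg.Agent.H46.S94.JOStmt.eq_unfold.{0,0}) | (have := @Cfsg.Agent.H46.S94.JOStmt.eq_unfold.{0}) | (have := @Cfsg.Agent.H46.S94.JOStmt.eq_unfold) | skip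
  first | (have := @Cfsg.Agent.H46.S94.JOStmt.congr_simp.{0,0,0}) | (have := @Cfsg.Agent.H46.S94.JOStmt.congr_simp.{0,0}) | (have := @Cfsg.Agent.H46.S94.JOStmt.congr_simp.{0}) | (have := @Cfsg.Agent.H46.S94.JOStmt.congr_simp) | skip
  first | (have := @Cfsg.Agent.H46.S94.JFinStmt.eq_def.{0,0,0}) | (have := @Cfsg.Agent.H46.S94.JFinStmt.eq_def.{0,0}) | (have := @Cfsg.Agent.H46.S94.JFinStmt.eq_def.{0}) | (have := @Cfsg.Agent.H46.S94.JFinStmt.eq_def) | skip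
  first | (have := @Cfsg.Agent.H46.S94.JFinStmt.eq_1.{0,0,0}) | (have := @Cfsg.Agent.H46.S94.JFinStmt.eq_1.{0,0}) | (have := @Cfsg.Agent.H46.S94.JFinStmt.eq_1.{0}) | (have := @Cfsg.Agent.H46.S94.JFinStmt.eq_1) | skip
  first | (have := @Cfsg.Agent.H46.S94.JFinStmt.eq_2.{0,0,0}) | (have := @Cfsg.Agent.H46.S94.JFinStmt.eq_2.{0,0}) | (have := @Cfsg.Agent.H46.S94.JFinStmt.eq_2.{0}) | (have := @Cfsg.Agent.H46.S94.JFinStmt.eq_2) | skip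
  first | (have := @Cfsg.Agent.H46.S94.JFinStmt.eq_unfold.{0,0,0}) | (have := @Cfsg.Agent.H46.S94.JFinStmt.eq_unfold.{0,0}) | (have := @Cfsg.Agent.H46.S94.JFinStmt.eq_unfold.{0}) | (have := @Cfsg.Agent.H46.S94.JFinStmt.eq_unfold) | skip
  first | (have := @Cfsg.Agent.H46.S94.JFinStmt.congr_simp.{0,0,0}) | (have := @Cfsg.Agent.H46.S94.JFinStmt.congr_simp.{0,0}) | (have := @Cfsg.Agent.H46.S94.JFinStmt.congr_simp.{0}) | (have := @Cfsg.Agent.H46.S94.JFinStmt.congr_simp) | skip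
  trivial

end Cfsg.Agent.H46.S94
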