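import Cfsg.Agent.H46.WDefs
import Cfsg.Prelude.Def_Local

/-!
# Standard subgroups of type `J1`, `J2`: the general definitions (those of `SDefs` without `Base.cm`)

`Γ` is the simple group, `φ : Γ →* G` embeds it onto the standard subgroup.
-/

set_option autoImplicit false
open scoped Pointwise commutatorElement
open Subgroup

namespace Cfsg.Agent.H46.S94
open Cfsg.Agent.H8 Cfsg.Agent.H46.WR

universe u

local notation "C[" A "]" => Subgroup.centralizer (SetLike.coe A)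
local notation "N[" A "]" => Subgroup.normalizer (SetLike.coe A)

section Facts
variable {Γ : Type} [Group Γ]

/-- inner automorphisms -/
def Inn (α : MulAut Γ) : Prop := ∃ c, α = MulAut.conj c

/-- elementary abelian `2`-subgroups -/
def El (V : Subgroup Γ) : Prop := ∀ v ∈ V, v * v = 1

/-- the centraliser of an element -/
abbrev Cz (a : Γ) : Subgroup Γ := centralizer {a}

structure Base (Γ : Type) [Group Γ] : Prop where
  fin : Finite Γ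
  simple : IsSimpleGroup Γ
  nc : ¬ IsMulCommutative Γ
  out : ∀ α β : MulAut Γ, Inn α ∨ Inn β ∨ Inn (α * β)

/-- outer involutions fuse with their products by a four-group -/
def OutF (Γ : Type) [Group Γ] : Prop :=
  ∀ α : MulAut Γ, α * α = 1 → ¬ Inn α → ∃ E : Subgroup Γ,
    (∀ e ∈ E, e * e = 1 ∧ α e = e ∧ ∃ w, e = (α w)⁻¹ * w) ∧
    (Nat.card E = 4 ∨ (E ≠ ⊥ ∧ ∃ X : Subgroup Γ, (∀ x ∈ X, α x = x) ∧ E ≤ ⁅X, X⁆))

/-- two classes of involutions (or one, `b = z`) -/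
def Cls (z b : Γ) : Prop := ∀ a, a * a = 1 → a ≠ 1 → IsConj z a ∨ IsConj b a

/-- the component of the centraliser of `a` -/
structure RC (z a : Γ) (Λ Z : Subgroup Γ) : Prop where
  perf : ⁅Λ, Λ⁆ = Λ
  gen : Λ ≤ closure {x | x ∈ Λ ∧ x * x = 1}
  aZ : a ∈ Z
  ZC : Z ≤ C[Λ]
  inv : ∀ α : MulAut Γ, α a = a → ∀ x ∈ Λ, α x ∈ Λ
  cen : ∀ α : MulAut Γ, α a = a → (∀ x ∈ Λ, α x = x) → ∃ c ∈ Z, α = MulAut.conj c
  nrm : ∀ M ≤ Λ, Λ ≤ N[M] → M ≤ Z ∨ ∃ y ∈ M, y * y = 1 ∧ y ≠ 1 ∧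
    (Cz a ⊔ Cz y = ⊤ ∨ (IsConj z y ∧ ¬ IsConj z a))

/-- the data of the reduction -/
structure RD (z b : Γ) (Λ Z : Subgroup Γ) : Prop where
  zz : z * z = 1
  cls : Cls z b
  rc : RC z b Λ Z
  card : Nat.card Z = 4
  rz : b = z ∨ RC z z (Cz z) (zpowers z)

/-- `z`, `w` generate a four-group on which `Γ` induces `S₃` -/
def S3 (z w : Γ) : Prop :=
  w * w = 1 ∧ w ≠ 1 ∧ w ≠ z ∧ w * z = z * w ∧ (∃ σ, σ * z * σ⁻¹ = z * w ∧ σ * w * σ⁻¹ = w) ∧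
    ∃ q, q * z * q⁻¹ = z ∧ q * w * q⁻¹ = w * z

/-- conjugacy in the centraliser of `y` -/
def CI {L : Type} [Group L] (y u v : L) : Prop := ∃ p, p * y = y * p ∧ p * u * p⁻¹ = v

/-- the automorphisms of the centraliser of `z` -/
structure HF (z : Γ) (y x : Cz z) : Prop where
  zz : z * z = 1
  z1 : z ≠ 1
  dv : ∀ a, a * a = 1 → a ≠ 1 → Nat.card (Cz z) ∣ Nat.card (Cz a) → IsConj z a
  perf : ⁅Cz z, Cz z⁆ = Cz z
  gen : Cz z ≤ closure {l | l ∈ Cz z ∧ l * l = 1}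
  xy : x * y = y * x
  s3 : ∀ θ : MulAut (Cz z), S3 z (θ y : Γ)
  two : ∀ u v : Cz z, u * y = y * u → v * y = y * v → orderOf u = orderOf x →
    orderOf v = orderOf x → CI y x u ∨ CI y x v ∨ CI y u v
  inn : ∀ θ : MulAut (Cz z), θ y = y → CI y x (θ x) → ∃ c, θ = MulAut.conj c
  cL : ∀ α : MulAut Γ, (∀ l ∈ Cz z, α l = l) → ∃ c ∈ zpowers z, α = MulAut.conj c
  cP : ∀ α : MulAut Γ, (∀ l ∈ Cz z, l * y = y * l → α l = l) → Inn α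

/-- what is needed to centralise the odd core -/
structure H2 (z : Γ) (Λ Z : Subgroup Γ) : Prop where
  zz : z * z = 1
  z1 : z ≠ 1
  zL : z ∈ Λ
  ZL : Z ≤ Λ
  ZC : Z ≤ C[Λ]
  two : IsPGroup 2 Z
  cen : ∀ α : MulAut Γ, (∀ l ∈ Λ, α l = l) → ∃ c ∈ Z, α = MulAut.conj c
  cyc : ∃ y ρ, y ∈ Λ ∧ y * z = z * y ∧ ρ * z * ρ⁻¹ = y ∧ ρ * y * ρ⁻¹ = z * y ∧
    ∀ α : MulAut Γ,
      (∀ l ∈ Λ, ρ⁻¹ * l * ρ ∈ Λ → ρ⁻¹ * (ρ⁻¹ * l * ρ) * ρ ∈ Λ → α l = l) → Inn α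

/-- Sylow `2`-subgroups -/
structure SylF (Γ : Type) [Group Γ] (n : ℕ) : Prop where
  le : ∀ P : Subgroup Γ, IsPGroup 2 P → Nat.card P ≤ n
  ok : ∀ P : Subgroup Γ, IsPGroup 2 P → Nat.card P = n → SylOk P
  ex : ∃ P : Subgroup Γ, IsPGroup 2 P ∧ Nat.card P = n

def InnF (Γ : Type) [Group Γ] (mi : ℕ) : Prop :=
  ∀ a : Γ, a * a = 1 → ∃ P ≤ Cz a, El P ∧ mi ≤ Nat.card P

def OutM (Γ : Type) [Group Γ] (mo : ℕ) : Prop :=
  ∀ α : MulAut Γ, α * α = 1 → ¬ Inn α →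
    ∃ P : Subgroup Γ, (∀ x ∈ P, α x = x) ∧ El P ∧ mo ≤ Nat.card P

def OiF (Γ : Type) [Group Γ] (mu : ℕ) : Prop :=
  ∃ α : MulAut Γ, α * α = 1 ∧ ¬ Inn α ∧
    ∀ P : Subgroup Γ, (∀ x ∈ P, α x = x) → El P → Nat.card P ≤ mu

def OoF (Γ : Type) [Group Γ] : Prop :=
  ∀ α β : MulAut Γ, α * α = 1 → ¬ Inn α → β * β = 1 → ¬ Inn β →
    ∃ P R : Subgroup Γ, (∀ x ∈ P, α x = x) ∧ (∀ x ∈ R, β x = x) ∧ IsPGroup 2 P ∧ IsPGroup 2 R ∧
      ∀ f : P × R →* MulAut Γ, ¬ Function.Injective f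

structure EF (Γ : Type) [Group Γ] (n nr mi mo mu : ℕ) : Prop where
  syl : SylF Γ n
  inn : InnF Γ mi
  out : OutM Γ mo
  oi : OiF Γ mu
  oo : OoF Γ
  rk : ∀ P : Subgroup (MulAut Γ), (∀ α ∈ P, α * α = 1) → Nat.card P ≤ nr
  n1 : 2 * nr < mi * mi
  n2 : nr < mi * mo
  n3 : 2 * (mu * mu) < mi * mo

end Facts

section Group
variable {Γ : Type} [Group Γ] {G : Type u} [Group G]

/-- `F` is the socle of an almost simple group -/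
structure AS (F : Subgroup G) : Prop where
  normal : F.Normal
  simple : IsSimpleGroup F
  nc : ¬ IsMulCommutative F
  cent : C[F] = ⊥

/-- the centraliser of the involution `t` -/
structure Cx (φ : Γ →* G) (t : G) (O : Subgroup G) : Prop where
  inj : Function.Injective φ
  tt : t * t = 1
  t1 : t ≠ 1
  AC : ∀ a, φ a * t = t * φ a
  NJ : ∀ c, c * t = t * c → c ∈ N[φ.range]
  tr : ∀ c, c * t = t * c → c ∈ C[φ.range] → c ∈ O ∨ c * t ∈ O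
  odd : Odd (Nat.card O)
  OC : O ≤ C[φ.range]
  Ot : ∀ o ∈ O, o * t = t * o
  NO : ∀ c, c * t = t * c → c ∈ N[O]

/-- the intersection of a conjugate of `C(A)` with `N(A)` -/
abbrev JJ (φ : Γ →* G) (g : G) : Subgroup G := MulAut.conj g • C[φ.range] ⊓ N[φ.range]

/-- a Sylow `2`-subgroup of order 4 of `JJ φ g` -/
structure PG (φ : Γ →* G) (g : G) (b : Γ) (Λ Z : Subgroup Γ) (c : Γ) (T : Subgroup G) : Prop where
  syl : IsSylowIn 2 T (JJ φ g)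
  card : Nat.card T = 4
  b1 : b ≠ 1
  bb : b * b = 1
  cen : ∀ x ∈ T, ∀ l ∈ Λ, x * φ (c * l * c⁻¹) = φ (c * l * c⁻¹) * x
  all : ∀ e ∈ Z, ∃ k ∈ C[φ.range], φ (c * e * c⁻¹) * k ∈ T

/-- the lift of `z` -/
structure Hat (φ : Γ →* G) (t : G) (O : Subgroup G) (z : Γ) (w : G) : Prop where
  sq : w * w = 1
  br : w * t * w = t * φ z
  cen : ∀ a, a * z = z * a → w * φ a = φ a * w
  cO : ∀ o ∈ O, w * o = o * w

/-- the lift of the class of `z` -/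
structure Lf (φ : Γ →* G) (t : G) (z : Γ) (f : Γ → G) : Prop where
  inj : Function.Injective φ
  tt : t * t = 1
  AC : ∀ a, φ a * t = t * φ a
  eq : ∀ a r, IsConj z r → f (a * r * a⁻¹) = φ a * f r * (φ a)⁻¹
  sq : ∀ r, IsConj z r → f r * f r = 1
  br : ∀ r, IsConj z r → f r * t * f r = t * φ r

/-- the lifts centralise `O` -/
def LO (O : Subgroup G) (z : Γ) (f : Γ → G) : Prop :=
  ∀ r, IsConj z r → ∀ o ∈ O, f r * o = o * f r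

def Good (t : G) (f : Γ → G) (r s : Γ) : Prop := f r * (t * f s * t) = t * f s * t * f r

/-- all lines are exact -/
def Ex (z : Γ) (f : Γ → G) : Prop :=
  ∀ r s, IsConj z r → IsConj z s → r * s = s * r → r ≠ s → f r * f s = f (r * s)

/-- the wreath product -/
structure Wr (φ : Γ →* G) (t : G) (B : Subgroup G) : Prop where
  comm : ∀ b ∈ B, ∀ c ∈ B, b * (t * c * t) = t * c * t * b
  gen : B ≤ closure {b | b ∈ B ∧ b * b = 1}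
  into : ∀ b ∈ B, b * (t * b * t) ∈ φ.range
  onto : ∀ a, ∃ b ∈ B, b * (t * b * t) = φ a

/-- the base group -/
abbrev XX (t : G) (B : Subgroup G) : Subgroup G := B ⊔ MulAut.conj t • B

/-- the normaliser of both factors -/
abbrev H0 (t : G) (B : Subgroup G) : Subgroup G := N[B] ⊓ N[(MulAut.conj t • B : Subgroup G)]

/-- `h` induces `α` on `B / Z(B)` -/
def Ind {B : Subgroup G} (d : B →* Γ) (h : G) (α : MulAut Γ) : Prop :=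
  ∀ b c : B, (c : G) = h * b * h⁻¹ → d c = α (d b)

/-- the structure of the base group -/
structure EK (φ : Γ →* G) (t : G) (B : Subgroup G) (d : B →* Γ) : Prop where
  eq : ∀ b : B, φ (d b) = b * (t * b * t)
  surj : Function.Surjective d
  odd : Odd (Nat.card d.ker)
  cen : ∀ b : B, d b = 1 ↔ (b : G) ∈ C[B]
  perf : ⁅B, B⁆ = B
  inter : ∀ b : B, (b : G) ∈ MulAut.conj t • B → d b = 1
  codd : Odd (Nat.card C[XX t B])
  swap : ∀ h ∈ N[XX t B], h ∈ H0 t B ∨ h * t ∈ H0 t B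
  tH : t ∉ N[B]
  aut : ∀ h ∈ N[B], ∃ α, Ind d h α
  inn : ∀ h ∈ N[B], Ind d h 1 → h ∈ C[B]
  lift : ∀ h ∈ N[B], ∀ α, Ind d h α → ∀ P : Subgroup Γ, IsPGroup 2 P → (∀ x ∈ P, α x = x) →
    ∃ ι : P →* B, (∀ x, d (ι x) = x) ∧ ∀ x, h * ι x = ι x * h
  dec : ∀ x ∈ XX t B, ∃ b ∈ B, ∃ c ∈ B, x = b * (t * c * t)
  pi : ∃ π : XX t B →* Γ × Γ, Odd (Nat.card π.ker) ∧
    ∀ (b c : B) (x : XX t B), (x : G) = b * (t * c * t) → π x = (d b, d c)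

end Group

/-! ### The pieces -/

def Red1Stmt : Prop :=
  ∀ (Γ : Type) [Group Γ] (G : Type u) [Group G] [Finite G] (φ : Γ →* G), Base Γ →
    Function.Injective φ → IsStandardSubgroup φ.range → ∀ z b Λ Z, RD z b Λ Z →
    ∀ g ∉ N[φ.range], 4 ∣ Nat.card (JJ φ g) → ∃ c T, PG φ g b Λ Z c T

def RedCStmt : Prop :=
  ∀ (Γ : Type) [Group Γ] (G : Type u) [Group G] [Finite G] (φ : Γ →* G) (F : Subgroup G), Base Γ →
    OutF Γ → Function.Injective φ → IsStandardSubgroup φ.range → AS F →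
    (∀ g ∉ N[φ.range], ¬ 4 ∣ Nat.card (JJ φ g)) → ∃ t O, Cx φ t O

def Hat1Stmt : Prop :=
  ∀ (Γ : Type) [Group Γ] (G : Type u) [Group G] [Finite G] (φ : Γ →* G) (t : G) (O : Subgroup G)
    (z : Γ) (y x : Cz z), Base Γ → HF z y x → Cx φ t O → IsConj t (t * φ z) →
    ∃ n, n * t * n⁻¹ = t * φ z ∧ ∀ l ∈ Cz z, n * φ l = φ l * n

def Hat2Stmt : Prop :=
  ∀ (Γ : Type) [Group Γ] (G : Type u) [Group G] [Finite G] (φ : Γ →* G) (t : G) (O : Subgroup G)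
    (z : Γ) (Λ Z : Subgroup Γ) (n : G), Base Γ → H2 z Λ Z → Cx φ t O →
    n * t * n⁻¹ = t * φ z → (∀ l ∈ Λ, n * φ l = φ l * n) →
    ∃ m, m * t * m⁻¹ = t * φ z ∧ (∀ l ∈ Λ, m * φ l = φ l * m) ∧ (∀ o ∈ O, m * o = o * m) ∧
      ∃ c ∈ Z, m * m = φ c

def HatStmt : Prop :=
  ∀ (Γ : Type) [Group Γ] (G : Type u) [Group G] [Finite G] (φ : Γ →* G) (t : G) (O : Subgroup G)
    (z : Γ) (y x : Cz z), Base Γ → HF z y x → Cx φ t O → IsConj t (t * φ z) →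
    ∃ w, Hat φ t O z w

def WrStmt : Prop :=
  ∀ (Γ : Type) [Group Γ] (G : Type u) [Group G] (φ : Γ →* G) (t : G) (z : Γ) (f : Γ → G),
    Base Γ → z ≠ 1 → Lf φ t z f → (∀ r s, IsConj z r → IsConj z s → Good t f r s) →
    ∃ B, Wr φ t B

def EKStmt : Prop :=
  ∀ (Γ : Type) [Group Γ] (G : Type u) [Group G] [Finite G] (φ : Γ →* G) (t : G)
    (O B : Subgroup G), Base Γ → Cx φ t O → Wr φ t B → ∃ d, EK φ t B d

def E3Stmt : Prop :=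
  ∀ (Γ : Type) [Group Γ] (G : Type u) [Group G] [Finite G] (φ : Γ →* G) (t : G)
    (O B : Subgroup G) (d : B →* Γ) (n nr mi mo mu : ℕ), Base Γ → EF Γ n nr mi mo mu → Cx φ t O →
    Wr φ t B → EK φ t B d → ∀ g, g * t * g⁻¹ ∉ H0 t B

def E4Stmt : Prop :=
  ∀ (Γ : Type) [Group Γ] (G : Type u) [Group G] [Finite G] (φ : Γ →* G) (t : G)
    (O B : Subgroup G) (d : B →* Γ), Base Γ → Cx φ t O → Wr φ t B → EK φ t B d →
    ∀ g, g * t * g⁻¹ ∈ N[XX t B] → g * t * g⁻¹ ∉ H0 t B → g ∈ N[XX t B]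

def TTStmt : Prop :=
  ∀ (G : Type u) [Group G] [Finite G] (F H : Subgroup G) (t y : G) (Q : Type u) [CommGroup Q]
    (π : (H ⊓ F : Subgroup G) →* Q), F.Normal → ⁅F, F⁆ = F → t * t = 1 → t ∈ H →
    (∀ g, g * t * g⁻¹ ∈ H → g ∈ H) → ∀ hy : y ∈ H ⊓ F, y * y = 1 → y * t = t * y →
    (∀ g ∈ F, ∀ u v : (H ⊓ F : Subgroup G), (u : G) = g * y * g⁻¹ → (v : G) = t * u * t →
      π u = π v) → π ⟨y, hy⟩ = 1

def E5Stmt : Prop :=
  ∀ (Γ : Type) [Group Γ] (G : Type u) [Group G] [Finite G] (φ : Γ →* G) (t : G)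
    (F O B : Subgroup G) (d : B →* Γ) (n : ℕ), Base Γ → SylF Γ n → AS F → Cx φ t O →
    Wr φ t B → EK φ t B d → B ≤ F → t ∉ F →
    (∀ g, g * t * g⁻¹ ∈ N[XX t B] → g ∈ N[XX t B]) →
    ¬ N[XX t B] ⊓ F ≤ XX t B ⊔ C[XX t B]

def E6Stmt : Prop :=
  ∀ (Γ : Type) [Group Γ] (G : Type u) [Group G] [Finite G] (φ : Γ →* G) (t : G)
    (F O B : Subgroup G) (d : B →* Γ) (mu : ℕ), Base Γ → OiF Γ mu → AS F → Cx φ t O →
    Wr φ t B → EK φ t B d → B ≤ F → t ∉ F → ¬ N[XX t B] ⊓ F ≤ XX t B ⊔ C[XX t B] →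
    ∃ h ∈ H0 t B, h * h = 1 ∧ h * t = t * h ∧ (h ∈ F ∨ h * t ∈ F) ∧ ∃ α, Ind d h α ∧ ¬ Inn α ∧
      ∀ P : Subgroup Γ, (∀ x ∈ P, α x = x) → El P → Nat.card P ≤ mu

def E7Stmt : Prop :=
  ∀ (Γ : Type) [Group Γ] (G : Type u) [Group G] [Finite G] (φ : Γ →* G) (t : G)
    (F O B : Subgroup G) (d : B →* Γ) (n nr mi mo mu : ℕ) (h : G) (α : MulAut Γ), Base Γ →
    EF Γ n nr mi mo mu → AS F → Cx φ t O → Wr φ t B → EK φ t B d → B ≤ F → t ∉ F →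
    (∀ g, g * t * g⁻¹ ∈ N[XX t B] → g ∈ N[XX t B]) → N[XX t B] ⊓ F ≤ H0 t B →
    h ∈ H0 t B ⊓ F → h * h = 1 → h * t = t * h → Ind d h α →
    (∀ P : Subgroup Γ, (∀ x ∈ P, α x = x) → El P → Nat.card P ≤ mu) →
    ∀ g ∈ F, ∀ β γ, g * h * g⁻¹ ∈ H0 t B → Ind d (g * h * g⁻¹) β →
      Ind d (t * (g * h * g⁻¹) * t) γ → (Inn β ↔ Inn γ)

def EndStmt : Prop :=
  ∀ (Γ : Type) [Group Γ] (G : Type u) [Group G] [Finite G] (φ : Γ →* G) (t : G)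
    (F O B : Subgroup G) (n nr mi mo mu : ℕ), Base Γ → EF Γ n nr mi mo mu → AS F → Cx φ t O →
    Wr φ t B → φ.range ≤ F → False

set_option linter.unusedTactic false in
theorem eqns_TDefs : True := by
  first | (have := @Cfsg.Agent.H46.S94.Inn.eq_def.{0,0,0}) | (have := @Cfsg.Agent.H46.S94.Inn.eq_def.{0,0}) | (have := @Cfsg.Agent.H46.S94.Inn.eq_def.{0}) | (have := @Cfsg.Agent.H46.S94.Inn.eq_def) | skip
  first | (have := @Cfsg.Agent.H46.S94.Inn.eq_1.{0,0,0}) | (have := @Cfsg.Agent.H46.S94.Inn.eq_1.{0,0}) | (have := @Cfsg.Agent.H46.S94.Inn.eq_1.{0}) | (have := @Cfsg.Agent.H46.S94.Inn.eq_1) | skip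
  first | (have := @Cfsg.Agent.H46.S94.Inn.eq_2.{0,0,0}) | (have := @Cfsg.Agent.H46.S94.Inn.eq_2.{0,0}) | (have := @Cfsg.Agent.H46.S94.Inn.eq_2.{0}) | (have := @Cfsg.Agent.H46.S94.Inn.eq_2) | skip
  first | (have := @Cfsg.Agent.H46.S94.Inn.eq_unfold.{0,0,0}) | (have := @Cfsg.Agent.H46.S94.Inn.eq_unfold.{0,0}) | (have := @Cfsg.Agent.H46.S94.Inn.eq_unfold.{0}) | (have := @Cfsg.Agent.H46.S94.Inn.eq_unfold) | skip
  first | (have := @Cfsg.Agent.H46.S94.Inn.congr_simp.{0,0,0}) | (have := @Cfsg.Agent.H46.S94.Inn.congr_simp.{0,0}) | (have := @Cfsg.Agent.H46.S94.Inn.congr_simp.{0}) | (have := @Cfsg.Agent.H46.S94.Inn.congr_simp) | skip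
  first | (have := @Cfsg.Agent.H46.S94.El.eq_def.{0,0,0}) | (have := @Cfsg.Agent.H46.S94.El.eq_def.{0,0}) | (have := @Cfsg.Agent.H46.S94.El.eq_def.{0}) | (have := @Cfsg.Agent.H46.S94.El.eq_def) | skip
  first | (have := @Cfsg.Agent.H46.S94.El.eq_1.{0,0,0}) | (have := @Cfsg.Agent.H46.S94.El.eq_1.{0,0}) | (have := @Cfsg.Agent.H46.S94.El.eq_1.{0}) | (have := @Cfsg.Agent.H46.S94.El.eq_1) | skip
  first | (have := @Cfsg.Agent.H46.S94.El.eq_2.{0,0,0}) | (have := @Cfsg.Agent.H46.S94.El.eq_2.{0,0}) | (have := @Cfsg.Agent.H46.S94.El.eq_2.{0}) | (have := @Cfsg.Agent.H46.S94.El.eq_2) | skip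
  first | (have := @Cfsg.Agent.H46.S94.El.eq_unfold.{0,0,0}) | (have := @Cfsg.Agent.H46.S94.El.eq_unfold.{0,0}) | (have := @Cfsg.Agent.H46.S94.El.eq_unfold.{0}) | (have := @Cfsg.Agent.H46.S94.El.eq_unfold) | skip
  first | (have := @Cfsg.Agent.H46.S94.El.congr_simp.{0,0,0}) | (have := @Cfsg.Agent.H46.S94.El.congr_simp.{0,0}) | (have := @Cfsg.Agent.H46.S94.El.congr_simp.{0}) | (have := @Cfsg.Agent.H46.S94.El.congr_simp) | skip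
  first | (have := @Cfsg.Agent.H46.S94.Cz.eq_def.{0,0,0}) | (have := @Cfsg.Agent.H46.S94.Cz.eq_def.{0,0}) | (have := @Cfsg.Agent.H46.S94.Cz.eq_def.{0}) | (have := @Cfsg.Agent.H46.S94.Cz.eq_def) | skip
  first | (have := @Cfsg.Agent.H46.S94.Cz.eq_1.{0,0,0}) | (have := @Cfsg.Agent.H46.S94.Cz.eq_1.{0,0}) | (have := @Cfsg.Agent.H46.S94.Cz.eq_1.{0}) | (have := @Cfsg.Agent.H46.S94.Cz.eq_1) | skip
  first | (have := @Cfsg.Agent.H46.S94.Cz.eq_2.{0,0,0}) | (have := @Cfsg.Agent.H46.S94.Cz.eq_2.{0,0}) | (have := @Cfsg.Agent.H46.S94.Cz.eq_2.{0}) | (have := @Cfsg.Agent.H46.S94.Cz.eq_2) | skip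
  first | (have := @Cfsg.Agent.H46.S94.Cz.eq_unfold.{0,0,0}) | (have := @Cfsg.Agent.H46.S94.Cz.eq_unfold.{0,0}) | (have := @Cfsg.Agent.H46.S94.Cz.eq_unfold.{0}) | (have := @Cfsg.Agent.H46.S94.Cz.eq_unfold) | skip
  first | (have := @Cfsg.Agent.H46.S94.Cz.congr_simp.{0,0,0}) | (have := @Cfsg.Agent.H46.S94.Cz.congr_simp.{0,0}) | (have := @Cfsg.Agent.H46.S94.Cz.congr_simp.{0}) | (have := @Cfsg.Agent.H46.S94.Cz.congr_simp) | skip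
  first | (have := @Cfsg.Agent.H46.S94.OutF.eq_def.{0,0,0}) | (have := @Cfsg.Agent.H46.S94.OutF.eq_def.{0,0}) | (have := @Cfsg.Agent.H46.S94.OutF.eq_def.{0}) | (have := @Cfsg.Agent.H46.S94.OutF.eq_def) | skip
  first | (have := @Cfsg.Agent.H46.S94.OutF.eq_1.{0,0,0}) | (have := @Cfsg.Agent.H46.S94.OutF.eq_1.{0,0}) | (have := @Cfsg.Agent.H46.S94.OutF.eq_1.{0}) | (have := @Cfsg.Agent.H46.S94.OutF.eq_1) | skip
  first | (have := @Cfsg.Agent.H46.S94.OutF.eq_2.{0,0,0}) | (have := @Cfsg.Agent.H46.S94.OutF.eq_2.{0,0}) | (have := @Cfsg.Agent.H46.S94.OutF.eq_2.{0}) | (have := @Cfsg.Agent.H46.S94.OutF.eq_2) | skip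
  first | (have := @Cfsg.Agent.H46.S94.OutF.eq_unfold.{0,0,0}) | (have := @Cfsg.Agent.H46.S94.OutF.eq_unfold.{0,0}) | (have := @Cfsg.Agent.H46.S94.OutF.eq_unfold.{0}) | (have := @Cfsg.Agent.H46.S94.OutF.eq_unfold) | skip
  first | (have := @Cfsg.Agent.H46.S94.OutF.congr_simp.{0,0,0}) | (have := @Cfsg.Agent.H46.S94.OutF.congr_simp.{0,0}) | (have := @Cfsg.Agent.H46.S94.OutF.congr_simp.{0}) | (have := @Cfsg.Agent.H46.S94.OutF.congr_simp) | skip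
  first | (have := @Cfsg.Agent.H46.S94.Cls.eq_def.{0,0,0}) | (have := @Cfsg.Agent.H46.S94.Cls.eq_def.{0,0}) | (have := @Cfsg.Agent.H46.S94.Cls.eq_def.{0}) | (have := @Cfsg.Agent.H46.S94.Cls.eq_def) | skip
  first | (have := @Cfsg.Agent.H46.S94.Cls.eq_1.{0,0,0}) | (have := @Cfsg.Agent.H46.S94.Cls.eq_1.{0,0}) | (have := @Cfsg.Agent.H46.S94.Cls.eq_1.{0}) | (have := @Cfsg.Agent.H46.S94.Cls.eq_1) | skip
  first | (have := @Cfsg.Agent.H46.S94.Cls.eq_2.{0,0,0}) | (have := @Cfsg.Agent.H46.S94.Cls.eq_2.{0,0}) | (have := @Cfsg.Agent.H46.S94.Cls.eq_2.{0}) | (have := @Cfsg.Agent.H46.S94.Cls.eq_2) | skip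
  first | (have := @Cfsg.Agent.H46.S94.Cls.eq_unfold.{0,0,0}) | (have := @Cfsg.Agent.H46.S94.Cls.eq_unfold.{0,0}) | (have := @Cfsg.Agent.H46.S94.Cls.eq_unfold.{0}) | (have := @Cfsg.Agent.H46.S94.Cls.eq_unfold) | skip
  first | (have := @Cfsg.Agent.H46.S94.Cls.congr_simp.{0,0,0}) | (have := @Cfsg.Agent.H46.S94.Cls.congr_simp.{0,0}) | (have := @Cfsg.Agent.H46.S94.Cls.congr_simp.{0}) | (have := @Cfsg.Agent.H46.S94.Cls.congr_simp) | skip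
  first | (have := @Cfsg.Agent.H46.S94.S3.eq_def.{0,0,0}) | (have := @Cfsg.Agent.H46.S94.S3.eq_def.{0,0}) | (have := @Cfsg.Agent.H46.S94.S3.eq_def.{0}) | (have := @Cfsg.Agent.H46.S94.S3.eq_def) | skip
  first | (have := @Cfsg.Agent.H46.S94.S3.eq_1.{0,0,0}) | (have := @Cfsg.Agent.H46.S94.S3.eq_1.{0,0}) | (have := @Cfsg.Agent.H46.S94.S3.eq_1.{0}) | (have := @Cfsg.Agent.H46.S94.S3.eq_1) | skip
  first | (have := @Cfsg.Agent.H46.S94.S3.eq_2.{0,0,0}) | (have := @Cfsg.Agent.H46.S94.S3.eq_2.{0,0}) | (have := @Cfsg.Agent.H46.S94.S3.eq_2.{0}) | (have := @Cfsg.Agent.H46.S94.S3.eq_2) | skip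
  first | (have := @Cfsg.Agent.H46.S94.S3.eq_unfold.{0,0,0}) | (have := @Cfsg.Agent.H46.S94.S3.eq_unfold.{0,0}) | (have := @Cfsg.Agent.H46.S94.S3.eq_unfold.{0}) | (have := @Cfsg.Agent.H46.S94.S3.eq_unfold) | skip
  first | (have := @Cfsg.Agent.H46.S94.S3.congr_simp.{0,0,0}) | (have := @Cfsg.Agent.H46.S94.S3.congr_simp.{0,0}) | (have := @Cfsg.Agent.H46.S94.S3.congr_simp.{0}) | (have := @Cfsg.Agent.H46.S94.S3.congr_simp) | skip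
  first | (have := @Cfsg.Agent.H46.S94.CI.eq_def.{0,0,0}) | (have := @Cfsg.Agent.H46.S94.CI.eq_def.{0,0}) | (have := @Cfsg.Agent.H46.S94.CI.eq_def.{0}) | (have := @Cfsg.Agent.H46.S94.CI.eq_def) | skip
  first | (have := @Cfsg.Agent.H46.S94.CI.eq_1.{0,0,0}) | (have := @Cfsg.Agent.H46.S94.CI.eq_1.{0,0}) | (have := @Cfsg.Agent.H46.S94.CI.eq_1.{0}) | (have := @Cfsg.Agent.H46.S94.CI.eq_1) | skip
  first | (have := @Cfsg.Agent.H46.S94.CI.eq_2.{0,0,0}) | (have := @Cfsg.Agent.H46.S94.CI.eq_2.{0,0}) | (have := @Cfsg.Agent.H46.S94.CI.eq_2.{0}) | (have := @Cfsg.Agent.H46.S94.CI.eq_2) | skip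
  first | (have := @Cfsg.Agent.H46.S94.CI.eq_unfold.{0,0,0}) | (have := @Cfsg.Agent.H46.S94.CI.eq_unfold.{0,0}) | (have := @Cfsg.Agent.H46.S94.CI.eq_unfold.{0}) | (have := @Cfsg.Agent.H46.S94.CI.eq_unfold) | skip
  first | (have := @Cfsg.Agent.H46.S94.CI.congr_simp.{0,0,0}) | (have := @Cfsg.Agent.H46.S94.CI.congr_simp.{0,0}) | (have := @Cfsg.Agent.H46.S94.CI.congr_simp.{0}) | (have := @Cfsg.Agent.H46.S94.CI.congr_simp) | skip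
  first | (have := @Cfsg.Agent.H46.S94.InnF.eq_def.{0,0,0}) | (have := @Cfsg.Agent.H46.S94.InnF.eq_def.{0,0}) | (have := @Cfsg.Agent.H46.S94.InnF.eq_def.{0}) | (have := @Cfsg.Agent.H46.S94.InnF.eq_def) | skip
  first | (have := @Cfsg.Agent.H46.S94.InnF.eq_1.{0,0,0}) | (have := @Cfsg.Agent.H46.S94.InnF.eq_1.{0,0}) | (have := @Cfsg.Agent.H46.S94.InnF.eq_1.{0}) | (have := @Cfsg.Agent.H46.S94.InnF.eq_1) | skip
  first | (have := @Cfsg.Agent.H46.S94.InnF.eq_2.{0,0,0}) | (have := @Cfsg.Agent.H46.S94.InnF.eq_2.{0,0}) | (have := @Cfsg.Agent.H46.S94.InnF.eq_2.{0}) | (have := @Cfsg.Agent.H46.S94.InnF.eq_2) | skip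
  first | (have := @Cfsg.Agent.H46.S94.InnF.eq_unfold.{0,0,0}) | (have := @Cfsg.Agent.H46.S94.InnF.eq_unfold.{0,0}) | (have := @Cfsg.Agent.H46.S94.InnF.eq_unfold.{0}) | (have := @Cfsg.Agent.H46.S94.InnF.eq_unfold) | skip
  first | (have := @Cfsg.Agent.H46.S94.InnF.congr_simp.{0,0,0}) | (have := @Cfsg.Agent.H46.S94.InnF.congr_simp.{0,0}) | (have := @Cfsg.Agent.H46.S94.InnF.congr_simp.{0}) | (have := @Cfsg.Agent.H46.S94.InnF.congr_simp) | skip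
  first | (have := @Cfsg.Agent.H46.S94.OutM.eq_def.{0,0,0}) | (have := @Cfsg.Agent.H46.S94.OutM.eq_def.{0,0}) | (have := @Cfsg.Agent.H46.S94.OutM.eq_def.{0}) | (have := @Cfsg.Agent.H46.S94.OutM.eq_def) | skip
  first | (have := @Cfsg.Agent.H46.S94.OutM.eq_1.{0,0,0}) | (have := @Cfsg.Agent.H46.S94.OutM.eq_1.{0,0}) | (have := @Cfsg.Agent.H46.S94.OutM.eq_1.{0}) | (have := @Cfsg.Agent.H46.S94.OutM.eq_1) | skip
  first | (have := @Cfsg.Agent.H46.S94.OutM.eq_2.{0,0,0}) | (have := @Cfsg.Agent.H46.S94.OutM.eq_2.{0,0}) | (have := @Cfsg.Agent.H46.S94.OutM.eq_2.{0}) | (have := @Cfsg.Agent.H46.S94.OutM.eq_2) | skip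
  first | (have := @Cfsg.Agent.H46.S94.OutM.eq_unfold.{0,0,0}) | (have := @Cfsg.Agent.H46.S94.OutM.eq_unfold.{0,0}) | (have := @Cfsg.Agent.H46.S94.OutM.eq_unfold.{0}) | (have := @Cfsg.Agent.H46.S94.OutM.eq_unfold) | skip
  first | (have := @Cfsg.Agent.H46.S94.OutM.congr_simp.{0,0,0}) | (have := @Cfsg.Agent.H46.S94.OutM.congr_simp.{0,0}) | (have := @Cfsg.Agent.H46.S94.OutM.congr_simp.{0}) | (have := @Cfsg.Agent.H46.S94.OutM.congr_simp) | skip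
  first | (have := @Cfsg.Agent.H46.S94.OiF.eq_def.{0,0,0}) | (have := @Cfsg.Agent.H46.S94.OiF.eq_def.{0,0}) | (have := @Cfsg.Agent.H46.S94.OiF.eq_def.{0}) | (have := @Cfsg.Agent.H46.S94.OiF.eq_def) | skip
  first | (have := @Cfsg.Agent.H46.S94.OiF.eq_1.{0,0,0}) | (have := @Cfsg.Agent.H46.S94.OiF.eq_1.{0,0}) | (have := @Cfsg.Agent.H46.S94.OiF.eq_1.{0}) | (have := @Cfsg.Agent.H46.S94.OiF.eq_1) | skip
  first | (have := @Cfsg.Agent.H46.S94.OiF.eq_2.{0,0,0}) | (have := @Cfsg.Agent.H46.S94.OiF.eq_2.{0,0}) | (have := @Cfsg.Agent.H46.S94.OiF.eq_2.{0}) | (have := @Cfsg.Agent.H46.S94.OiF.eq_2) | skip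
  first | (have := @Cfsg.Agent.H46.S94.OiF.eq_unfold.{0,0,0}) | (have := @Cfsg.Agent.H46.S94.OiF.eq_unfold.{0,0}) | (have := @Cfsg.Agent.H46.S94.OiF.eq_unfold.{0}) | (have := @Cfsg.Agent.H46.S94.OiF.eq_unfold) | skip
  first | (have := @Cfsg.Agent.H46.S94.OiF.congr_simp.{0,0,0}) | (have := @Cfsg.Agent.H46.S94.OiF.congr_simp.{0,0}) | (have := @Cfsg.Agent.H46.S94.OiF.congr_simp.{0}) | (have := @Cfsg.Agent.H46.S94.OiF.congr_simp) | skip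
  first | (have := @Cfsg.Agent.H46.S94.OoF.eq_def.{0,0,0}) | (have := @Cfsg.Agent.H46.S94.OoF.eq_def.{0,0}) | (have := @Cfsg.Agent.H46.S94.OoF.eq_def.{0}) | (have := @Cfsg.Agent.H46.S94.OoF.eq_def) | skip
  first | (have := @Cfsg.Agent.H46.S94.OoF.eq_1.{0,0,0}) | (have := @Cfsg.Agent.H46.S94.OoF.eq_1.{0,0}) | (have := @Cfsg.Agent.H46.S94.OoF.eq_1.{0}) | (have := @Cfsg.Agent.H46.S94.OoF.eq_1) | skip
  first | (have := @Cfsg.Agent.H46.S94.OoF.eq_2.{0,0,0}) | (have := @Cfsg.Agent.H46.S94.OoF.eq_2.{0,0}) | (have := @Cfsg.Agent.H46.S94.OoF.eq_2.{0}) | (have := @Cfsg.Agent.H46.S94.OoF.eq_2) | skip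
  first | (have := @Cfsg.Agent.H46.S94.OoF.eq_unfold.{0,0,0}) | (have := @Cfsg.Agent.H46.S94.OoF.eq_unfold.{0,0}) | (have := @Cfsg.Agent.H46.S94.OoF.eq_unfold.{0}) | (have := @Cfsg.Agent.H46.S94.OoF.eq_unfold) | skip
  first | (have := @Cfsg.Agent.H46.S94.OoF.congr_simp.{0,0,0}) | (have := @Cfsg.Agent.H46.S94.OoF.congr_simp.{0,0}) | (have := @Cfsg.Agent.H46.S94.OoF.congr_simp.{0}) | (have := @Cfsg.Agent.H46.S94.OoF.congr_simp) | skip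
  first | (have := @Cfsg.Agent.H46.S94.JJ.eq_def.{0,0,0}) | (have := @Cfsg.Agent.H46.S94.JJ.eq_def.{0,0}) | (have := @Cfsg.Agent.H46.S94.JJ.eq_def.{0}) | (have := @Cfsg.Agent.H46.S94.JJ.eq_def) | skip
  first | (have := @Cfsg.Agent.H46.S94.JJ.eq_1.{0,0,0}) | (have := @Cfsg.Agent.H46.S94.JJ.eq_1.{0,0}) | (have := @Cfsg.Agent.H46.S94.JJ.eq_1.{0}) | (have := @Cfsg.Agent.H46.S94.JJ.eq_1) | skip
  first | (have := @Cfsg.Agent.H46.S94.JJ.eq_2.{0,0,0}) | (have := @Cfsg.Agent.H46.S94.JJ.eq_2.{0,0}) | (have := @Cfsg.Agent.H46.S94.JJ.eq_2.{0}) | (have := @Cfsg.Agent.H46.S94.JJ.eq_2) | skip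
  first | (have := @Cfsg.Agent.H46.S94.JJ.eq_unfold.{0,0,0}) | (have := @Cfsg.Agent.H46.S94.JJ.eq_unfold.{0,0}) | (have := @Cfsg.Agent.H46.S94.JJ.eq_unfold.{0}) | (have := @Cfsg.Agent.H46.S94.JJ.eq_unfold) | skip
  first | (have := @Cfsg.Agent.H46.S94.JJ.congr_simp.{0,0,0}) | (have := @Cfsg.Agent.H46.S94.JJ.congr_simp.{0,0}) | (have := @Cfsg.Agent.H46.S94.JJ.congr_simp.{0}) | (have := @Cfsg.Agent.H46.S94.JJ.congr_simp) | skip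
  first | (have := @Cfsg.Agent.H46.S94.LO.eq_def.{0,0,0}) | (have := @Cfsg.Agent.H46.S94.LO.eq_def.{0,0}) | (have := @Cfsg.Agent.H46.S94.LO.eq_def.{0}) | (have := @Cfsg.Agent.H46.S94.LO.eq_def) | skip
  first | (have := @Cfsg.Agent.H46.S94.LO.eq_1.{0,0,0}) | (have := @Cfsg.Agent.H46.S94.LO.eq_1.{0,0}) | (have := @Cfsg.Agent.H46.S94.LO.eq_1.{0}) | (have := @Cfsg.Agent.H46.S94.LO.eq_1) | skip
  first | (have := @Cfsg.Agent.H46.S94.LO.eq_2.{0,0,0}) | (have := @Cfsg.Agent.H46.S94.LO.eq_2.{0,0}) | (have := @Cfsg.Agent.H46.S94.LO.eq_2.{0}) | (have := @Cfsg.Agent.H46.S94.LO.eq_2) | skip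
  first | (have := @Cfsg.Agent.H46.S94.LO.eq_unfold.{0,0,0}) | (have := @Cfsg.Agent.H46.S94.LO.eq_unfold.{0,0}) | (have := @Cfsg.Agent.H46.S94.LO.eq_unfold.{0}) | (have := @Cfsg.Agent.H46.S94.LO.eq_unfold) | skip
  first | (have := @Cfsg.Agent.H46.S94.LO.congr_simp.{0,0,0}) | (have := @Cfsg.Agent.H46.S94.LO.congr_simp.{0,0}) | (have := @Cfsg.Agent.H46.S94.LO.congr_simp.{0}) | (have := @Cfsg.Agent.H46.S94.LO.congr_simp) | skip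
  first | (have := @Cfsg.Agent.H46.S94.Good.eq_def.{0,0,0}) | (have := @Cfsg.Agent.H46.S94.Good.eq_def.{0,0}) | (have := @Cfsg.Agent.H46.S94.Good.eq_def.{0}) | (have := @Cfsg.Agent.H46.S94.Good.eq_def) | skip
  first | (have := @Cfsg.Agent.H46.S94.Good.eq_1.{0,0,0}) | (have := @Cfsg.Agent.H46.S94.Good.eq_1.{0,0}) | (have := @Cfsg.Agent.H46.S94.Good.eq_1.{0}) | (have := @Cfsg.Agent.H46.S94.Good.eq_1) | skip
  first | (have := @Cfsg.Agent.H46.S94.Good.eq_2.{0,0,0}) | (have := @Cfsg.Agent.H46.S94.Good.eq_2.{0,0}) | (have := @Cfsg.Agent.H46.S94.Good.eq_2.{0}) | (have := @Cfsg.Agent.H46.S94.Good.eq_2) | skip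
  first | (have := @Cfsg.Agent.H46.S94.Good.eq_unfold.{0,0,0}) | (have := @Cfsg.Agent.H46.S94.Good.eq_unfold.{0,0}) | (have := @Cfsg.Agent.H46.S94.Good.eq_unfold.{0}) | (have := @Cfsg.Agent.H46.S94.Good.eq_unfold) | skip
  first | (have := @Cfsg.Agent.H46.S94.Good.congr_simp.{0,0,0}) | (have := @Cfsg.Agent.H46.S94.Good.congr_simp.{0,0}) | (have := @Cfsg.Agent.H46.S94.Good.congr_simp.{0}) | (have := @Cfsg.Agent.H46.S94.Good.congr_simp) | skip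
  first | (have := @Cfsg.Agent.H46.S94.Ex.eq_def.{0,0,0}) | (have := @Cfsg.Agent.H46.S94.Ex.eq_def.{0,0}) | (have := @Cfsg.Agent.H46.S94.Ex.eq_def.{0}) | (have := @Cfsg.Agent.H46.S94.Ex.eq_def) | skip
  first | (have := @Cfsg.Agent.H46.S94.Ex.eq_1.{0,0,0}) | (have := @Cfsg.Agent.H46.S94.Ex.eq_1.{0,0}) | (have := @Cfsg.Agent.H46.S94.Ex.eq_1.{0}) | (have := @Cfsg.Agent.H46.S94.Ex.eq_1) | skip
  first | (have := @Cfsg.Agent.H46.S94.Ex.eq_2.{0,0,0}) | (have := @Cfsg.Agent.H46.S94.Ex.eq_2.{0,0}) | (have := @Cfsg.Agent.H46.S94.Ex.eq_2.{0}) | (have := @Cfsg.Agent.H46.S94.Ex.eq_2) | skip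
  first | (have := @Cfsg.Agent.H46.S94.Ex.eq_unfold.{0,0,0}) | (have := @Cfsg.Agent.H46.S94.Ex.eq_unfold.{0,0}) | (have := @Cfsg.Agent.H46.S94.Ex.eq_unfold.{0}) | (have := @Cfsg.Agent.H46.S94.Ex.eq_unfold) | skip
  first | (have := @Cfsg.Agent.H46.S94.Ex.congr_simp.{0,0,0}) | (have := @Cfsg.Agent.H46.S94.Ex.congr_simp.{0,0}) | (have := @Cfsg.Agent.H46.S94.Ex.congr_simp.{0}) | (have := @Cfsg.Agent.H46.S94.Ex.congr_simp) | skip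
  first | (have := @Cfsg.Agent.H46.S94.XX.eq_def.{0,0,0}) | (have := @Cfsg.Agent.H46.S94.XX.eq_def.{0,0}) | (have := @Cfsg.Agent.H46.S94.XX.eq_def.{0}) | (have := @Cfsg.Agent.H46.S94.XX.eq_def) | skip
  first | (have := @Cfsg.Agent.H46.S94.XX.eq_1.{0,0,0}) | (have := @Cfsg.Agent.H46.S94.XX.eq_1.{0,0}) | (have := @Cfsg.Agent.H46.S94.XX.eq_1.{0}) | (have := @Cfsg.Agent.H46.S94.XX.eq_1) | skip
  first | (have := @Cfsg.Agent.H46.S94.XX.eq_2.{0,0,0}) | (have := @Cfsg.Agent.H46.S94.XX.eq_2.{0,0}) | (have := @Cfsg.Agent.H46.S94.XX.eq_2.{0}) | (have := @Cfsg.Agent.H46.S94.XX.eq_2) | skip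
  first | (have := @Cfsg.Agent.H46.S94.XX.eq_unfold.{0,0,0}) | (have := @Cfsg.Agent.H46.S94.XX.eq_unfold.{0,0}) | (have := @Cfsg.Agent.H46.S94.XX.eq_unfold.{0}) | (have := @Cfsg.Agent.H46.S94.XX.eq_unfold) | skip
  first | (have := @Cfsg.Agent.H46.S94.XX.congr_simp.{0,0,0}) | (have := @Cfsg.Agent.H46.S94.XX.congr_simp.{0,0}) | (have := @Cfsg.Agent.H46.S94.XX.congr_simp.{0}) | (have := @Cfsg.Agent.H46.S94.XX.congr_simp) | skip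
  first | (have := @Cfsg.Agent.H46.S94.H0.eq_def.{0,0,0}) | (have := @Cfsg.Agent.H46.S94.H0.eq_def.{0,0}) | (have := @Cfsg.Agent.H46.S94.H0.eq_def.{0}) | (have := @Cfsg.Agent.H46.S94.H0.eq_def) | skip
  first | (have := @Cfsg.Agent.H46.S94.H0.eq_1.{0,0,0}) | (have := @Cfsg.Agent.H46.S94.H0.eq_1.{0,0}) | (have := @Cfsg.Agent.H46.S94.H0.eq_1.{0}) | (have := @Cfsg.Agent.H46.S94.H0.eq_1) | skip
  first | (have := @Cfsg.Agent.H46.S94.H0.eq_2.{0,0,0}) | (have := @Cfsg.Agent.H46.S94.H0.eq_2.{0,0}) | (have := @Cfsg.Agent.H46.S94.H0.eq_2.{0}) | (have := @Cfsg.Agent.H46.S94.H0.eq_2) | skip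
  first | (have := @Cfsg.Agent.H46.S94.H0.eq_unfold.{0,0,0}) | (have := @Cfsg.Agent.H46.S94.H0.eq_unfold.{0,0}) | (have := @Cfsg.Agent.H46.S94.H0.eq_unfold.{0}) | (have := @Cfsg.Agent.H46.S94.H0.eq_unfold) | skip
  first | (have := @Cfsg.Agent.H46.S94.H0.congr_simp.{0,0,0}) | (have := @Cfsg.Agent.H46.S94.H0.congr_simp.{0,0}) | (have := @Cfsg.Agent.H46.S94.H0.congr_simp.{0}) | (have := @Cfsg.Agent.H46.S94.H0.congr_simp) | skip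
  first | (have := @Cfsg.Agent.H46.S94.Ind.eq_def.{0,0,0}) | (have := @Cfsg.Agent.H46.S94.Ind.eq_def.{0,0}) | (have := @Cfsg.Agent.H46.S94.Ind.eq_def.{0}) | (have := @Cfsg.Agent.H46.S94.Ind.eq_def) | skip
  first | (have := @Cfsg.Agent.H46.S94.Ind.eq_1.{0,0,0}) | (have := @Cfsg.Agent.H46.S94.Ind.eq_1.{0,0}) | (have := @Cfsg.Agent.H46.S94.Ind.eq_1.{0}) | (have := @Cfsg.Agent.H46.S94.Ind.eq_1) | skip
  first | (have := @Cfsg.Agent.H46.S94.Ind.eq_2.{0,0,0}) | (have := @Cfsg.Agent.H46.S94.Ind.eq_2.{0,0}) | (have := @Cfsg.Agent.H46.S94.Ind.eq_2.{0}) | (have := @Cfsg.Agent.H46.S94.Ind.eq_2) | skip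
  first | (have := @Cfsg.Agent.H46.S94.Ind.eq_unfold.{0,0,0}) | (have := @Cfsg.Agent.H46.S94.Ind.eq_unfold.{0,0}) | (have := @Cfsg.Agent.H46.S94.Ind.eq_unfold.{0}) | (have := @Cfsg.Agent.H46.S94.Ind.eq_unfold) | skip
  first | (have := @Cfsg.Agent.H46.S94.Ind.congr_simp.{0,0,0}) | (have := @Cfsg.Agent.H46.S94.Ind.congr_simp.{0,0}) | (have := @Cfsg.Agent.H46.S94.Ind.congr_simp.{0}) | (have := @Cfsg.Agent.H46.S94.Ind.congr_simp) | skip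
  first | (have := @Cfsg.Agent.H46.S94.Red1Stmt.eq_def.{0,0,0}) | (have := @Cfsg.Agent.H46.S94.Red1Stmt.eq_def.{0,0}) | (have := @Cfsg.Agent.H46.S94.Red1Stmt.eq_def.{0}) | (have := @Cfsg.Agent.H46.S94.Red1Stmt.eq_def) | skip
  first | (have := @Cfsg.Agent.H46.S94.Red1Stmt.eq_1.{0,0,0}) | (have := @Cfsg.Agent.H46.S94.Red1Stmt.eq_1.{0,0}) | (have := @Cfsg.Agent.H46.S94.Red1Stmt.eq_1.{0}) | (have := @Cfsg.Agent.H46.S94.Red1Stmt.eq_1) | skip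
  first | (have := @Cfsg.Agent.H46.S94.Red1Stmt.eq_2.{0,0,0}) | (have := @Cfsg.Agent.H46.S94.Red1Stmt.eq_2.{0,0}) | (have := @Cfsg.Agent.H46.S94.Red1Stmt.eq_2.{0}) | (have := @Cfsg.Agent.H46.S94.Red1Stmt.eq_2) | skip
  first | (have := @Cfsg.Agent.H46.S94.Red1Stmt.eq_unfold.{0,0,0}) | (have := @Cfsg.Agent.H46.S94.Red1Stmt.eq_unfold.{0,0}) | (have := @Cfsg.Agent.H46.S94.Red1Stmt.eq_unfold.{0}) | (have := @Cfsg.Agent.H46.S94.Red1Stmt.eq_unfold) | skip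
  first | (have := @Cfsg.Agent.H46.S94.Red1Stmt.congr_simp.{0,0,0}) | (have := @Cfsg.Agent.H46.S94.Red1Stmt.congr_simp.{0,0}) | (have := @Cfsg.Agent.H46.S94.Red1Stmt.congr_simp.{0}) | (have := @Cfsg.Agent.H46.S94.Red1Stmt.congr_simp) | skip
  first | (have := @Cfsg.Agent.H46.S94.RedCStmt.eq_def.{0,0,0}) | (have := @Cfsg.Agent.H46.S94.RedCStmt.eq_def.{0,0}) | (have := @Cfsg.Agent.H46.S94.RedCStmt.eq_def.{0}) | (have := @Cfsg.Agent.H46.S94.RedCStmt.eq_def) | skip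
  first | (have := @Cfsg.Agent.H46.S94.RedCStmt.eq_1.{0,0,0}) | (have := @Cfsg.Agent.H46.S94.RedCStmt.eq_1.{0,0}) | (have := @Cfsg.Agent.H46.S94.RedCStmt.eq_1.{0}) | (have := @Cfsg.Agent.H46.S94.RedCStmt.eq_1) | skip
  first | (have := @Cfsg.Agent.H46.S94.RedCStmt.eq_2.{0,0,0}) | (have := @Cfsg.Agent.H46.S94.RedCStmt.eq_2.{0,0}) | (have := @Cfsg.Agent.H46.S94.RedCStmt.eq_2.{0}) | (have := @Cfsg.Agent.H46.S94.RedCStmt.eq_2) | skip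
  first | (have := @Cfsg.Agent.H46.S94.RedCStmt.eq_unfold.{0,0,0}) | (have := @Cfsg.Agent.H46.S94.RedCStmt.eq_unfold.{0,0}) | (have := @Cfsg.Agent.H46.S94.RedCStmt.eq_unfold.{0}) | (have := @Cfsg.Agent.H46.S94.RedCStmt.eq_unfold) | skip
  first | (have := @Cfsg.Agent.H46.S94.RedCStmt.congr_simp.{0,0,0}) | (have := @Cfsg.Agent.H46.S94.RedCStmt.congr_simp.{0,0}) | (have := @Cfsg.Agent.H46.S94.RedCStmt.congr_simp.{0}) | (have := @Cfsg.Agent.H46.S94.RedCStmt.congr_simp) | skip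
  first | (have := @Cfsg.Agent.H46.S94.Hat1Stmt.eq_def.{0,0,0}) | (have := @Cfsg.Agent.H46.S94.Hat1Stmt.eq_def.{0,0}) | (have := @Cfsg.Agent.H46.S94.Hat1Stmt.eq_def.{0}) | (have := @Cfsg.Agent.H46.S94.Hat1Stmt.eq_def) | skip
  first | (have := @Cfsg.Agent.H46.S94.Hat1Stmt.eq_1.{0,0,0}) | (have := @Cfsg.Agent.H46.S94.Hat1Stmt.eq_1.{0,0}) | (have := @Cfsg.Agent.H46.S94.Hat1Stmt.eq_1.{0}) | (have := @Cfsg.Agent.H46.S94.Hat1Stmt.eq_1) | skip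
  first | (have := @Cfsg.Agent.H46.S94.Hat1Stmt.eq_2.{0,0,0}) | (have := @Cfsg.Agent.H46.S94.Hat1Stmt.eq_2.{0,0}) | (have := @Cfsg.Agent.H46.S94.Hat1Stmt.eq_2.{0}) | (have := @Cfsg.Agent.H46.S94.Hat1Stmt.eq_2) | skip
  first | (have := @Cfsg.Agent.H46.S94.Hat1Stmt.eq_unfold.{0,0,0}) | (have := @Cfsg.Agent.H46.S94.Hat1Stmt.eq_unfold.{0,0}) | (have := @Cfsg.Agent.H46.S94.Hat1Stmt.eq_unfold.{0}) | (have := @Cfsg.Agent.H46.S94.Hat1Stmt.eq_unfold) | skip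
  first | (have := @Cfsg.Agent.H46.S94.Hat1Stmt.congr_simp.{0,0,0}) | (have := @Cfsg.Agent.H46.S94.Hat1Stmt.congr_simp.{0,0}) | (have := @Cfsg.Agent.H46.S94.Hat1Stmt.congr_simp.{0}) | (have := @Cfsg.Agent.H46.S94.Hat1Stmt.congr_simp) | skip
  first | (have := @Cfsg.Agent.H46.S94.Hat2Stmt.eq_def.{0,0,0}) | (have := @Cfsg.Agent.H46.S94.Hat2Stmt.eq_def.{0,0}) | (have := @Cfsg.Agent.H46.S94.Hat2Stmt.eq_def.{0}) | (have := @Cfsg.Agent.H46.S94.Hat2Stmt.eq_def) | skip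
  first | (have := @Cfsg.Agent.H46.S94.Hat2Stmt.eq_1.{0,0,0}) | (have := @Cfsg.Agent.H46.S94.Hat2Stmt.eq_1.{0,0}) | (have := @Cfsg.Agent.H46.S94.Hat2Stmt.eq_1.{0}) | (have := @Cfsg.Agent.H46.S94.Hat2Stmt.eq_1) | skip
  first | (have := @Cfsg.Agent.H46.S94.Hat2Stmt.eq_2.{0,0,0}) | (have := @Cfsg.Agent.H46.S94.Hat2Stmt.eq_2.{0,0}) | (have := @Cfsg.Agent.H46.S94.Hat2Stmt.eq_2.{0}) | (have := @Cfsg.Agent.H46.S94.Hat2Stmt.eq_2) | skip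
  first | (have := @Cfsg.Agent.H46.S94.Hat2Stmt.eq_unfold.{0,0,0}) | (have := @Cfsg.Agent.H46.S94.Hat2Stmt.eq_unfold.{0,0}) | (have := @Cfsg.Agent.H46.S94.Hat2Stmt.eq_unfold.{0}) | (have := @Cfsg.Agent.H46.S94.Hat2Stmt.eq_unfold) | skip
  first | (have := @Cfsg.Agent.H46.S94.Hat2Stmt.congr_simp.{0,0,0}) | (have := @Cfsg.Agent.H46.S94.Hat2Stmt.congr_simp.{0,0}) | (have := @Cfsg.Agent.H46.S94.Hat2Stmt.congr_simp.{0}) | (have := @Cfsg.Agent.H46.S94.Hat2Stmt.congr_simp) | skip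
  first | (have := @Cfsg.Agent.H46.S94.HatStmt.eq_def.{0,0,0}) | (have := @Cfsg.Agent.H46.S94.HatStmt.eq_def.{0,0}) | (have := @Cfsg.Agent.H46.S94.HatStmt.eq_def.{0}) | (have := @Cfsg.Agent.H46.S94.HatStmt.eq_def) | skip
  first | (have := @Cfsg.Agent.H46.S94.HatStmt.eq_1.{0,0,0}) | (have := @Cfsg.Agent.H46.S94.HatStmt.eq_1.{0,0}) | (have := @Cfsg.Agent.H46.S94.HatStmt.eq_1.{0}) | (have := @Cfsg.Agent.H46.S94.HatStmt.eq_1) | skip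
  first | (have := @Cfsg.Agent.H46.S94.HatStmt.eq_2.{0,0,0}) | (have := @Cfsg.Agent.H46.S94.HatStmt.eq_2.{0,0}) | (have := @Cfsg.Agent.H46.S94.HatStmt.eq_2.{0}) | (have := @Cfsg.Agent.H46.S94.HatStmt.eq_2) | skip
  first | (have := @Cfsg.Agent.H46.S94.HatStmt.eq_unfold.{0,0,0}) | (have := @Cfsg.Agent.H46.S94.HatStmt.eq_unfold.{0,0}) | (have := @Cfsg.Agent.H46.S94.HatStmt.eq_unfold.{0}) | (have := @Cfsg.Agent.H46.S94.HatStmt.eq_unfold) | skip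
  first | (have := @Cfsg.Agent.H46.S94.HatStmt.congr_simp.{0,0,0}) | (have := @Cfsg.Agent.H46.S94.HatStmt.congr_simp.{0,0}) | (have := @Cfsg.Agent.H46.S94.HatStmt.congr_simp.{0}) | (have := @Cfsg.Agent.H46.S94.HatStmt.congr_simp) | skip
  first | (have := @Cfsg.Agent.H46.S94.WrStmt.eq_def.{0,0,0}) | (have := @Cfsg.Agent.H46.S94.WrStmt.eq_def.{0,0}) | (have := @Cfsg.Agent.H46.S94.WrStmt.eq_def.{0}) | (have := @Cfsg.Agent.H46.S94.WrStmt.eq_def) | skip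
  first | (have := @Cfsg.Agent.H46.S94.WrStmt.eq_1.{0,0,0}) | (have := @Cfsg.Agent.H46.S94.WrStmt.eq_1.{0,0}) | (have := @Cfsg.Agent.H46.S94.WrStmt.eq_1.{0}) | (have := @Cfsg.Agent.H46.S94.WrStmt.eq_1) | skip
  first | (have := @Cfsg.Agent.H46.S94.WrStmt.eq_2.{0,0,0}) | (have := @Cfsg.Agent.H46.S94.WrStmt.eq_2.{0,0}) | (have := @Cfsg.Agent.H46.S94.WrStmt.eq_2.{0}) | (have := @Cfsg.Agent.H46.S94.WrStmt.eq_2) | skip
  first | (have := @Cfsg.Agent.H46.S94.WrStmt.eq_unfold.{0,0,0}) | (have := @Cfsg.Agent.H46.S94.WrStmt.eq_unfold.{0,0}) | (have := @Cfsg.Agent.H46.S94.WrStmt.eq_unfold.{0}) | (have := @Cfsg.Agent.H46.S94.WrStmt.eq_unfold) | skip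
  first | (have := @Cfsg.Agent.H46.S94.WrStmt.congr_simp.{0,0,0}) | (have := @Cfsg.Agent.H46.S94.WrStmt.congr_simp.{0,0}) | (have := @Cfsg.Agent.H46.S94.WrStmt.congr_simp.{0}) | (have := @Cfsg.Agent.H46.S94.WrStmt.congr_simp) | skip
  first | (have := @Cfsg.Agent.H46.S94.EKStmt.eq_def.{0,0,0}) | (have := @Cfsg.Agent.H46.S94.EKStmt.eq_def.{0,0}) | (have := @Cfsg.Agent.H46.S94.EKStmt.eq_def.{0}) | (have := @Cfsg.Agent.H46.S94.EKStmt.eq_def) | skip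
  first | (have := @Cfsg.Agent.H46.S94.EKStmt.eq_1.{0,0,0}) | (have := @Cfsg.Agent.H46.S94.EKStmt.eq_1.{0,0}) | (have := @Cfsg.Agent.H46.S94.EKStmt.eq_1.{0}) | (have := @Cfsg.Agent.H46.S94.EKStmt.eq_1) | skip
  first | (have := @Cfsg.Agent.H46.S94.EKStmt.eq_2.{0,0,0}) | (have := @Cfsg.Agent.H46.S94.EKStmt.eq_2.{0,0}) | (have := @Cfsg.Agent.H46.S94.EKStmt.eq_2.{0}) | (have := @Cfsg.Agent.H46.S94.EKStmt.eq_2) | skip
  first | (have := @Cfsg.Agent.H46.S94.EKStmt.eq_unfold.{0,0,0}) | (have := @Cfsg.Agent.H46.S94.EKStmt.eq_unfold.{0,0}) | (have := @Cfsg.Agent.H46.S94.EKStmt.eq_unfold.{0}) | (have := @Cfsg.Agent.H46.S94.EKStmt.eq_unfold) | skip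
  first | (have := @Cfsg.Agent.H46.S94.EKStmt.congr_simp.{0,0,0}) | (have := @Cfsg.Agent.H46.S94.EKStmt.congr_simp.{0,0}) | (have := @Cfsg.Agent.H46.S94.EKStmt.congr_simp.{0}) | (have := @Cfsg.Agent.H46.S94.EKStmt.congr_simp) | skip
  first | (have := @Cfsg.Agent.H46.S94.E3Stmt.eq_def.{0,0,0}) | (have := @Cfsg.Agent.H46.S94.E3Stmt.eq_def.{0,0}) | (have := @Cfsg.Agent.H46.S94.E3Stmt.eq_def.{0}) | (have := @Cfsg.Agent.H46.S94.E3Stmt.eq_def) | skip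
  first | (have := @Cfsg.Agent.H46.S94.E3Stmt.eq_1.{0,0,0}) | (have := @Cfsg.Agent.H46.S94.E3Stmt.eq_1.{0,0}) | (have := @Cfsg.Agent.H46.S94.E3Stmt.eq_1.{0}) | (have := @Cfsg.Agent.H46.S94.E3Stmt.eq_1) | skip
  first | (have := @Cfsg.Agent.H46.S94.E3Stmt.eq_2.{0,0,0}) | (have := @Cfsg.Agent.H46.S94.E3Stmt.eq_2.{0,0}) | (have := @Cfsg.Agent.H46.S94.E3Stmt.eq_2.{0}) | (have := @Cfsg.Agent.H46.S94.E3Stmt.eq_2) | skip
  first | (have := @Cfsg.Agent.H46.S94.E3Stmt.eq_unfold.{0,0,0}) | (have := @Cfsg.Agent.H46.S94.E3Stmt.eq_unfold.{0,0}) | (have := @Cfsg.Agent.H46.S94.E3Stmt.eq_unfold.{0}) | (have := @Cfsg.Agent.H46.S94.E3Stmt.eq_unfold) | skip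
  first | (have := @Cfsg.Agent.H46.S94.E3Stmt.congr_simp.{0,0,0}) | (have := @Cfsg.Agent.H46.S94.E3Stmt.congr_simp.{0,0}) | (have := @Cfsg.Agent.H46.S94.E3Stmt.congr_simp.{0}) | (have := @Cfsg.Agent.H46.S94.E3Stmt.congr_simp) | skip
  first | (have := @Cfsg.Agent.H46.S94.E4Stmt.eq_def.{0,0,0}) | (have := @Cfsg.Agent.H46.S94.E4Stmt.eq_def.{0,0}) | (have := @Cfsg.Agent.H46.S94.E4Stmt.eq_def.{0}) | (have := @Cfsg.Agent.H46.S94.E4Stmt.eq_def) | skip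
  first | (have := @Cfsg.Agent.H46.S94.E4Stmt.eq_1.{0,0,0}) | (have := @Cfsg.Agent.H46.S94.E4Stmt.eq_1.{0,0}) | (have := @Cfsg.Agent.H46.S94.E4Stmt.eq_1.{0}) | (have := @Cfsg.Agent.H46.S94.E4Stmt.eq_1) | skip
  first | (have := @Cfsg.Agent.H46.S94.E4Stmt.eq_2.{0,0,0}) | (have := @Cfsg.Agent.H46.S94.E4Stmt.eq_2.{0,0}) | (have := @Cfsg.Agent.H46.S94.E4Stmt.eq_2.{0}) | (have := @Cfsg.Agent.H46.S94.E4Stmt.eq_2) | skip
  first | (have := @Cfsg.Agent.H46.S94.E4Stmt.eq_unfold.{0,0,0}) | (have := @Cfsg.Agent.H46.S94.E4Stmt.eq_unfold.{0,0}) | (have := @Cfsg.Agent.H46.S94.E4Stmt.eq_unfold.{0}) | (have := @Cfsg.Agent.H46.S94.E4Stmt.eq_unfold) | skip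
  first | (have := @Cfsg.Agent.H46.S94.E4Stmt.congr_simp.{0,0,0}) | (have := @Cfsg.Agent.H46.S94.E4Stmt.congr_simp.{0,0}) | (have := @Cfsg.Agent.H46.S94.E4Stmt.congr_simp.{0}) | (have := @Cfsg.Agent.H46.S94.E4Stmt.congr_simp) | skip
  first | (have := @Cfsg.Agent.H46.S94.TTStmt.eq_def.{0,0,0}) | (have := @Cfsg.Agent.H46.S94.TTStmt.eq_def.{0,0}) | (have := @Cfsg.Agent.H46.S94.TTStmt.eq_def.{0}) | (have := @Cfsg.Agent.H46.S94.TTStmt.eq_def) | skip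
  first | (have := @Cfsg.Agent.H46.S94.TTStmt.eq_1.{0,0,0}) | (have := @Cfsg.Agent.H46.S94.TTStmt.eq_1.{0,0}) | (have := @Cfsg.Agent.H46.S94.TTStmt.eq_1.{0}) | (have := @Cfsg.Agent.H46.S94.TTStmt.eq_1) | skip
  first | (have := @Cfsg.Agent.H46.S94.TTStmt.eq_2.{0,0,0}) | (have := @Cfsg.Agent.H46.S94.TTStmt.eq_2.{0,0}) | (have := @Cfsg.Agent.H46.S94.TTStmt.eq_2.{0}) | (have := @Cfsg.Agent.H46.S94.TTStmt.eq_2) | skip
  first | (have := @Cfsg.Agent.H46.S94.TTStmt.eq_unfold.{0,0,0}) | (have := @Cfsg.Agent.H46.S94.TTStmt.eq_unfold.{0,0}) | (have := @Cfsg.Agent.H46.S94.TTStmt.eq_unfold.{0}) | (have := @Cfsg.Agent.H46.S94.TTStmt.eq_unfold) | skip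
  first | (have := @Cfsg.Agent.H46.S94.TTStmt.congr_simp.{0,0,0}) | (have := @Cfsg.Agent.H46.S94.TTStmt.congr_simp.{0,0}) | (have := @Cfsg.Agent.H46.S94.TTStmt.congr_simp.{0}) | (have := @Cfsg.Agent.H46.S94.TTStmt.congr_simp) | skip
  first | (have := @Cfsg.Agent.H46.S94.E5Stmt.eq_def.{0,0,0}) | (have := @Cfsg.Agent.H46.S94.E5Stmt.eq_def.{0,0}) | (have := @Cfsg.Agent.H46.S94.E5Stmt.eq_def.{0}) | (have := @Cfsg.Agent.H46.S94.E5Stmt.eq_def) | skip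
  first | (have := @Cfsg.Agent.H46.S94.E5Stmt.eq_1.{0,0,0}) | (have := @Cfsg.Agent.H46.S94.E5Stmt.eq_1.{0,0}) | (have := @Cfsg.Agent.H46.S94.E5Stmt.eq_1.{0}) | (have := @Cfsg.Agent.H46.S94.E5Stmt.eq_1) | skip
  first | (have := @Cfsg.Agent.H46.S94.E5Stmt.eq_2.{0,0,0}) | (have := @Cfsg.Agent.H46.S94.E5Stmt.eq_2.{0,0}) | (have := @Cfsg.Agent.H46.S94.E5Stmt.eq_2.{0}) | (have := @Cfsg.Agent.H46.S94.E5Stmt.eq_2) | skip
  first | (have := @Cfsg.Agent.H46.S94.E5Stmt.eq_unfold.{0,0,0}) | (have := @Cfsg.Agent.H46.S94.E5Stmt.eq_unfold.{0,0}) | (have := @Cfsg.Agent.H46.S94.E5Stmt.eq_unfold.{0}) | (have := @Cfsg.Agent.H46.S94.E5Stmt.eq_unfold) | skip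
  first | (have := @Cfsg.Agent.H46.S94.E5Stmt.congr_simp.{0,0,0}) | (have := @Cfsg.Agent.H46.S94.E5Stmt.congr_simp.{0,0}) | (have := @Cfsg.Agent.H46.S94.E5Stmt.congr_simp.{0}) | (have := @Cfsg.Agent.H46.S94.E5Stmt.congr_simp) | skip
  first | (have := @Cfsg.Agent.H46.S94.E6Stmt.eq_def.{0,0,0}) | (have := @Cfsg.Agent.H46.S94.E6Stmt.eq_def.{0,0}) | (have := @Cfsg.Agent.H46.S94.E6Stmt.eq_def.{0}) | (have := @Cfsg.Agent.H46.S94.E6Stmt.eq_def) | skip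
  first | (have := @Cfsg.Agent.H46.S94.E6Stmt.eq_1.{0,0,0}) | (have := @Cfsg.Agent.H46.S94.E6Stmt.eq_1.{0,0}) | (have := @Cfsg.Agent.H46.S94.E6Stmt.eq_1.{0}) | (have := @Cfsg.Agent.H46.S94.E6Stmt.eq_1) | skip
  first | (have := @Cfsg.Agent.H46.S94.E6Stmt.eq_2.{0,0,0}) | (have := @Cfsg.Agent.H46.S94.E6Stmt.eq_2.{0,0}) | (have := @Cfsg.Agent.H46.S94.E6Stmt.eq_2.{0}) | (have := @Cfsg.Agent.H46.S94.E6Stmt.eq_2) | skip
  first | (have := @Cfsg.Agent.H46.S94.E6Stmt.eq_unfold.{0,0,0}) | (have := @Cfsg.Agent.H46.S94.E6Stmt.eq_unfold.{0,0}) | (have := @Cfsg.Agent.H46.S94.E6Stmt.eq_unfold.{0}) | (have := @Cfsg.Agent.H46.S94.E6Stmt.eq_unfold) | skip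
  first | (have := @Cfsg.Agent.H46.S94.E6Stmt.congr_simp.{0,0,0}) | (have := @Cfsg.Agent.H46.S94.E6Stmt.congr_simp.{0,0}) | (have := @Cfsg.Agent.H46.S94.E6Stmt.congr_simp.{0}) | (have := @Cfsg.Agent.H46.S94.E6Stmt.congr_simp) | skip
  first | (have := @Cfsg.Agent.H46.S94.E7Stmt.eq_def.{0,0,0}) | (have := @Cfsg.Agent.H46.S94.E7Stmt.eq_def.{0,0}) | (have := @Cfsg.Agent.H46.S94.E7Stmt.eq_def.{0}) | (have := @Cfsg.Agent.H46.S94.E7Stmt.eq_def) | skip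
  first | (have := @Cfsg.Agent.H46.S94.E7Stmt.eq_1.{0,0,0}) | (have := @Cfsg.Agent.H46.S94.E7Stmt.eq_1.{0,0}) | (have := @Cfsg.Agent.H46.S94.E7Stmt.eq_1.{0}) | (have := @Cfsg.Agent.H46.S94.E7Stmt.eq_1) | skip
  first | (have := @Cfsg.Agent.H46.S94.E7Stmt.eq_2.{0,0,0}) | (have := @Cfsg.Agent.H46.S94.E7Stmt.eq_2.{0,0}) | (have := @Cfsg.Agent.H46.S94.E7Stmt.eq_2.{0}) | (have := @Cfsg.Agent.H46.S94.E7Stmt.eq_2) | skip
  first | (have := @Cfsg.Agent.H46.S94.E7Stmt.eq_unfold.{0,0,0}) | (have := @Cfsg.Agent.H46.S94.E7Stmt.eq_unfold.{0,0}) | (have := @Cfsg.Agent.H46.S94.E7Stmt.eq_unfold.{0}) | (have := @Cfsg.Agent.H46.S94.E7Stmt.eq_unfold) | skip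
  first | (have := @Cfsg.Agent.H46.S94.E7Stmt.congr_simp.{0,0,0}) | (have := @Cfsg.Agent.H46.S94.E7Stmt.congr_simp.{0,0}) | (have := @Cfsg.Agent.H46.S94.E7Stmt.congr_simp.{0}) | (have := @Cfsg.Agent.H46.S94.E7Stmt.congr_simp) | skip
  first | (have := @Cfsg.Agent.H46.S94.EndStmt.eq_def.{0,0,0}) | (have := @Cfsg.Agent.H46.S94.EndStmt.eq_def.{0,0}) | (have := @Cfsg.Agent.H46.S94.EndStmt.eq_def.{0}) | (have := @Cfsg.Agent.H46.S94.EndStmt.eq_def) | skip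
  first | (have := @Cfsg.Agent.H46.S94.EndStmt.eq_1.{0,0,0}) | (have := @Cfsg.Agent.H46.S94.EndStmt.eq_1.{0,0}) | (have := @Cfsg.Agent.H46.S94.EndStmt.eq_1.{0}) | (have := @Cfsg.Agent.H46.S94.EndStmt.eq_1) | skip
  first | (have := @Cfsg.Agent.H46.S94.EndStmt.eq_2.{0,0,0}) | (have := @Cfsg.Agent.H46.S94.EndStmt.eq_2.{0,0}) | (have := @Cfsg.Agent.H46.S94.EndStmt.eq_2.{0}) | (have := @Cfsg.Agent.H46.S94.EndStmt.eq_2) | skip
  first | (have := @Cfsg.Agent.H46.S94.EndStmt.eq_unfold.{0,0,0}) | (have := @Cfsg.Agent.H46.S94.EndStmt.eq_unfold.{0,0}) | (have := @Cfsg.Agent.H46.S94.EndStmt.eq_unfold.{0}) | (have := @Cfsg.Agent.H46.S94.EndStmt.eq_unfold) | skip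
  first | (have := @Cfsg.Agent.H46.S94.EndStmt.congr_simp.{0,0,0}) | (have := @Cfsg.Agent.H46.S94.EndStmt.congr_simp.{0,0}) | (have := @Cfsg.Agent.H46.S94.EndStmt.congr_simp.{0}) | (have := @Cfsg.Agent.H46.S94.EndStmt.congr_simp) | skip
  trivial

end Cfsg.Agent.H46.S94
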