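import Cfsg.Agent.H46.SKit
import Cfsg.Agent.H44.KiSuz

/-!
# The facts about the sporadic Suzuki group: data and statements
-/

set_option autoImplicit false
open Subgroup

namespace Cfsg.Agent.H46.S95.Sz
open Cfsg.Agent.H43 Cfsg.Agent.H44 Cfsg.Agent.H59.Sz

universe u

/-- the model -/
abbrev Γ : Type := ↥(grp 1782 SuzM.E)

/-- the letters of the centraliser of `β 1` as elements of the model -/
noncomputable def sz (x : ℕ) : Γ := ⟨(H59.Sz.ν x).1, (H59.Sz.ν x).2.1⟩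

def Out2 : Prop := ∀ α β : MulAut Γ, Inn α ∨ Inn β ∨ Inn (α * β)

def CL : Prop :=
  ∀ α : MulAut Γ, (∀ l ∈ Cz (β 1), α l = l) → ∃ c ∈ zpowers (β 1), α = MulAut.conj c

def OutS : Prop := OutF Γ ∧ OutM Γ 128 ∧ OiF Γ 128 ∧ OoF Γ

def BaseS : Prop := Base Γ ∧ InnF Γ 512 ∧ SylF Γ 8192

def S2S : Prop := S2F (β 1)

def HFS : Prop := ∃ y x : Cz (β 1), (y : Γ) = sz 2 ∧ (x : Γ) = sz 16 ∧ HF (β 1) y x

def RZS : Prop := RC (β 1) (β 1) (Cz (β 1)) (zpowers (β 1))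

/-- the component `L₃(4)` of the centraliser of `β 5` -/
noncomputable def Λ : Subgroup Γ := ⁅⁅Cz (β 5), Cz (β 5)⁆, ⁅Cz (β 5), Cz (β 5)⁆⁆

/-- the four-group centralising it -/
noncomputable def Z : Subgroup Γ := centralizer (Λ : Set Γ) ⊓ Cz (β 5)

def RDS : Prop := RD (β 1) (β 5) Λ Z

def TCS : Prop := ∃ ρ, TC Λ Z ρ

def LCS : Prop := LC (β 1) (sz 2) (sz 3)

def CloS : Prop := Clo.{u} (β 1) [(sz 2, sz 3)] []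

set_option linter.unusedTactic false in
theorem eqns_SSz : True := by
  first | (have := @Cfsg.Agent.H46.S95.Sz.Γ.eq_def.{0,0,0}) | (have := @Cfsg.Agent.H46.S95.Sz.Γ.eq_def.{0,0}) | (have := @Cfsg.Agent.H46.S95.Sz.Γ.eq_def.{0}) | (have := @Cfsg.Agent.H46.S95.Sz.Γ.eq_def) | skip
  first | (have := @Cfsg.Agent.H46.S95.Sz.Γ.eq_1.{0,0,0}) | (have := @Cfsg.Agent.H46.S95.Sz.Γ.eq_1.{0,0}) | (have := @Cfsg.Agent.H46.S95.Sz.Γ.eq_1.{0}) | (have := @Cfsg.Agent.H46.S95.Sz.Γ.eq_1) | skip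
  first | (have := @Cfsg.Agent.H46.S95.Sz.Γ.eq_2.{0,0,0}) | (have := @Cfsg.Agent.H46.S95.Sz.Γ.eq_2.{0,0}) | (have := @Cfsg.Agent.H46.S95.Sz.Γ.eq_2.{0}) | (have := @Cfsg.Agent.H46.S95.Sz.Γ.eq_2) | skip
  first | (have := @Cfsg.Agent.H46.S95.Sz.Γ.eq_unfold.{0,0,0}) | (have := @Cfsg.Agent.H46.S95.Sz.Γ.eq_unfold.{0,0}) | (have := @Cfsg.Agent.H46.S95.Sz.Γ.eq_unfold.{0}) | (have := @Cfsg.Agent.H46.S95.Sz.Γ.eq_unfold) | skip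
  first | (have := @Cfsg.Agent.H46.S95.Sz.Γ.congr_simp.{0,0,0}) | (have := @Cfsg.Agent.H46.S95.Sz.Γ.congr_simp.{0,0}) | (have := @Cfsg.Agent.H46.S95.Sz.Γ.congr_simp.{0}) | (have := @Cfsg.Agent.H46.S95.Sz.Γ.congr_simp) | skip
  first | (have := @Cfsg.Agent.H46.S95.Sz.sz.eq_def.{0,0,0}) | (have := @Cfsg.Agent.H46.S95.Sz.sz.eq_def.{0,0}) | (have := @Cfsg.Agent.H46.S95.Sz.sz.eq_def.{0}) | (have := @Cfsg.Agent.H46.S95.Sz.sz.eq_def) | skip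
  first | (have := @Cfsg.Agent.H46.S95.Sz.sz.eq_1.{0,0,0}) | (have := @Cfsg.Agent.H46.S95.Sz.sz.eq_1.{0,0}) | (have := @Cfsg.Agent.H46.S95.Sz.sz.eq_1.{0}) | (have := @Cfsg.Agent.H46.S95.Sz.sz.eq_1) | skip
  first | (have := @Cfsg.Agent.H46.S95.Sz.sz.eq_2.{0,0,0}) | (have := @Cfsg.Agent.H46.S95.Sz.sz.eq_2.{0,0}) | (have := @Cfsg.Agent.H46.S95.Sz.sz.eq_2.{0}) | (have := @Cfsg.Agent.H46.S95.Sz.sz.eq_2) | skip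
  first | (have := @Cfsg.Agent.H46.S95.Sz.sz.eq_unfold.{0,0,0}) | (have := @Cfsg.Agent.H46.S95.Sz.sz.eq_unfold.{0,0}) | (have := @Cfsg.Agent.H46.S95.Sz.sz.eq_unfold.{0}) | (have := @Cfsg.Agent.H46.S95.Sz.sz.eq_unfold) | skip
  first | (have := @Cfsg.Agent.H46.S95.Sz.sz.congr_simp.{0,0,0}) | (have := @Cfsg.Agent.H46.S95.Sz.sz.congr_simp.{0,0}) | (have := @Cfsg.Agent.H46.S95.Sz.sz.congr_simp.{0}) | (have := @Cfsg.Agent.H46.S95.Sz.sz.congr_simp) | skip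
  first | (have := @Cfsg.Agent.H46.S95.Sz.Out2.eq_def.{0,0,0}) | (have := @Cfsg.Agent.H46.S95.Sz.Out2.eq_def.{0,0}) | (have := @Cfsg.Agent.H46.S95.Sz.Out2.eq_def.{0}) | (have := @Cfsg.Agent.H46.S95.Sz.Out2.eq_def) | skip
  first | (have := @Cfsg.Agent.H46.S95.Sz.Out2.eq_1.{0,0,0}) | (have := @Cfsg.Agent.H46.S95.Sz.Out2.eq_1.{0,0}) | (have := @Cfsg.Agent.H46.S95.Sz.Out2.eq_1.{0}) | (have := @Cfsg.Agent.H46.S95.Sz.Out2.eq_1) | skip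
  first | (have := @Cfsg.Agent.H46.S95.Sz.Out2.eq_2.{0,0,0}) | (have := @Cfsg.Agent.H46.S95.Sz.Out2.eq_2.{0,0}) | (have := @Cfsg.Agent.H46.S95.Sz.Out2.eq_2.{0}) | (have := @Cfsg.Agent.H46.S95.Sz.Out2.eq_2) | skip
  first | (have := @Cfsg.Agent.H46.S95.Sz.Out2.eq_unfold.{0,0,0}) | (have := @Cfsg.Agent.H46.S95.Sz.Out2.eq_unfold.{0,0}) | (have := @Cfsg.Agent.H46.S95.Sz.Out2.eq_unfold.{0}) | (have := @Cfsg.Agent.H46.S95.Sz.Out2.eq_unfold) | skip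
  first | (have := @Cfsg.Agent.H46.S95.Sz.Out2.congr_simp.{0,0,0}) | (have := @Cfsg.Agent.H46.S95.Sz.Out2.congr_simp.{0,0}) | (have := @Cfsg.Agent.H46.S95.Sz.Out2.congr_simp.{0}) | (have := @Cfsg.Agent.H46.S95.Sz.Out2.congr_simp) | skip
  first | (have := @Cfsg.Agent.H46.S95.Sz.CL.eq_def.{0,0,0}) | (have := @Cfsg.Agent.H46.S95.Sz.CL.eq_def.{0,0}) | (have := @Cfsg.Agent.H46.S95.Sz.CL.eq_def.{0}) | (have := @Cfsg.Agent.H46.S95.Sz.CL.eq_def) | skip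
  first | (have := @Cfsg.Agent.H46.S95.Sz.CL.eq_1.{0,0,0}) | (have := @Cfsg.Agent.H46.S95.Sz.CL.eq_1.{0,0}) | (have := @Cfsg.Agent.H46.S95.Sz.CL.eq_1.{0}) | (have := @Cfsg.Agent.H46.S95.Sz.CL.eq_1) | skip
  first | (have := @Cfsg.Agent.H46.S95.Sz.CL.eq_2.{0,0,0}) | (have := @Cfsg.Agent.H46.S95.Sz.CL.eq_2.{0,0}) | (have := @Cfsg.Agent.H46.S95.Sz.CL.eq_2.{0}) | (have := @Cfsg.Agent.H46.S95.Sz.CL.eq_2) | skip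
  first | (have := @Cfsg.Agent.H46.S95.Sz.CL.eq_unfold.{0,0,0}) | (have := @Cfsg.Agent.H46.S95.Sz.CL.eq_unfold.{0,0}) | (have := @Cfsg.Agent.H46.S95.Sz.CL.eq_unfold.{0}) | (have := @Cfsg.Agent.H46.S95.Sz.CL.eq_unfold) | skip
  first | (have := @Cfsg.Agent.H46.S95.Sz.CL.congr_simp.{0,0,0}) | (have := @Cfsg.Agent.H46.S95.Sz.CL.congr_simp.{0,0}) | (have := @Cfsg.Agent.H46.S95.Sz.CL.congr_simp.{0}) | (have := @Cfsg.Agent.H46.S95.Sz.CL.congr_simp) | skip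
  first | (have := @Cfsg.Agent.H46.S95.Sz.OutS.eq_def.{0,0,0}) | (have := @Cfsg.Agent.H46.S95.Sz.OutS.eq_def.{0,0}) | (have := @Cfsg.Agent.H46.S95.Sz.OutS.eq_def.{0}) | (have := @Cfsg.Agent.H46.S95.Sz.OutS.eq_def) | skip
  first | (have := @Cfsg.Agent.H46.S95.Sz.OutS.eq_1.{0,0,0}) | (have := @Cfsg.Agent.H46.S95.Sz.OutS.eq_1.{0,0}) | (have := @Cfsg.Agent.H46.S95.Sz.OutS.eq_1.{0}) | (have := @Cfsg.Agent.H46.S95.Sz.OutS.eq_1) | skip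
  first | (have := @Cfsg.Agent.H46.S95.Sz.OutS.eq_2.{0,0,0}) | (have := @Cfsg.Agent.H46.S95.Sz.OutS.eq_2.{0,0}) | (have := @Cfsg.Agent.H46.S95.Sz.OutS.eq_2.{0}) | (have := @Cfsg.Agent.H46.S95.Sz.OutS.eq_2) | skip
  first | (have := @Cfsg.Agent.H46.S95.Sz.OutS.eq_unfold.{0,0,0}) | (have := @Cfsg.Agent.H46.S95.Sz.OutS.eq_unfold.{0,0}) | (have := @Cfsg.Agent.H46.S95.Sz.OutS.eq_unfold.{0}) | (have := @Cfsg.Agent.H46.S95.Sz.OutS.eq_unfold) | skip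
  first | (have := @Cfsg.Agent.H46.S95.Sz.OutS.congr_simp.{0,0,0}) | (have := @Cfsg.Agent.H46.S95.Sz.OutS.congr_simp.{0,0}) | (have := @Cfsg.Agent.H46.S95.Sz.OutS.congr_simp.{0}) | (have := @Cfsg.Agent.H46.S95.Sz.OutS.congr_simp) | skip
  first | (have := @Cfsg.Agent.H46.S95.Sz.BaseS.eq_def.{0,0,0}) | (have := @Cfsg.Agent.H46.S95.Sz.BaseS.eq_def.{0,0}) | (have := @Cfsg.Agent.H46.S95.Sz.BaseS.eq_def.{0}) | (have := @Cfsg.Agent.H46.S95.Sz.BaseS.eq_def) | skip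
  first | (have := @Cfsg.Agent.H46.S95.Sz.BaseS.eq_1.{0,0,0}) | (have := @Cfsg.Agent.H46.S95.Sz.BaseS.eq_1.{0,0}) | (have := @Cfsg.Agent.H46.S95.Sz.BaseS.eq_1.{0}) | (have := @Cfsg.Agent.H46.S95.Sz.BaseS.eq_1) | skip
  first | (have := @Cfsg.Agent.H46.S95.Sz.BaseS.eq_2.{0,0,0}) | (have := @Cfsg.Agent.H46.S95.Sz.BaseS.eq_2.{0,0}) | (have := @Cfsg.Agent.H46.S95.Sz.BaseS.eq_2.{0}) | (have := @Cfsg.Agent.H46.S95.Sz.BaseS.eq_2) | skip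
  first | (have := @Cfsg.Agent.H46.S95.Sz.BaseS.eq_unfold.{0,0,0}) | (have := @Cfsg.Agent.H46.S95.Sz.BaseS.eq_unfold.{0,0}) | (have := @Cfsg.Agent.H46.S95.Sz.BaseS.eq_unfold.{0}) | (have := @Cfsg.Agent.H46.S95.Sz.BaseS.eq_unfold) | skip
  first | (have := @Cfsg.Agent.H46.S95.Sz.BaseS.congr_simp.{0,0,0}) | (have := @Cfsg.Agent.H46.S95.Sz.BaseS.congr_simp.{0,0}) | (have := @Cfsg.Agent.H46.S95.Sz.BaseS.congr_simp.{0}) | (have := @Cfsg.Agent.H46.S95.Sz.BaseS.congr_simp) | skip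
  first | (have := @Cfsg.Agent.H46.S95.Sz.S2S.eq_def.{0,0,0}) | (have := @Cfsg.Agent.H46.S95.Sz.S2S.eq_def.{0,0}) | (have := @Cfsg.Agent.H46.S95.Sz.S2S.eq_def.{0}) | (have := @Cfsg.Agent.H46.S95.Sz.S2S.eq_def) | skip
  first | (have := @Cfsg.Agent.H46.S95.Sz.S2S.eq_1.{0,0,0}) | (have := @Cfsg.Agent.H46.S95.Sz.S2S.eq_1.{0,0}) | (have := @Cfsg.Agent.H46.S95.Sz.S2S.eq_1.{0}) | (have := @Cfsg.Agent.H46.S95.Sz.S2S.eq_1) | skip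
  first | (have := @Cfsg.Agent.H46.S95.Sz.S2S.eq_2.{0,0,0}) | (have := @Cfsg.Agent.H46.S95.Sz.S2S.eq_2.{0,0}) | (have := @Cfsg.Agent.H46.S95.Sz.S2S.eq_2.{0}) | (have := @Cfsg.Agent.H46.S95.Sz.S2S.eq_2) | skip
  first | (have := @Cfsg.Agent.H46.S95.Sz.S2S.eq_unfold.{0,0,0}) | (have := @Cfsg.Agent.H46.S95.Sz.S2S.eq_unfold.{0,0}) | (have := @Cfsg.Agent.H46.S95.Sz.S2S.eq_unfold.{0}) | (have := @Cfsg.Agent.H46.S95.Sz.S2S.eq_unfold) | skip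
  first | (have := @Cfsg.Agent.H46.S95.Sz.S2S.congr_simp.{0,0,0}) | (have := @Cfsg.Agent.H46.S95.Sz.S2S.congr_simp.{0,0}) | (have := @Cfsg.Agent.H46.S95.Sz.S2S.congr_simp.{0}) | (have := @Cfsg.Agent.H46.S95.Sz.S2S.congr_simp) | skip
  first | (have := @Cfsg.Agent.H46.S95.Sz.HFS.eq_def.{0,0,0}) | (have := @Cfsg.Agent.H46.S95.Sz.HFS.eq_def.{0,0}) | (have := @Cfsg.Agent.H46.S95.Sz.HFS.eq_def.{0}) | (have := @Cfsg.Agent.H46.S95.Sz.HFS.eq_def) | skip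
  first | (have := @Cfsg.Agent.H46.S95.Sz.HFS.eq_1.{0,0,0}) | (have := @Cfsg.Agent.H46.S95.Sz.HFS.eq_1.{0,0}) | (have := @Cfsg.Agent.H46.S95.Sz.HFS.eq_1.{0}) | (have := @Cfsg.Agent.H46.S95.Sz.HFS.eq_1) | skip
  first | (have := @Cfsg.Agent.H46.S95.Sz.HFS.eq_2.{0,0,0}) | (have := @Cfsg.Agent.H46.S95.Sz.HFS.eq_2.{0,0}) | (have := @Cfsg.Agent.H46.S95.Sz.HFS.eq_2.{0}) | (have := @Cfsg.Agent.H46.S95.Sz.HFS.eq_2) | skip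
  first | (have := @Cfsg.Agent.H46.S95.Sz.HFS.eq_unfold.{0,0,0}) | (have := @Cfsg.Agent.H46.S95.Sz.HFS.eq_unfold.{0,0}) | (have := @Cfsg.Agent.H46.S95.Sz.HFS.eq_unfold.{0}) | (have := @Cfsg.Agent.H46.S95.Sz.HFS.eq_unfold) | skip
  first | (have := @Cfsg.Agent.H46.S95.Sz.HFS.congr_simp.{0,0,0}) | (have := @Cfsg.Agent.H46.S95.Sz.HFS.congr_simp.{0,0}) | (have := @Cfsg.Agent.H46.S95.Sz.HFS.congr_simp.{0}) | (have := @Cfsg.Agent.H46.S95.Sz.HFS.congr_simp) | skip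
  first | (have := @Cfsg.Agent.H46.S95.Sz.RZS.eq_def.{0,0,0}) | (have := @Cfsg.Agent.H46.S95.Sz.RZS.eq_def.{0,0}) | (have := @Cfsg.Agent.H46.S95.Sz.RZS.eq_def.{0}) | (have := @Cfsg.Agent.H46.S95.Sz.RZS.eq_def) | skip
  first | (have := @Cfsg.Agent.H46.S95.Sz.RZS.eq_1.{0,0,0}) | (have := @Cfsg.Agent.H46.S95.Sz.RZS.eq_1.{0,0}) | (have := @Cfsg.Agent.H46.S95.Sz.RZS.eq_1.{0}) | (have := @Cfsg.Agent.H46.S95.Sz.RZS.eq_1) | skip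
  first | (have := @Cfsg.Agent.H46.S95.Sz.RZS.eq_2.{0,0,0}) | (have := @Cfsg.Agent.H46.S95.Sz.RZS.eq_2.{0,0}) | (have := @Cfsg.Agent.H46.S95.Sz.RZS.eq_2.{0}) | (have := @Cfsg.Agent.H46.S95.Sz.RZS.eq_2) | skip
  first | (have := @Cfsg.Agent.H46.S95.Sz.RZS.eq_unfold.{0,0,0}) | (have := @Cfsg.Agent.H46.S95.Sz.RZS.eq_unfold.{0,0}) | (have := @Cfsg.Agent.H46.S95.Sz.RZS.eq_unfold.{0}) | (have := @Cfsg.Agent.H46.S95.Sz.RZS.eq_unfold) | skip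
  first | (have := @Cfsg.Agent.H46.S95.Sz.RZS.congr_simp.{0,0,0}) | (have := @Cfsg.Agent.H46.S95.Sz.RZS.congr_simp.{0,0}) | (have := @Cfsg.Agent.H46.S95.Sz.RZS.congr_simp.{0}) | (have := @Cfsg.Agent.H46.S95.Sz.RZS.congr_simp) | skip
  first | (have := @Cfsg.Agent.H46.S95.Sz.Λ.eq_def.{0,0,0}) | (have := @Cfsg.Agent.H46.S95.Sz.Λ.eq_def.{0,0}) | (have := @Cfsg.Agent.H46.S95.Sz.Λ.eq_def.{0}) | (have := @Cfsg.Agent.H46.S95.Sz.Λ.eq_def) | skip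
  first | (have := @Cfsg.Agent.H46.S95.Sz.Λ.eq_1.{0,0,0}) | (have := @Cfsg.Agent.H46.S95.Sz.Λ.eq_1.{0,0}) | (have := @Cfsg.Agent.H46.S95.Sz.Λ.eq_1.{0}) | (have := @Cfsg.Agent.H46.S95.Sz.Λ.eq_1) | skip
  first | (have := @Cfsg.Agent.H46.S95.Sz.Λ.eq_2.{0,0,0}) | (have := @Cfsg.Agent.H46.S95.Sz.Λ.eq_2.{0,0}) | (have := @Cfsg.Agent.H46.S95.Sz.Λ.eq_2.{0}) | (have := @Cfsg.Agent.H46.S95.Sz.Λ.eq_2) | skip
  first | (have := @Cfsg.Agent.H46.S95.Sz.Λ.eq_unfold.{0,0,0}) | (have := @Cfsg.Agent.H46.S95.Sz.Λ.eq_unfold.{0,0}) | (have := @Cfsg.Agent.H46.S95.Sz.Λ.eq_unfold.{0}) | (have := @Cfsg.Agent.H46.S95.Sz.Λ.eq_unfold) | skip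
  first | (have := @Cfsg.Agent.H46.S95.Sz.Λ.congr_simp.{0,0,0}) | (have := @Cfsg.Agent.H46.S95.Sz.Λ.congr_simp.{0,0}) | (have := @Cfsg.Agent.H46.S95.Sz.Λ.congr_simp.{0}) | (have := @Cfsg.Agent.H46.S95.Sz.Λ.congr_simp) | skip
  first | (have := @Cfsg.Agent.H46.S95.Sz.Z.eq_def.{0,0,0}) | (have := @Cfsg.Agent.H46.S95.Sz.Z.eq_def.{0,0}) | (have := @Cfsg.Agent.H46.S95.Sz.Z.eq_def.{0}) | (have := @Cfsg.Agent.H46.S95.Sz.Z.eq_def) | skip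
  first | (have := @Cfsg.Agent.H46.S95.Sz.Z.eq_1.{0,0,0}) | (have := @Cfsg.Agent.H46.S95.Sz.Z.eq_1.{0,0}) | (have := @Cfsg.Agent.H46.S95.Sz.Z.eq_1.{0}) | (have := @Cfsg.Agent.H46.S95.Sz.Z.eq_1) | skip
  first | (have := @Cfsg.Agent.H46.S95.Sz.Z.eq_2.{0,0,0}) | (have := @Cfsg.Agent.H46.S95.Sz.Z.eq_2.{0,0}) | (have := @Cfsg.Agent.H46.S95.Sz.Z.eq_2.{0}) | (have := @Cfsg.Agent.H46.S95.Sz.Z.eq_2) | skip
  first | (have := @Cfsg.Agent.H46.S95.Sz.Z.eq_unfold.{0,0,0}) | (have := @Cfsg.Agent.H46.S95.Sz.Z.eq_unfold.{0,0}) | (have := @Cfsg.Agent.H46.S95.Sz.Z.eq_unfold.{0}) | (have := @Cfsg.Agent.H46.S95.Sz.Z.eq_unfold) | skip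
  first | (have := @Cfsg.Agent.H46.S95.Sz.Z.congr_simp.{0,0,0}) | (have := @Cfsg.Agent.H46.S95.Sz.Z.congr_simp.{0,0}) | (have := @Cfsg.Agent.H46.S95.Sz.Z.congr_simp.{0}) | (have := @Cfsg.Agent.H46.S95.Sz.Z.congr_simp) | skip
  first | (have := @Cfsg.Agent.H46.S95.Sz.RDS.eq_def.{0,0,0}) | (have := @Cfsg.Agent.H46.S95.Sz.RDS.eq_def.{0,0}) | (have := @Cfsg.Agent.H46.S95.Sz.RDS.eq_def.{0}) | (have := @Cfsg.Agent.H46.S95.Sz.RDS.eq_def) | skip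
  first | (have := @Cfsg.Agent.H46.S95.Sz.RDS.eq_1.{0,0,0}) | (have := @Cfsg.Agent.H46.S95.Sz.RDS.eq_1.{0,0}) | (have := @Cfsg.Agent.H46.S95.Sz.RDS.eq_1.{0}) | (have := @Cfsg.Agent.H46.S95.Sz.RDS.eq_1) | skip
  first | (have := @Cfsg.Agent.H46.S95.Sz.RDS.eq_2.{0,0,0}) | (have := @Cfsg.Agent.H46.S95.Sz.RDS.eq_2.{0,0}) | (have := @Cfsg.Agent.H46.S95.Sz.RDS.eq_2.{0}) | (have := @Cfsg.Agent.H46.S95.Sz.RDS.eq_2) | skip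
  first | (have := @Cfsg.Agent.H46.S95.Sz.RDS.eq_unfold.{0,0,0}) | (have := @Cfsg.Agent.H46.S95.Sz.RDS.eq_unfold.{0,0}) | (have := @Cfsg.Agent.H46.S95.Sz.RDS.eq_unfold.{0}) | (have := @Cfsg.Agent.H46.S95.Sz.RDS.eq_unfold) | skip
  first | (have := @Cfsg.Agent.H46.S95.Sz.RDS.congr_simp.{0,0,0}) | (have := @Cfsg.Agent.H46.S95.Sz.RDS.congr_simp.{0,0}) | (have := @Cfsg.Agent.H46.S95.Sz.RDS.congr_simp.{0}) | (have := @Cfsg.Agent.H46.S95.Sz.RDS.congr_simp) | skip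
  first | (have := @Cfsg.Agent.H46.S95.Sz.TCS.eq_def.{0,0,0}) | (have := @Cfsg.Agent.H46.S95.Sz.TCS.eq_def.{0,0}) | (have := @Cfsg.Agent.H46.S95.Sz.TCS.eq_def.{0}) | (have := @Cfsg.Agent.H46.S95.Sz.TCS.eq_def) | skip
  first | (have := @Cfsg.Agent.H46.S95.Sz.TCS.eq_1.{0,0,0}) | (have := @Cfsg.Agent.H46.S95.Sz.TCS.eq_1.{0,0}) | (have := @Cfsg.Agent.H46.S95.Sz.TCS.eq_1.{0}) | (have := @Cfsg.Agent.H46.S95.Sz.TCS.eq_1) | skip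
  first | (have := @Cfsg.Agent.H46.S95.Sz.TCS.eq_2.{0,0,0}) | (have := @Cfsg.Agent.H46.S95.Sz.TCS.eq_2.{0,0}) | (have := @Cfsg.Agent.H46.S95.Sz.TCS.eq_2.{0}) | (have := @Cfsg.Agent.H46.S95.Sz.TCS.eq_2) | skip
  first | (have := @Cfsg.Agent.H46.S95.Sz.TCS.eq_unfold.{0,0,0}) | (have := @Cfsg.Agent.H46.S95.Sz.TCS.eq_unfold.{0,0}) | (have := @Cfsg.Agent.H46.S95.Sz.TCS.eq_unfold.{0}) | (have := @Cfsg.Agent.H46.S95.Sz.TCS.eq_unfold) | skip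
  first | (have := @Cfsg.Agent.H46.S95.Sz.TCS.congr_simp.{0,0,0}) | (have := @Cfsg.Agent.H46.S95.Sz.TCS.congr_simp.{0,0}) | (have := @Cfsg.Agent.H46.S95.Sz.TCS.congr_simp.{0}) | (have := @Cfsg.Agent.H46.S95.Sz.TCS.congr_simp) | skip
  first | (have := @Cfsg.Agent.H46.S95.Sz.LCS.eq_def.{0,0,0}) | (have := @Cfsg.Agent.H46.S95.Sz.LCS.eq_def.{0,0}) | (have := @Cfsg.Agent.H46.S95.Sz.LCS.eq_def.{0}) | (have := @Cfsg.Agent.H46.S95.Sz.LCS.eq_def) | skip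
  first | (have := @Cfsg.Agent.H46.S95.Sz.LCS.eq_1.{0,0,0}) | (have := @Cfsg.Agent.H46.S95.Sz.LCS.eq_1.{0,0}) | (have := @Cfsg.Agent.H46.S95.Sz.LCS.eq_1.{0}) | (have := @Cfsg.Agent.H46.S95.Sz.LCS.eq_1) | skip
  first | (have := @Cfsg.Agent.H46.S95.Sz.LCS.eq_2.{0,0,0}) | (have := @Cfsg.Agent.H46.S95.Sz.LCS.eq_2.{0,0}) | (have := @Cfsg.Agent.H46.S95.Sz.LCS.eq_2.{0}) | (have := @Cfsg.Agent.H46.S95.Sz.LCS.eq_2) | skip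
  first | (have := @Cfsg.Agent.H46.S95.Sz.LCS.eq_unfold.{0,0,0}) | (have := @Cfsg.Agent.H46.S95.Sz.LCS.eq_unfold.{0,0}) | (have := @Cfsg.Agent.H46.S95.Sz.LCS.eq_unfold.{0}) | (have := @Cfsg.Agent.H46.S95.Sz.LCS.eq_unfold) | skip
  first | (have := @Cfsg.Agent.H46.S95.Sz.LCS.congr_simp.{0,0,0}) | (have := @Cfsg.Agent.H46.S95.Sz.LCS.congr_simp.{0,0}) | (have := @Cfsg.Agent.H46.S95.Sz.LCS.congr_simp.{0}) | (have := @Cfsg.Agent.H46.S95.Sz.LCS.congr_simp) | skip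
  first | (have := @Cfsg.Agent.H46.S95.Sz.CloS.eq_def.{0,0,0}) | (have := @Cfsg.Agent.H46.S95.Sz.CloS.eq_def.{0,0}) | (have := @Cfsg.Agent.H46.S95.Sz.CloS.eq_def.{0}) | (have := @Cfsg.Agent.H46.S95.Sz.CloS.eq_def) | skip
  first | (have := @Cfsg.Agent.H46.S95.Sz.CloS.eq_1.{0,0,0}) | (have := @Cfsg.Agent.H46.S95.Sz.CloS.eq_1.{0,0}) | (have := @Cfsg.Agent.H46.S95.Sz.CloS.eq_1.{0}) | (have := @Cfsg.Agent.H46.S95.Sz.CloS.eq_1) | skip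
  first | (have := @Cfsg.Agent.H46.S95.Sz.CloS.eq_2.{0,0,0}) | (have := @Cfsg.Agent.H46.S95.Sz.CloS.eq_2.{0,0}) | (have := @Cfsg.Agent.H46.S95.Sz.CloS.eq_2.{0}) | (have := @Cfsg.Agent.H46.S95.Sz.CloS.eq_2) | skip
  first | (have := @Cfsg.Agent.H46.S95.Sz.CloS.eq_unfold.{0,0,0}) | (have := @Cfsg.Agent.H46.S95.Sz.CloS.eq_unfold.{0,0}) | (have := @Cfsg.Agent.H46.S95.Sz.CloS.eq_unfold.{0}) | (have := @Cfsg.Agent.H46.S95.Sz.CloS.eq_unfold) | skip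
  first | (have := @Cfsg.Agent.H46.S95.Sz.CloS.congr_simp.{0,0,0}) | (have := @Cfsg.Agent.H46.S95.Sz.CloS.congr_simp.{0,0}) | (have := @Cfsg.Agent.H46.S95.Sz.CloS.congr_simp.{0}) | (have := @Cfsg.Agent.H46.S95.Sz.CloS.congr_simp) | skip
  trivial

end Cfsg.Agent.H46.S95.Sz
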