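import Cfsg.Agent.H46.WDefs
import Cfsg.Prelude.Def_Local

/-!
# No standard subgroup of type `ON`, `He`, `Suz`: definitions and the statements of the pieces

`Γ` is the simple group, `φ : Γ →* G` embeds it onto the standard subgroup.
-/

set_option autoImplicit false
open scoped Pointwise commutatorElement
open Subgroup

namespace Cfsg.Agent.H46.S95
open Cfsg.Agent.H8 Cfsg.Agent.H46.WR

universe u

local notation "C[" A "]" => Subgroup.centralizer (SetLike.coe A)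
local notation "N[" A "]" => Subgroup.normalizer (SetLike.coe A)

section Facts
variable {Γ : Type} [Group Γ]

/-- inner automorphisms -/
def Inn (α : MulAut Γ) : Prop := ∃ c, α = MulAut.conj c

/-- elementary abelian `2`-subgroups -/
def El (V : Subgroup Γ) : Prop := ∀ v ∈ V, v * v = 1

/-- the centraliser of an element -/
abbrev Cz (a : Γ) : Subgroup Γ := centralizer {a}

/-- an involution whose centraliser has order divisible by `n` -/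
def Rt (n : ℕ) (z : Γ) : Prop := z * z = 1 ∧ z ≠ 1 ∧ n ∣ Nat.card (Cz z)

structure Base (Γ : Type) [Group Γ] : Prop where
  fin : Finite Γ
  simple : IsSimpleGroup Γ
  nc : ¬ IsMulCommutative Γ
  out : ∀ α β : MulAut Γ, Inn α ∨ Inn β ∨ Inn (α * β)
  cm : ∀ a : Γ, a * a = 1 → a ∈ ⁅Cz a, Cz a⁆

/-- outer involutions fuse with their products by a four-group -/
def OutF (Γ : Type) [Group Γ] : Prop :=
  ∀ α : MulAut Γ, α * α = 1 → ¬ Inn α → ∃ E : Subgroup Γ,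
    (∀ e ∈ E, e * e = 1 ∧ α e = e ∧ ∃ w, e = (α w)⁻¹ * w) ∧
    (Nat.card E = 4 ∨ (E ≠ ⊥ ∧ ∃ X : Subgroup Γ, (∀ x ∈ X, α x = x) ∧ E ≤ ⁅X, X⁆))

/-- two classes of involutions (or one, `b = z`) -/
def Cls (z b : Γ) : Prop := ∀ a, a * a = 1 → a ≠ 1 → IsConj z a ∨ IsConj b a

/-- the component of the centraliser of `a` -/
structure RC (z a : Γ) (Λ Z : Subgroup Γ) : Prop where
  perf : ⁅Λ, Λ⁆ = Λ
  gen : Λ ≤ closure {x | x ∈ Λ ∧ x * x = 1}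
  aZ : a ∈ Z
  ZC : Z ≤ C[Λ]
  inv : ∀ α : MulAut Γ, α a = a → ∀ x ∈ Λ, α x ∈ Λ
  cen : ∀ α : MulAut Γ, α a = a → (∀ x ∈ Λ, α x = x) → ∃ c ∈ Z, α = MulAut.conj c
  nrm : ∀ M ≤ Λ, Λ ≤ N[M] → M ≤ Z ∨ ∃ y ∈ M, y * y = 1 ∧ y ≠ 1 ∧
    (Cz a ⊔ Cz y = ⊤ ∨ (IsConj z y ∧ ¬ IsConj z a))

/-- the data of the reduction -/
structure RD (z b : Γ) (Λ Z : Subgroup Γ) : Prop where
  zz : z * z = 1
  cls : Cls z b
  rc : RC z b Λ Z
  card : Nat.card Z = 4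
  br : ∃ e ∈ Z, ∃ c, c * b = b * c ∧ c * e * c⁻¹ * e⁻¹ = b
  rz : b = z ∨ RC z z (Cz z) (zpowers z)

/-- the group `2^(4+6)` over an elementary subgroup of order 16 -/
structure TS (Z V S : Subgroup Γ) (ρ : Γ) : Prop where
  ZS : Z ≤ S
  VS : V ≤ S
  SC : S ≤ C[V]
  rN : ρ ∈ N[S]
  sq : ∀ s ∈ S, s * s ∈ V
  cen : ∀ α : MulAut Γ, (∀ v ∈ V, α v = v) → ∃ s ∈ S, ∃ i : ℕ, α = MulAut.conj (s * ρ ^ i)
  com : ⁅S, zpowers ρ⁆ = S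
  ce : ∀ e ∈ Z, e ≠ 1 → ∀ s ∈ S, s * e = e * s → s ∈ Z ⊔ V
  br : ∀ e ∈ Z, ∀ s ∈ S, s * e * s⁻¹ * e⁻¹ ∈ V
  onto : ∀ e ∈ Z, e ≠ 1 → ∀ v ∈ V, ∃ s ∈ S, s * e * s⁻¹ * e⁻¹ = v
  NN : N[V] ≤ N[S]
  fix : ∃ v ∈ V, v ≠ 1 ∧ ∀ w ∈ V, (∀ n ∈ N[V], n * v = v * n → n * w = w * n) → w = 1 ∨ w = v

/-- the case where the four-group meets the component trivially -/
structure TC (Λ Z : Subgroup Γ) (ρ : Γ) : Prop where
  el : El Z
  br : ∀ e ∈ Z, ∃ e' ∈ Z, ∃ c, c * e = e * c ∧ c * e' * c⁻¹ * e'⁻¹ = e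
  cZ : C[Z] ≤ Z ⊔ Λ
  dis : Z ⊓ Λ = ⊥
  r3 : ρ ^ 3 = 1
  rC : ρ ∈ C[Λ]
  rN : ρ ∈ N[Z]
  fpf : ∀ e ∈ Z, ρ * e = e * ρ → e = 1
  ex : ∃ V ≤ Λ, El V ∧ Nat.card V = 16
  all : ∀ V ≤ Λ, El V → Nat.card V = 16 → ∃ S, TS Z V S ρ

def RF (Γ : Type) [Group Γ] : Prop :=
  ∃ (z b : Γ) (Λ Z : Subgroup Γ), RD z b Λ Z ∧ (b ∈ Λ ∨ ∃ ρ, TC Λ Z ρ)

def S2a (z b : Γ) : Prop :=
  (∃ x ∈ ⁅⁅⁅Cz b, Cz b⁆, ⁅Cz b, Cz b⁆⁆, ⁅⁅Cz b, Cz b⁆, ⁅Cz b, Cz b⁆⁆⁆, IsConj z x) ∧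
    ∀ x ∈ ⁅⁅Cz b, Cz b⁆, ⁅Cz b, Cz b⁆⁆, x * x = 1 → x ≠ 1 → IsConj b (b * x)

def S2b (b : Γ) : Prop :=
  (∃ V : Subgroup Γ, b ∈ V ∧ El V ∧ Nat.card V = 64 ∧ V ≤ ⁅Cz b, Cz b⁆) ∧
    ∀ W : Subgroup Γ, El W → Nat.card W = 64 → Nat.card {x // x ∈ W ∧ IsConj b x} = 18 ∧
      ∀ x ∈ W, ∀ y ∈ W, IsConj b x → IsConj b y → ∃ a ∈ N[W], a * x * a⁻¹ = y

def S2F (z : Γ) : Prop :=
  z * z = 1 ∧ z ≠ 1 ∧ ∃ b, b * b = 1 ∧ b ≠ 1 ∧ Cls z b ∧ (b = z ∨ S2a z b ∨ S2b b)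

/-- `z`, `w` generate a four-group on which `Γ` induces `S₃` -/
def S3 (z w : Γ) : Prop :=
  w * w = 1 ∧ w ≠ 1 ∧ w ≠ z ∧ w * z = z * w ∧ (∃ σ, σ * z * σ⁻¹ = z * w ∧ σ * w * σ⁻¹ = w) ∧
    ∃ q, q * z * q⁻¹ = z ∧ q * w * q⁻¹ = w * z

/-- conjugacy in the centraliser of `y` -/
def CI {L : Type} [Group L] (y u v : L) : Prop := ∃ p, p * y = y * p ∧ p * u * p⁻¹ = v

/-- the automorphisms of the centraliser of `z` -/
structure HF (z : Γ) (y x : Cz z) : Prop where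
  zz : z * z = 1
  z1 : z ≠ 1
  dv : ∀ a, a * a = 1 → a ≠ 1 → Nat.card (Cz z) ∣ Nat.card (Cz a) → IsConj z a
  perf : ⁅Cz z, Cz z⁆ = Cz z
  gen : Cz z ≤ closure {l | l ∈ Cz z ∧ l * l = 1}
  xy : x * y = y * x
  s3 : ∀ θ : MulAut (Cz z), S3 z (θ y : Γ)
  two : ∀ u v : Cz z, u * y = y * u → v * y = y * v → orderOf u = orderOf x →
    orderOf v = orderOf x → CI y x u ∨ CI y x v ∨ CI y u v
  inn : ∀ θ : MulAut (Cz z), θ y = y → CI y x (θ x) → ∃ c, θ = MulAut.conj c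
  cL : ∀ α : MulAut Γ, (∀ l ∈ Cz z, α l = l) → ∃ c ∈ zpowers z, α = MulAut.conj c
  cP : ∀ α : MulAut Γ, (∀ l ∈ Cz z, l * y = y * l → α l = l) → Inn α

/-- what is needed to centralise the odd core -/
structure H2 (z : Γ) (Λ Z : Subgroup Γ) : Prop where
  zz : z * z = 1
  z1 : z ≠ 1
  zL : z ∈ Λ
  ZL : Z ≤ Λ
  ZC : Z ≤ C[Λ]
  two : IsPGroup 2 Z
  cen : ∀ α : MulAut Γ, (∀ l ∈ Λ, α l = l) → ∃ c ∈ Z, α = MulAut.conj c
  cyc : ∃ y ρ, y ∈ Λ ∧ y * z = z * y ∧ ρ * z * ρ⁻¹ = y ∧ ρ * y * ρ⁻¹ = z * y ∧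
    ∀ α : MulAut Γ,
      (∀ l ∈ Λ, ρ⁻¹ * l * ρ ∈ Λ → ρ⁻¹ * (ρ⁻¹ * l * ρ) * ρ ∈ Λ → α l = l) → Inn α

/-- a line `z, y, z y` and a line `y, s, y s` in a pure subgroup of order 8 -/
structure LC (z y s : Γ) : Prop where
  zz : z * z = 1
  z1 : z ≠ 1
  zy : z * y = y * z
  ys : y * s = s * y
  n1 : y ≠ z
  n2 : y * s ≠ 1
  n3 : y * s ≠ z
  sg : ∃ σ, σ * z * σ⁻¹ = z * y ∧ σ * y * σ⁻¹ = y
  q : ∃ q, q * z * q⁻¹ = z ∧ q * y * q⁻¹ = y * z ∧ q * s * q⁻¹ = s * z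
  rho : ∃ ρ, ρ * z * ρ⁻¹ = z ∧ ρ * y * ρ⁻¹ = s ∧ ρ * s * ρ⁻¹ = y * s
  cP : ∀ α : MulAut Γ, (∀ l, l * z = z * l → l * y = y * l → α l = l) →
    ∃ c ∈ closure {z, y}, α = MulAut.conj c
  cN : ∀ α : MulAut Γ, (∀ l, l * y = y * l → l * s = s * l → α l = l) →
    ∃ c ∈ closure {y, s, z}, α = MulAut.conj c

/-- Sylow `2`-subgroups -/
structure SylF (Γ : Type) [Group Γ] (n : ℕ) : Prop where
  le : ∀ P : Subgroup Γ, IsPGroup 2 P → Nat.card P ≤ n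
  ok : ∀ P : Subgroup Γ, IsPGroup 2 P → Nat.card P = n → SylOk P
  ex : ∃ P : Subgroup Γ, IsPGroup 2 P ∧ Nat.card P = n

def InnF (Γ : Type) [Group Γ] (mi : ℕ) : Prop :=
  ∀ a : Γ, a * a = 1 → ∃ P ≤ Cz a, IsPGroup 2 P ∧ mi ≤ Nat.card P

def OutM (Γ : Type) [Group Γ] (mo : ℕ) : Prop :=
  ∀ α : MulAut Γ, α * α = 1 → ¬ Inn α →
    ∃ P : Subgroup Γ, (∀ x ∈ P, α x = x) ∧ IsPGroup 2 P ∧ mo ≤ Nat.card P

def OiF (Γ : Type) [Group Γ] (mu : ℕ) : Prop :=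
  ∃ α : MulAut Γ, α * α = 1 ∧ ¬ Inn α ∧
    ∀ P : Subgroup Γ, (∀ x ∈ P, α x = x) → IsPGroup 2 P → Nat.card P ≤ mu

def OoF (Γ : Type) [Group Γ] : Prop :=
  ∀ α β : MulAut Γ, α * α = 1 → ¬ Inn α → β * β = 1 → ¬ Inn β →
    ∃ P R : Subgroup Γ, (∀ x ∈ P, α x = x) ∧ (∀ x ∈ R, β x = x) ∧ IsPGroup 2 P ∧ IsPGroup 2 R ∧
      ∀ f : P × R →* MulAut Γ, ¬ Function.Injective f

structure EF (Γ : Type) [Group Γ] (n mi mo mu : ℕ) : Prop where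
  syl : SylF Γ n
  inn : InnF Γ mi
  out : OutM Γ mo
  oi : OiF Γ mu
  oo : OoF Γ
  n1 : 4 * n < mi * mi
  n2 : 2 * n < mi * mo
  n3 : 2 * (mu * mu) < mi * mo

/-- the homocyclic group `B = 4³`, `V = Ω₁(B)` -/
structure BV (z ζ : Γ) (B V : Subgroup Γ) : Prop where
  zz : z * z = 1
  z1 : z ≠ 1
  sq : ζ * ζ = z
  one : ∀ a, a * a = 1 → a ≠ 1 → IsConj z a
  zB : ζ ∈ B
  ab : ∀ a ∈ B, ∀ b ∈ B, a * b = b * a
  four : ∀ b ∈ B, b * b ∈ V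
  mem : ∀ v, v ∈ V ↔ v ∈ B ∧ v * v = 1
  cB : ∀ α : MulAut Γ, (∀ b ∈ B, α b = b) → ∃ c ∈ B, α = MulAut.conj c

/-- facts for the first half of the construction of the lift in `ON` -/
structure OA (z ζ : Γ) (B V : Subgroup Γ) : Prop extends BV z ζ B V where
  der : ⁅Cz z, Cz z⁆ ≤ Cz ζ
  perf : ⁅Cz ζ, Cz ζ⁆ = Cz ζ
  gen : Cz ζ ≤ closure {l | l ∈ Cz ζ ∧ l * l = 1}
  cv : ∀ l ∈ Cz ζ, l ∈ C[V] → l ∈ B
  vch : ∀ θ : MulAut (Cz ζ), ∃ c ∈ Cz ζ, ∀ v : Cz ζ, (v : Γ) ∈ V → c * θ v * c⁻¹ ∈ V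
  gl : ∀ θ : MulAut V, ∃ h, ∀ v : V, h * v * h⁻¹ = θ v
  cV : ∀ α : MulAut Γ, (∀ v ∈ V, α v = v) → (∀ b ∈ B, α b = b) ∨ ∀ b ∈ B, α b = b⁻¹
  psi : ∀ θ : MulAut B, (∀ v : B, (v : Γ) ∈ V → θ v = v) →
    (∀ p ∈ N[B], p * z = z * p →
      (∀ b c : B, (c : Γ) = p * b * p⁻¹ → (θ c : Γ) = p * θ b * p⁻¹) ∨
      (∀ b c : B, (c : Γ) = p * b * p⁻¹ → (θ c : Γ) = (p * θ b * p⁻¹)⁻¹)) →
    θ = 1 ∨ ∀ b, θ b = b⁻¹
  cyc : ∃ ρ ∈ N[B], ρ * (ρ * z * ρ⁻¹) * ρ⁻¹ = z * (ρ * z * ρ⁻¹)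
  inB : ∀ θ : MulAut (Cz ζ), (∀ b : Cz ζ, (b : Γ) ∈ B → θ b = b) →
    ∃ c ∈ B, ∀ l : Cz ζ, (θ l : Γ) = c * l * c⁻¹

/-- the involution `x` inverts `ζ` -/
structure OX (z ζ x : Γ) : Prop where
  xx : x * x = 1
  inv : x * ζ * x⁻¹ = ζ⁻¹
  cov : ∀ c, c * z = z * c → c * ζ = ζ * c ∨ c * x * ζ = ζ * (c * x)

/-- facts for the second half of the construction of the lift in `ON` -/
structure OB (z ζ x : Γ) (B V : Subgroup Γ) : Prop extends BV z ζ B V, OX z ζ x where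
  cen : ∀ α : MulAut Γ, (∀ l ∈ Cz ζ, α l = l) → ∃ c ∈ zpowers ζ, α = MulAut.conj c
  m16 : ∃ g ∈ N[B], ∃ f ∈ N[B], f * ζ = ζ * f ∧ f * f ∈ B ∧
    f * (g * z * g⁻¹) * f⁻¹ = g * z * g⁻¹ * z ∧
    g * ζ * g⁻¹ * (f * (g * ζ * g⁻¹) * f⁻¹) * ζ ∉ zpowers z ∧
    ∀ b ∈ B, f * (b * b) * f⁻¹ = b * b → b * (f * b * f⁻¹) ∈ zpowers z

/-- facts for the lift of `ζ` -/
structure OE (z ζ x : Γ) (P : Subgroup Γ) : Prop extends OX z ζ x where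
  zz : z * z = 1
  z1 : z ≠ 1
  sq : ζ * ζ = z
  one : ∀ a, a * a = 1 → a ≠ 1 → IsConj z a
  zP : ζ ∈ P
  PC : P ≤ Cz ζ
  gen : Cz ζ ≤ P ⊔ MulAut.conj x • P
  cT : ∀ α : MulAut Γ, (∀ l ∈ P, x * l * x⁻¹ ∈ P → α l = l) →
    ∃ c ∈ zpowers ζ, α = MulAut.conj c
  cM : ∀ α : MulAut Γ, (∀ l, l * x = x * l → l * ζ = ζ * l → α l = l) →
    ∃ c ∈ closure {x, ζ}, α = MulAut.conj c

/-- facts about the Fano plane on `V` -/
structure OF (z ζ x σ : Γ) (B V : Subgroup Γ) : Prop extends BV z ζ B V, OX z ζ x where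
  sN : σ ∈ N[B]
  s7 : σ ^ 7 = 1
  ne : σ * z ≠ z * σ
  line : z * (σ * z * σ⁻¹) = σ ^ 3 * z * (σ ^ 3)⁻¹
  cov7 : ∀ v ∈ V, v = 1 ∨ ∃ i : ℕ, v = σ ^ i * z * (σ ^ i)⁻¹
  beta : ζ * (σ * ζ * σ⁻¹) * (σ ^ 3 * ζ * (σ ^ 3)⁻¹) ≠ 1
  stab : ∀ v ∈ V, (∀ p ∈ N[B], p ∈ N[closure {z, σ * z * σ⁻¹}] → p * v = v * p) → v = 1

end Facts

section Group
variable {Γ : Type} [Group Γ] {G : Type u} [Group G]

/-- `F` is the socle of an almost simple group -/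
structure AS (F : Subgroup G) : Prop where
  normal : F.Normal
  simple : IsSimpleGroup F
  nc : ¬ IsMulCommutative F
  cent : C[F] = ⊥

/-- the centraliser of the involution `t` -/
structure Cx (φ : Γ →* G) (t : G) (O : Subgroup G) : Prop where
  inj : Function.Injective φ
  tt : t * t = 1
  t1 : t ≠ 1
  AC : ∀ a, φ a * t = t * φ a
  NJ : ∀ c, c * t = t * c → c ∈ N[φ.range]
  tr : ∀ c, c * t = t * c → c ∈ C[φ.range] → c ∈ O ∨ c * t ∈ O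
  odd : Odd (Nat.card O)
  OC : O ≤ C[φ.range]
  Ot : ∀ o ∈ O, o * t = t * o
  NO : ∀ c, c * t = t * c → c ∈ N[O]

/-- the intersection of a conjugate of `C(A)` with `N(A)` -/
abbrev JJ (φ : Γ →* G) (g : G) : Subgroup G := MulAut.conj g • C[φ.range] ⊓ N[φ.range]

/-- a Sylow `2`-subgroup of order 4 of `JJ φ g` -/
structure PG (φ : Γ →* G) (g : G) (b : Γ) (Λ Z : Subgroup Γ) (c : Γ) (T : Subgroup G) : Prop where
  syl : IsSylowIn 2 T (JJ φ g)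
  card : Nat.card T = 4
  b1 : b ≠ 1
  bb : b * b = 1
  cen : ∀ x ∈ T, ∀ l ∈ Λ, x * φ (c * l * c⁻¹) = φ (c * l * c⁻¹) * x
  mem : φ (c * b * c⁻¹) ∈ T
  all : ∀ e ∈ Z, ∃ k ∈ C[φ.range], φ (c * e * c⁻¹) * k ∈ T

/-- the lift of `z` -/
structure Hat (φ : Γ →* G) (t : G) (O : Subgroup G) (z : Γ) (w : G) : Prop where
  sq : w * w = 1
  br : w * t * w = t * φ z
  cen : ∀ a, a * z = z * a → w * φ a = φ a * w
  cO : ∀ o ∈ O, w * o = o * w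

/-- the lift of the class of `z` -/
structure Lf (φ : Γ →* G) (t : G) (z : Γ) (f : Γ → G) : Prop where
  inj : Function.Injective φ
  tt : t * t = 1
  AC : ∀ a, φ a * t = t * φ a
  eq : ∀ a r, IsConj z r → f (a * r * a⁻¹) = φ a * f r * (φ a)⁻¹
  sq : ∀ r, IsConj z r → f r * f r = 1
  br : ∀ r, IsConj z r → f r * t * f r = t * φ r

/-- the lifts centralise `O` -/
def LO (O : Subgroup G) (z : Γ) (f : Γ → G) : Prop :=
  ∀ r, IsConj z r → ∀ o ∈ O, f r * o = o * f r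

def Good (t : G) (f : Γ → G) (r s : Γ) : Prop := f r * (t * f s * t) = t * f s * t * f r

def Ln (φ : Γ →* G) (f : Γ → G) (z y s : Γ) : Prop :=
  f z * f y = f (z * y) ∧ f y * f s = f s * f y ∧
    (f y * f s * f (y * s) = 1 ∨ f y * f s * f (y * s) = φ z)

/-- all lines are exact -/
def Ex (z : Γ) (f : Γ → G) : Prop :=
  ∀ r s, IsConj z r → IsConj z s → r * s = s * r → r ≠ s → f r * f s = f (r * s)

/-- the lift of `ζ` -/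
structure E1 (φ : Γ →* G) (t : G) (f : Γ → G) (z ζ : Γ) (P V : Subgroup Γ) (η : G) : Prop where
  mem : η ∈ closure (f '' {r | IsConj z r})
  tr : η * (t * η * t) = φ ζ
  sq : η * η = f z
  cP : ∀ p ∈ P, η * φ p = φ p * η
  cV : ∀ v ∈ V, v ≠ 1 → η * f v = f v * η

/-- the wreath product -/
structure Wr (φ : Γ →* G) (t : G) (B : Subgroup G) : Prop where
  comm : ∀ b ∈ B, ∀ c ∈ B, b * (t * c * t) = t * c * t * b
  gen : B ≤ closure {b | b ∈ B ∧ b * b = 1}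
  into : ∀ b ∈ B, b * (t * b * t) ∈ φ.range
  onto : ∀ a, ∃ b ∈ B, b * (t * b * t) = φ a

/-- the base group -/
abbrev XX (t : G) (B : Subgroup G) : Subgroup G := B ⊔ MulAut.conj t • B

/-- the normaliser of both factors -/
abbrev H0 (t : G) (B : Subgroup G) : Subgroup G := N[B] ⊓ N[(MulAut.conj t • B : Subgroup G)]

/-- `h` induces `α` on `B / Z(B)` -/
def Ind {B : Subgroup G} (d : B →* Γ) (h : G) (α : MulAut Γ) : Prop :=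
  ∀ b c : B, (c : G) = h * b * h⁻¹ → d c = α (d b)

/-- the structure of the base group -/
structure EK (φ : Γ →* G) (t : G) (B : Subgroup G) (d : B →* Γ) : Prop where
  eq : ∀ b : B, φ (d b) = b * (t * b * t)
  surj : Function.Surjective d
  odd : Odd (Nat.card d.ker)
  cen : ∀ b : B, d b = 1 ↔ (b : G) ∈ C[B]
  perf : ⁅B, B⁆ = B
  inter : ∀ b : B, (b : G) ∈ MulAut.conj t • B → d b = 1
  codd : Odd (Nat.card C[XX t B])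
  swap : ∀ h ∈ N[XX t B], h ∈ H0 t B ∨ h * t ∈ H0 t B
  tH : t ∉ N[B]
  aut : ∀ h ∈ N[B], ∃ α, Ind d h α
  inn : ∀ h ∈ N[B], Ind d h 1 → h ∈ C[B]
  lift : ∀ h ∈ N[B], ∀ α, Ind d h α → ∀ P : Subgroup Γ, IsPGroup 2 P → (∀ x ∈ P, α x = x) →
    ∃ ι : P →* B, (∀ x, d (ι x) = x) ∧ ∀ x, h * ι x = ι x * h
  dec : ∀ x ∈ XX t B, ∃ b ∈ B, ∃ c ∈ B, x = b * (t * c * t)
  pi : ∃ π : XX t B →* Γ × Γ, Odd (Nat.card π.ker) ∧
    ∀ (b c : B) (x : XX t B), (x : G) = b * (t * c * t) → π x = (d b, d c)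

end Group

/-- the lines and the pairs of `m` force all pairs to be good -/
def Clo {Γ : Type} [Group Γ] (z : Γ) (l m : List (Γ × Γ)) : Prop :=
  ∀ (G : Type u) [Group G] (φ : Γ →* G) (t : G) (f : Γ → G), Lf φ t z f →
    (∀ p ∈ l, Ln φ f z p.1 p.2) → (∀ p ∈ m, Good t f p.1 p.2) →
    ∀ r s, IsConj z r → IsConj z s → Good t f r s

/-- the lines force all lines to be exact -/
def CloE {Γ : Type} [Group Γ] (z y s : Γ) : Prop :=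
  ∀ (G : Type u) [Group G] (φ : Γ →* G) (t : G) (f : Γ → G), Lf φ t z f → Ln φ f z y s → Ex z f

/-- exact lines give the lift of `ζ` -/
def Eta1 {Γ : Type} [Group Γ] (z ζ : Γ) (P V : Subgroup Γ) : Prop :=
  ∀ (G : Type u) [Group G] (φ : Γ →* G) (t : G) (f : Γ → G), Lf φ t z f → Ex z f →
    ∃ η, E1 φ t f z ζ P V η

/-! ### The pieces -/

def Red1Stmt : Prop :=
  ∀ (Γ : Type) [Group Γ] (G : Type u) [Group G] [Finite G] (φ : Γ →* G), Base Γ →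
    Function.Injective φ → IsStandardSubgroup φ.range → ∀ z b Λ Z, RD z b Λ Z →
    ∀ g ∉ N[φ.range], 4 ∣ Nat.card (JJ φ g) → ∃ c T, PG φ g b Λ Z c T

def RedLStmt : Prop :=
  ∀ (Γ : Type) [Group Γ] (G : Type u) [Group G] [Finite G] (φ : Γ →* G), Base Γ →
    Function.Injective φ → IsStandardSubgroup φ.range → ∀ z b Λ Z, RD z b Λ Z →
    ∀ g ∉ N[φ.range], ∀ c T c' T', PG φ g b Λ Z c T → PG φ g⁻¹ b Λ Z c' T' →
      MulAut.conj g • C[φ.range] ≤ N[φ.range] ∧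
      ∀ l ∈ Λ, φ (c * l * c⁻¹) ∈ MulAut.conj g • φ.range

def RedSStmt : Prop :=
  ∀ (Γ : Type) [Group Γ] (G : Type u) [Group G] [Finite G] (φ : Γ →* G), Base Γ →
    Function.Injective φ → IsStandardSubgroup φ.range → ∀ z b Λ Z ρ, RD z b Λ Z → TC Λ Z ρ →
    ∀ g ∉ N[φ.range], ∀ c T c' T', PG φ g b Λ Z c T → PG φ g⁻¹ b Λ Z c' T' → False

def RedAStmt : Prop :=
  ∀ (Γ : Type) [Group Γ] (G : Type u) [Group G] [Finite G] (φ : Γ →* G), Base Γ → RF Γ →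
    Function.Injective φ → IsStandardSubgroup φ.range →
    ∀ g ∉ N[φ.range], ¬ 4 ∣ Nat.card (JJ φ g)

def RedCStmt : Prop :=
  ∀ (Γ : Type) [Group Γ] (G : Type u) [Group G] [Finite G] (φ : Γ →* G) (F : Subgroup G), Base Γ →
    OutF Γ → Function.Injective φ → IsStandardSubgroup φ.range → AS F →
    (∀ g ∉ N[φ.range], ¬ 4 ∣ Nat.card (JJ φ g)) → ∃ t O, Cx φ t O

def StartStmt : Prop :=
  ∀ (Γ : Type) [Group Γ] (G : Type u) [Group G] [Finite G] (φ : Γ →* G) (F : Subgroup G) (t : G)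
    (O : Subgroup G), Base Γ → OutF Γ → AS F → Cx φ t O →
    φ.range ≤ F ∧ ∃ a, a * a = 1 ∧ a ≠ 1 ∧ IsConj t (t * φ a)

def Start2Stmt : Prop :=
  ∀ (Γ : Type) [Group Γ] (G : Type u) [Group G] [Finite G] (φ : Γ →* G) (t : G) (O : Subgroup G)
    (z a : Γ), Base Γ → S2F z → Cx φ t O → a * a = 1 → a ≠ 1 → IsConj t (t * φ a) →
    IsConj t (t * φ z)

def Hat1Stmt : Prop :=
  ∀ (Γ : Type) [Group Γ] (G : Type u) [Group G] [Finite G] (φ : Γ →* G) (t : G) (O : Subgroup G)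
    (z : Γ) (y x : Cz z), Base Γ → HF z y x → Cx φ t O → IsConj t (t * φ z) →
    ∃ n, n * t * n⁻¹ = t * φ z ∧ ∀ l ∈ Cz z, n * φ l = φ l * n

def Hat2Stmt : Prop :=
  ∀ (Γ : Type) [Group Γ] (G : Type u) [Group G] [Finite G] (φ : Γ →* G) (t : G) (O : Subgroup G)
    (z : Γ) (Λ Z : Subgroup Γ) (n : G), Base Γ → H2 z Λ Z → Cx φ t O →
    n * t * n⁻¹ = t * φ z → (∀ l ∈ Λ, n * φ l = φ l * n) →
    ∃ m, m * t * m⁻¹ = t * φ z ∧ (∀ l ∈ Λ, m * φ l = φ l * m) ∧ (∀ o ∈ O, m * o = o * m) ∧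
      ∃ c ∈ Z, m * m = φ c

def HatStmt : Prop :=
  ∀ (Γ : Type) [Group Γ] (G : Type u) [Group G] [Finite G] (φ : Γ →* G) (t : G) (O : Subgroup G)
    (z : Γ) (y x : Cz z), Base Γ → HF z y x → Cx φ t O → IsConj t (t * φ z) →
    ∃ w, Hat φ t O z w

def OnH1Stmt : Prop :=
  ∀ (Γ : Type) [Group Γ] (G : Type u) [Group G] [Finite G] (φ : Γ →* G) (t : G) (O : Subgroup G)
    (z ζ : Γ) (B V : Subgroup Γ), Base Γ → OA z ζ B V → Cx φ t O → IsConj t (t * φ z) →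
    ∃ n, n * t * n⁻¹ = t * φ z ∧ ∀ l ∈ Cz ζ, n * φ l = φ l * n

def OnH2Stmt : Prop :=
  ∀ (Γ : Type) [Group Γ] (G : Type u) [Group G] [Finite G] (φ : Γ →* G) (t : G) (O : Subgroup G)
    (z ζ x : Γ) (B V : Subgroup Γ) (n : G), Base Γ → OA z ζ B V → OB z ζ x B V → Cx φ t O →
    IsConj t (t * φ z) → n * t * n⁻¹ = t * φ z → (∀ l ∈ Cz ζ, n * φ l = φ l * n) →
    ∃ w, Hat φ t O z w

def LineStmt : Prop :=
  ∀ (Γ : Type) [Group Γ] (G : Type u) [Group G] [Finite G] (φ : Γ →* G) (t : G) (O : Subgroup G)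
    (z y s : Γ) (f : Γ → G), Base Γ → LC z y s → Cx φ t O → Lf φ t z f → LO O z f → Ln φ f z y s

def Eta2Stmt : Prop :=
  ∀ (Γ : Type) [Group Γ] (G : Type u) [Group G] [Finite G] (φ : Γ →* G) (t : G) (O : Subgroup G)
    (z ζ x : Γ) (P V : Subgroup Γ) (f : Γ → G) (η : G), Base Γ → OE z ζ x P → Cx φ t O →
    Lf φ t z f → LO O z f → Ex z f → E1 φ t f z ζ P V η →
    (∀ l ∈ Cz ζ, η * φ l = φ l * η) ∧
      (Good t f x (x * ζ) ∨ φ x * η * (φ x)⁻¹ = η⁻¹ * φ z)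

def Eta3Stmt : Prop :=
  ∀ (Γ : Type) [Group Γ] (G : Type u) [Group G] [Finite G] (φ : Γ →* G) (t : G) (O : Subgroup G)
    (z ζ x σ : Γ) (B V : Subgroup Γ) (f : Γ → G) (η : G), Base Γ → OF z ζ x σ B V → Cx φ t O →
    Lf φ t z f → LO O z f → Ex z f → E1 φ t f z ζ (Cz ζ) V η →
    φ x * η * (φ x)⁻¹ ≠ η⁻¹ * φ z

def WrStmt : Prop :=
  ∀ (Γ : Type) [Group Γ] (G : Type u) [Group G] (φ : Γ →* G) (t : G) (z : Γ) (f : Γ → G),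
    Base Γ → z ≠ 1 → Lf φ t z f → (∀ r s, IsConj z r → IsConj z s → Good t f r s) →
    ∃ B, Wr φ t B

def EKStmt : Prop :=
  ∀ (Γ : Type) [Group Γ] (G : Type u) [Group G] [Finite G] (φ : Γ →* G) (t : G)
    (O B : Subgroup G), Base Γ → Cx φ t O → Wr φ t B → ∃ d, EK φ t B d

def E3Stmt : Prop :=
  ∀ (Γ : Type) [Group Γ] (G : Type u) [Group G] [Finite G] (φ : Γ →* G) (t : G)
    (O B : Subgroup G) (d : B →* Γ) (n mi mo mu : ℕ), Base Γ → EF Γ n mi mo mu → Cx φ t O →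
    Wr φ t B → EK φ t B d → ∀ g, g * t * g⁻¹ ∉ H0 t B

def E4Stmt : Prop :=
  ∀ (Γ : Type) [Group Γ] (G : Type u) [Group G] [Finite G] (φ : Γ →* G) (t : G)
    (O B : Subgroup G) (d : B →* Γ), Base Γ → Cx φ t O → Wr φ t B → EK φ t B d →
    ∀ g, g * t * g⁻¹ ∈ N[XX t B] → g * t * g⁻¹ ∉ H0 t B → g ∈ N[XX t B]

def TTStmt : Prop :=
  ∀ (G : Type u) [Group G] [Finite G] (F H : Subgroup G) (t y : G) (Q : Type u) [CommGroup Q]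
    (π : (H ⊓ F : Subgroup G) →* Q), F.Normal → ⁅F, F⁆ = F → t * t = 1 → t ∈ H →
    (∀ g, g * t * g⁻¹ ∈ H → g ∈ H) → ∀ hy : y ∈ H ⊓ F, y * y = 1 → y * t = t * y →
    (∀ g ∈ F, ∀ u v : (H ⊓ F : Subgroup G), (u : G) = g * y * g⁻¹ → (v : G) = t * u * t →
      π u = π v) → π ⟨y, hy⟩ = 1

def E5Stmt : Prop :=
  ∀ (Γ : Type) [Group Γ] (G : Type u) [Group G] [Finite G] (φ : Γ →* G) (t : G)
    (F O B : Subgroup G) (d : B →* Γ) (n : ℕ), Base Γ → SylF Γ n → AS F → Cx φ t O →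
    Wr φ t B → EK φ t B d → B ≤ F → t ∉ F →
    (∀ g, g * t * g⁻¹ ∈ N[XX t B] → g ∈ N[XX t B]) →
    ¬ N[XX t B] ⊓ F ≤ XX t B ⊔ C[XX t B]

def E6Stmt : Prop :=
  ∀ (Γ : Type) [Group Γ] (G : Type u) [Group G] [Finite G] (φ : Γ →* G) (t : G)
    (F O B : Subgroup G) (d : B →* Γ) (mu : ℕ), Base Γ → OiF Γ mu → AS F → Cx φ t O →
    Wr φ t B → EK φ t B d → B ≤ F → t ∉ F → ¬ N[XX t B] ⊓ F ≤ XX t B ⊔ C[XX t B] →
    ∃ h ∈ H0 t B, h * h = 1 ∧ h * t = t * h ∧ (h ∈ F ∨ h * t ∈ F) ∧ ∃ α, Ind d h α ∧ ¬ Inn α ∧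
      ∀ P : Subgroup Γ, (∀ x ∈ P, α x = x) → IsPGroup 2 P → Nat.card P ≤ mu

def E7Stmt : Prop :=
  ∀ (Γ : Type) [Group Γ] (G : Type u) [Group G] [Finite G] (φ : Γ →* G) (t : G)
    (F O B : Subgroup G) (d : B →* Γ) (n mi mo mu : ℕ) (h : G) (α : MulAut Γ), Base Γ →
    EF Γ n mi mo mu → AS F → Cx φ t O → Wr φ t B → EK φ t B d → B ≤ F → t ∉ F →
    (∀ g, g * t * g⁻¹ ∈ N[XX t B] → g ∈ N[XX t B]) → N[XX t B] ⊓ F ≤ H0 t B →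
    h ∈ H0 t B ⊓ F → h * h = 1 → h * t = t * h → Ind d h α →
    (∀ P : Subgroup Γ, (∀ x ∈ P, α x = x) → IsPGroup 2 P → Nat.card P ≤ mu) →
    ∀ g ∈ F, ∀ β γ, g * h * g⁻¹ ∈ H0 t B → Ind d (g * h * g⁻¹) β →
      Ind d (t * (g * h * g⁻¹) * t) γ → (Inn β ↔ Inn γ)

def EndStmt : Prop :=
  ∀ (Γ : Type) [Group Γ] (G : Type u) [Group G] [Finite G] (φ : Γ →* G) (t : G)
    (F O B : Subgroup G) (n mi mo mu : ℕ), Base Γ → EF Γ n mi mo mu → AS F → Cx φ t O →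
    Wr φ t B → φ.range ≤ F → False

set_option linter.unusedTactic false in
theorem eqns_SDefs : True := by
  first | (have := @Cfsg.Agent.H46.S95.Inn.eq_def.{0,0,0}) | (have := @Cfsg.Agent.H46.S95.Inn.eq_def.{0,0}) | (have := @Cfsg.Agent.H46.S95.Inn.eq_def.{0}) | (have := @Cfsg.Agent.H46.S95.Inn.eq_def) | skip
  first | (have := @Cfsg.Agent.H46.S95.Inn.eq_1.{0,0,0}) | (have := @Cfsg.Agent.H46.S95.Inn.eq_1.{0,0}) | (have := @Cfsg.Agent.H46.S95.Inn.eq_1.{0}) | (have := @Cfsg.Agent.H46.S95.Inn.eq_1) | skip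
  first | (have := @Cfsg.Agent.H46.S95.Inn.eq_2.{0,0,0}) | (have := @Cfsg.Agent.H46.S95.Inn.eq_2.{0,0}) | (have := @Cfsg.Agent.H46.S95.Inn.eq_2.{0}) | (have := @Cfsg.Agent.H46.S95.Inn.eq_2) | skip
  first | (have := @Cfsg.Agent.H46.S95.Inn.eq_unfold.{0,0,0}) | (have := @Cfsg.Agent.H46.S95.Inn.eq_unfold.{0,0}) | (have := @Cfsg.Agent.H46.S95.Inn.eq_unfold.{0}) | (have := @Cfsg.Agent.H46.S95.Inn.eq_unfold) | skip
  first | (have := @Cfsg.Agent.H46.S95.Inn.congr_simp.{0,0,0}) | (have := @Cfsg.Agent.H46.S95.Inn.congr_simp.{0,0}) | (have := @Cfsg.Agent.H46.S95.Inn.congr_simp.{0}) | (have := @Cfsg.Agent.H46.S95.Inn.congr_simp) | skip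
  first | (have := @Cfsg.Agent.H46.S95.El.eq_def.{0,0,0}) | (have := @Cfsg.Agent.H46.S95.El.eq_def.{0,0}) | (have := @Cfsg.Agent.H46.S95.El.eq_def.{0}) | (have := @Cfsg.Agent.H46.S95.El.eq_def) | skip
  first | (have := @Cfsg.Agent.H46.S95.El.eq_1.{0,0,0}) | (have := @Cfsg.Agent.H46.S95.El.eq_1.{0,0}) | (have := @Cfsg.Agent.H46.S95.El.eq_1.{0}) | (have := @Cfsg.Agent.H46.S95.El.eq_1) | skip
  first | (have := @Cfsg.Agent.H46.S95.El.eq_2.{0,0,0}) | (have := @Cfsg.Agent.H46.S95.El.eq_2.{0,0}) | (have := @Cfsg.Agent.H46.S95.El.eq_2.{0}) | (have := @Cfsg.Agent.H46.S95.El.eq_2) | skip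
  first | (have := @Cfsg.Agent.H46.S95.El.eq_unfold.{0,0,0}) | (have := @Cfsg.Agent.H46.S95.El.eq_unfold.{0,0}) | (have := @Cfsg.Agent.H46.S95.El.eq_unfold.{0}) | (have := @Cfsg.Agent.H46.S95.El.eq_unfold) | skip
  first | (have := @Cfsg.Agent.H46.S95.El.congr_simp.{0,0,0}) | (have := @Cfsg.Agent.H46.S95.El.congr_simp.{0,0}) | (have := @Cfsg.Agent.H46.S95.El.congr_simp.{0}) | (have := @Cfsg.Agent.H46.S95.El.congr_simp) | skip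
  first | (have := @Cfsg.Agent.H46.S95.Cz.eq_def.{0,0,0}) | (have := @Cfsg.Agent.H46.S95.Cz.eq_def.{0,0}) | (have := @Cfsg.Agent.H46.S95.Cz.eq_def.{0}) | (have := @Cfsg.Agent.H46.S95.Cz.eq_def) | skip
  first | (have := @Cfsg.Agent.H46.S95.Cz.eq_1.{0,0,0}) | (have := @Cfsg.Agent.H46.S95.Cz.eq_1.{0,0}) | (have := @Cfsg.Agent.H46.S95.Cz.eq_1.{0}) | (have := @Cfsg.Agent.H46.S95.Cz.eq_1) | skip
  first | (have := @Cfsg.Agent.H46.S95.Cz.eq_2.{0,0,0}) | (have := @Cfsg.Agent.H46.S95.Cz.eq_2.{0,0}) | (have := @Cfsg.Agent.H46.S95.Cz.eq_2.{0}) | (have := @Cfsg.Agent.H46.S95.Cz.eq_2) | skip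
  first | (have := @Cfsg.Agent.H46.S95.Cz.eq_unfold.{0,0,0}) | (have := @Cfsg.Agent.H46.S95.Cz.eq_unfold.{0,0}) | (have := @Cfsg.Agent.H46.S95.Cz.eq_unfold.{0}) | (have := @Cfsg.Agent.H46.S95.Cz.eq_unfold) | skip
  first | (have := @Cfsg.Agent.H46.S95.Cz.congr_simp.{0,0,0}) | (have := @Cfsg.Agent.H46.S95.Cz.congr_simp.{0,0}) | (have := @Cfsg.Agent.H46.S95.Cz.congr_simp.{0}) | (have := @Cfsg.Agent.H46.S95.Cz.congr_simp) | skip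
  first | (have := @Cfsg.Agent.H46.S95.Rt.eq_def.{0,0,0}) | (have := @Cfsg.Agent.H46.S95.Rt.eq_def.{0,0}) | (have := @Cfsg.Agent.H46.S95.Rt.eq_def.{0}) | (have := @Cfsg.Agent.H46.S95.Rt.eq_def) | skip
  first | (have := @Cfsg.Agent.H46.S95.Rt.eq_1.{0,0,0}) | (have := @Cfsg.Agent.H46.S95.Rt.eq_1.{0,0}) | (have := @Cfsg.Agent.H46.S95.Rt.eq_1.{0}) | (have := @Cfsg.Agent.H46.S95.Rt.eq_1) | skip
  first | (have := @Cfsg.Agent.H46.S95.Rt.eq_2.{0,0,0}) | (have := @Cfsg.Agent.H46.S95.Rt.eq_2.{0,0}) | (have := @Cfsg.Agent.H46.S95.Rt.eq_2.{0}) | (have := @Cfsg.Agent.H46.S95.Rt.eq_2) | skip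
  first | (have := @Cfsg.Agent.H46.S95.Rt.eq_unfold.{0,0,0}) | (have := @Cfsg.Agent.H46.S95.Rt.eq_unfold.{0,0}) | (have := @Cfsg.Agent.H46.S95.Rt.eq_unfold.{0}) | (have := @Cfsg.Agent.H46.S95.Rt.eq_unfold) | skip
  first | (have := @Cfsg.Agent.H46.S95.Rt.congr_simp.{0,0,0}) | (have := @Cfsg.Agent.H46.S95.Rt.congr_simp.{0,0}) | (have := @Cfsg.Agent.H46.S95.Rt.congr_simp.{0}) | (have := @Cfsg.Agent.H46.S95.Rt.congr_simp) | skip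
  first | (have := @Cfsg.Agent.H46.S95.OutF.eq_def.{0,0,0}) | (have := @Cfsg.Agent.H46.S95.OutF.eq_def.{0,0}) | (have := @Cfsg.Agent.H46.S95.OutF.eq_def.{0}) | (have := @Cfsg.Agent.H46.S95.OutF.eq_def) | skip
  first | (have := @Cfsg.Agent.H46.S95.OutF.eq_1.{0,0,0}) | (have := @Cfsg.Agent.H46.S95.OutF.eq_1.{0,0}) | (have := @Cfsg.Agent.H46.S95.OutF.eq_1.{0}) | (have := @Cfsg.Agent.H46.S95.OutF.eq_1) | skip
  first | (have := @Cfsg.Agent.H46.S95.OutF.eq_2.{0,0,0}) | (have := @Cfsg.Agent.H46.S95.OutF.eq_2.{0,0}) | (have := @Cfsg.Agent.H46.S95.OutF.eq_2.{0}) | (have := @Cfsg.Agent.H46.S95.OutF.eq_2) | skip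
  first | (have := @Cfsg.Agent.H46.S95.OutF.eq_unfold.{0,0,0}) | (have := @Cfsg.Agent.H46.S95.OutF.eq_unfold.{0,0}) | (have := @Cfsg.Agent.H46.S95.OutF.eq_unfold.{0}) | (have := @Cfsg.Agent.H46.S95.OutF.eq_unfold) | skip
  first | (have := @Cfsg.Agent.H46.S95.OutF.congr_simp.{0,0,0}) | (have := @Cfsg.Agent.H46.S95.OutF.congr_simp.{0,0}) | (have := @Cfsg.Agent.H46.S95.OutF.congr_simp.{0}) | (have := @Cfsg.Agent.H46.S95.OutF.congr_simp) | skip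
  first | (have := @Cfsg.Agent.H46.S95.Cls.eq_def.{0,0,0}) | (have := @Cfsg.Agent.H46.S95.Cls.eq_def.{0,0}) | (have := @Cfsg.Agent.H46.S95.Cls.eq_def.{0}) | (have := @Cfsg.Agent.H46.S95.Cls.eq_def) | skip
  first | (have := @Cfsg.Agent.H46.S95.Cls.eq_1.{0,0,0}) | (have := @Cfsg.Agent.H46.S95.Cls.eq_1.{0,0}) | (have := @Cfsg.Agent.H46.S95.Cls.eq_1.{0}) | (have := @Cfsg.Agent.H46.S95.Cls.eq_1) | skip
  first | (have := @Cfsg.Agent.H46.S95.Cls.eq_2.{0,0,0}) | (have := @Cfsg.Agent.H46.S95.Cls.eq_2.{0,0}) | (have := @Cfsg.Agent.H46.S95.Cls.eq_2.{0}) | (have := @Cfsg.Agent.H46.S95.Cls.eq_2) | skip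
  first | (have := @Cfsg.Agent.H46.S95.Cls.eq_unfold.{0,0,0}) | (have := @Cfsg.Agent.H46.S95.Cls.eq_unfold.{0,0}) | (have := @Cfsg.Agent.H46.S95.Cls.eq_unfold.{0}) | (have := @Cfsg.Agent.H46.S95.Cls.eq_unfold) | skip
  first | (have := @Cfsg.Agent.H46.S95.Cls.congr_simp.{0,0,0}) | (have := @Cfsg.Agent.H46.S95.Cls.congr_simp.{0,0}) | (have := @Cfsg.Agent.H46.S95.Cls.congr_simp.{0}) | (have := @Cfsg.Agent.H46.S95.Cls.congr_simp) | skip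
  first | (have := @Cfsg.Agent.H46.S95.RF.eq_def.{0,0,0}) | (have := @Cfsg.Agent.H46.S95.RF.eq_def.{0,0}) | (have := @Cfsg.Agent.H46.S95.RF.eq_def.{0}) | (have := @Cfsg.Agent.H46.S95.RF.eq_def) | skip
  first | (have := @Cfsg.Agent.H46.S95.RF.eq_1.{0,0,0}) | (have := @Cfsg.Agent.H46.S95.RF.eq_1.{0,0}) | (have := @Cfsg.Agent.H46.S95.RF.eq_1.{0}) | (have := @Cfsg.Agent.H46.S95.RF.eq_1) | skip
  first | (have := @Cfsg.Agent.H46.S95.RF.eq_2.{0,0,0}) | (have := @Cfsg.Agent.H46.S95.RF.eq_2.{0,0}) | (have := @Cfsg.Agent.H46.S95.RF.eq_2.{0}) | (have := @Cfsg.Agent.H46.S95.RF.eq_2) | skip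
  first | (have := @Cfsg.Agent.H46.S95.RF.eq_unfold.{0,0,0}) | (have := @Cfsg.Agent.H46.S95.RF.eq_unfold.{0,0}) | (have := @Cfsg.Agent.H46.S95.RF.eq_unfold.{0}) | (have := @Cfsg.Agent.H46.S95.RF.eq_unfold) | skip
  first | (have := @Cfsg.Agent.H46.S95.RF.congr_simp.{0,0,0}) | (have := @Cfsg.Agent.H46.S95.RF.congr_simp.{0,0}) | (have := @Cfsg.Agent.H46.S95.RF.congr_simp.{0}) | (have := @Cfsg.Agent.H46.S95.RF.congr_simp) | skip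
  first | (have := @Cfsg.Agent.H46.S95.S2a.eq_def.{0,0,0}) | (have := @Cfsg.Agent.H46.S95.S2a.eq_def.{0,0}) | (have := @Cfsg.Agent.H46.S95.S2a.eq_def.{0}) | (have := @Cfsg.Agent.H46.S95.S2a.eq_def) | skip
  first | (have := @Cfsg.Agent.H46.S95.S2a.eq_1.{0,0,0}) | (have := @Cfsg.Agent.H46.S95.S2a.eq_1.{0,0}) | (have := @Cfsg.Agent.H46.S95.S2a.eq_1.{0}) | (have := @Cfsg.Agent.H46.S95.S2a.eq_1) | skip
  first | (have := @Cfsg.Agent.H46.S95.S2a.eq_2.{0,0,0}) | (have := @Cfsg.Agent.H46.S95.S2a.eq_2.{0,0}) | (have := @Cfsg.Agent.H46.S95.S2a.eq_2.{0}) | (have := @Cfsg.Agent.H46.S95.S2a.eq_2) | skip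
  first | (have := @Cfsg.Agent.H46.S95.S2a.eq_unfold.{0,0,0}) | (have := @Cfsg.Agent.H46.S95.S2a.eq_unfold.{0,0}) | (have := @Cfsg.Agent.H46.S95.S2a.eq_unfold.{0}) | (have := @Cfsg.Agent.H46.S95.S2a.eq_unfold) | skip
  first | (have := @Cfsg.Agent.H46.S95.S2a.congr_simp.{0,0,0}) | (have := @Cfsg.Agent.H46.S95.S2a.congr_simp.{0,0}) | (have := @Cfsg.Agent.H46.S95.S2a.congr_simp.{0}) | (have := @Cfsg.Agent.H46.S95.S2a.congr_simp) | skip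
  first | (have := @Cfsg.Agent.H46.S95.S2b.eq_def.{0,0,0}) | (have := @Cfsg.Agent.H46.S95.S2b.eq_def.{0,0}) | (have := @Cfsg.Agent.H46.S95.S2b.eq_def.{0}) | (have := @Cfsg.Agent.H46.S95.S2b.eq_def) | skip
  first | (have := @Cfsg.Agent.H46.S95.S2b.eq_1.{0,0,0}) | (have := @Cfsg.Agent.H46.S95.S2b.eq_1.{0,0}) | (have := @Cfsg.Agent.H46.S95.S2b.eq_1.{0}) | (have := @Cfsg.Agent.H46.S95.S2b.eq_1) | skip
  first | (have := @Cfsg.Agent.H46.S95.S2b.eq_2.{0,0,0}) | (have := @Cfsg.Agent.H46.S95.S2b.eq_2.{0,0}) | (have := @Cfsg.Agent.H46.S95.S2b.eq_2.{0}) | (have := @Cfsg.Agent.H46.S95.S2b.eq_2) | skip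
  first | (have := @Cfsg.Agent.H46.S95.S2b.eq_unfold.{0,0,0}) | (have := @Cfsg.Agent.H46.S95.S2b.eq_unfold.{0,0}) | (have := @Cfsg.Agent.H46.S95.S2b.eq_unfold.{0}) | (have := @Cfsg.Agent.H46.S95.S2b.eq_unfold) | skip
  first | (have := @Cfsg.Agent.H46.S95.S2b.congr_simp.{0,0,0}) | (have := @Cfsg.Agent.H46.S95.S2b.congr_simp.{0,0}) | (have := @Cfsg.Agent.H46.S95.S2b.congr_simp.{0}) | (have := @Cfsg.Agent.H46.S95.S2b.congr_simp) | skip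
  first | (have := @Cfsg.Agent.H46.S95.S2F.eq_def.{0,0,0}) | (have := @Cfsg.Agent.H46.S95.S2F.eq_def.{0,0}) | (have := @Cfsg.Agent.H46.S95.S2F.eq_def.{0}) | (have := @Cfsg.Agent.H46.S95.S2F.eq_def) | skip
  first | (have := @Cfsg.Agent.H46.S95.S2F.eq_1.{0,0,0}) | (have := @Cfsg.Agent.H46.S95.S2F.eq_1.{0,0}) | (have := @Cfsg.Agent.H46.S95.S2F.eq_1.{0}) | (have := @Cfsg.Agent.H46.S95.S2F.eq_1) | skip
  first | (have := @Cfsg.Agent.H46.S95.S2F.eq_2.{0,0,0}) | (have := @Cfsg.Agent.H46.S95.S2F.eq_2.{0,0}) | (have := @Cfsg.Agent.H46.S95.S2F.eq_2.{0}) | (have := @Cfsg.Agent.H46.S95.S2F.eq_2) | skip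
  first | (have := @Cfsg.Agent.H46.S95.S2F.eq_unfold.{0,0,0}) | (have := @Cfsg.Agent.H46.S95.S2F.eq_unfold.{0,0}) | (have := @Cfsg.Agent.H46.S95.S2F.eq_unfold.{0}) | (have := @Cfsg.Agent.H46.S95.S2F.eq_unfold) | skip
  first | (have := @Cfsg.Agent.H46.S95.S2F.congr_simp.{0,0,0}) | (have := @Cfsg.Agent.H46.S95.S2F.congr_simp.{0,0}) | (have := @Cfsg.Agent.H46.S95.S2F.congr_simp.{0}) | (have := @Cfsg.Agent.H46.S95.S2F.congr_simp) | skip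
  first | (have := @Cfsg.Agent.H46.S95.S3.eq_def.{0,0,0}) | (have := @Cfsg.Agent.H46.S95.S3.eq_def.{0,0}) | (have := @Cfsg.Agent.H46.S95.S3.eq_def.{0}) | (have := @Cfsg.Agent.H46.S95.S3.eq_def) | skip
  first | (have := @Cfsg.Agent.H46.S95.S3.eq_1.{0,0,0}) | (have := @Cfsg.Agent.H46.S95.S3.eq_1.{0,0}) | (have := @Cfsg.Agent.H46.S95.S3.eq_1.{0}) | (have := @Cfsg.Agent.H46.S95.S3.eq_1) | skip
  first | (have := @Cfsg.Agent.H46.S95.S3.eq_2.{0,0,0}) | (have := @Cfsg.Agent.H46.S95.S3.eq_2.{0,0}) | (have := @Cfsg.Agent.H46.S95.S3.eq_2.{0}) | (have := @Cfsg.Agent.H46.S95.S3.eq_2) | skip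
  first | (have := @Cfsg.Agent.H46.S95.S3.eq_unfold.{0,0,0}) | (have := @Cfsg.Agent.H46.S95.S3.eq_unfold.{0,0}) | (have := @Cfsg.Agent.H46.S95.S3.eq_unfold.{0}) | (have := @Cfsg.Agent.H46.S95.S3.eq_unfold) | skip
  first | (have := @Cfsg.Agent.H46.S95.S3.congr_simp.{0,0,0}) | (have := @Cfsg.Agent.H46.S95.S3.congr_simp.{0,0}) | (have := @Cfsg.Agent.H46.S95.S3.congr_simp.{0}) | (have := @Cfsg.Agent.H46.S95.S3.congr_simp) | skip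
  first | (have := @Cfsg.Agent.H46.S95.CI.eq_def.{0,0,0}) | (have := @Cfsg.Agent.H46.S95.CI.eq_def.{0,0}) | (have := @Cfsg.Agent.H46.S95.CI.eq_def.{0}) | (have := @Cfsg.Agent.H46.S95.CI.eq_def) | skip
  first | (have := @Cfsg.Agent.H46.S95.CI.eq_1.{0,0,0}) | (have := @Cfsg.Agent.H46.S95.CI.eq_1.{0,0}) | (have := @Cfsg.Agent.H46.S95.CI.eq_1.{0}) | (have := @Cfsg.Agent.H46.S95.CI.eq_1) | skip
  first | (have := @Cfsg.Agent.H46.S95.CI.eq_2.{0,0,0}) | (have := @Cfsg.Agent.H46.S95.CI.eq_2.{0,0}) | (have := @Cfsg.Agent.H46.S95.CI.eq_2.{0}) | (have := @Cfsg.Agent.H46.S95.CI.eq_2) | skip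
  first | (have := @Cfsg.Agent.H46.S95.CI.eq_unfold.{0,0,0}) | (have := @Cfsg.Agent.H46.S95.CI.eq_unfold.{0,0}) | (have := @Cfsg.Agent.H46.S95.CI.eq_unfold.{0}) | (have := @Cfsg.Agent.H46.S95.CI.eq_unfold) | skip
  first | (have := @Cfsg.Agent.H46.S95.CI.congr_simp.{0,0,0}) | (have := @Cfsg.Agent.H46.S95.CI.congr_simp.{0,0}) | (have := @Cfsg.Agent.H46.S95.CI.congr_simp.{0}) | (have := @Cfsg.Agent.H46.S95.CI.congr_simp) | skip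
  first | (have := @Cfsg.Agent.H46.S95.InnF.eq_def.{0,0,0}) | (have := @Cfsg.Agent.H46.S95.InnF.eq_def.{0,0}) | (have := @Cfsg.Agent.H46.S95.InnF.eq_def.{0}) | (have := @Cfsg.Agent.H46.S95.InnF.eq_def) | skip
  first | (have := @Cfsg.Agent.H46.S95.InnF.eq_1.{0,0,0}) | (have := @Cfsg.Agent.H46.S95.InnF.eq_1.{0,0}) | (have := @Cfsg.Agent.H46.S95.InnF.eq_1.{0}) | (have := @Cfsg.Agent.H46.S95.InnF.eq_1) | skip
  first | (have := @Cfsg.Agent.H46.S95.InnF.eq_2.{0,0,0}) | (have := @Cfsg.Agent.H46.S95.InnF.eq_2.{0,0}) | (have := @Cfsg.Agent.H46.S95.InnF.eq_2.{0}) | (have := @Cfsg.Agent.H46.S95.InnF.eq_2) | skip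
  first | (have := @Cfsg.Agent.H46.S95.InnF.eq_unfold.{0,0,0}) | (have := @Cfsg.Agent.H46.S95.InnF.eq_unfold.{0,0}) | (have := @Cfsg.Agent.H46.S95.InnF.eq_unfold.{0}) | (have := @Cfsg.Agent.H46.S95.InnF.eq_unfold) | skip
  first | (have := @Cfsg.Agent.H46.S95.InnF.congr_simp.{0,0,0}) | (have := @Cfsg.Agent.H46.S95.InnF.congr_simp.{0,0}) | (have := @Cfsg.Agent.H46.S95.InnF.congr_simp.{0}) | (have := @Cfsg.Agent.H46.S95.InnF.congr_simp) | skip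
  first | (have := @Cfsg.Agent.H46.S95.OutM.eq_def.{0,0,0}) | (have := @Cfsg.Agent.H46.S95.OutM.eq_def.{0,0}) | (have := @Cfsg.Agent.H46.S95.OutM.eq_def.{0}) | (have := @Cfsg.Agent.H46.S95.OutM.eq_def) | skip
  first | (have := @Cfsg.Agent.H46.S95.OutM.eq_1.{0,0,0}) | (have := @Cfsg.Agent.H46.S95.OutM.eq_1.{0,0}) | (have := @Cfsg.Agent.H46.S95.OutM.eq_1.{0}) | (have := @Cfsg.Agent.H46.S95.OutM.eq_1) | skip
  first | (have := @Cfsg.Agent.H46.S95.OutM.eq_2.{0,0,0}) | (have := @Cfsg.Agent.H46.S95.OutM.eq_2.{0,0}) | (have := @Cfsg.Agent.H46.S95.OutM.eq_2.{0}) | (have := @Cfsg.Agent.H46.S95.OutM.eq_2) | skip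
  first | (have := @Cfsg.Agent.H46.S95.OutM.eq_unfold.{0,0,0}) | (have := @Cfsg.Agent.H46.S95.OutM.eq_unfold.{0,0}) | (have := @Cfsg.Agent.H46.S95.OutM.eq_unfold.{0}) | (have := @Cfsg.Agent.H46.S95.OutM.eq_unfold) | skip
  first | (have := @Cfsg.Agent.H46.S95.OutM.congr_simp.{0,0,0}) | (have := @Cfsg.Agent.H46.S95.OutM.congr_simp.{0,0}) | (have := @Cfsg.Agent.H46.S95.OutM.congr_simp.{0}) | (have := @Cfsg.Agent.H46.S95.OutM.congr_simp) | skip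
  first | (have := @Cfsg.Agent.H46.S95.OiF.eq_def.{0,0,0}) | (have := @Cfsg.Agent.H46.S95.OiF.eq_def.{0,0}) | (have := @Cfsg.Agent.H46.S95.OiF.eq_def.{0}) | (have := @Cfsg.Agent.H46.S95.OiF.eq_def) | skip
  first | (have := @Cfsg.Agent.H46.S95.OiF.eq_1.{0,0,0}) | (have := @Cfsg.Agent.H46.S95.OiF.eq_1.{0,0}) | (have := @Cfsg.Agent.H46.S95.OiF.eq_1.{0}) | (have := @Cfsg.Agent.H46.S95.OiF.eq_1) | skip
  first | (have := @Cfsg.Agent.H46.S95.OiF.eq_2.{0,0,0}) | (have := @Cfsg.Agent.H46.S95.OiF.eq_2.{0,0}) | (have := @Cfsg.Agent.H46.S95.OiF.eq_2.{0}) | (have := @Cfsg.Agent.H46.S95.OiF.eq_2) | skip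
  first | (have := @Cfsg.Agent.H46.S95.OiF.eq_unfold.{0,0,0}) | (have := @Cfsg.Agent.H46.S95.OiF.eq_unfold.{0,0}) | (have := @Cfsg.Agent.H46.S95.OiF.eq_unfold.{0}) | (have := @Cfsg.Agent.H46.S95.OiF.eq_unfold) | skip
  first | (have := @Cfsg.Agent.H46.S95.OiF.congr_simp.{0,0,0}) | (have := @Cfsg.Agent.H46.S95.OiF.congr_simp.{0,0}) | (have := @Cfsg.Agent.H46.S95.OiF.congr_simp.{0}) | (have := @Cfsg.Agent.H46.S95.OiF.congr_simp) | skip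
  first | (have := @Cfsg.Agent.H46.S95.OoF.eq_def.{0,0,0}) | (have := @Cfsg.Agent.H46.S95.OoF.eq_def.{0,0}) | (have := @Cfsg.Agent.H46.S95.OoF.eq_def.{0}) | (have := @Cfsg.Agent.H46.S95.OoF.eq_def) | skip
  first | (have := @Cfsg.Agent.H46.S95.OoF.eq_1.{0,0,0}) | (have := @Cfsg.Agent.H46.S95.OoF.eq_1.{0,0}) | (have := @Cfsg.Agent.H46.S95.OoF.eq_1.{0}) | (have := @Cfsg.Agent.H46.S95.OoF.eq_1) | skip
  first | (have := @Cfsg.Agent.H46.S95.OoF.eq_2.{0,0,0}) | (have := @Cfsg.Agent.H46.S95.OoF.eq_2.{0,0}) | (have := @Cfsg.Agent.H46.S95.OoF.eq_2.{0}) | (have := @Cfsg.Agent.H46.S95.OoF.eq_2) | skip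
  first | (have := @Cfsg.Agent.H46.S95.OoF.eq_unfold.{0,0,0}) | (have := @Cfsg.Agent.H46.S95.OoF.eq_unfold.{0,0}) | (have := @Cfsg.Agent.H46.S95.OoF.eq_unfold.{0}) | (have := @Cfsg.Agent.H46.S95.OoF.eq_unfold) | skip
  first | (have := @Cfsg.Agent.H46.S95.OoF.congr_simp.{0,0,0}) | (have := @Cfsg.Agent.H46.S95.OoF.congr_simp.{0,0}) | (have := @Cfsg.Agent.H46.S95.OoF.congr_simp.{0}) | (have := @Cfsg.Agent.H46.S95.OoF.congr_simp) | skip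
  first | (have := @Cfsg.Agent.H46.S95.JJ.eq_def.{0,0,0}) | (have := @Cfsg.Agent.H46.S95.JJ.eq_def.{0,0}) | (have := @Cfsg.Agent.H46.S95.JJ.eq_def.{0}) | (have := @Cfsg.Agent.H46.S95.JJ.eq_def) | skip
  first | (have := @Cfsg.Agent.H46.S95.JJ.eq_1.{0,0,0}) | (have := @Cfsg.Agent.H46.S95.JJ.eq_1.{0,0}) | (have := @Cfsg.Agent.H46.S95.JJ.eq_1.{0}) | (have := @Cfsg.Agent.H46.S95.JJ.eq_1) | skip
  first | (have := @Cfsg.Agent.H46.S95.JJ.eq_2.{0,0,0}) | (have := @Cfsg.Agent.H46.S95.JJ.eq_2.{0,0}) | (have := @Cfsg.Agent.H46.S95.JJ.eq_2.{0}) | (have := @Cfsg.Agent.H46.S95.JJ.eq_2) | skip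
  first | (have := @Cfsg.Agent.H46.S95.JJ.eq_unfold.{0,0,0}) | (have := @Cfsg.Agent.H46.S95.JJ.eq_unfold.{0,0}) | (have := @Cfsg.Agent.H46.S95.JJ.eq_unfold.{0}) | (have := @Cfsg.Agent.H46.S95.JJ.eq_unfold) | skip
  first | (have := @Cfsg.Agent.H46.S95.JJ.congr_simp.{0,0,0}) | (have := @Cfsg.Agent.H46.S95.JJ.congr_simp.{0,0}) | (have := @Cfsg.Agent.H46.S95.JJ.congr_simp.{0}) | (have := @Cfsg.Agent.H46.S95.JJ.congr_simp) | skip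
  first | (have := @Cfsg.Agent.H46.S95.LO.eq_def.{0,0,0}) | (have := @Cfsg.Agent.H46.S95.LO.eq_def.{0,0}) | (have := @Cfsg.Agent.H46.S95.LO.eq_def.{0}) | (have := @Cfsg.Agent.H46.S95.LO.eq_def) | skip
  first | (have := @Cfsg.Agent.H46.S95.LO.eq_1.{0,0,0}) | (have := @Cfsg.Agent.H46.S95.LO.eq_1.{0,0}) | (have := @Cfsg.Agent.H46.S95.LO.eq_1.{0}) | (have := @Cfsg.Agent.H46.S95.LO.eq_1) | skip
  first | (have := @Cfsg.Agent.H46.S95.LO.eq_2.{0,0,0}) | (have := @Cfsg.Agent.H46.S95.LO.eq_2.{0,0}) | (have := @Cfsg.Agent.H46.S95.LO.eq_2.{0}) | (have := @Cfsg.Agent.H46.S95.LO.eq_2) | skip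
  first | (have := @Cfsg.Agent.H46.S95.LO.eq_unfold.{0,0,0}) | (have := @Cfsg.Agent.H46.S95.LO.eq_unfold.{0,0}) | (have := @Cfsg.Agent.H46.S95.LO.eq_unfold.{0}) | (have := @Cfsg.Agent.H46.S95.LO.eq_unfold) | skip
  first | (have := @Cfsg.Agent.H46.S95.LO.congr_simp.{0,0,0}) | (have := @Cfsg.Agent.H46.S95.LO.congr_simp.{0,0}) | (have := @Cfsg.Agent.H46.S95.LO.congr_simp.{0}) | (have := @Cfsg.Agent.H46.S95.LO.congr_simp) | skip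
  first | (have := @Cfsg.Agent.H46.S95.Good.eq_def.{0,0,0}) | (have := @Cfsg.Agent.H46.S95.Good.eq_def.{0,0}) | (have := @Cfsg.Agent.H46.S95.Good.eq_def.{0}) | (have := @Cfsg.Agent.H46.S95.Good.eq_def) | skip
  first | (have := @Cfsg.Agent.H46.S95.Good.eq_1.{0,0,0}) | (have := @Cfsg.Agent.H46.S95.Good.eq_1.{0,0}) | (have := @Cfsg.Agent.H46.S95.Good.eq_1.{0}) | (have := @Cfsg.Agent.H46.S95.Good.eq_1) | skip
  first | (have := @Cfsg.Agent.H46.S95.Good.eq_2.{0,0,0}) | (have := @Cfsg.Agent.H46.S95.Good.eq_2.{0,0}) | (have := @Cfsg.Agent.H46.S95.Good.eq_2.{0}) | (have := @Cfsg.Agent.H46.S95.Good.eq_2) | skip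
  first | (have := @Cfsg.Agent.H46.S95.Good.eq_unfold.{0,0,0}) | (have := @Cfsg.Agent.H46.S95.Good.eq_unfold.{0,0}) | (have := @Cfsg.Agent.H46.S95.Good.eq_unfold.{0}) | (have := @Cfsg.Agent.H46.S95.Good.eq_unfold) | skip
  first | (have := @Cfsg.Agent.H46.S95.Good.congr_simp.{0,0,0}) | (have := @Cfsg.Agent.H46.S95.Good.congr_simp.{0,0}) | (have := @Cfsg.Agent.H46.S95.Good.congr_simp.{0}) | (have := @Cfsg.Agent.H46.S95.Good.congr_simp) | skip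
  first | (have := @Cfsg.Agent.H46.S95.Ln.eq_def.{0,0,0}) | (have := @Cfsg.Agent.H46.S95.Ln.eq_def.{0,0}) | (have := @Cfsg.Agent.H46.S95.Ln.eq_def.{0}) | (have := @Cfsg.Agent.H46.S95.Ln.eq_def) | skip
  first | (have := @Cfsg.Agent.H46.S95.Ln.eq_1.{0,0,0}) | (have := @Cfsg.Agent.H46.S95.Ln.eq_1.{0,0}) | (have := @Cfsg.Agent.H46.S95.Ln.eq_1.{0}) | (have := @Cfsg.Agent.H46.S95.Ln.eq_1) | skip
  first | (have := @Cfsg.Agent.H46.S95.Ln.eq_2.{0,0,0}) | (have := @Cfsg.Agent.H46.S95.Ln.eq_2.{0,0}) | (have := @Cfsg.Agent.H46.S95.Ln.eq_2.{0}) | (have := @Cfsg.Agent.H46.S95.Ln.eq_2) | skip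
  first | (have := @Cfsg.Agent.H46.S95.Ln.eq_unfold.{0,0,0}) | (have := @Cfsg.Agent.H46.S95.Ln.eq_unfold.{0,0}) | (have := @Cfsg.Agent.H46.S95.Ln.eq_unfold.{0}) | (have := @Cfsg.Agent.H46.S95.Ln.eq_unfold) | skip
  first | (have := @Cfsg.Agent.H46.S95.Ln.congr_simp.{0,0,0}) | (have := @Cfsg.Agent.H46.S95.Ln.congr_simp.{0,0}) | (have := @Cfsg.Agent.H46.S95.Ln.congr_simp.{0}) | (have := @Cfsg.Agent.H46.S95.Ln.congr_simp) | skip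
  first | (have := @Cfsg.Agent.H46.S95.Ex.eq_def.{0,0,0}) | (have := @Cfsg.Agent.H46.S95.Ex.eq_def.{0,0}) | (have := @Cfsg.Agent.H46.S95.Ex.eq_def.{0}) | (have := @Cfsg.Agent.H46.S95.Ex.eq_def) | skip
  first | (have := @Cfsg.Agent.H46.S95.Ex.eq_1.{0,0,0}) | (have := @Cfsg.Agent.H46.S95.Ex.eq_1.{0,0}) | (have := @Cfsg.Agent.H46.S95.Ex.eq_1.{0}) | (have := @Cfsg.Agent.H46.S95.Ex.eq_1) | skip
  first | (have := @Cfsg.Agent.H46.S95.Ex.eq_2.{0,0,0}) | (have := @Cfsg.Agent.H46.S95.Ex.eq_2.{0,0}) | (have := @Cfsg.Agent.H46.S95.Ex.eq_2.{0}) | (have := @Cfsg.Agent.H46.S95.Ex.eq_2) | skip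
  first | (have := @Cfsg.Agent.H46.S95.Ex.eq_unfold.{0,0,0}) | (have := @Cfsg.Agent.H46.S95.Ex.eq_unfold.{0,0}) | (have := @Cfsg.Agent.H46.S95.Ex.eq_unfold.{0}) | (have := @Cfsg.Agent.H46.S95.Ex.eq_unfold) | skip
  first | (have := @Cfsg.Agent.H46.S95.Ex.congr_simp.{0,0,0}) | (have := @Cfsg.Agent.H46.S95.Ex.congr_simp.{0,0}) | (have := @Cfsg.Agent.H46.S95.Ex.congr_simp.{0}) | (have := @Cfsg.Agent.H46.S95.Ex.congr_simp) | skip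
  first | (have := @Cfsg.Agent.H46.S95.XX.eq_def.{0,0,0}) | (have := @Cfsg.Agent.H46.S95.XX.eq_def.{0,0}) | (have := @Cfsg.Agent.H46.S95.XX.eq_def.{0}) | (have := @Cfsg.Agent.H46.S95.XX.eq_def) | skip
  first | (have := @Cfsg.Agent.H46.S95.XX.eq_1.{0,0,0}) | (have := @Cfsg.Agent.H46.S95.XX.eq_1.{0,0}) | (have := @Cfsg.Agent.H46.S95.XX.eq_1.{0}) | (have := @Cfsg.Agent.H46.S95.XX.eq_1) | skip
  first | (have := @Cfsg.Agent.H46.S95.XX.eq_2.{0,0,0}) | (have := @Cfsg.Agent.H46.S95.XX.eq_2.{0,0}) | (have := @Cfsg.Agent.H46.S95.XX.eq_2.{0}) | (have := @Cfsg.Agent.H46.S95.XX.eq_2) | skip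
  first | (have := @Cfsg.Agent.H46.S95.XX.eq_unfold.{0,0,0}) | (have := @Cfsg.Agent.H46.S95.XX.eq_unfold.{0,0}) | (have := @Cfsg.Agent.H46.S95.XX.eq_unfold.{0}) | (have := @Cfsg.Agent.H46.S95.XX.eq_unfold) | skip
  first | (have := @Cfsg.Agent.H46.S95.XX.congr_simp.{0,0,0}) | (have := @Cfsg.Agent.H46.S95.XX.congr_simp.{0,0}) | (have := @Cfsg.Agent.H46.S95.XX.congr_simp.{0}) | (have := @Cfsg.Agent.H46.S95.XX.congr_simp) | skip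
  first | (have := @Cfsg.Agent.H46.S95.H0.eq_def.{0,0,0}) | (have := @Cfsg.Agent.H46.S95.H0.eq_def.{0,0}) | (have := @Cfsg.Agent.H46.S95.H0.eq_def.{0}) | (have := @Cfsg.Agent.H46.S95.H0.eq_def) | skip
  first | (have := @Cfsg.Agent.H46.S95.H0.eq_1.{0,0,0}) | (have := @Cfsg.Agent.H46.S95.H0.eq_1.{0,0}) | (have := @Cfsg.Agent.H46.S95.H0.eq_1.{0}) | (have := @Cfsg.Agent.H46.S95.H0.eq_1) | skip
  first | (have := @Cfsg.Agent.H46.S95.H0.eq_2.{0,0,0}) | (have := @Cfsg.Agent.H46.S95.H0.eq_2.{0,0}) | (have := @Cfsg.Agent.H46.S95.H0.eq_2.{0}) | (have := @Cfsg.Agent.H46.S95.H0.eq_2) | skip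
  first | (have := @Cfsg.Agent.H46.S95.H0.eq_unfold.{0,0,0}) | (have := @Cfsg.Agent.H46.S95.H0.eq_unfold.{0,0}) | (have := @Cfsg.Agent.H46.S95.H0.eq_unfold.{0}) | (have := @Cfsg.Agent.H46.S95.H0.eq_unfold) | skip
  first | (have := @Cfsg.Agent.H46.S95.H0.congr_simp.{0,0,0}) | (have := @Cfsg.Agent.H46.S95.H0.congr_simp.{0,0}) | (have := @Cfsg.Agent.H46.S95.H0.congr_simp.{0}) | (have := @Cfsg.Agent.H46.S95.H0.congr_simp) | skip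
  first | (have := @Cfsg.Agent.H46.S95.Ind.eq_def.{0,0,0}) | (have := @Cfsg.Agent.H46.S95.Ind.eq_def.{0,0}) | (have := @Cfsg.Agent.H46.S95.Ind.eq_def.{0}) | (have := @Cfsg.Agent.H46.S95.Ind.eq_def) | skip
  first | (have := @Cfsg.Agent.H46.S95.Ind.eq_1.{0,0,0}) | (have := @Cfsg.Agent.H46.S95.Ind.eq_1.{0,0}) | (have := @Cfsg.Agent.H46.S95.Ind.eq_1.{0}) | (have := @Cfsg.Agent.H46.S95.Ind.eq_1) | skip
  first | (have := @Cfsg.Agent.H46.S95.Ind.eq_2.{0,0,0}) | (have := @Cfsg.Agent.H46.S95.Ind.eq_2.{0,0}) | (have := @Cfsg.Agent.H46.S95.Ind.eq_2.{0}) | (have := @Cfsg.Agent.H46.S95.Ind.eq_2) | skip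
  first | (have := @Cfsg.Agent.H46.S95.Ind.eq_unfold.{0,0,0}) | (have := @Cfsg.Agent.H46.S95.Ind.eq_unfold.{0,0}) | (have := @Cfsg.Agent.H46.S95.Ind.eq_unfold.{0}) | (have := @Cfsg.Agent.H46.S95.Ind.eq_unfold) | skip
  first | (have := @Cfsg.Agent.H46.S95.Ind.congr_simp.{0,0,0}) | (have := @Cfsg.Agent.H46.S95.Ind.congr_simp.{0,0}) | (have := @Cfsg.Agent.H46.S95.Ind.congr_simp.{0}) | (have := @Cfsg.Agent.H46.S95.Ind.congr_simp) | skip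
  first | (have := @Cfsg.Agent.H46.S95.Clo.eq_def.{0,0,0}) | (have := @Cfsg.Agent.H46.S95.Clo.eq_def.{0,0}) | (have := @Cfsg.Agent.H46.S95.Clo.eq_def.{0}) | (have := @Cfsg.Agent.H46.S95.Clo.eq_def) | skip
  first | (have := @Cfsg.Agent.H46.S95.Clo.eq_1.{0,0,0}) | (have := @Cfsg.Agent.H46.S95.Clo.eq_1.{0,0}) | (have := @Cfsg.Agent.H46.S95.Clo.eq_1.{0}) | (have := @Cfsg.Agent.H46.S95.Clo.eq_1) | skip
  first | (have := @Cfsg.Agent.H46.S95.Clo.eq_2.{0,0,0}) | (have := @Cfsg.Agent.H46.S95.Clo.eq_2.{0,0}) | (have := @Cfsg.Agent.H46.S95.Clo.eq_2.{0}) | (have := @Cfsg.Agent.H46.S95.Clo.eq_2) | skip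
  first | (have := @Cfsg.Agent.H46.S95.Clo.eq_unfold.{0,0,0}) | (have := @Cfsg.Agent.H46.S95.Clo.eq_unfold.{0,0}) | (have := @Cfsg.Agent.H46.S95.Clo.eq_unfold.{0}) | (have := @Cfsg.Agent.H46.S95.Clo.eq_unfold) | skip
  first | (have := @Cfsg.Agent.H46.S95.Clo.congr_simp.{0,0,0}) | (have := @Cfsg.Agent.H46.S95.Clo.congr_simp.{0,0}) | (have := @Cfsg.Agent.H46.S95.Clo.congr_simp.{0}) | (have := @Cfsg.Agent.H46.S95.Clo.congr_simp) | skip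
  first | (have := @Cfsg.Agent.H46.S95.CloE.eq_def.{0,0,0}) | (have := @Cfsg.Agent.H46.S95.CloE.eq_def.{0,0}) | (have := @Cfsg.Agent.H46.S95.CloE.eq_def.{0}) | (have := @Cfsg.Agent.H46.S95.CloE.eq_def) | skip
  first | (have := @Cfsg.Agent.H46.S95.CloE.eq_1.{0,0,0}) | (have := @Cfsg.Agent.H46.S95.CloE.eq_1.{0,0}) | (have := @Cfsg.Agent.H46.S95.CloE.eq_1.{0}) | (have := @Cfsg.Agent.H46.S95.CloE.eq_1) | skip
  first | (have := @Cfsg.Agent.H46.S95.CloE.eq_2.{0,0,0}) | (have := @Cfsg.Agent.H46.S95.CloE.eq_2.{0,0}) | (have := @Cfsg.Agent.H46.S95.CloE.eq_2.{0}) | (have := @Cfsg.Agent.H46.S95.CloE.eq_2) | skip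
  first | (have := @Cfsg.Agent.H46.S95.CloE.eq_unfold.{0,0,0}) | (have := @Cfsg.Agent.H46.S95.CloE.eq_unfold.{0,0}) | (have := @Cfsg.Agent.H46.S95.CloE.eq_unfold.{0}) | (have := @Cfsg.Agent.H46.S95.CloE.eq_unfold) | skip
  first | (have := @Cfsg.Agent.H46.S95.CloE.congr_simp.{0,0,0}) | (have := @Cfsg.Agent.H46.S95.CloE.congr_simp.{0,0}) | (have := @Cfsg.Agent.H46.S95.CloE.congr_simp.{0}) | (have := @Cfsg.Agent.H46.S95.CloE.congr_simp) | skip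
  first | (have := @Cfsg.Agent.H46.S95.Eta1.eq_def.{0,0,0}) | (have := @Cfsg.Agent.H46.S95.Eta1.eq_def.{0,0}) | (have := @Cfsg.Agent.H46.S95.Eta1.eq_def.{0}) | (have := @Cfsg.Agent.H46.S95.Eta1.eq_def) | skip
  first | (have := @Cfsg.Agent.H46.S95.Eta1.eq_1.{0,0,0}) | (have := @Cfsg.Agent.H46.S95.Eta1.eq_1.{0,0}) | (have := @Cfsg.Agent.H46.S95.Eta1.eq_1.{0}) | (have := @Cfsg.Agent.H46.S95.Eta1.eq_1) | skip
  first | (have := @Cfsg.Agent.H46.S95.Eta1.eq_2.{0,0,0}) | (have := @Cfsg.Agent.H46.S95.Eta1.eq_2.{0,0}) | (have := @Cfsg.Agent.H46.S95.Eta1.eq_2.{0}) | (have := @Cfsg.Agent.H46.S95.Eta1.eq_2) | skip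
  first | (have := @Cfsg.Agent.H46.S95.Eta1.eq_unfold.{0,0,0}) | (have := @Cfsg.Agent.H46.S95.Eta1.eq_unfold.{0,0}) | (have := @Cfsg.Agent.H46.S95.Eta1.eq_unfold.{0}) | (have := @Cfsg.Agent.H46.S95.Eta1.eq_unfold) | skip
  first | (have := @Cfsg.Agent.H46.S95.Eta1.congr_simp.{0,0,0}) | (have := @Cfsg.Agent.H46.S95.Eta1.congr_simp.{0,0}) | (have := @Cfsg.Agent.H46.S95.Eta1.congr_simp.{0}) | (have := @Cfsg.Agent.H46.S95.Eta1.congr_simp) | skip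
  first | (have := @Cfsg.Agent.H46.S95.Red1Stmt.eq_def.{0,0,0}) | (have := @Cfsg.Agent.H46.S95.Red1Stmt.eq_def.{0,0}) | (have := @Cfsg.Agent.H46.S95.Red1Stmt.eq_def.{0}) | (have := @Cfsg.Agent.H46.S95.Red1Stmt.eq_def) | skip
  first | (have := @Cfsg.Agent.H46.S95.Red1Stmt.eq_1.{0,0,0}) | (have := @Cfsg.Agent.H46.S95.Red1Stmt.eq_1.{0,0}) | (have := @Cfsg.Agent.H46.S95.Red1Stmt.eq_1.{0}) | (have := @Cfsg.Agent.H46.S95.Red1Stmt.eq_1) | skip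
  first | (have := @Cfsg.Agent.H46.S95.Red1Stmt.eq_2.{0,0,0}) | (have := @Cfsg.Agent.H46.S95.Red1Stmt.eq_2.{0,0}) | (have := @Cfsg.Agent.H46.S95.Red1Stmt.eq_2.{0}) | (have := @Cfsg.Agent.H46.S95.Red1Stmt.eq_2) | skip
  first | (have := @Cfsg.Agent.H46.S95.Red1Stmt.eq_unfold.{0,0,0}) | (have := @Cfsg.Agent.H46.S95.Red1Stmt.eq_unfold.{0,0}) | (have := @Cfsg.Agent.H46.S95.Red1Stmt.eq_unfold.{0}) | (have := @Cfsg.Agent.H46.S95.Red1Stmt.eq_unfold) | skip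
  first | (have := @Cfsg.Agent.H46.S95.Red1Stmt.congr_simp.{0,0,0}) | (have := @Cfsg.Agent.H46.S95.Red1Stmt.congr_simp.{0,0}) | (have := @Cfsg.Agent.H46.S95.Red1Stmt.congr_simp.{0}) | (have := @Cfsg.Agent.H46.S95.Red1Stmt.congr_simp) | skip
  first | (have := @Cfsg.Agent.H46.S95.RedLStmt.eq_def.{0,0,0}) | (have := @Cfsg.Agent.H46.S95.RedLStmt.eq_def.{0,0}) | (have := @Cfsg.Agent.H46.S95.RedLStmt.eq_def.{0}) | (have := @Cfsg.Agent.H46.S95.RedLStmt.eq_def) | skip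
  first | (have := @Cfsg.Agent.H46.S95.RedLStmt.eq_1.{0,0,0}) | (have := @Cfsg.Agent.H46.S95.RedLStmt.eq_1.{0,0}) | (have := @Cfsg.Agent.H46.S95.RedLStmt.eq_1.{0}) | (have := @Cfsg.Agent.H46.S95.RedLStmt.eq_1) | skip
  first | (have := @Cfsg.Agent.H46.S95.RedLStmt.eq_2.{0,0,0}) | (have := @Cfsg.Agent.H46.S95.RedLStmt.eq_2.{0,0}) | (have := @Cfsg.Agent.H46.S95.RedLStmt.eq_2.{0}) | (have := @Cfsg.Agent.H46.S95.RedLStmt.eq_2) | skip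
  first | (have := @Cfsg.Agent.H46.S95.RedLStmt.eq_unfold.{0,0,0}) | (have := @Cfsg.Agent.H46.S95.RedLStmt.eq_unfold.{0,0}) | (have := @Cfsg.Agent.H46.S95.RedLStmt.eq_unfold.{0}) | (have := @Cfsg.Agent.H46.S95.RedLStmt.eq_unfold) | skip
  first | (have := @Cfsg.Agent.H46.S95.RedLStmt.congr_simp.{0,0,0}) | (have := @Cfsg.Agent.H46.S95.RedLStmt.congr_simp.{0,0}) | (have := @Cfsg.Agent.H46.S95.RedLStmt.congr_simp.{0}) | (have := @Cfsg.Agent.H46.S95.RedLStmt.congr_simp) | skip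
  first | (have := @Cfsg.Agent.H46.S95.RedSStmt.eq_def.{0,0,0}) | (have := @Cfsg.Agent.H46.S95.RedSStmt.eq_def.{0,0}) | (have := @Cfsg.Agent.H46.S95.RedSStmt.eq_def.{0}) | (have := @Cfsg.Agent.H46.S95.RedSStmt.eq_def) | skip
  first | (have := @Cfsg.Agent.H46.S95.RedSStmt.eq_1.{0,0,0}) | (have := @Cfsg.Agent.H46.S95.RedSStmt.eq_1.{0,0}) | (have := @Cfsg.Agent.H46.S95.RedSStmt.eq_1.{0}) | (have := @Cfsg.Agent.H46.S95.RedSStmt.eq_1) | skip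
  first | (have := @Cfsg.Agent.H46.S95.RedSStmt.eq_2.{0,0,0}) | (have := @Cfsg.Agent.H46.S95.RedSStmt.eq_2.{0,0}) | (have := @Cfsg.Agent.H46.S95.RedSStmt.eq_2.{0}) | (have := @Cfsg.Agent.H46.S95.RedSStmt.eq_2) | skip
  first | (have := @Cfsg.Agent.H46.S95.RedSStmt.eq_unfold.{0,0,0}) | (have := @Cfsg.Agent.H46.S95.RedSStmt.eq_unfold.{0,0}) | (have := @Cfsg.Agent.H46.S95.RedSStmt.eq_unfold.{0}) | (have := @Cfsg.Agent.H46.S95.RedSStmt.eq_unfold) | skip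
  first | (have := @Cfsg.Agent.H46.S95.RedSStmt.congr_simp.{0,0,0}) | (have := @Cfsg.Agent.H46.S95.RedSStmt.congr_simp.{0,0}) | (have := @Cfsg.Agent.H46.S95.RedSStmt.congr_simp.{0}) | (have := @Cfsg.Agent.H46.S95.RedSStmt.congr_simp) | skip
  first | (have := @Cfsg.Agent.H46.S95.RedAStmt.eq_def.{0,0,0}) | (have := @Cfsg.Agent.H46.S95.RedAStmt.eq_def.{0,0}) | (have := @Cfsg.Agent.H46.S95.RedAStmt.eq_def.{0}) | (have := @Cfsg.Agent.H46.S95.RedAStmt.eq_def) | skip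
  first | (have := @Cfsg.Agent.H46.S95.RedAStmt.eq_1.{0,0,0}) | (have := @Cfsg.Agent.H46.S95.RedAStmt.eq_1.{0,0}) | (have := @Cfsg.Agent.H46.S95.RedAStmt.eq_1.{0}) | (have := @Cfsg.Agent.H46.S95.RedAStmt.eq_1) | skip
  first | (have := @Cfsg.Agent.H46.S95.RedAStmt.eq_2.{0,0,0}) | (have := @Cfsg.Agent.H46.S95.RedAStmt.eq_2.{0,0}) | (have := @Cfsg.Agent.H46.S95.RedAStmt.eq_2.{0}) | (have := @Cfsg.Agent.H46.S95.RedAStmt.eq_2) | skip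
  first | (have := @Cfsg.Agent.H46.S95.RedAStmt.eq_unfold.{0,0,0}) | (have := @Cfsg.Agent.H46.S95.RedAStmt.eq_unfold.{0,0}) | (have := @Cfsg.Agent.H46.S95.RedAStmt.eq_unfold.{0}) | (have := @Cfsg.Agent.H46.S95.RedAStmt.eq_unfold) | skip
  first | (have := @Cfsg.Agent.H46.S95.RedAStmt.congr_simp.{0,0,0}) | (have := @Cfsg.Agent.H46.S95.RedAStmt.congr_simp.{0,0}) | (have := @Cfsg.Agent.H46.S95.RedAStmt.congr_simp.{0}) | (have := @Cfsg.Agent.H46.S95.RedAStmt.congr_simp) | skip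
  first | (have := @Cfsg.Agent.H46.S95.RedCStmt.eq_def.{0,0,0}) | (have := @Cfsg.Agent.H46.S95.RedCStmt.eq_def.{0,0}) | (have := @Cfsg.Agent.H46.S95.RedCStmt.eq_def.{0}) | (have := @Cfsg.Agent.H46.S95.RedCStmt.eq_def) | skip
  first | (have := @Cfsg.Agent.H46.S95.RedCStmt.eq_1.{0,0,0}) | (have := @Cfsg.Agent.H46.S95.RedCStmt.eq_1.{0,0}) | (have := @Cfsg.Agent.H46.S95.RedCStmt.eq_1.{0}) | (have := @Cfsg.Agent.H46.S95.RedCStmt.eq_1) | skip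
  first | (have := @Cfsg.Agent.H46.S95.RedCStmt.eq_2.{0,0,0}) | (have := @Cfsg.Agent.H46.S95.RedCStmt.eq_2.{0,0}) | (have := @Cfsg.Agent.H46.S95.RedCStmt.eq_2.{0}) | (have := @Cfsg.Agent.H46.S95.RedCStmt.eq_2) | skip
  first | (have := @Cfsg.Agent.H46.S95.RedCStmt.eq_unfold.{0,0,0}) | (have := @Cfsg.Agent.H46.S95.RedCStmt.eq_unfold.{0,0}) | (have := @Cfsg.Agent.H46.S95.RedCStmt.eq_unfold.{0}) | (have := @Cfsg.Agent.H46.S95.RedCStmt.eq_unfold) | skip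
  first | (have := @Cfsg.Agent.H46.S95.RedCStmt.congr_simp.{0,0,0}) | (have := @Cfsg.Agent.H46.S95.RedCStmt.congr_simp.{0,0}) | (have := @Cfsg.Agent.H46.S95.RedCStmt.congr_simp.{0}) | (have := @Cfsg.Agent.H46.S95.RedCStmt.congr_simp) | skip
  first | (have := @Cfsg.Agent.H46.S95.StartStmt.eq_def.{0,0,0}) | (have := @Cfsg.Agent.H46.S95.StartStmt.eq_def.{0,0}) | (have := @Cfsg.Agent.H46.S95.StartStmt.eq_def.{0}) | (have := @Cfsg.Agent.H46.S95.StartStmt.eq_def) | skip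
  first | (have := @Cfsg.Agent.H46.S95.StartStmt.eq_1.{0,0,0}) | (have := @Cfsg.Agent.H46.S95.StartStmt.eq_1.{0,0}) | (have := @Cfsg.Agent.H46.S95.StartStmt.eq_1.{0}) | (have := @Cfsg.Agent.H46.S95.StartStmt.eq_1) | skip
  first | (have := @Cfsg.Agent.H46.S95.StartStmt.eq_2.{0,0,0}) | (have := @Cfsg.Agent.H46.S95.StartStmt.eq_2.{0,0}) | (have := @Cfsg.Agent.H46.S95.StartStmt.eq_2.{0}) | (have := @Cfsg.Agent.H46.S95.StartStmt.eq_2) | skip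
  first | (have := @Cfsg.Agent.H46.S95.StartStmt.eq_unfold.{0,0,0}) | (have := @Cfsg.Agent.H46.S95.StartStmt.eq_unfold.{0,0}) | (have := @Cfsg.Agent.H46.S95.StartStmt.eq_unfold.{0}) | (have := @Cfsg.Agent.H46.S95.StartStmt.eq_unfold) | skip
  first | (have := @Cfsg.Agent.H46.S95.StartStmt.congr_simp.{0,0,0}) | (have := @Cfsg.Agent.H46.S95.StartStmt.congr_simp.{0,0}) | (have := @Cfsg.Agent.H46.S95.StartStmt.congr_simp.{0}) | (have := @Cfsg.Agent.H46.S95.StartStmt.congr_simp) | skip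
  first | (have := @Cfsg.Agent.H46.S95.Start2Stmt.eq_def.{0,0,0}) | (have := @Cfsg.Agent.H46.S95.Start2Stmt.eq_def.{0,0}) | (have := @Cfsg.Agent.H46.S95.Start2Stmt.eq_def.{0}) | (have := @Cfsg.Agent.H46.S95.Start2Stmt.eq_def) | skip
  first | (have := @Cfsg.Agent.H46.S95.Start2Stmt.eq_1.{0,0,0}) | (have := @Cfsg.Agent.H46.S95.Start2Stmt.eq_1.{0,0}) | (have := @Cfsg.Agent.H46.S95.Start2Stmt.eq_1.{0}) | (have := @Cfsg.Agent.H46.S95.Start2Stmt.eq_1) | skip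
  first | (have := @Cfsg.Agent.H46.S95.Start2Stmt.eq_2.{0,0,0}) | (have := @Cfsg.Agent.H46.S95.Start2Stmt.eq_2.{0,0}) | (have := @Cfsg.Agent.H46.S95.Start2Stmt.eq_2.{0}) | (have := @Cfsg.Agent.H46.S95.Start2Stmt.eq_2) | skip
  first | (have := @Cfsg.Agent.H46.S95.Start2Stmt.eq_unfold.{0,0,0}) | (have := @Cfsg.Agent.H46.S95.Start2Stmt.eq_unfold.{0,0}) | (have := @Cfsg.Agent.H46.S95.Start2Stmt.eq_unfold.{0}) | (have := @Cfsg.Agent.H46.S95.Start2Stmt.eq_unfold) | skip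
  first | (have := @Cfsg.Agent.H46.S95.Start2Stmt.congr_simp.{0,0,0}) | (have := @Cfsg.Agent.H46.S95.Start2Stmt.congr_simp.{0,0}) | (have := @Cfsg.Agent.H46.S95.Start2Stmt.congr_simp.{0}) | (have := @Cfsg.Agent.H46.S95.Start2Stmt.congr_simp) | skip
  first | (have := @Cfsg.Agent.H46.S95.Hat1Stmt.eq_def.{0,0,0}) | (have := @Cfsg.Agent.H46.S95.Hat1Stmt.eq_def.{0,0}) | (have := @Cfsg.Agent.H46.S95.Hat1Stmt.eq_def.{0}) | (have := @Cfsg.Agent.H46.S95.Hat1Stmt.eq_def) | skip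
  first | (have := @Cfsg.Agent.H46.S95.Hat1Stmt.eq_1.{0,0,0}) | (have := @Cfsg.Agent.H46.S95.Hat1Stmt.eq_1.{0,0}) | (have := @Cfsg.Agent.H46.S95.Hat1Stmt.eq_1.{0}) | (have := @Cfsg.Agent.H46.S95.Hat1Stmt.eq_1) | skip
  first | (have := @Cfsg.Agent.H46.S95.Hat1Stmt.eq_2.{0,0,0}) | (have := @Cfsg.Agent.H46.S95.Hat1Stmt.eq_2.{0,0}) | (have := @Cfsg.Agent.H46.S95.Hat1Stmt.eq_2.{0}) | (have := @Cfsg.Agent.H46.S95.Hat1Stmt.eq_2) | skip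
  first | (have := @Cfsg.Agent.H46.S95.Hat1Stmt.eq_unfold.{0,0,0}) | (have := @Cfsg.Agent.H46.S95.Hat1Stmt.eq_unfold.{0,0}) | (have := @Cfsg.Agent.H46.S95.Hat1Stmt.eq_unfold.{0}) | (have := @Cfsg.Agent.H46.S95.Hat1Stmt.eq_unfold) | skip
  first | (have := @Cfsg.Agent.H46.S95.Hat1Stmt.congr_simp.{0,0,0}) | (have := @Cfsg.Agent.H46.S95.Hat1Stmt.congr_simp.{0,0}) | (have := @Cfsg.Agent.H46.S95.Hat1Stmt.congr_simp.{0}) | (have := @Cfsg.Agent.H46.S95.Hat1Stmt.congr_simp) | skip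
  first | (have := @Cfsg.Agent.H46.S95.Hat2Stmt.eq_def.{0,0,0}) | (have := @Cfsg.Agent.H46.S95.Hat2Stmt.eq_def.{0,0}) | (have := @Cfsg.Agent.H46.S95.Hat2Stmt.eq_def.{0}) | (have := @Cfsg.Agent.H46.S95.Hat2Stmt.eq_def) | skip
  first | (have := @Cfsg.Agent.H46.S95.Hat2Stmt.eq_1.{0,0,0}) | (have := @Cfsg.Agent.H46.S95.Hat2Stmt.eq_1.{0,0}) | (have := @Cfsg.Agent.H46.S95.Hat2Stmt.eq_1.{0}) | (have := @Cfsg.Agent.H46.S95.Hat2Stmt.eq_1) | skip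
  first | (have := @Cfsg.Agent.H46.S95.Hat2Stmt.eq_2.{0,0,0}) | (have := @Cfsg.Agent.H46.S95.Hat2Stmt.eq_2.{0,0}) | (have := @Cfsg.Agent.H46.S95.Hat2Stmt.eq_2.{0}) | (have := @Cfsg.Agent.H46.S95.Hat2Stmt.eq_2) | skip
  first | (have := @Cfsg.Agent.H46.S95.Hat2Stmt.eq_unfold.{0,0,0}) | (have := @Cfsg.Agent.H46.S95.Hat2Stmt.eq_unfold.{0,0}) | (have := @Cfsg.Agent.H46.S95.Hat2Stmt.eq_unfold.{0}) | (have := @Cfsg.Agent.H46.S95.Hat2Stmt.eq_unfold) | skip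
  first | (have := @Cfsg.Agent.H46.S95.Hat2Stmt.congr_simp.{0,0,0}) | (have := @Cfsg.Agent.H46.S95.Hat2Stmt.congr_simp.{0,0}) | (have := @Cfsg.Agent.H46.S95.Hat2Stmt.congr_simp.{0}) | (have := @Cfsg.Agent.H46.S95.Hat2Stmt.congr_simp) | skip
  first | (have := @Cfsg.Agent.H46.S95.HatStmt.eq_def.{0,0,0}) | (have := @Cfsg.Agent.H46.S95.HatStmt.eq_def.{0,0}) | (have := @Cfsg.Agent.H46.S95.HatStmt.eq_def.{0}) | (have := @Cfsg.Agent.H46.S95.HatStmt.eq_def) | skip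
  first | (have := @Cfsg.Agent.H46.S95.HatStmt.eq_1.{0,0,0}) | (have := @Cfsg.Agent.H46.S95.HatStmt.eq_1.{0,0}) | (have := @Cfsg.Agent.H46.S95.HatStmt.eq_1.{0}) | (have := @Cfsg.Agent.H46.S95.HatStmt.eq_1) | skip
  first | (have := @Cfsg.Agent.H46.S95.HatStmt.eq_2.{0,0,0}) | (have := @Cfsg.Agent.H46.S95.HatStmt.eq_2.{0,0}) | (have := @Cfsg.Agent.H46.S95.HatStmt.eq_2.{0}) | (have := @Cfsg.Agent.H46.S95.HatStmt.eq_2) | skip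
  first | (have := @Cfsg.Agent.H46.S95.HatStmt.eq_unfold.{0,0,0}) | (have := @Cfsg.Agent.H46.S95.HatStmt.eq_unfold.{0,0}) | (have := @Cfsg.Agent.H46.S95.HatStmt.eq_unfold.{0}) | (have := @Cfsg.Agent.H46.S95.HatStmt.eq_unfold) | skip
  first | (have := @Cfsg.Agent.H46.S95.HatStmt.congr_simp.{0,0,0}) | (have := @Cfsg.Agent.H46.S95.HatStmt.congr_simp.{0,0}) | (have := @Cfsg.Agent.H46.S95.HatStmt.congr_simp.{0}) | (have := @Cfsg.Agent.H46.S95.HatStmt.congr_simp) | skip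
  first | (have := @Cfsg.Agent.H46.S95.OnH1Stmt.eq_def.{0,0,0}) | (have := @Cfsg.Agent.H46.S95.OnH1Stmt.eq_def.{0,0}) | (have := @Cfsg.Agent.H46.S95.OnH1Stmt.eq_def.{0}) | (have := @Cfsg.Agent.H46.S95.OnH1Stmt.eq_def) | skip
  first | (have := @Cfsg.Agent.H46.S95.OnH1Stmt.eq_1.{0,0,0}) | (have := @Cfsg.Agent.H46.S95.OnH1Stmt.eq_1.{0,0}) | (have := @Cfsg.Agent.H46.S95.OnH1Stmt.eq_1.{0}) | (have := @Cfsg.Agent.H46.S95.OnH1Stmt.eq_1) | skip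
  first | (have := @Cfsg.Agent.H46.S95.OnH1Stmt.eq_2.{0,0,0}) | (have := @Cfsg.Agent.H46.S95.OnH1Stmt.eq_2.{0,0}) | (have := @Cfsg.Agent.H46.S95.OnH1Stmt.eq_2.{0}) | (have := @Cfsg.Agent.H46.S95.OnH1Stmt.eq_2) | skip
  first | (have := @Cfsg.Agent.H46.S95.OnH1Stmt.eq_unfold.{0,0,0}) | (have := @Cfsg.Agent.H46.S95.OnH1Stmt.eq_unfold.{0,0}) | (have := @Cfsg.Agent.H46.S95.OnH1Stmt.eq_unfold.{0}) | (have := @Cfsg.Agent.H46.S95.OnH1Stmt.eq_unfold) | skip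
  first | (have := @Cfsg.Agent.H46.S95.OnH1Stmt.congr_simp.{0,0,0}) | (have := @Cfsg.Agent.H46.S95.OnH1Stmt.congr_simp.{0,0}) | (have := @Cfsg.Agent.H46.S95.OnH1Stmt.congr_simp.{0}) | (have := @Cfsg.Agent.H46.S95.OnH1Stmt.congr_simp) | skip
  first | (have := @Cfsg.Agent.H46.S95.OnH2Stmt.eq_def.{0,0,0}) | (have := @Cfsg.Agent.H46.S95.OnH2Stmt.eq_def.{0,0}) | (have := @Cfsg.Agent.H46.S95.OnH2Stmt.eq_def.{0}) | (have := @Cfsg.Agent.H46.S95.OnH2Stmt.eq_def) | skip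
  first | (have := @Cfsg.Agent.H46.S95.OnH2Stmt.eq_1.{0,0,0}) | (have := @Cfsg.Agent.H46.S95.OnH2Stmt.eq_1.{0,0}) | (have := @Cfsg.Agent.H46.S95.OnH2Stmt.eq_1.{0}) | (have := @Cfsg.Agent.H46.S95.OnH2Stmt.eq_1) | skip
  first | (have := @Cfsg.Agent.H46.S95.OnH2Stmt.eq_2.{0,0,0}) | (have := @Cfsg.Agent.H46.S95.OnH2Stmt.eq_2.{0,0}) | (have := @Cfsg.Agent.H46.S95.OnH2Stmt.eq_2.{0}) | (have := @Cfsg.Agent.H46.S95.OnH2Stmt.eq_2) | skip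
  first | (have := @Cfsg.Agent.H46.S95.OnH2Stmt.eq_unfold.{0,0,0}) | (have := @Cfsg.Agent.H46.S95.OnH2Stmt.eq_unfold.{0,0}) | (have := @Cfsg.Agent.H46.S95.OnH2Stmt.eq_unfold.{0}) | (have := @Cfsg.Agent.H46.S95.OnH2Stmt.eq_unfold) | skip
  first | (have := @Cfsg.Agent.H46.S95.OnH2Stmt.congr_simp.{0,0,0}) | (have := @Cfsg.Agent.H46.S95.OnH2Stmt.congr_simp.{0,0}) | (have := @Cfsg.Agent.H46.S95.OnH2Stmt.congr_simp.{0}) | (have := @Cfsg.Agent.H46.S95.OnH2Stmt.congr_simp) | skip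
  first | (have := @Cfsg.Agent.H46.S95.LineStmt.eq_def.{0,0,0}) | (have := @Cfsg.Agent.H46.S95.LineStmt.eq_def.{0,0}) | (have := @Cfsg.Agent.H46.S95.LineStmt.eq_def.{0}) | (have := @Cfsg.Agent.H46.S95.LineStmt.eq_def) | skip
  first | (have := @Cfsg.Agent.H46.S95.LineStmt.eq_1.{0,0,0}) | (have := @Cfsg.Agent.H46.S95.LineStmt.eq_1.{0,0}) | (have := @Cfsg.Agent.H46.S95.LineStmt.eq_1.{0}) | (have := @Cfsg.Agent.H46.S95.LineStmt.eq_1) | skip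
  first | (have := @Cfsg.Agent.H46.S95.LineStmt.eq_2.{0,0,0}) | (have := @Cfsg.Agent.H46.S95.LineStmt.eq_2.{0,0}) | (have := @Cfsg.Agent.H46.S95.LineStmt.eq_2.{0}) | (have := @Cfsg.Agent.H46.S95.LineStmt.eq_2) | skip
  first | (have := @Cfsg.Agent.H46.S95.LineStmt.eq_unfold.{0,0,0}) | (have := @Cfsg.Agent.H46.S95.LineStmt.eq_unfold.{0,0}) | (have := @Cfsg.Agent.H46.S95.LineStmt.eq_unfold.{0}) | (have := @Cfsg.Agent.H46.S95.LineStmt.eq_unfold) | skip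
  first | (have := @Cfsg.Agent.H46.S95.LineStmt.congr_simp.{0,0,0}) | (have := @Cfsg.Agent.H46.S95.LineStmt.congr_simp.{0,0}) | (have := @Cfsg.Agent.H46.S95.LineStmt.congr_simp.{0}) | (have := @Cfsg.Agent.H46.S95.LineStmt.congr_simp) | skip
  first | (have := @Cfsg.Agent.H46.S95.Eta2Stmt.eq_def.{0,0,0}) | (have := @Cfsg.Agent.H46.S95.Eta2Stmt.eq_def.{0,0}) | (have := @Cfsg.Agent.H46.S95.Eta2Stmt.eq_def.{0}) | (have := @Cfsg.Agent.H46.S95.Eta2Stmt.eq_def) | skip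
  first | (have := @Cfsg.Agent.H46.S95.Eta2Stmt.eq_1.{0,0,0}) | (have := @Cfsg.Agent.H46.S95.Eta2Stmt.eq_1.{0,0}) | (have := @Cfsg.Agent.H46.S95.Eta2Stmt.eq_1.{0}) | (have := @Cfsg.Agent.H46.S95.Eta2Stmt.eq_1) | skip
  first | (have := @Cfsg.Agent.H46.S95.Eta2Stmt.eq_2.{0,0,0}) | (have := @Cfsg.Agent.H46.S95.Eta2Stmt.eq_2.{0,0}) | (have := @Cfsg.Agent.H46.S95.Eta2Stmt.eq_2.{0}) | (have := @Cfsg.Agent.H46.S95.Eta2Stmt.eq_2) | skip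
  first | (have := @Cfsg.Agent.H46.S95.Eta2Stmt.eq_unfold.{0,0,0}) | (have := @Cfsg.Agent.H46.S95.Eta2Stmt.eq_unfold.{0,0}) | (have := @Cfsg.Agent.H46.S95.Eta2Stmt.eq_unfold.{0}) | (have := @Cfsg.Agent.H46.S95.Eta2Stmt.eq_unfold) | skip
  first | (have := @Cfsg.Agent.H46.S95.Eta2Stmt.congr_simp.{0,0,0}) | (have := @Cfsg.Agent.H46.S95.Eta2Stmt.congr_simp.{0,0}) | (have := @Cfsg.Agent.H46.S95.Eta2Stmt.congr_simp.{0}) | (have := @Cfsg.Agent.H46.S95.Eta2Stmt.congr_simp) | skip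
  first | (have := @Cfsg.Agent.H46.S95.Eta3Stmt.eq_def.{0,0,0}) | (have := @Cfsg.Agent.H46.S95.Eta3Stmt.eq_def.{0,0}) | (have := @Cfsg.Agent.H46.S95.Eta3Stmt.eq_def.{0}) | (have := @Cfsg.Agent.H46.S95.Eta3Stmt.eq_def) | skip
  first | (have := @Cfsg.Agent.H46.S95.Eta3Stmt.eq_1.{0,0,0}) | (have := @Cfsg.Agent.H46.S95.Eta3Stmt.eq_1.{0,0}) | (have := @Cfsg.Agent.H46.S95.Eta3Stmt.eq_1.{0}) | (have := @Cfsg.Agent.H46.S95.Eta3Stmt.eq_1) | skip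
  first | (have := @Cfsg.Agent.H46.S95.Eta3Stmt.eq_2.{0,0,0}) | (have := @Cfsg.Agent.H46.S95.Eta3Stmt.eq_2.{0,0}) | (have := @Cfsg.Agent.H46.S95.Eta3Stmt.eq_2.{0}) | (have := @Cfsg.Agent.H46.S95.Eta3Stmt.eq_2) | skip
  first | (have := @Cfsg.Agent.H46.S95.Eta3Stmt.eq_unfold.{0,0,0}) | (have := @Cfsg.Agent.H46.S95.Eta3Stmt.eq_unfold.{0,0}) | (have := @Cfsg.Agent.H46.S95.Eta3Stmt.eq_unfold.{0}) | (have := @Cfsg.Agent.H46.S95.Eta3Stmt.eq_unfold) | skip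
  first | (have := @Cfsg.Agent.H46.S95.Eta3Stmt.congr_simp.{0,0,0}) | (have := @Cfsg.Agent.H46.S95.Eta3Stmt.congr_simp.{0,0}) | (have := @Cfsg.Agent.H46.S95.Eta3Stmt.congr_simp.{0}) | (have := @Cfsg.Agent.H46.S95.Eta3Stmt.congr_simp) | skip
  first | (have := @Cfsg.Agent.H46.S95.WrStmt.eq_def.{0,0,0}) | (have := @Cfsg.Agent.H46.S95.WrStmt.eq_def.{0,0}) | (have := @Cfsg.Agent.H46.S95.WrStmt.eq_def.{0}) | (have := @Cfsg.Agent.H46.S95.WrStmt.eq_def) | skip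
  first | (have := @Cfsg.Agent.H46.S95.WrStmt.eq_1.{0,0,0}) | (have := @Cfsg.Agent.H46.S95.WrStmt.eq_1.{0,0}) | (have := @Cfsg.Agent.H46.S95.WrStmt.eq_1.{0}) | (have := @Cfsg.Agent.H46.S95.WrStmt.eq_1) | skip
  first | (have := @Cfsg.Agent.H46.S95.WrStmt.eq_2.{0,0,0}) | (have := @Cfsg.Agent.H46.S95.WrStmt.eq_2.{0,0}) | (have := @Cfsg.Agent.H46.S95.WrStmt.eq_2.{0}) | (have := @Cfsg.Agent.H46.S95.WrStmt.eq_2) | skip
  first | (have := @Cfsg.Agent.H46.S95.WrStmt.eq_unfold.{0,0,0}) | (have := @Cfsg.Agent.H46.S95.WrStmt.eq_unfold.{0,0}) | (have := @Cfsg.Agent.H46.S95.WrStmt.eq_unfold.{0}) | (have := @Cfsg.Agent.H46.S95.WrStmt.eq_unfold) | skip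
  first | (have := @Cfsg.Agent.H46.S95.WrStmt.congr_simp.{0,0,0}) | (have := @Cfsg.Agent.H46.S95.WrStmt.congr_simp.{0,0}) | (have := @Cfsg.Agent.H46.S95.WrStmt.congr_simp.{0}) | (have := @Cfsg.Agent.H46.S95.WrStmt.congr_simp) | skip
  first | (have := @Cfsg.Agent.H46.S95.EKStmt.eq_def.{0,0,0}) | (have := @Cfsg.Agent.H46.S95.EKStmt.eq_def.{0,0}) | (have := @Cfsg.Agent.H46.S95.EKStmt.eq_def.{0}) | (have := @Cfsg.Agent.H46.S95.EKStmt.eq_def) | skip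
  first | (have := @Cfsg.Agent.H46.S95.EKStmt.eq_1.{0,0,0}) | (have := @Cfsg.Agent.H46.S95.EKStmt.eq_1.{0,0}) | (have := @Cfsg.Agent.H46.S95.EKStmt.eq_1.{0}) | (have := @Cfsg.Agent.H46.S95.EKStmt.eq_1) | skip
  first | (have := @Cfsg.Agent.H46.S95.EKStmt.eq_2.{0,0,0}) | (have := @Cfsg.Agent.H46.S95.EKStmt.eq_2.{0,0}) | (have := @Cfsg.Agent.H46.S95.EKStmt.eq_2.{0}) | (have := @Cfsg.Agent.H46.S95.EKStmt.eq_2) | skip
  first | (have := @Cfsg.Agent.H46.S95.EKStmt.eq_unfold.{0,0,0}) | (have := @Cfsg.Agent.H46.S95.EKStmt.eq_unfold.{0,0}) | (have := @Cfsg.Agent.H46.S95.EKStmt.eq_unfold.{0}) | (have := @Cfsg.Agent.H46.S95.EKStmt.eq_unfold) | skip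
  first | (have := @Cfsg.Agent.H46.S95.EKStmt.congr_simp.{0,0,0}) | (have := @Cfsg.Agent.H46.S95.EKStmt.congr_simp.{0,0}) | (have := @Cfsg.Agent.H46.S95.EKStmt.congr_simp.{0}) | (have := @Cfsg.Agent.H46.S95.EKStmt.congr_simp) | skip
  first | (have := @Cfsg.Agent.H46.S95.E3Stmt.eq_def.{0,0,0}) | (have := @Cfsg.Agent.H46.S95.E3Stmt.eq_def.{0,0}) | (have := @Cfsg.Agent.H46.S95.E3Stmt.eq_def.{0}) | (have := @Cfsg.Agent.H46.S95.E3Stmt.eq_def) | skip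
  first | (have := @Cfsg.Agent.H46.S95.E3Stmt.eq_1.{0,0,0}) | (have := @Cfsg.Agent.H46.S95.E3Stmt.eq_1.{0,0}) | (have := @Cfsg.Agent.H46.S95.E3Stmt.eq_1.{0}) | (have := @Cfsg.Agent.H46.S95.E3Stmt.eq_1) | skip
  first | (have := @Cfsg.Agent.H46.S95.E3Stmt.eq_2.{0,0,0}) | (have := @Cfsg.Agent.H46.S95.E3Stmt.eq_2.{0,0}) | (have := @Cfsg.Agent.H46.S95.E3Stmt.eq_2.{0}) | (have := @Cfsg.Agent.H46.S95.E3Stmt.eq_2) | skip
  first | (have := @Cfsg.Agent.H46.S95.E3Stmt.eq_unfold.{0,0,0}) | (have := @Cfsg.Agent.H46.S95.E3Stmt.eq_unfold.{0,0}) | (have := @Cfsg.Agent.H46.S95.E3Stmt.eq_unfold.{0}) | (have := @Cfsg.Agent.H46.S95.E3Stmt.eq_unfold) | skip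
  first | (have := @Cfsg.Agent.H46.S95.E3Stmt.congr_simp.{0,0,0}) | (have := @Cfsg.Agent.H46.S95.E3Stmt.congr_simp.{0,0}) | (have := @Cfsg.Agent.H46.S95.E3Stmt.congr_simp.{0}) | (have := @Cfsg.Agent.H46.S95.E3Stmt.congr_simp) | skip
  first | (have := @Cfsg.Agent.H46.S95.E4Stmt.eq_def.{0,0,0}) | (have := @Cfsg.Agent.H46.S95.E4Stmt.eq_def.{0,0}) | (have := @Cfsg.Agent.H46.S95.E4Stmt.eq_def.{0}) | (have := @Cfsg.Agent.H46.S95.E4Stmt.eq_def) | skip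
  first | (have := @Cfsg.Agent.H46.S95.E4Stmt.eq_1.{0,0,0}) | (have := @Cfsg.Agent.H46.S95.E4Stmt.eq_1.{0,0}) | (have := @Cfsg.Agent.H46.S95.E4Stmt.eq_1.{0}) | (have := @Cfsg.Agent.H46.S95.E4Stmt.eq_1) | skip
  first | (have := @Cfsg.Agent.H46.S95.E4Stmt.eq_2.{0,0,0}) | (have := @Cfsg.Agent.H46.S95.E4Stmt.eq_2.{0,0}) | (have := @Cfsg.Agent.H46.S95.E4Stmt.eq_2.{0}) | (have := @Cfsg.Agent.H46.S95.E4Stmt.eq_2) | skip
  first | (have := @Cfsg.Agent.H46.S95.E4Stmt.eq_unfold.{0,0,0}) | (have := @Cfsg.Agent.H46.S95.E4Stmt.eq_unfold.{0,0}) | (have := @Cfsg.Agent.H46.S95.E4Stmt.eq_unfold.{0}) | (have := @Cfsg.Agent.H46.S95.E4Stmt.eq_unfold) | skip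
  first | (have := @Cfsg.Agent.H46.S95.E4Stmt.congr_simp.{0,0,0}) | (have := @Cfsg.Agent.H46.S95.E4Stmt.congr_simp.{0,0}) | (have := @Cfsg.Agent.H46.S95.E4Stmt.congr_simp.{0}) | (have := @Cfsg.Agent.H46.S95.E4Stmt.congr_simp) | skip
  first | (have := @Cfsg.Agent.H46.S95.TTStmt.eq_def.{0,0,0}) | (have := @Cfsg.Agent.H46.S95.TTStmt.eq_def.{0,0}) | (have := @Cfsg.Agent.H46.S95.TTStmt.eq_def.{0}) | (have := @Cfsg.Agent.H46.S95.TTStmt.eq_def) | skip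
  first | (have := @Cfsg.Agent.H46.S95.TTStmt.eq_1.{0,0,0}) | (have := @Cfsg.Agent.H46.S95.TTStmt.eq_1.{0,0}) | (have := @Cfsg.Agent.H46.S95.TTStmt.eq_1.{0}) | (have := @Cfsg.Agent.H46.S95.TTStmt.eq_1) | skip
  first | (have := @Cfsg.Agent.H46.S95.TTStmt.eq_2.{0,0,0}) | (have := @Cfsg.Agent.H46.S95.TTStmt.eq_2.{0,0}) | (have := @Cfsg.Agent.H46.S95.TTStmt.eq_2.{0}) | (have := @Cfsg.Agent.H46.S95.TTStmt.eq_2) | skip
  first | (have := @Cfsg.Agent.H46.S95.TTStmt.eq_unfold.{0,0,0}) | (have := @Cfsg.Agent.H46.S95.TTStmt.eq_unfold.{0,0}) | (have := @Cfsg.Agent.H46.S95.TTStmt.eq_unfold.{0}) | (have := @Cfsg.Agent.H46.S95.TTStmt.eq_unfold) | skip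
  first | (have := @Cfsg.Agent.H46.S95.TTStmt.congr_simp.{0,0,0}) | (have := @Cfsg.Agent.H46.S95.TTStmt.congr_simp.{0,0}) | (have := @Cfsg.Agent.H46.S95.TTStmt.congr_simp.{0}) | (have := @Cfsg.Agent.H46.S95.TTStmt.congr_simp) | skip
  first | (have := @Cfsg.Agent.H46.S95.E5Stmt.eq_def.{0,0,0}) | (have := @Cfsg.Agent.H46.S95.E5Stmt.eq_def.{0,0}) | (have := @Cfsg.Agent.H46.S95.E5Stmt.eq_def.{0}) | (have := @Cfsg.Agent.H46.S95.E5Stmt.eq_def) | skip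
  first | (have := @Cfsg.Agent.H46.S95.E5Stmt.eq_1.{0,0,0}) | (have := @Cfsg.Agent.H46.S95.E5Stmt.eq_1.{0,0}) | (have := @Cfsg.Agent.H46.S95.E5Stmt.eq_1.{0}) | (have := @Cfsg.Agent.H46.S95.E5Stmt.eq_1) | skip
  first | (have := @Cfsg.Agent.H46.S95.E5Stmt.eq_2.{0,0,0}) | (have := @Cfsg.Agent.H46.S95.E5Stmt.eq_2.{0,0}) | (have := @Cfsg.Agent.H46.S95.E5Stmt.eq_2.{0}) | (have := @Cfsg.Agent.H46.S95.E5Stmt.eq_2) | skip
  first | (have := @Cfsg.Agent.H46.S95.E5Stmt.eq_unfold.{0,0,0}) | (have := @Cfsg.Agent.H46.S95.E5Stmt.eq_unfold.{0,0}) | (have := @Cfsg.Agent.H46.S95.E5Stmt.eq_unfold.{0}) | (have := @Cfsg.Agent.H46.S95.E5Stmt.eq_unfold) | skip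
  first | (have := @Cfsg.Agent.H46.S95.E5Stmt.congr_simp.{0,0,0}) | (have := @Cfsg.Agent.H46.S95.E5Stmt.congr_simp.{0,0}) | (have := @Cfsg.Agent.H46.S95.E5Stmt.congr_simp.{0}) | (have := @Cfsg.Agent.H46.S95.E5Stmt.congr_simp) | skip
  first | (have := @Cfsg.Agent.H46.S95.E6Stmt.eq_def.{0,0,0}) | (have := @Cfsg.Agent.H46.S95.E6Stmt.eq_def.{0,0}) | (have := @Cfsg.Agent.H46.S95.E6Stmt.eq_def.{0}) | (have := @Cfsg.Agent.H46.S95.E6Stmt.eq_def) | skip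
  first | (have := @Cfsg.Agent.H46.S95.E6Stmt.eq_1.{0,0,0}) | (have := @Cfsg.Agent.H46.S95.E6Stmt.eq_1.{0,0}) | (have := @Cfsg.Agent.H46.S95.E6Stmt.eq_1.{0}) | (have := @Cfsg.Agent.H46.S95.E6Stmt.eq_1) | skip
  first | (have := @Cfsg.Agent.H46.S95.E6Stmt.eq_2.{0,0,0}) | (have := @Cfsg.Agent.H46.S95.E6Stmt.eq_2.{0,0}) | (have := @Cfsg.Agent.H46.S95.E6Stmt.eq_2.{0}) | (have := @Cfsg.Agent.H46.S95.E6Stmt.eq_2) | skip
  first | (have := @Cfsg.Agent.H46.S95.E6Stmt.eq_unfold.{0,0,0}) | (have := @Cfsg.Agent.H46.S95.E6Stmt.eq_unfold.{0,0}) | (have := @Cfsg.Agent.H46.S95.E6Stmt.eq_unfold.{0}) | (have := @Cfsg.Agent.H46.S95.E6Stmt.eq_unfold) | skip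
  first | (have := @Cfsg.Agent.H46.S95.E6Stmt.congr_simp.{0,0,0}) | (have := @Cfsg.Agent.H46.S95.E6Stmt.congr_simp.{0,0}) | (have := @Cfsg.Agent.H46.S95.E6Stmt.congr_simp.{0}) | (have := @Cfsg.Agent.H46.S95.E6Stmt.congr_simp) | skip
  first | (have := @Cfsg.Agent.H46.S95.E7Stmt.eq_def.{0,0,0}) | (have := @Cfsg.Agent.H46.S95.E7Stmt.eq_def.{0,0}) | (have := @Cfsg.Agent.H46.S95.E7Stmt.eq_def.{0}) | (have := @Cfsg.Agent.H46.S95.E7Stmt.eq_def) | skip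
  first | (have := @Cfsg.Agent.H46.S95.E7Stmt.eq_1.{0,0,0}) | (have := @Cfsg.Agent.H46.S95.E7Stmt.eq_1.{0,0}) | (have := @Cfsg.Agent.H46.S95.E7Stmt.eq_1.{0}) | (have := @Cfsg.Agent.H46.S95.E7Stmt.eq_1) | skip
  first | (have := @Cfsg.Agent.H46.S95.E7Stmt.eq_2.{0,0,0}) | (have := @Cfsg.Agent.H46.S95.E7Stmt.eq_2.{0,0}) | (have := @Cfsg.Agent.H46.S95.E7Stmt.eq_2.{0}) | (have := @Cfsg.Agent.H46.S95.E7Stmt.eq_2) | skip
  first | (have := @Cfsg.Agent.H46.S95.E7Stmt.eq_unfold.{0,0,0}) | (have := @Cfsg.Agent.H46.S95.E7Stmt.eq_unfold.{0,0}) | (have := @Cfsg.Agent.H46.S95.E7Stmt.eq_unfold.{0}) | (have := @Cfsg.Agent.H46.S95.E7Stmt.eq_unfold) | skip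
  first | (have := @Cfsg.Agent.H46.S95.E7Stmt.congr_simp.{0,0,0}) | (have := @Cfsg.Agent.H46.S95.E7Stmt.congr_simp.{0,0}) | (have := @Cfsg.Agent.H46.S95.E7Stmt.congr_simp.{0}) | (have := @Cfsg.Agent.H46.S95.E7Stmt.congr_simp) | skip
  first | (have := @Cfsg.Agent.H46.S95.EndStmt.eq_def.{0,0,0}) | (have := @Cfsg.Agent.H46.S95.EndStmt.eq_def.{0,0}) | (have := @Cfsg.Agent.H46.S95.EndStmt.eq_def.{0}) | (have := @Cfsg.Agent.H46.S95.EndStmt.eq_def) | skip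
  first | (have := @Cfsg.Agent.H46.S95.EndStmt.eq_1.{0,0,0}) | (have := @Cfsg.Agent.H46.S95.EndStmt.eq_1.{0,0}) | (have := @Cfsg.Agent.H46.S95.EndStmt.eq_1.{0}) | (have := @Cfsg.Agent.H46.S95.EndStmt.eq_1) | skip
  first | (have := @Cfsg.Agent.H46.S95.EndStmt.eq_2.{0,0,0}) | (have := @Cfsg.Agent.H46.S95.EndStmt.eq_2.{0,0}) | (have := @Cfsg.Agent.H46.S95.EndStmt.eq_2.{0}) | (have := @Cfsg.Agent.H46.S95.EndStmt.eq_2) | skip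
  first | (have := @Cfsg.Agent.H46.S95.EndStmt.eq_unfold.{0,0,0}) | (have := @Cfsg.Agent.H46.S95.EndStmt.eq_unfold.{0,0}) | (have := @Cfsg.Agent.H46.S95.EndStmt.eq_unfold.{0}) | (have := @Cfsg.Agent.H46.S95.EndStmt.eq_unfold) | skip
  first | (have := @Cfsg.Agent.H46.S95.EndStmt.congr_simp.{0,0,0}) | (have := @Cfsg.Agent.H46.S95.EndStmt.congr_simp.{0,0}) | (have := @Cfsg.Agent.H46.S95.EndStmt.congr_simp.{0}) | (have := @Cfsg.Agent.H46.S95.EndStmt.congr_simp) | skip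
  trivial

end Cfsg.Agent.H46.S95
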