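import Cfsg.Agent.H46.TKit

/-!
# Project S94, piece E6: an involution commuting with `t` that induces an outer automorphism
-/

set_option autoImplicit false
set_option linter.unusedSectionVars false
open scoped Pointwise commutatorElement
open Subgroup

namespace Cfsg.Agent.H46.TE6
open Cfsg.Agent.H46.S94 Cfsg.Agent.H23.D2

universe u

local notation "C[" A "]" => Subgroup.centralizer (SetLike.coe A)
local notation "N[" A "]" => Subgroup.normalizer (SetLike.coe A)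

variable {Γ : Type} [Group Γ] {G : Type u} [Group G] [Finite G] {φ : Γ →* G} {t : G}
  {B : Subgroup G} {d : B →* Γ}

theorem ind_mul {h k : G} {α β : MulAut Γ} (hk : k ∈ N[B]) (a : Ind d h α) (b : Ind d k β) :
    Ind d (h * k) (α * β) := fun x y e => by
  rw [MulAut.mul_apply, ← b x ⟨_, norm_conj hk x.2⟩ rfl]
  exact a _ y (by rw [e]; simp only; group)

theorem ind_inv {h : G} {α : MulAut Γ} (a : Ind d h α) : Ind d h⁻¹ α⁻¹ := fun x y e => by
  rw [a y x (by rw [e]; group), MulAut.inv_apply_self]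

theorem ind_pow {h : G} {α : MulAut Γ} (hh : h ∈ N[B]) (a : Ind d h α) (n : ℕ) :
    Ind d (h ^ n) (α ^ n) := by
  induction n with
  | zero => intro x y e; rw [show y = x from Subtype.ext (by simpa using e)]; simp
  | succ n ih => rw [pow_succ, pow_succ]; exact ind_mul hh ih a

theorem ind_C {c : G} (hc : c ∈ C[B]) : Ind d c 1 := fun x y e => by
  rw [show y = x from Subtype.ext (by rw [e, ← mem_C.1 hc x x.2]; group)]; rfl

theorem ind_B (b : B) : Ind d b (MulAut.conj (d b)) := fun x y e => by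
  rw [show y = b * x * b⁻¹ from Subtype.ext e, map_mul, map_mul, map_inv, MulAut.conj_apply]

variable (tt : t * t = 1)
include tt

theorem mem_Bt {x : G} : x ∈ MulAut.conj t • B ↔ t * x * t ∈ B := by
  rw [mem_conj, inv_eq_of_mul_eq_one_right tt]

theorem tc (x : G) : t * (t * x) = x := by rw [← mul_assoc, tt, one_mul]

theorem tB {b : G} (hb : b ∈ B) : t * b * t ∈ MulAut.conj t • B :=
  (mem_Bt tt).2 (by simpa only [mul_assoc, tc tt, tt, mul_one] using hb)

theorem mem_H0 {h : G} : h ∈ H0 t B ↔ h ∈ N[B] ∧ t * h * t ∈ N[B] := by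
  have ti := inv_eq_of_mul_eq_one_right tt
  refine and_congr_right fun _ => ⟨fun e => mem_N_of fun x hx => ?_, fun e => mem_N_of fun x hx => ?_⟩
  · simpa only [mul_inv_rev, ti, mul_assoc] using (mem_Bt tt).1 (norm_conj e (tB tt hx))
  · refine (mem_Bt tt).2 ?_
    simpa only [mul_inv_rev, ti, mul_assoc, tc tt] using norm_conj e ((mem_Bt tt).1 hx)

theorem mem_CX {c : G} : c ∈ C[XX t B] ↔ c ∈ C[B] ∧ t * c * t ∈ C[B] := by
  refine ⟨fun e => ⟨centralizer_le (show B ≤ XX t B from le_sup_left) e, mem_C.2 fun x hx => ?_⟩,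
    fun ⟨e1, e2⟩ => le_centralizer_iff.1 (show XX t B ≤ C[zpowers c] from sup_le ?_ ?_) (mem_zpowers c)⟩
  · have := congrArg (fun y => t * y * t) (mem_C.1 e _ (mem_sup_right (tB tt hx)))
    simpa only [mul_assoc, tc tt, tt, mul_one] using this
  · exact le_centralizer_iff.1 (zpowers_le.2 e1)
  · refine le_centralizer_iff.1 (zpowers_le.2 (mem_C.2 fun x hx => ?_))
    have := congrArg (fun y => t * y * t) (mem_C.1 e2 _ ((mem_Bt tt).1 hx))
    simpa only [mul_assoc, tc tt, tt, mul_one] using this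

theorem tw (x : G) : t * (t * x * t) * t = x := by simp only [mul_assoc, tc tt, tt, mul_one]

theorem tmul (x y : G) : t * (x * y) * t = t * x * t * (t * y * t) := by simp only [mul_assoc, tc tt]

theorem CX_t {c : G} (hc : c ∈ C[XX t B]) : t * c * t ∈ C[XX t B] :=
  (mem_CX tt).2 ⟨((mem_CX tt).1 hc).2, (tw tt c).symm ▸ ((mem_CX tt).1 hc).1⟩

theorem CX_H0 {c : G} (hc : c ∈ C[XX t B]) : c ∈ H0 t B :=
  (mem_H0 tt).2 ⟨centralizer_le_normalizer _ ((mem_CX tt).1 hc).1,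
    centralizer_le_normalizer _ ((mem_CX tt).1 hc).2⟩

variable (w : Wr φ t B)
include w

omit tt in
theorem tB_C {b : G} (hb : b ∈ B) : t * b * t ∈ C[B] := mem_C.2 fun x hx => w.comm x hx b hb

theorem B_H0 {b : G} (hb : b ∈ B) : b ∈ H0 t B :=
  (mem_H0 tt).2 ⟨le_normalizer hb, centralizer_le_normalizer _ (tB_C w hb)⟩

theorem tB_H0 {b : G} (hb : b ∈ B) : t * b * t ∈ H0 t B :=
  (mem_H0 tt).2 ⟨centralizer_le_normalizer _ (tB_C w hb), (tw tt b).symm ▸ le_normalizer hb⟩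

variable (k : EK φ t B d)
include k

/-- Elements that are inner on both factors. -/
theorem dec {h : G} (hh : h ∈ H0 t B) {α β : MulAut Γ} (a : Ind d h α) (b : Ind d (t * h * t) β)
    (ia : Inn α) (ib : Inn β) : ∃ x ∈ B, ∃ y ∈ B, ∃ c ∈ C[XX t B], h = x * (t * y * t) * c := by
  obtain ⟨h1, h2⟩ := (mem_H0 tt).1 hh
  have key : ∀ {h : G} {α : MulAut Γ}, h ∈ N[B] → Ind d h α → Inn α → ∃ x ∈ B, x⁻¹ * h ∈ C[B] := by
    rintro h _ hh a ⟨g, rfl⟩
    obtain ⟨x, rfl⟩ := k.surj g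
    refine ⟨x, x.2, k.inn _ (mul_mem (le_normalizer (inv_mem x.2)) hh) ?_⟩
    simpa using ind_mul hh (ind_inv (ind_B x)) a
  obtain ⟨x, hx, e1⟩ := key h1 a ia
  obtain ⟨y, hy, e2⟩ := key h2 b ib
  refine ⟨x, hx, y, hy, (t * y * t)⁻¹ * (x⁻¹ * h), (mem_CX tt).2 ⟨mul_mem (inv_mem (tB_C w hy)) e1, ?_⟩,
    by group⟩
  have e3 : (t * y * t)⁻¹ * (x⁻¹ * h) = x⁻¹ * (t * y⁻¹ * t * h) := by
    rw [← mul_assoc, ← mul_inv_rev, w.comm x hx y hy, mul_inv_rev, mul_inv_rev, mul_inv_rev,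
      inv_eq_of_mul_eq_one_right tt]
    group
  rw [e3, tmul tt, tmul tt, tw tt]
  exact mul_mem (tB_C w (inv_mem hx)) e2

omit tt w k in
/-- **S94-E6** -/
theorem e6 : E6Stmt.{u} := by
  intro Γ _ G _ _ φ t F O B d mu hb oi as cx w k BF tF hn
  have tt := cx.tt
  have ti := cx.tinv
  have nF := as.normal
  have tF' : ∀ {x}, x ∈ F → t * x * t ∈ F := fun {x} hx => by simpa only [ti] using nF.conj_mem x hx t
  have od : ∀ {c}, c ∈ C[XX t B] → Odd (orderOf c) := fun {c} hc =>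
    k.codd.of_dvd_nat (orderOf_dvd_natCard _ hc)
  have tp : ∀ {m : ℕ}, Odd m → t ^ m = t := by
    rintro _ ⟨r, rfl⟩
    rw [pow_succ, pow_mul, pow_two, tt, one_pow, one_mul]
  have out : ∀ {α β : MulAut Γ}, ¬ Inn α → ¬ Inn β → Inn (α * β⁻¹) := fun {α β} h1 h2 =>
    ((hb.out α β⁻¹).resolve_left h1).resolve_left fun h => h2 (by simpa using h.inv)
  -- an element that is outer on both factors
  obtain ⟨e, he, eF, α, β, ea, eb, ia, ib⟩ : ∃ e ∈ H0 t B, (e ∈ F ∨ e * t ∈ F) ∧ ∃ α β, Ind d e α ∧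
      Ind d (t * e * t) β ∧ ¬ Inn α ∧ ¬ Inn β := by
    obtain ⟨f, ⟨f1, f2⟩, f3⟩ := SetLike.not_le_iff_exists.1 hn
    have J : ∀ x ∈ B, ∀ y ∈ B, x * (t * y * t) ∈ F := fun x hx y hy => mul_mem (BF hx) (tF' (BF hy))
    obtain ⟨g, g1, g2, g3⟩ : ∃ g ∈ H0 t B, (g ∈ F ∨ g * t ∈ F) ∧
        ¬ ∃ x ∈ B, ∃ y ∈ B, ∃ c ∈ C[XX t B], g = x * (t * y * t) * c := by
      rcases k.swap f f1 with h | h
      · refine ⟨f, h, .inl f2, ?_⟩
        rintro ⟨x, hx, y, hy, c, hc, rfl⟩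
        exact f3 (mul_mem (mem_sup_left (mul_mem (mem_sup_left hx) (mem_sup_right (tB tt hy))))
          (mem_sup_right hc))
      · refine ⟨f * t, h, .inr (by rwa [mul_assoc, tt, mul_one]), ?_⟩
        rintro ⟨x, hx, y, hy, c, hc, e⟩
        have h1 : c * t ∈ F := by
          have := mul_mem (inv_mem (J x hx y hy)) f2
          rwa [show f = x * (t * y * t) * c * t by rw [← e, mul_assoc, tt, mul_one], mul_assoc _ c,
            inv_mul_cancel_left] at this
        have h2 : (c : G ⧸ F) = (t : G ⧸ F) := by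
          have := (QuotientGroup.eq_one_iff _).2 h1
          rwa [QuotientGroup.mk_mul, mul_eq_one_iff_eq_inv, ← QuotientGroup.mk_inv, ti] at this
        refine tF ((QuotientGroup.eq_one_iff _).1 ?_)
        rw [← tp (od hc), QuotientGroup.mk_pow, ← h2, ← QuotientGroup.mk_pow, pow_orderOf_eq_one]
        rfl
    obtain ⟨g4, g5⟩ := (mem_H0 tt).1 g1
    obtain ⟨α, a⟩ := k.aut g g4
    obtain ⟨β, b⟩ := k.aut _ g5
    have g6 : g * (t * g * t) ∈ H0 t B :=
      mul_mem g1 ((mem_H0 tt).2 ⟨g5, (tw tt g).symm ▸ g4⟩)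
    have g7 : g * (t * g * t) ∈ F := g2.elim (fun h => mul_mem h (tF' h)) fun h => by
      simpa only [mul_assoc] using mul_mem h h
    have a' := ind_mul g5 a b
    have b' : Ind d (t * (g * (t * g * t)) * t) (β * α) := by
      rw [tmul tt, tw tt]; exact ind_mul g4 b a
    by_cases ia : Inn α
    · have ib : ¬ Inn β := fun ib => g3 (dec tt w k g1 a b ia ib)
      exact ⟨_, g6, .inl g7, _, _, a', b', fun h => ib (ia.of_mul_left h), fun h => ib (ia.of_mul_right h)⟩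
    by_cases ib : Inn β
    · exact ⟨_, g6, .inl g7, _, _, a', b', fun h => ia (ib.of_mul_right h), fun h => ia (ib.of_mul_left h)⟩
    exact ⟨g, g1, g2, α, β, a, b, ia, ib⟩
  obtain ⟨e1, e2⟩ := (mem_H0 tt).1 he
  have e3 : (t * e * t)⁻¹ = t * e⁻¹ * t := by simp only [mul_inv_rev, ti, mul_assoc]
  have e4 : e * (t * e * t)⁻¹ ∈ F := by
    rcases eF with h | h
    · exact mul_mem h (inv_mem (tF' h))
    · have := mul_mem h (inv_mem (tF' h))
      simpa only [mul_inv_rev, ti, mul_assoc, tc tt] using this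
  obtain ⟨x, hx, y, hy, c, hc, e5⟩ := dec tt w k
    (mul_mem he (inv_mem ((mem_H0 tt).2 ⟨e2, (tw tt e).symm ▸ e1⟩)))
    (ind_mul (inv_mem e2) ea (ind_inv eb))
    (β := β * α⁻¹) (by rw [tmul tt, e3, tw tt]; exact ind_mul (inv_mem e1) eb (ind_inv ea))
    (out ia ib) (out ib ia)
  have cF : c ∈ F := by
    have := mul_mem (inv_mem (mul_mem (BF hx) (tF' (BF hy)))) e4
    rwa [e5, inv_mul_cancel_left] at this
  have cB := ((mem_CX tt).1 hc).1
  have ctB := ((mem_CX tt).1 hc).2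
  -- `y e` conjugates `t` to `y x c t`
  have e6 : y * e * t * (y * e)⁻¹ = y * x * c * t := by
    have h1 : e * t * e⁻¹ = x * (t * y * t) * c * t := by
      rw [← e5, e3]; simp only [mul_assoc, tt, mul_one]
    have h2 := mem_C.1 ctB y hy
    calc _ = y * (e * t * e⁻¹) * y⁻¹ := by group
      _ = y * x * t * (y * (t * c * t)) * y⁻¹ := by rw [h1]; group
      _ = _ := by rw [h2]; simp only [mul_assoc, tc tt, mul_inv_cancel, mul_one]
  have e7 : y * x * c * t * (y * x * c * t) = 1 := by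
    rw [← e6, conj_mul, tt, mul_one, mul_inv_cancel]
  have hb' : y * x ∈ B := mul_mem hy hx
  have bC : y * x ∈ C[XX t B] := by
    refine (mem_CX tt).2 ⟨(k.cen ⟨_, hb'⟩).1 (hb.eq_one fun g => cx.inj ?_), tB_C w hb'⟩
    have h1 : y * x * (t * (y * x) * t) = (c * (t * c * t))⁻¹ := by
      refine eq_inv_of_mul_eq_one_left ?_
      have h2 := mem_C.1 hc _ (mem_sup_right (tB tt hb'))
      calc _ = y * x * (t * (y * x) * t * c) * (t * c * t) := by group
        _ = _ := by rw [h2, ← e7]; simp only [mul_assoc, tc tt]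
    obtain ⟨z, rfl⟩ := k.surj g
    rw [map_mul, map_mul, k.eq ⟨_, hb'⟩, k.eq z, h1]
    exact (mem_C.1 (inv_mem (mul_mem hc (CX_t tt hc))) _
      (mul_mem (mem_sup_left z.2) (mem_sup_right (tB tt z.2)))).symm
  obtain ⟨c', hc', c'F, e8, e9⟩ : ∃ c' ∈ C[XX t B], c' ∈ F ∧ y * e * t * (y * e)⁻¹ = c' * t ∧
      c' * t * (c' * t) = 1 := ⟨_, mul_mem bC hc, mul_mem (BF hb') cF, e6, e7⟩
  obtain ⟨r, hr⟩ := od hc'
  have e10 : t * c'⁻¹ * t⁻¹ = c' := by
    rw [ti, ← mul_right_inj t, ← mul_assoc, ← mul_assoc, tt, one_mul, inv_mul_eq_iff_eq_mul,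
      ← mul_left_inj t, tt, ← e9]
    group
  have e11 : c' ^ r * (y * e) * t = t * (c' ^ r * (y * e)) := by
    have h1 : t * (c' ^ r)⁻¹ = c' ^ r * t := by
      conv_rhs => rw [← e10, conj_pow, inv_pow, inv_mul_cancel_right]
    have h2 : c' ^ r * c' * c' ^ r = 1 := by
      rw [← pow_succ, ← pow_add, show r + 1 + r = 2 * r + 1 by ring, ← hr, pow_orderOf_eq_one]
    calc _ = c' ^ r * (y * e * t * (y * e)⁻¹) * (c' ^ r)⁻¹ * (c' ^ r * (y * e)) := by group
      _ = c' ^ r * c' * (t * (c' ^ r)⁻¹) * (c' ^ r * (y * e)) := by rw [e8]; group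
      _ = _ := by rw [h1, ← mul_assoc (c' ^ r * c'), h2, one_mul]
  have yN : y * e ∈ N[B] := mul_mem (le_normalizer hy) e1
  have i1 := ind_mul yN (ind_C (d := d) ((mem_CX tt).1 (pow_mem hc' r)).1) (ind_mul e1 (ind_B ⟨y, hy⟩) ea)
  rw [one_mul] at i1
  obtain ⟨α0, a1, a2, a3⟩ := oi
  obtain ⟨a, ha⟩ := out a2 (β := MulAut.conj (d ⟨y, hy⟩) * α) fun h => ia ((Inn.conj _).of_mul_left h)
  obtain ⟨z, rfl⟩ := k.surj a
  have eH : c' ^ r * (y * e) ∈ H0 t B := mul_mem (CX_H0 tt (pow_mem hc' r)) (mul_mem (B_H0 tt w hy) he)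
  obtain ⟨g, g1, g2, g3, g4⟩ : ∃ g ∈ H0 t B, g * t = t * g ∧ (g ∈ F ∨ g * t ∈ F) ∧ Ind d g α0 := by
    have h1 : (z : G) * (t * z * t) * c' ^ r * y ∈ F :=
      mul_mem (mul_mem (mul_mem (BF z.2) (tF' (BF z.2))) (pow_mem c'F r)) (BF hy)
    refine ⟨z * (t * z * t) * (c' ^ r * (y * e)),
      mul_mem (mul_mem (B_H0 tt w z.2) (tB_H0 tt w z.2)) eH, ?_, eF.imp (fun h => ?_) fun h => ?_, ?_⟩
    · rw [mul_assoc, e11, ← mul_assoc, ← k.eq z, cx.AC, mul_assoc]
    · simpa only [mul_assoc] using mul_mem h1 h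
    · simpa only [mul_assoc] using mul_mem h1 h
    · have := ind_mul eH.1 (ind_mul (centralizer_le_normalizer _ (tB_C w z.2)) (ind_B z)
        (ind_C (tB_C w z.2))) i1
      rwa [mul_one, ← ha, inv_mul_cancel_right] at this
  have g5 : g * g ∈ C[B] := k.inn _ (mul_mem g1.1 g1.1) (a1 ▸ ind_mul g1.1 g4 g4)
  have gc : Commute g t := g2
  have g6 := od ((mem_CX tt).2 ⟨g5, by rwa [← (gc.mul_left gc).eq, mul_assoc, tt, mul_one]⟩)
  refine ⟨g ^ orderOf (g * g), pow_mem g1 _, ?_, (gc.pow_left _).eq, g3.imp (fun h => pow_mem h _)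
    fun h => ?_, α0, ?_, a2, a3⟩
  · rw [← (Commute.refl g).mul_pow, pow_orderOf_eq_one]
  · rw [← tp g6, ← gc.mul_pow]
    exact pow_mem h _
  · have := ind_pow g1.1 g4 (orderOf (g * g))
    obtain ⟨m, hm⟩ := g6
    rwa [hm, pow_succ α0, pow_mul α0, pow_two, a1, one_pow, one_mul, ← hm] at this

end Cfsg.Agent.H46.TE6
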