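/-
The structure of the base group of the wreath product.
-/
import Cfsg.Agent.H46.TKit

set_option autoImplicit false
open scoped Pointwise commutatorElement
open Subgroup

namespace Cfsg.Agent.H46.TEk

open Cfsg.Agent.H46.S94 Cfsg.Agent.H23.D2

universe u

local notation "C[" A "]" => Subgroup.centralizer (SetLike.coe A)
local notation "N[" A "]" => Subgroup.normalizer (SetLike.coe A)

variable {Γ : Type} [Group Γ] {G : Type u} [Group G] {φ : Γ →* G} {t : G} {O B : Subgroup G}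

/-- an involution normalising a subgroup of even order centralises an involution of it -/
theorem fix_inv [Finite G] {N : Subgroup G} (ht : t * t = 1) (hn : ∀ x ∈ N, t * x * t ∈ N)
    (he : ¬ Odd (Nat.card N)) : ∃ u ∈ N, u ≠ 1 ∧ u * u = 1 ∧ u * t = t * u := by
  classical
  have : Fact (Nat.Prime 2) := ⟨Nat.prime_two⟩
  have := Fintype.ofFinite N
  let f : Function.End N := fun x => ⟨t * x * t, hn x x.2⟩
  have hf : f ^ 2 ^ 1 = 1 := by
    funext x
    refine Subtype.ext ?_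
    show t * (t * x * t) * t = x
    calc _ = (t * t) * x * (t * t) := by group
      _ = _ := by rw [ht]; group
  have h1 := Equiv.Perm.card_fixedPoints_modEq hf
  have h2 : Fintype.card (Function.fixedPoints f) =
      Nat.card (N ⊓ centralizer {t} : Subgroup G) := by
    rw [← Nat.card_eq_fintype_card]
    refine Nat.card_congr ⟨fun x => ⟨x.1.1, x.1.2, mem_centralizer_singleton_iff.2 ?_⟩,
      fun x => ⟨⟨x.1, x.2.1⟩, Subtype.ext ?_⟩, fun _ => rfl, fun _ => rfl⟩
    · have h3 : t * x.1.1 * t = x.1.1 := congrArg Subtype.val x.2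
      calc x.1.1 * t = t * x.1.1 * t * t := by rw [h3]
        _ = _ := by rw [mul_assoc, ht, mul_one]
    · show t * x.1 * t = x.1
      rw [← mem_centralizer_singleton_iff.1 x.2.2, mul_assoc, ht, mul_one]
  rw [h2, ← Nat.card_eq_fintype_card] at h1
  have h3 : 2 ∣ Nat.card (N ⊓ centralizer {t} : Subgroup G) :=
    (h1.dvd_iff dvd_rfl).1 (even_iff_two_dvd.1 (Nat.not_odd_iff_even.1 he))
  obtain ⟨u, hu⟩ := exists_prime_orderOf_dvd_card' 2 h3
  rw [← orderOf_coe] at hu
  refine ⟨u, u.2.1, fun e => ?_, ?_, mem_centralizer_singleton_iff.1 u.2.2⟩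
  · rw [e, orderOf_one] at hu; omega
  · rw [← pow_two, ← hu, pow_orderOf_eq_one]

/-- sections over subgroups of order prime to the kernel -/
theorem sec_ex {P A : Type*} [Group P] [Group A] [Finite P] {π : P →* A}
    (hs : Function.Surjective π) (hc : (Nat.card π.ker).Coprime (Nat.card A)) :
    ∃ s : A →* P, ∀ c, π (s c) = c := by
  obtain ⟨H, hH⟩ := exists_right_complement'_of_coprime (N := π.ker) (by
    rwa [index_ker, MonoidHom.range_eq_top.2 hs, card_top])
  let e := MulEquiv.ofBijective (π.comp H.subtype) ⟨(injective_iff_map_eq_one _).2 fun x hx =>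
    Subtype.ext ((disjoint_def.1 hH.disjoint) hx x.2), fun c => by
      obtain ⟨x, rfl⟩ := hs c
      obtain ⟨⟨a, b⟩, rfl⟩ := hH.2 x
      exact ⟨b, by simpa using MonoidHom.mem_ker.1 a.2⟩⟩
  exact ⟨H.subtype.comp e.symm.toMonoidHom, e.apply_symm_apply⟩

/-- a surjection from a direct product onto a simple group kills one factor -/
theorem kill (hb : Base Γ) {A : Type*} [Group A] (k : A × A →* Γ) (hk : Function.Surjective k) :
    (∀ b, k (b, 1) = 1) ∨ ∀ b, k (1, b) = 1 := by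
  have := hb.simple
  have hn : (k.comp (MonoidHom.inl A A)).range.Normal := ⟨by
    rintro _ ⟨b, rfl⟩ g
    obtain ⟨⟨c, c'⟩, rfl⟩ := hk g
    refine ⟨c * b * c⁻¹, ?_⟩
    simp only [MonoidHom.comp_apply, MonoidHom.inl_apply]
    rw [← map_inv, ← map_mul, ← map_mul]
    simp⟩
  refine (IsSimpleGroup.eq_bot_or_eq_top_of_normal _ hn).imp (fun e b => ?_) fun e b => ?_
  · exact mem_bot.1 (e ▸ (⟨b, rfl⟩ : k (b, 1) ∈ (k.comp (MonoidHom.inl A A)).range))
  · refine hb.eq_one fun x => ?_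
    obtain ⟨c, rfl⟩ : x ∈ (k.comp (MonoidHom.inl A A)).range := e ▸ mem_top x
    simp only [MonoidHom.comp_apply, MonoidHom.inl_apply]
    rw [← map_mul, ← map_mul]
    simp

theorem comm_central {a b z w : G} (h1 : Commute z a) (h2 : Commute z b) (h3 : Commute z w)
    (h4 : Commute w a) (h5 : Commute w b) : ⁅a * z, b * w⁆ = ⁅a, b⁆ := by
  rw [commutatorElement_def, commutatorElement_def]
  calc a * z * (b * w) * (a * z)⁻¹ * (b * w)⁻¹
      = a * (z * (b * w)) * z⁻¹ * (a⁻¹ * w⁻¹) * b⁻¹ := by group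
    _ = a * ((b * w) * z) * z⁻¹ * (w⁻¹ * a⁻¹) * b⁻¹ := by
      rw [(h2.mul_right h3).eq, (h4.inv_inv).eq]
    _ = _ := by group

theorem exists_d (hi : Function.Injective φ) (ht : t * t = 1) (hW : Wr φ t B) :
    ∃ d : B →* Γ, ∀ b : B, φ (d b) = b * (t * b * t) := by
  have e : ∀ b : B, φ (hW.into b b.2).choose = b * (t * b * t) := fun b =>
    (hW.into b b.2).choose_spec
  refine ⟨MonoidHom.mk' (fun b => (hW.into b b.2).choose) fun b c => hi ?_, e⟩
  rw [map_mul, e, e, e]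
  have := hW.comm c c.2 b b.2
  calc ((b * c : B) : G) * (t * ((b * c : B) : G) * t)
      = b * (c * (t * b * t)) * (t * c * t) := by
        rw [coe_mul]
        calc (b : G) * c * (t * (b * c) * t) = b * c * (t * (b * (t * t) * c) * t) := by
              rw [ht, mul_one]
          _ = _ := by group
    _ = _ := by rw [this]; group

theorem ek : EKStmt.{u} := by
  intro Γ _ G _ _ φ t O B hb hC hW
  have := hb.fin
  have tt := hC.tt
  have ti := hC.tinv
  have ttx : ∀ x : G, t * (t * x * t) * t = x := fun x => by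
    calc _ = (t * t) * x * (t * t) := by group
      _ = _ := by rw [tt]; group
  have tm : ∀ x y : G, t * (x * y) * t = t * x * t * (t * y * t) := fun x y => by
    calc _ = t * (x * (t * t) * y) * t := by rw [tt, mul_one]
      _ = _ := by group
  have tiv : ∀ x : G, t * x⁻¹ * t = (t * x * t)⁻¹ := fun x => by
    rw [mul_inv_rev, mul_inv_rev, ti, mul_assoc]
  have mB : ∀ {x : G}, x ∈ MulAut.conj t • B ↔ t * x * t ∈ B := fun {x} => by rw [mem_conj, ti]
  have mB' : ∀ {x : G}, x ∈ B → t * x * t ∈ MulAut.conj t • B := fun {x} hx => by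
    rwa [mB, ttx]
  obtain ⟨d, hd⟩ := exists_d hC.inj tt hW
  have surj : Function.Surjective d := fun a => by
    obtain ⟨b, h1, h2⟩ := hW.onto a
    exact ⟨⟨b, h1⟩, hC.inj ((hd _).trans h2)⟩
  have na : ¬ ∀ b ∈ B, ∀ c ∈ B, b * c = c * b := fun h => hb.nc ⟨⟨fun x y => by
    obtain ⟨b, rfl⟩ := surj x
    obtain ⟨c, rfl⟩ := surj y
    rw [← map_mul, ← map_mul]
    exact congrArg d (Subtype.ext (h b b.2 c c.2))⟩⟩
  have cen : ∀ b : B, d b = 1 ↔ (b : G) ∈ C[B] := fun b => by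
    refine ⟨fun h => mem_C.2 fun c hc => ?_, fun h => hb.eq_one fun x => ?_⟩
    · have h1 := hd b
      rw [h, map_one, eq_comm, mul_eq_one_iff_eq_inv, ← tiv] at h1
      rw [h1]
      exact hW.comm c hc _ (inv_mem b.2)
    · obtain ⟨c, rfl⟩ := surj x
      rw [← map_mul, ← map_mul]
      exact congrArg d (Subtype.ext (mem_C.1 h c c.2).symm)
  have inter : ∀ b : B, (b : G) ∈ MulAut.conj t • B → d b = 1 := fun b h =>
    (cen b).2 (mem_C.2 fun c hc => by
      have := hW.comm c hc _ (mB.1 h)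
      rwa [ttx] at this)
  have dec : ∀ x ∈ XX t B, ∃ b ∈ B, ∃ c ∈ B, x = b * (t * c * t) := by
    let Y : Subgroup G :=
      { carrier := {x | ∃ b ∈ B, ∃ c ∈ B, x = b * (t * c * t)}
        one_mem' := ⟨1, one_mem _, 1, one_mem _, by rw [mul_one, one_mul, tt]⟩
        mul_mem' := by
          rintro _ _ ⟨b, h1, c, h2, rfl⟩ ⟨b', h3, c', h4, rfl⟩
          refine ⟨b * b', mul_mem h1 h3, c * c', mul_mem h2 h4, ?_⟩
          calc b * (t * c * t) * (b' * (t * c' * t)) = b * (t * c * t * b') * (t * c' * t) := by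
                group
            _ = _ := by rw [← hW.comm b' h3 c h2, tm]; group
        inv_mem' := by
          rintro _ ⟨b, h1, c, h2, rfl⟩
          refine ⟨b⁻¹, inv_mem h1, c⁻¹, inv_mem h2, ?_⟩
          rw [hW.comm _ (inv_mem h1) _ (inv_mem h2), tiv, mul_inv_rev] }
    exact (sup_le (fun b h => ⟨b, h, 1, one_mem _, by rw [mul_one, tt, mul_one]⟩)
      fun b h => ⟨1, one_mem _, _, mB.1 h, by rw [ttx, one_mul]⟩ : XX t B ≤ Y)
  have mX : ∀ {b c : G}, b ∈ B → c ∈ B → b * (t * c * t) ∈ XX t B := fun h1 h2 =>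
    mul_mem (mem_sup_left h1) (mem_sup_right (mB' h2))
  have tX : ∀ x ∈ XX t B, t * x * t ∈ XX t B := fun x hx => by
    obtain ⟨b, h1, c, h2, rfl⟩ := dec x hx
    rw [tm, ttx, ← hW.comm c h2 b h1]
    exact mX h2 h1
  have tN : t ∈ N[XX t B] := mem_N_of fun x hx => by rw [ti]; exact tX x hx
  have kC : ∀ b : B, d b = 1 → (b : G) ∈ C[XX t B] := fun b h => mem_C.2 fun x hx => by
    obtain ⟨b', h1, c, h2, rfl⟩ := dec x hx
    rw [mul_assoc, ← hW.comm b b.2 c h2, ← mul_assoc, mem_C.1 ((cen b).1 h) b' h1, mul_assoc]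
  have kC' : ∀ b : B, d b = 1 → t * b * t ∈ C[XX t B] := fun b h => by
    have := C_conj tN (kC b h)
    rwa [ti] at this
  have codd : Odd (Nat.card C[XX t B]) := by
    by_contra he
    obtain ⟨u, h1, h2, h3, h4⟩ := fix_inv tt (fun x hx => by
      have := C_conj tN hx
      rwa [ti] at this) he
    rcases hC.two_cent h4 (mem_C_range.2 fun a => by
      obtain ⟨b, h5, h6⟩ := hW.onto a
      exact mem_C.1 h1 _ (h6 ▸ mX h5 h5)) (n := 1) (by rw [pow_one, pow_two, h3]) with e | e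
    · exact h2 e
    · refine na fun b h5 c h6 => ?_
      have h7 := hW.comm b h5 c h6
      rwa [← e, ← mem_C.1 h1 c (mem_sup_left h6), mul_assoc c, h3, mul_one] at h7
  have odd : Odd (Nat.card d.ker) := by
    refine codd.of_dvd_nat ?_
    rw [← card_map_of_injective (K := d.ker) B.subtype_injective]
    refine card_dvd_of_le ?_
    rintro _ ⟨b, h, rfl⟩
    exact kC b h
  have k1 : ∀ k : B, d k = 1 → ∀ n : ℕ, k ^ 2 ^ n = 1 → k = 1 := fun k hk n e => by
    have h1 : orderOf k ∣ Nat.card d.ker := (d.ker).orderOf_dvd_natCard hk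
    exact orderOf_eq_one_iff.1 (Nat.eq_one_of_dvd_coprimes
      (Nat.Coprime.pow_right n (Nat.coprime_two_right.2 odd)) h1 (orderOf_dvd_of_pow_eq_one e))
  have perf : ⁅B, B⁆ = B := by
    refine le_antisymm (commutator_le.2 fun a h1 b h2 => by
      rw [commutatorElement_def]
      exact mul_mem (mul_mem (mul_mem h1 h2) (inv_mem h1)) (inv_mem h2))
      (hW.gen.trans ((closure_le _).2 ?_))
    rintro b ⟨h1, h2⟩
    have h3 : (commutator B).map d = ⊤ := by
      rw [_root_.commutator_def, map_commutator, ← MonoidHom.range_eq_map, MonoidHom.range_eq_top.2 surj,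
        hb.perfect]
    obtain ⟨c, h4, h5⟩ : d ⟨b, h1⟩ ∈ (commutator B).map d := h3 ▸ mem_top _
    have h6 : d (c⁻¹ * ⟨b, h1⟩) = 1 := by rw [map_mul, map_inv, h5, inv_mul_cancel]
    set k : B := c⁻¹ * ⟨b, h1⟩ with hk
    have h7 : (⟨b, h1⟩ : B) = c * k := by rw [hk, mul_inv_cancel_left]
    have h8 : Commute c k := Subtype.ext (mem_C.1 ((cen k).1 h6) c c.2)
    have h9 : k ^ 2 ∈ commutator B := by
      have : c ^ 2 * k ^ 2 = 1 := by
        rw [← h8.mul_pow, ← h7, pow_two]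
        exact Subtype.ext h2
      rw [eq_inv_of_mul_eq_one_right this]
      exact inv_mem (pow_mem h4 2)
    have h10 : k ∈ commutator B := by
      obtain ⟨m, hm⟩ := odd.of_dvd_nat ((d.ker).orderOf_dvd_natCard h6)
      have : k = ((k ^ 2) ^ m)⁻¹ := by
        rw [eq_inv_iff_mul_eq_one, ← pow_mul, ← pow_succ', ← hm, pow_orderOf_eq_one]
      rw [this]
      exact inv_mem (pow_mem h9 m)
    rw [← map_subtype_commutator]
    exact ⟨⟨b, h1⟩, h7 ▸ mul_mem h4 h10, rfl⟩
  let ψ : B × B →* XX t B := MonoidHom.mk' (fun p => ⟨p.1 * (t * p.2 * t), mX p.1.2 p.2.2⟩)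
    fun p q => Subtype.ext (by
      show (p.1 : G) * q.1 * (t * ((p.2 : G) * q.2) * t) =
        p.1 * (t * p.2 * t) * (q.1 * (t * q.2 * t))
      calc _ = p.1 * ((q.1 : G) * (t * p.2 * t)) * (t * q.2 * t) := by rw [tm]; group
        _ = _ := by rw [hW.comm _ q.1.2 _ p.2.2]; group)
  have hψ : ∀ p : B × B, (ψ p : G) = p.1 * (t * p.2 * t) := fun _ => rfl
  have sψ : Function.Surjective ψ := fun x => by
    obtain ⟨b, h1, c, h2, e⟩ := dec x x.2
    exact ⟨(⟨b, h1⟩, ⟨c, h2⟩), Subtype.ext e.symm⟩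
  have kψ : ψ.ker ≤ (d.prodMap d).ker := fun p hp => by
    have h1 : (p.1 : G) * (t * p.2 * t) = 1 := congrArg Subtype.val (MonoidHom.mem_ker.1 hp)
    refine Prod.ext (inter p.1 ?_) (inter p.2 ?_)
    · rw [eq_inv_of_mul_eq_one_left h1]
      exact inv_mem (mB' p.2.2)
    · rw [mB, eq_inv_of_mul_eq_one_right h1]
      exact inv_mem p.1.2
  let π : XX t B →* Γ × Γ := ψ.liftOfSurjective sψ ⟨d.prodMap d, kψ⟩
  have hπ : ∀ p : B × B, π (ψ p) = (d p.1, d p.2) := fun p =>
    ψ.liftOfRightInverse_comp_apply _ _ _ p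
  have L1 : ∀ g : G, (∀ b ∈ B, ∃ c k : B, d k = 1 ∧ g * b * g⁻¹ = c * (t * k * t)) →
      g ∈ N[B] := fun g h => mem_N_of fun x hx => by
    rw [← perf] at hx
    refine (commutator_le.2 (fun a h1 b h2 => ?_) :
      ⁅B, B⁆ ≤ B.comap (MulAut.conj g).toMonoidHom) hx
    obtain ⟨c, k, e1, e2⟩ := h a h1
    obtain ⟨c', k', e3, e4⟩ := h b h2
    rw [mem_comap, map_commutatorElement]
    show ⁅g * a * g⁻¹, g * b * g⁻¹⁆ ∈ B
    rw [e2, e4, comm_central (hW.comm _ c.2 _ k.2).symm (hW.comm _ c'.2 _ k.2).symm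
      (mem_C.1 (kC' k' e3) _ (mem_sup_right (mB' k.2))) (hW.comm _ c.2 _ k'.2).symm
      (hW.comm _ c'.2 _ k'.2).symm, commutatorElement_def]
    exact mul_mem (mul_mem (mul_mem c.2 c'.2) (inv_mem c.2)) (inv_mem c'.2)
  have L2 : ∀ g : G, t * g * t ∈ N[B] → g ∈ N[(MulAut.conj t • B : Subgroup G)] := fun g h =>
    mem_N_of fun x hx => by
      have := norm_conj h (mB.1 hx)
      rwa [← tiv, ← tm, ← tm, ← mB] at this
  have kπ : ∀ x : XX t B, π x = 1 → (x : G) ∈ C[XX t B] := fun x hx => by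
    obtain ⟨p, rfl⟩ := sψ x
    rw [hπ] at hx
    exact mul_mem (kC _ (congrArg Prod.fst hx)) (kC' _ (congrArg Prod.snd hx))
  refine ⟨d, hd, surj, odd, cen, perf, inter, codd, fun h hh => ?_, fun h => ?_, fun h hh => ?_,
    fun h hh i => ?_, fun h hh α i P hP hα => ?_, dec, π, ?_, fun b c x e => ?_⟩
  · let κ : B × B →* Γ × Γ := π.comp ((normalizerMonoidHom _ ⟨h, hh⟩).toMonoidHom.comp ψ)
    have sκ : Function.Surjective κ := fun y => by
      obtain ⟨b, h1⟩ := surj y.1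
      obtain ⟨c, h2⟩ := surj y.2
      obtain ⟨x, h3⟩ := (normalizerMonoidHom _ ⟨h, hh⟩).surjective (ψ (b, c))
      obtain ⟨p, rfl⟩ := sψ x
      exact ⟨p, (congrArg π h3).trans ((hπ _).trans (Prod.ext h1 h2))⟩
    have hκ : ∀ p : B × B, ∃ c k : B, κ p = (d c, d k) ∧
        h * (p.1 * (t * p.2 * t)) * h⁻¹ = c * (t * k * t) := fun p => by
      obtain ⟨q, e⟩ := sψ (normalizerMonoidHom _ ⟨h, hh⟩ (ψ p))
      exact ⟨q.1, q.2, (congrArg π e.symm).trans (hπ q), (congrArg Subtype.val e).symm⟩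
    have z1 : ∀ b : G, b * (t * (1 : B) * t) = b := fun b => by
      rw [OneMemClass.coe_one, mul_one, tt, mul_one]
    have z2 : ∀ b : G, ((1 : B) : G) * b = b := fun b => one_mul b
    have cm : ∀ p : B × B, κ p = 1 → (ψ p : G) ∈ C[XX t B] := fun p e => by
      have h1 := C_conj (inv_mem hh) (kπ _ e)
      have h2 : h⁻¹ * (h * (ψ p : G) * h⁻¹) * h⁻¹⁻¹ = ψ p := by group
      exact h2 ▸ h1
    have A1 : ∀ g : G, (∀ b : B, ∃ c k : B, d k = 1 ∧ g * b * g⁻¹ = c * (t * k * t)) →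
        (∀ b : B, ∃ c k : B, d c = 1 ∧ g * (t * b * t) * g⁻¹ = c * (t * k * t)) →
        g ∈ H0 t B := fun g h1 h2 => ⟨L1 g fun b hb => h1 ⟨b, hb⟩, L2 g (L1 _ fun b hb => by
      obtain ⟨c, k, e1, e2⟩ := h2 ⟨b, hb⟩
      refine ⟨k, c, e1, ?_⟩
      rw [← tiv, hW.comm _ k.2 _ c.2, ← ttx k, ← tm, ← e2, tm, tm, ttx])⟩
    rcases kill hb ((MonoidHom.fst Γ Γ).comp κ) (Prod.fst_surjective.comp sκ) with e1 | e1 <;>
      rcases kill hb ((MonoidHom.snd Γ Γ).comp κ) (Prod.snd_surjective.comp sκ) with e2 | e2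
    · refine absurd (fun b h1 c h2 => ?_) na
      have := mem_C.1 (cm (⟨c, h2⟩, 1) (Prod.ext (e1 _) (e2 _))) b (mem_sup_left h1)
      rwa [hψ, z1] at this
    · refine Or.inr (A1 _ (fun b => ?_) fun b => ?_)
      · obtain ⟨c, k, e3, e4⟩ := hκ (1, b)
        refine ⟨c, k, (congrArg Prod.snd e3).symm.trans (e2 b), ?_⟩
        rw [← e4, z2, mul_inv_rev, ti]
        group
      · obtain ⟨c, k, e3, e4⟩ := hκ (b, 1)
        refine ⟨c, k, (congrArg Prod.fst e3).symm.trans (e1 b), ?_⟩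
        rw [← e4, z1, mul_inv_rev, ti]
        conv_rhs => rw [← ttx b]
        group
    · refine Or.inl (A1 _ (fun b => ?_) fun b => ?_)
      · obtain ⟨c, k, e3, e4⟩ := hκ (b, 1)
        exact ⟨c, k, (congrArg Prod.snd e3).symm.trans (e2 b), by rw [← e4, z1]⟩
      · obtain ⟨c, k, e3, e4⟩ := hκ (1, b)
        exact ⟨c, k, (congrArg Prod.fst e3).symm.trans (e1 b), by rw [← e4, z2]⟩
    · refine absurd (fun b h1 c h2 => ?_) na
      have := mem_C.1 (cm (1, ⟨c, h2⟩) (Prod.ext (e1 _) (e2 _))) _ (mem_sup_right (mB' h1))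
      rw [hψ, z2, ← tm, ← tm] at this
      exact mul_left_cancel (mul_right_cancel this)
  · refine na fun b h1 c h2 => ?_
    have := hW.comm b h1 _ (norm_conj h h2)
    rwa [ti, ttx] at this
  · let κ := normalizerMonoidHom B ⟨h, hh⟩
    let α : Γ →* Γ := d.liftOfSurjective surj ⟨d.comp κ.toMonoidHom, fun b e =>
      (cen _).2 (C_conj hh ((cen b).1 e))⟩
    have hα : ∀ b, α (d b) = d (κ b) := fun b => d.liftOfRightInverse_comp_apply _ _ _ b
    have sα : Function.Surjective α := fun y => by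
      obtain ⟨b, rfl⟩ := surj y
      exact ⟨d (κ.symm b), by rw [hα, MulEquiv.apply_symm_apply]⟩
    refine ⟨MulEquiv.ofBijective α ⟨Finite.injective_iff_surjective.2 sα, sα⟩, fun b c e => ?_⟩
    exact (congrArg d (Subtype.ext e : c = κ b)).trans (hα b).symm
  · have key : ∀ b ∈ B, ∃ k : B, d k = 1 ∧ h * b * h⁻¹ = b * k := fun b h1 =>
      ⟨(⟨b, h1⟩ : B)⁻¹ * ⟨_, norm_conj hh h1⟩, by
        rw [map_mul, map_inv, i ⟨b, h1⟩ ⟨_, norm_conj hh h1⟩ rfl]; simp, by simp⟩
    refine mem_C.2 fun x hx => ?_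
    rw [← perf] at hx
    refine mem_centralizer_singleton_iff.1 (commutator_le.2 (fun a h1 b h2 => ?_) hx)
    obtain ⟨k, e1, e2⟩ := key a h1
    obtain ⟨k', e3, e4⟩ := key b h2
    have c1 := mem_C.1 ((cen k).1 e1)
    have c2 := mem_C.1 ((cen k').1 e3)
    rw [mem_centralizer_singleton_iff, eq_comm, ← mul_inv_eq_iff_eq_mul,
      conjugate_commutatorElement, e2, e4]
    exact comm_central (c1 a h1).symm (c1 b h2).symm (c2 _ k.2) (c2 a h1).symm (c2 b h2).symm
  · have : Fact (Nat.Prime 2) := ⟨Nat.prime_two⟩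
    let f : P.comap d →* P := (d.comp (P.comap d).subtype).codRestrict P fun x => x.2
    obtain ⟨n, hn⟩ := hP.exists_card_eq
    obtain ⟨s, hs⟩ := sec_ex (π := f) (fun x => by
      obtain ⟨b, e⟩ := surj x
      exact ⟨⟨b, by rw [mem_comap, e]; exact x.2⟩, Subtype.ext e⟩) (by
      rw [hn]
      refine Nat.Coprime.pow_right n (Nat.coprime_two_right.2 (odd.of_dvd_nat ?_))
      rw [← card_map_of_injective (K := f.ker) (P.comap d).subtype_injective]
      refine card_dvd_of_le ?_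
      rintro _ ⟨b, e, rfl⟩
      exact congrArg Subtype.val (MonoidHom.mem_ker.1 e))
    have hs' : ∀ x, d (s x).1 = x := fun x => congrArg Subtype.val (hs x)
    refine ⟨(P.comap d).subtype.comp s, hs', fun x => ?_⟩
    set b : B := (s x).1 with hb'
    let c : B := ⟨_, norm_conj hh b.2⟩
    have e1 : d (b⁻¹ * c) = 1 := by
      rw [map_mul, map_inv, i b c rfl, hs', hα _ x.2, inv_mul_cancel]
    have e2 : b ^ 2 ^ n = 1 := by
      rw [hb', ← coe_pow, ← map_pow, ← hn, pow_card_eq_one', map_one, coe_one]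
    have e3 : c ^ 2 ^ n = 1 := Subtype.ext (by
      show (h * b * h⁻¹) ^ 2 ^ n = 1
      rw [conj_pow, ← coe_pow, e2]; simp)
    have e4 : Commute b (b⁻¹ * c) := Subtype.ext (mem_C.1 ((cen _).1 e1) b b.2)
    have e5 := k1 _ e1 n (by
      have := e4.mul_pow (2 ^ n)
      rwa [mul_inv_cancel_left, e2, e3, one_mul, eq_comm] at this)
    have e6 : (b : G) = h * b * h⁻¹ := congrArg Subtype.val (inv_mul_eq_one.1 e5)
    exact mul_inv_eq_iff_eq_mul.1 e6.symm
  · refine codd.of_dvd_nat ?_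
    rw [← card_map_of_injective (K := π.ker) (XX t B).subtype_injective]
    refine card_dvd_of_le ?_
    rintro _ ⟨x, e, rfl⟩
    exact kπ x e
  · exact (congrArg π (Subtype.ext e : x = ψ (b, c))).trans (hπ _)

end Cfsg.Agent.H46.TEk
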