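import Cfsg.Agent.H46.TE3

/-! Project S94 (S3095), piece E7. -/

set_option autoImplicit false
set_option linter.style.haveILetI false
set_option linter.unusedSectionVars false
open scoped Pointwise commutatorElement
open Subgroup

namespace Cfsg.Agent.H46.TE7
open Cfsg.Agent.H8 Cfsg.Agent.H23.D2 Cfsg.Agent.H46.S94

universe u

local notation "C[" A "]" => Subgroup.centralizer (SetLike.coe A)
local notation "N[" A "]" => Subgroup.normalizer (SetLike.coe A)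

variable {Γ : Type} [Group Γ] {G : Type u} [Group G] {φ : Γ →* G} {t : G} {O B : Subgroup G}
  {d : B →* Γ}

theorem card_two [Finite G] {H K : Subgroup G} (l : H ≤ K)
    (k : ∀ x ∈ K, ∀ y ∈ K, x ∉ H → y ∉ H → x * y ∈ H) : Nat.card K ≤ 2 * Nat.card H := by
  by_cases e : K ≤ H
  · have := card_le_of_le e
    omega
  · obtain ⟨a, ha, na⟩ := SetLike.not_le_iff_exists.1 e
    have i : (H.subgroupOf K).index = 2 := index_eq_two_iff.2 ⟨⟨a, ha⟩, fun b => by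
      by_cases m : (b : G) ∈ H
      · refine Or.inr ⟨m, fun w => na ?_⟩
        exact (H.mul_mem_cancel_left m).1 w
      · exact Or.inl ⟨k _ b.2 _ ha m na, m⟩⟩
    have := (H.subgroupOf K).index_mul_card
    rw [i, Nat.card_congr (subgroupOfEquivOfLe l).toEquiv] at this
    omega

theorem two_card_le [Finite G] {H K : Subgroup G} (l : H ≤ K) {a : G} (ha : a ∈ K) (na : a ∉ H) :
    2 * Nat.card H ≤ Nat.card K := by
  rw [card_eq_card_mul_relIndex l, mul_comm]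
  refine Nat.mul_le_mul_left _ ?_
  have h0 : H.relIndex K ≠ 0 := FiniteIndex.index_ne_zero
  have h1 : H.relIndex K ≠ 1 := fun e => na (relIndex_eq_one.1 e ha)
  omega

/-- `B C(B)` -/
def BC (B : Subgroup G) : Subgroup G where
  carrier := {x | ∃ b ∈ B, b⁻¹ * x ∈ C[B]}
  one_mem' := ⟨1, B.one_mem, by simp⟩
  mul_mem' := by
    rintro x y ⟨b, hb, h⟩ ⟨c, hc, k⟩
    refine ⟨b * c, B.mul_mem hb hc, ?_⟩
    have : (b * c)⁻¹ * (x * y) = c⁻¹ * (b⁻¹ * x) * y := by group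
    rw [this, mem_C.1 h _ (B.inv_mem hc), mul_assoc]
    exact mul_mem h k
  inv_mem' := by
    rintro x ⟨b, hb, h⟩
    refine ⟨b⁻¹, B.inv_mem hb, ?_⟩
    have : b⁻¹⁻¹ * x⁻¹ = b * (b⁻¹ * x)⁻¹ * b⁻¹ := by group
    rw [this, mem_C.1 (inv_mem h) _ hb, mul_inv_cancel_right]
    exact inv_mem h

theorem Ind.mul {x y : G} {β γ : MulAut Γ} (hy : y ∈ N[B]) (h : Ind d x β) (k : Ind d y γ) :
    Ind d (x * y) (β * γ) := fun b c e => by
  rw [MulAut.mul_apply, ← k b ⟨_, norm_conj hy b.2⟩ rfl]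
  exact h _ c (by rw [e]; group)

theorem ind_B (b : B) : Ind d b (MulAut.conj (d b)) := fun x c e => by
  have : c = b * x * b⁻¹ := Subtype.ext e
  simp [this]

theorem ind_C {k : G} (hk : k ∈ C[B]) : Ind d k 1 := fun x c e => by
  have : c = x := Subtype.ext (e.trans (cj_of_C hk x.2))
  simp [this]

section
variable (E : EK φ t B d)
include E

theorem ind_uniq {x : G} {β γ : MulAut Γ} (hx : x ∈ N[B]) (h : Ind d x β) (k : Ind d x γ) :
    β = γ := MulEquiv.ext fun a => by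
  obtain ⟨b, rfl⟩ := E.surj a
  rw [← h b ⟨_, norm_conj hx b.2⟩ rfl, ← k b ⟨_, norm_conj hx b.2⟩ rfl]

theorem bc_iff {x : G} {β : MulAut Γ} (hx : x ∈ N[B]) (h : Ind d x β) : x ∈ BC B ↔ Inn β := by
  constructor
  · rintro ⟨b, hb, k⟩
    have := Ind.mul (C_le_N k) (ind_B (d := d) ⟨b, hb⟩) (ind_C k)
    rw [mul_inv_cancel_left, mul_one] at this
    exact ⟨_, ind_uniq E hx h this⟩
  · rintro ⟨a, rfl⟩
    obtain ⟨b, rfl⟩ := E.surj a
    have := Ind.mul hx (ind_B (d := d) b⁻¹) h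
    rw [map_inv, map_inv, inv_mul_cancel] at this
    exact ⟨b, b.2, E.inn _ (mul_mem (le_normalizer (B.inv_mem b.2)) hx) this⟩

theorem bc_two (hb : Base Γ) {x y : G} (hx : x ∈ N[B]) (hy : y ∈ N[B]) (nx : x ∉ BC B)
    (ny : y ∉ BC B) : x * y ∈ BC B := by
  obtain ⟨β, h⟩ := E.aut x hx
  obtain ⟨γ, k⟩ := E.aut y hy
  rcases hb.out β γ with i | i | i
  · exact absurd ((bc_iff E hx h).2 i) nx
  · exact absurd ((bc_iff E hy k).2 i) ny
  · exact (bc_iff E (mul_mem hx hy) (Ind.mul hy h k)).2 i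

theorem ind_sq {x : G} {β : MulAut Γ} (hx : x ∈ N[B]) (h : Ind d x β) (e : x * x = 1) :
    β * β = 1 := by
  have := Ind.mul hx h h
  rw [e] at this
  exact ind_uniq E (one_mem _) this (ind_C (one_mem _))

end

theorem mem_tB (c : Cx φ t O) {x : G} : x ∈ MulAut.conj t • B ↔ t * x * t ∈ B := by
  rw [mem_conj, c.tinv]

theorem tt_cj (c : Cx φ t O) (x : G) : t * (t * x * t) * t = x := by
  calc _ = (t * t) * x * (t * t) := by group
    _ = x := by rw [c.tt]; group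

theorem tN (c : Cx φ t O) {x : G} (h : x ∈ H0 t B) : t * x * t ∈ N[B] := by
  have : x ∈ N[(MulAut.conj t • B : Subgroup G)] := h.2
  rwa [normalizer_conj_smul, mem_conj, c.tinv] at this

variable (c : Cx φ t O) (W : Wr φ t B) (E : EK φ t B d)
include c W E

theorem X_le : XX t B ≤ BC B ⊓ MulAut.conj t • BC B := by
  have k : ∀ b ∈ B, t * b * t ∈ BC B := fun b hb =>
    ⟨1, B.one_mem, by simpa using mem_C.2 fun v hv => W.comm v hv b hb⟩
  have k' : B ≤ BC B := fun b hb => ⟨b, hb, by simp⟩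
  refine sup_le (fun b hb => ⟨k' hb, (mem_tB c).2 (k b hb)⟩) fun x hx => ⟨?_, ?_⟩
  · rw [← tt_cj c x]; exact k _ ((mem_tB c).1 hx)
  · exact (mem_tB c).2 (k' ((mem_tB c).1 hx))

theorem mem_X [Finite G] {r : G} (h1 : r ∈ BC B) (h2 : r ∈ MulAut.conj t • BC B) {n : ℕ}
    (e : r ^ 2 ^ n = 1) : r ∈ XX t B := by
  obtain ⟨b1, hb1, k1⟩ := h1
  obtain ⟨b2, hb2, k2⟩ := (mem_tB c).1 h2
  have hx : b1 * (t * b2 * t) ∈ XX t B := mul_mem (mem_sup_left hb1)
    (mem_sup_right ((mem_tB c).2 (by rwa [tt_cj c])))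
  obtain ⟨k, hk⟩ : ∃ k, k = (b1 * (t * b2 * t))⁻¹ * r := ⟨_, rfl⟩
  have kC : k ∈ C[XX t B] := by
    have : XX t B ≤ centralizer {k} := sup_le (fun b hb => mem_centralizer_singleton_iff.2 (by
      have a1 : Commute b (t * b2 * t) := W.comm b hb b2 hb2
      have a2 : Commute b (b1⁻¹ * r) := k1 b hb
      rw [hk, mul_inv_rev, mul_assoc]
      exact a1.inv_right.mul_right a2)) fun x hx => mem_centralizer_singleton_iff.2 (by
      have hx' := (mem_tB c).1 hx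
      have a1 : Commute b1 x := by
        have := W.comm b1 hb1 _ hx'
        rwa [tt_cj c] at this
      have a2 : Commute (t * x * t) (b2⁻¹ * (t * r * t)) := k2 _ hx'
      have a3 := (comm_conj_iff (g := t)).2 a2.eq
      rw [c.tinv, tt_cj c] at a3
      have a4 : t * (b2⁻¹ * (t * r * t)) * t = (t * b2 * t)⁻¹ * r := by
        rw [mul_inv_rev, mul_inv_rev, c.tinv]
        calc _ = t * (b2⁻¹ * t) * r * (t * t) := by group
          _ = _ := by rw [c.tt, mul_one]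
      rw [a4] at a3
      rw [hk, W.comm b1 hb1 b2 hb2, mul_inv_rev, mul_assoc]
      exact a1.symm.inv_right.mul_right a3)
    exact fun x hx => mem_centralizer_singleton_iff.1 (this hx)
  have er : r = b1 * (t * b2 * t) * k := by rw [hk, mul_inv_cancel_left]
  have ko : Odd (orderOf k) :=
    E.codd.of_dvd_nat (by simpa using orderOf_dvd_natCard (⟨k, kC⟩ : C[XX t B]))
  obtain ⟨m, hm⟩ := exists_pow_eq_self_of_coprime (x := k) (n := 2 ^ n)
    ((Nat.coprime_two_left.2 ko).pow_left n)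
  rw [er, Commute.mul_pow (kC _ hx), mul_eq_one_iff_inv_eq] at e
  rw [er, ← hm, ← e]
  exact mul_mem hx (pow_mem (inv_mem (pow_mem hx _)) _)

theorem big {u : G} (hu : u ∈ H0 t B) {β γ : MulAut Γ} (h1 : Ind d u β)
    (h2 : Ind d (t * u * t) γ) {P P' : Subgroup Γ} (p1 : El P) (p2 : El P')
    (f1 : ∀ x ∈ P, β x = x) (f2 : ∀ x ∈ P', γ x = x) :
    ∃ Q ≤ XX t B, (∀ x ∈ Q, x * x = 1) ∧ Nat.card Q = Nat.card P * Nat.card P' ∧ Q ≤ centralizer {u} := by
  obtain ⟨ι, a1, a2⟩ := E.lift u hu.1 β h1 P (TE3.el_two p1) f1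
  obtain ⟨κ, b1, b2⟩ := E.lift _ (tN c hu) γ h2 P' (TE3.el_two p2) f2
  obtain ⟨π, -, hπ⟩ := E.pi
  let ψ : P × P' →* G := (B.subtype.comp ι).noncommCoprod
    ((MulAut.conj t).toMonoidHom.comp (B.subtype.comp κ)) fun x y => by
      have : Commute (ι x : G) (t * κ y * t) := W.comm _ (ι x).2 _ (κ y).2
      simpa [c.tinv] using this
  have hψ : ∀ x, ψ x = ι x.1 * (t * κ x.2 * t) := fun x => by simp [ψ, c.tinv]
  have inj : Function.Injective ψ := (injective_iff_map_eq_one ψ).2 fun x hx => by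
    have := hπ (ι x.1) (κ x.2) 1 (by rw [← hψ, hx]; rfl)
    rw [map_one, a1, b1] at this
    exact Prod.ext (Subtype.ext (congrArg Prod.fst this).symm)
      (Subtype.ext (congrArg Prod.snd this).symm)
  refine ⟨ψ.range, ?_, ?_, ?_, ?_⟩
  · rintro _ ⟨x, rfl⟩
    rw [hψ]
    exact mul_mem (mem_sup_left (ι _).2)
      (mem_sup_right ((mem_tB c).2 (by rw [tt_cj c]; exact (κ _).2)))
  · rintro _ ⟨x, rfl⟩
    rw [← map_mul, show x * x = 1 from Prod.ext (Subtype.ext (p1 _ x.1.2))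
      (Subtype.ext (p2 _ x.2.2)), map_one]
  · rw [← Nat.card_prod]
    exact (Nat.card_congr (MonoidHom.ofInjective inj).toEquiv).symm
  · rintro _ ⟨x, rfl⟩
    rw [mem_centralizer_singleton_iff, hψ]
    have e1 : Commute (ι x.1 : G) u := (a2 _).symm
    have e2 := (comm_conj_iff (g := t)).2 (b2 x.2)
    rw [c.tinv, tt_cj c] at e2
    exact e1.mul_left e2.symm

theorem small [Finite G] [Finite Γ] {h : G} {α : MulAut Γ} {mu : ℕ} (hN : h ∈ N[B]) (ht : h * t = t * h)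
    (hα : Ind d h α) (hm : ∀ P : Subgroup Γ, (∀ x ∈ P, α x = x) → El P → Nat.card P ≤ mu)
    {R : Subgroup G} (hR0 : ∀ x ∈ R, x * x = 1) (hX : R ≤ XX t B) (hc : R ≤ centralizer {h}) :
    Nat.card R ≤ mu * mu := by
  obtain ⟨π, ho, hπ⟩ := E.pi
  have hR := TE3.el_two hR0
  have hR' : ∀ ψ : XX t B →* Γ, El ((R.subgroupOf (XX t B)).map ψ) := by
    rintro ψ _ ⟨r, hr, rfl⟩
    rw [← map_mul, show r * r = 1 from Subtype.ext (hR0 r hr), map_one]
  have fx : ∀ r ∈ R.subgroupOf (XX t B), α (π r).1 = (π r).1 ∧ α (π r).2 = (π r).2 := by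
    intro r hr
    obtain ⟨b, hb, e, he, k⟩ := E.dec r r.2
    have k1 := hπ ⟨b, hb⟩ ⟨e, he⟩ r k
    have k2 := hπ ⟨_, norm_conj hN hb⟩ ⟨_, norm_conj hN he⟩ r (by
      have a : (r : G) * h = h * r := mem_centralizer_singleton_iff.1 (hc hr)
      calc (r : G) = h * r * h⁻¹ := by rw [← a, mul_inv_cancel_right]
        _ = h * b * h⁻¹ * ((h * t) * e * (h * t⁻¹)⁻¹) := by
          rw [k, mul_inv_rev, inv_inv]; group
        _ = _ := by rw [c.tinv, ht, mul_inv_rev, c.tinv]; group)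
    rw [hα ⟨b, hb⟩ ⟨_, norm_conj hN hb⟩ rfl, hα ⟨e, he⟩ ⟨_, norm_conj hN he⟩ rfl, k1] at k2
    rw [k1]
    exact ⟨(congrArg Prod.fst k2).symm, (congrArg Prod.snd k2).symm⟩
  let P1 := (R.subgroupOf (XX t B)).map ((MonoidHom.fst Γ Γ).comp π)
  let P2 := (R.subgroupOf (XX t B)).map ((MonoidHom.snd Γ Γ).comp π)
  have h1 := hm P1 (by rintro _ ⟨r, hr, rfl⟩; exact (fx r hr).1) (hR' _)
  have h2 := hm P2 (by rintro _ ⟨r, hr, rfl⟩; exact (fx r hr).2) (hR' _)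
  refine le_trans ?_ (Nat.mul_le_mul h1 h2)
  rw [← Nat.card_prod]
  refine Nat.card_le_card_of_injective (fun r : R => ((⟨(π ⟨r, hX r.2⟩).1, ⟨r, hX r.2⟩, r.2, rfl⟩ : P1),
    (⟨(π ⟨r, hX r.2⟩).2, ⟨r, hX r.2⟩, r.2, rfl⟩ : P2))) fun r s e => ?_
  have e1 : π ⟨r, hX r.2⟩ = π ⟨s, hX s.2⟩ :=
    Prod.ext (congrArg (fun x => x.1.1) e) (congrArg (fun x => x.2.1) e)
  have e2 : (⟨r, hX r.2⟩ : XX t B)⁻¹ * ⟨s, hX s.2⟩ ∈ π.ker := by
    rw [MonoidHom.mem_ker, map_mul, map_inv, e1, inv_mul_cancel]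
  obtain ⟨k, hk⟩ := hR (r⁻¹ * s)
  have e3 : Odd (orderOf ((r : G)⁻¹ * s)) :=
    ho.of_dvd_nat (by
      have := orderOf_dvd_natCard (⟨_, e2⟩ : π.ker)
      rwa [← orderOf_coe, ← orderOf_coe] at this)
  exact Subtype.ext (inv_mul_eq_one.1 (eq_one_of_odd_two e3 (congrArg Subtype.val hk)))

omit c W E in
theorem e7 : E7Stmt.{u} := by
  intro Γ _ G _ _ φ t F O B d n nr mi mo mu h α hb ef as c W E BF _ hH hF hh h2 ht hα hm g _ β γ hu
    h3 h4
  haveI := hb.fin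
  haveI := as.normal
  haveI : Fact (Nat.Prime 2) := ⟨Nat.prime_two⟩
  by_contra hne
  set u := g * h * g⁻¹ with hud
  have uu : u * u = 1 := by
    calc _ = g * (h * h) * g⁻¹ := by rw [hud]; group
      _ = 1 := by rw [h2]; group
  have tu : t * u * t * (t * u * t) = 1 := by
    calc _ = t * u * (t * t) * u * t := by group
      _ = 1 := by rw [c.tt, mul_one, mul_assoc t, uu, mul_one, c.tt]
  have inn : ∀ {δ : MulAut Γ}, δ * δ = 1 → Inn δ →
      ∃ P : Subgroup Γ, (∀ x ∈ P, δ x = x) ∧ El P ∧ mi ≤ Nat.card P := by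
    rintro _ e ⟨a, rfl⟩
    obtain ⟨P, h1, h2, h3⟩ := ef.inn a (hb.conj_inj (by rw [map_mul, e, map_one]))
    exact ⟨P, fun x hx => by rw [MulAut.conj_apply, ← mem_Cz.1 (h1 hx), mul_inv_cancel_right], h2, h3⟩
  have sβ := ind_sq E hu.1 h3 uu
  have sγ := ind_sq E (tN c hu) h4 tu
  obtain ⟨Q, QX, Q2, Qc, Qu⟩ : ∃ Q ≤ XX t B, (∀ x ∈ Q, x * x = 1) ∧ mi * mo ≤ Nat.card Q ∧
      Q ≤ centralizer {u} := by
    by_cases i : Inn β
    · obtain ⟨P, a1, a2, a3⟩ := inn sβ i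
      obtain ⟨P', b1, b2, b3⟩ := ef.out γ sγ fun j => hne ⟨fun _ => j, fun _ => i⟩
      obtain ⟨Q, q1, q2, q3, q4⟩ := big c W E hu h3 h4 a2 b2 a1 b1
      exact ⟨Q, q1, q2, q3 ▸ Nat.mul_le_mul a3 b3, q4⟩
    · obtain ⟨P, a1, a2, a3⟩ := ef.out β sβ i
      obtain ⟨P', b1, b2, b3⟩ := inn sγ (by_contra fun j => hne ⟨fun k => absurd k i, fun k => absurd k j⟩)
      obtain ⟨Q, q1, q2, q3, q4⟩ := big c W E hu h3 h4 a2 b2 a1 b1
      exact ⟨Q, q1, q2, by rw [q3, mul_comm mi]; exact Nat.mul_le_mul a3 b3, q4⟩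
  have uX : u ∉ XX t B := fun m => by
    obtain ⟨m1, m2⟩ := X_le c W E m
    exact hne ⟨fun _ => (bc_iff E (tN c hu) h4).1 ((mem_tB c).1 m2), fun _ => (bc_iff E hu.1 h3).1 m1⟩
  have XF : XX t B ≤ F := sup_le BF fun x hx => by
    have := as.normal.conj_mem _ (BF (mem_conj.1 hx)) t
    simpa [mul_assoc] using this
  have uF : u ∈ F := as.normal.conj_mem _ hh.2 g
  have z2 : ∀ {a : G}, a * a = 1 → IsPGroup 2 (zpowers a) := fun {a} e => by
    rintro ⟨_, k, rfl⟩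
    exact ⟨1, Subtype.ext (by
      change (a ^ k) ^ 2 ^ 1 = 1
      rw [pow_one, ← zpow_natCast, ← zpow_mul, mul_comm, zpow_mul, zpow_natCast, pow_two, e, one_zpow])⟩
  have cu : ∀ y ∈ Q, Commute y u := fun y hy => mem_centralizer_singleton_iff.1 (Qu hy)
  have S2 : ∀ x ∈ (zpowers u ⊔ Q : Subgroup G), x * x = 1 := fun x hx => by
    have : x ∈ (zpowers u : Set G) * (Q : Set G) := by
      rw [← coe_mul_of_left_le_normalizer_right _ _ (zpowers_le.2
        (centralizer_le_normalizer _ fun y hy => cu y hy))]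
      exact hx
    obtain ⟨_, ⟨n, rfl⟩, y, hy, rfl⟩ := this
    change u ^ n * y * (u ^ n * y) = 1
    rw [← pow_two, ((cu y hy).zpow_right n).symm.mul_pow, pow_two y, Q2 y hy, mul_one,
      ← zpow_natCast, ← zpow_mul, mul_comm, zpow_mul, zpow_natCast, pow_two, uu, one_zpow]
  have SC : (zpowers u ⊔ Q : Subgroup G) ≤ centralizer {u} ⊓ F :=
    sup_le (zpowers_le.2 ⟨mem_centralizer_singleton_iff.2 rfl, uF⟩) (le_inf Qu (QX.trans XF))
  have c1 := two_card_le (le_sup_right : Q ≤ zpowers u ⊔ Q) (mem_sup_left (mem_zpowers u))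
    fun m => uX (QX m)
  generalize (zpowers u ⊔ Q : Subgroup G) = S at S2 SC c1
  obtain ⟨R, hR, tR⟩ := exists_isSylowIn_ge (H := centralizer {h}) (z2 c.tt)
    (zpowers_le.2 (mem_centralizer_singleton_iff.2 ht.symm))
  obtain ⟨S', SR, S'2, c2⟩ : ∃ S' ≤ R ⊓ F, (∀ x ∈ S', x * x = 1) ∧ Nat.card S' = Nat.card S := by
    have l : MulAut.conj g⁻¹ • S ≤ centralizer {h} := fun x hx => by
      obtain ⟨a1, -⟩ := SC (mem_conj.1 hx)
      rw [inv_inv] at a1
      exact mem_centralizer_singleton_iff.2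
        (comm_conj_iff.1 (mem_centralizer_singleton_iff.1 a1))
    obtain ⟨k, -, hk⟩ := hR.exists_conj_le (isPGroup_conj_smul (TE3.el_two S2) g⁻¹) l
    refine ⟨MulAut.conj k • MulAut.conj g⁻¹ • S, le_inf hk fun x hx => ?_, fun x hx => ?_,
      by rw [card_conj, card_conj]⟩
    · have := as.normal.conj_mem _ (as.normal.conj_mem _ (SC (mem_conj.1 (mem_conj.1 hx))).2 g⁻¹) k
      simpa [mul_assoc] using this
    · have := S2 _ (mem_conj.1 (mem_conj.1 hx))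
      calc x * x = k * g⁻¹ * (g⁻¹⁻¹ * (k⁻¹ * x * k) * g⁻¹ * (g⁻¹⁻¹ * (k⁻¹ * x * k) * g⁻¹)) *
            (k * g⁻¹)⁻¹ := by group
        _ = 1 := by rw [this]; group
  have tH : t ∈ N[XX t B] := mem_N_iff.2 (by
    rw [smul_sup, conj_smul_conj_smul, c.tt, map_one, one_smul, sup_comm])
  have RH : R ≤ N[XX t B] := by
    by_contra nl
    obtain ⟨r, hr, nr⟩ := SetLike.exists_of_lt (lt_inf_normalizer_of_lt hR.isPGroup
      (H := R ⊓ N[XX t B]) (lt_of_le_of_ne inf_le_left fun e => nl (inf_eq_left.1 e)))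
    exact nr ⟨hr.1, hH r (norm_conj hr.2 ⟨tR (mem_zpowers t), tH⟩).2⟩
  have R0 : ∀ r ∈ S', r ∈ H0 t B := fun r hr => hF ⟨RH (SR hr).1, (SR hr).2⟩
  have c3 := card_two (H := S' ⊓ BC B) (K := S') inf_le_left fun x hx y hy nx ny =>
    ⟨mul_mem hx hy, bc_two E hb (R0 x hx).1 (R0 y hy).1 (fun m => nx ⟨hx, m⟩) fun m => ny ⟨hy, m⟩⟩
  have c4 := card_two (H := S' ⊓ BC B ⊓ MulAut.conj t • BC B) (K := S' ⊓ BC B) inf_le_left
    fun x hx y hy nx ny => ⟨mul_mem hx hy, (mem_tB c).2 (by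
      have := bc_two E hb (tN c (R0 x hx.1)) (tN c (R0 y hy.1))
        (fun m => nx ⟨hx, (mem_tB c).2 m⟩) fun m => ny ⟨hy, (mem_tB c).2 m⟩
      have e : t * x * t * (t * y * t) = t * (x * y) * t := by
        calc _ = t * x * (t * t) * y * t := by group
          _ = _ := by rw [c.tt]; group
      rwa [e] at this)⟩
  have l : S' ⊓ BC B ⊓ MulAut.conj t • BC B ≤ S' := fun x hx => hx.1.1
  have c5 := small c W E hh.1.1 ht hα hm (fun x hx => S'2 x (l hx)) (fun x hx =>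
    mem_X c W E hx.1.2 hx.2 (n := 1) (by rw [pow_one, pow_two, S'2 x (l hx)]))
    (l.trans (SR.trans (inf_le_left.trans hR.le)))
  have := ef.n3
  omega

set_option linter.unusedTactic false in
theorem eqns_TE7 : True := by
  first | (have := @Cfsg.Agent.H46.TE7.BC.eq_def.{0,0,0}) | (have := @Cfsg.Agent.H46.TE7.BC.eq_def.{0,0}) | (have := @Cfsg.Agent.H46.TE7.BC.eq_def.{0}) | (have := @Cfsg.Agent.H46.TE7.BC.eq_def) | skip
  first | (have := @Cfsg.Agent.H46.TE7.BC.eq_1.{0,0,0}) | (have := @Cfsg.Agent.H46.TE7.BC.eq_1.{0,0}) | (have := @Cfsg.Agent.H46.TE7.BC.eq_1.{0}) | (have := @Cfsg.Agent.H46.TE7.BC.eq_1) | skip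
  first | (have := @Cfsg.Agent.H46.TE7.BC.eq_2.{0,0,0}) | (have := @Cfsg.Agent.H46.TE7.BC.eq_2.{0,0}) | (have := @Cfsg.Agent.H46.TE7.BC.eq_2.{0}) | (have := @Cfsg.Agent.H46.TE7.BC.eq_2) | skip
  first | (have := @Cfsg.Agent.H46.TE7.BC.eq_unfold.{0,0,0}) | (have := @Cfsg.Agent.H46.TE7.BC.eq_unfold.{0,0}) | (have := @Cfsg.Agent.H46.TE7.BC.eq_unfold.{0}) | (have := @Cfsg.Agent.H46.TE7.BC.eq_unfold) | skip
  first | (have := @Cfsg.Agent.H46.TE7.BC.congr_simp.{0,0,0}) | (have := @Cfsg.Agent.H46.TE7.BC.congr_simp.{0,0}) | (have := @Cfsg.Agent.H46.TE7.BC.congr_simp.{0}) | (have := @Cfsg.Agent.H46.TE7.BC.congr_simp) | skip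
  trivial

end Cfsg.Agent.H46.TE7
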