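import Cfsg.Agent.H46.TKit

/-!
# An element swapping `t` and `t z` that centralises `C(z)`
-/

set_option autoImplicit false
open scoped Pointwise commutatorElement
open Subgroup

namespace Cfsg.Agent.H46.THat1
open Cfsg.Agent.H8 Cfsg.Agent.H23.D2 Cfsg.Agent.H46.S94

universe u

local notation "C[" A "]" => Subgroup.centralizer (SetLike.coe A)
local notation "N[" A "]" => Subgroup.normalizer (SetLike.coe A)

/-- `a` conjugates `x` to `y` -/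
def R {G : Type*} [Group G] (a x y : G) : Prop := a * x * a⁻¹ = y

section R
variable {G : Type*} [Group G] {a b x y w x' y' : G}

theorem R.comp (h : R a x y) (k : R b y w) : R (b * a) x w := by
  unfold R at *
  rw [← k, ← h]; group

theorem R.inv (h : R a x y) : R a⁻¹ y x := by
  unfold R at *
  rw [← h]; group

theorem R.mul (h : R a x y) (k : R a x' y') : R a (x * x') (y * y') := by
  unfold R at *
  rw [← k, ← h]; group

theorem R.map {H : Type*} [Group H] (f : G →* H) (h : R a x y) : R (f a) (f x) (f y) := by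
  unfold R at *
  rw [← h]; simp

theorem R.of_comm (h : a * x = x * a) : R a x x := by
  unfold R
  rw [h]; group

theorem R.comm (h : R a x x) : a * x = x * a := by
  unfold R at h
  calc a * x = a * x * a⁻¹ * a := by group
    _ = _ := by rw [h]

theorem R.congr (h : R a x y) (e : x = x') (e' : y = y') : R a x' y' := e ▸ e' ▸ h

theorem R.cc (h : R a x y) (k : R a x' y') (c : x * x' = x' * x) : y * y' = y' * y := by
  have e1 := h.mul k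
  have e2 := k.mul h
  unfold R at e1 e2
  rw [← e1, ← e2, c]

/-- conjugacy under `Q` -/
def CQ (Q : Subgroup G) (u v : G) : Prop := ∃ p ∈ Q, p * u * p⁻¹ = v

theorem idx {Q : Subgroup G} {X : G} (hX : X ∈ Q)
    (two : ∀ u ∈ Q, ∀ v ∈ Q, orderOf u = orderOf X → orderOf v = orderOf X →
      CQ Q X u ∨ CQ Q X v ∨ CQ Q u v) {ν r s : G} (hν : ν ∈ N[Q]) (hr : r ∈ N[Q])
    (hs : s ∈ N[Q]) : CQ Q X (ν * X * ν⁻¹) ∨
      CQ Q X (r * ν * r⁻¹ * (s * ν * s⁻¹) * X * (r * ν * r⁻¹ * (s * ν * s⁻¹))⁻¹) := by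
  let S : Subgroup G :=
    { carrier := {g | g ∈ N[Q] ∧ CQ Q X (g * X * g⁻¹)}
      one_mem' := ⟨one_mem _, 1, one_mem _, rfl⟩
      mul_mem' := by
        rintro g k ⟨hg, p, hp, e⟩ ⟨hk, p', hp', e'⟩
        refine ⟨mul_mem hg hk, g * p' * g⁻¹ * p, mul_mem (norm_conj hg hp') hp, ?_⟩
        calc g * p' * g⁻¹ * p * X * (g * p' * g⁻¹ * p)⁻¹
            = g * p' * g⁻¹ * (p * X * p⁻¹) * g * p'⁻¹ * g⁻¹ := by group
          _ = g * (p' * X * p'⁻¹) * g⁻¹ := by rw [e]; group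
          _ = _ := by rw [e']; group
      inv_mem' := by
        rintro g ⟨hg, p, hp, e⟩
        refine ⟨inv_mem hg, g⁻¹ * p⁻¹ * g, norm_conj' hg (inv_mem hp), ?_⟩
        calc g⁻¹ * p⁻¹ * g * X * (g⁻¹ * p⁻¹ * g)⁻¹ = g⁻¹ * p⁻¹ * (g * X * g⁻¹) * p * g := by group
          _ = _ := by rw [← e]; group }
  have o : ∀ g : G, orderOf (g * X * g⁻¹) = orderOf X := fun g =>
    (MulAut.conj g).orderOf_eq X
  have tri : ∀ g ∈ N[Q], ∀ k ∈ N[Q], g ∉ S → k ∉ S → g * k ∈ S := fun g hg k hk ng nk => by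
    rcases two _ (norm_conj (inv_mem hg) hX) _ (norm_conj hk hX) (o _) (o _) with e | e | e
    · exact absurd (by simpa using S.inv_mem (x := g⁻¹) ⟨inv_mem hg, e⟩) ng
    · exact absurd ⟨hk, e⟩ nk
    · obtain ⟨p, hp, e⟩ := e
      refine ⟨mul_mem hg hk, g * p * g⁻¹, norm_conj hg hp, ?_⟩
      calc g * p * g⁻¹ * X * (g * p * g⁻¹)⁻¹ = g * (p * (g⁻¹ * X * g⁻¹⁻¹) * p⁻¹) * g⁻¹ := by group
        _ = _ := by rw [e]; group
  by_cases m : ν ∈ S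
  · exact Or.inl m.2
  have cj : ∀ g ∈ N[Q], g * ν * g⁻¹ ∉ S := fun g hg k => by
    by_cases mg : g ∈ S
    · exact m (by simpa [mul_assoc] using S.mul_mem (S.mul_mem (S.inv_mem mg) k) mg)
    · exact mg (by simpa [mul_assoc] using S.mul_mem (S.inv_mem k) (tri g hg ν hν mg m))
  exact Or.inr (tri _ (mul_mem (mul_mem hr hν) (inv_mem hr)) _
    (mul_mem (mul_mem hs hν) (inv_mem hs)) (cj r hr) (cj s hs)).2

end R

variable {Γ : Type} [Group Γ] {G : Type u} [Group G] {φ : Γ →* G} {t : G} {O : Subgroup G}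

/-- a perfect subgroup generated by involutions and centralising `t ^ g` lies in `A ^ g` -/
theorem into (h : Cx φ t O) (hb : Base Γ) {L : Subgroup Γ} (perf : ⁅L, L⁆ = L)
    (gen : L ≤ closure {l | l ∈ L ∧ l * l = 1}) {g : G}
    (hc : ∀ l ∈ L, φ l * (g * t * g⁻¹) = g * t * g⁻¹ * φ l) :
    ∀ l ∈ L, ∃ b, φ b = g⁻¹ * φ l * g := by
  let ψ : Γ →* G := (MulAut.conj g⁻¹).toMonoidHom.comp φ
  have hψ : ∀ l, ψ l = g⁻¹ * φ l * g := fun l => by simp [ψ]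
  have l1 : L.map ψ ≤ centralizer {t} := by
    rintro _ ⟨l, hl, rfl⟩
    rw [mem_centralizer_singleton_iff, hψ]
    calc g⁻¹ * φ l * g * t = g⁻¹ * (φ l * (g * t * g⁻¹)) * g := by group
      _ = _ := by rw [hc l hl]; group
  have l2 : L.map ψ ≤ φ.range ⊔ O := by
    rw [← perf, map_commutator]
    exact (commutator_mono l1 l1).trans (h.der hb)
  have l3 : L ≤ φ.range.comap ψ := gen.trans ((closure_le _).2 fun l hl =>
    h.inv_mem hb (l2 ⟨l, hl.1, rfl⟩) (by rw [← map_mul, hl.2, map_one]))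
  intro l hl
  obtain ⟨b, e⟩ := l3 hl
  exact ⟨b, e.trans (hψ l)⟩

theorem first (h : Cx φ t O) (hb : Base Γ) {z : Γ} (zz : z * z = 1) (z1 : z ≠ 1)
    (cm : z ∈ ⁅Cz z, Cz z⁆) {L : Subgroup Γ} (hL : L ≤ Cz z) (perf : ⁅L, L⁆ = L)
    (gen : L ≤ closure {l | l ∈ L ∧ l * l = 1})
    (dv : ∀ a, a * a = 1 → a ≠ 1 → Nat.card L ∣ Nat.card (Cz a) → IsConj z a)
    (i : IsConj t (t * φ z)) : ∃ n, R n t (t * φ z) ∧ R n (φ z) (φ z) := by
  obtain ⟨g, a, e1, e2, -⟩ := h.swap hb zz cm i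
  have k := into h hb perf gen (g := g) fun l hl => by
    rw [e1, ← mul_assoc, h.AC, mul_assoc, mul_assoc, ← map_mul, ← map_mul, mem_Cz.1 (hL hl)]
  have aa : a * a = 1 := h.inj (by
    have : g * φ (a * a) * g⁻¹ = 1 := by
      rw [map_mul, ← conj_mul, e2, ← map_mul, zz, map_one]
    simpa using this)
  have a1 : a ≠ 1 := by
    rintro rfl
    exact z1 (h.inj (by simpa using e2.symm))
  let W := (MulAut.conj g⁻¹ • L.map φ).comap φ
  have c1 : Nat.card W = Nat.card L := by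
    have : W.map φ = MulAut.conj g⁻¹ • L.map φ := map_comap_eq_self fun x hx => by
      obtain ⟨l, hl, e⟩ := mem_conj.1 hx
      obtain ⟨b, e'⟩ := k l hl
      exact ⟨b, by rw [e', e]; group⟩
    rw [← card_map_of_injective (K := W) h.inj, this, card_conj, card_map_of_injective h.inj]
  have c2 : W ≤ Cz a := fun b hb' => by
    obtain ⟨l, hl, e⟩ := mem_conj.1 hb'
    refine mem_Cz.2 (h.inj ?_)
    have e3 : R g (φ b) (φ l) := by rw [e, inv_inv]; rfl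
    have e4 : R g (φ a) (φ z) := e2
    rw [map_mul, map_mul]
    exact e3.inv.cc e4.inv (by rw [← map_mul, ← map_mul, mem_Cz.1 (hL hl)])
  obtain ⟨c, rfl⟩ := isConj_iff.1 (dv a aa a1 (c1 ▸ card_dvd_of_le c2))
  exact ⟨g * φ c, (R.of_comm (h.AC c)).comp e1, (R.map φ (a := c) (x := z) rfl).comp e2⟩

variable [Finite G]

theorem autL (h : Cx φ t O) (hb : Base Γ) {z : Γ} (perf : ⁅Cz z, Cz z⁆ = Cz z)
    (gen : Cz z ≤ closure {l | l ∈ Cz z ∧ l * l = 1}) {n : G} (h1 : R n t (t * φ z))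
    (h2 : R n (φ z) (φ z)) : ∃ θ : MulAut (Cz z), ∀ l : Cz z, R n (φ l) (φ (θ l)) := by
  have k := into h hb perf gen (g := n) fun l hl => by
    rw [show n * t * n⁻¹ = _ from h1, ← mul_assoc, h.AC, mul_assoc, mul_assoc, ← map_mul,
      ← map_mul, mem_Cz.1 hl]
  have m : n⁻¹ ∈ N[(φ.comp (Cz z).subtype).range] := mem_N_of (by
    rintro _ ⟨l, rfl⟩
    obtain ⟨b, e⟩ := k l l.2
    have e3 : R n⁻¹ (φ l) (φ b) := by rw [e]; simp [R]
    refine ⟨⟨b, mem_Cz.2 (h.inj ?_)⟩, by simpa using e⟩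
    rw [map_mul, map_mul]
    exact e3.cc h2.inv (by rw [← map_mul, ← map_mul, mem_Cz.1 l.2]))
  obtain ⟨θ, hθ⟩ := exists_aut (φ := φ.comp (Cz z).subtype)
    (h.inj.comp Subtype.val_injective) (h := n) (by simpa using inv_mem m)
  exact ⟨θ, fun l => (hθ l).symm⟩

theorem hat1 : Hat1Stmt.{u} := by
  intro Γ _ G _ _ φ t O z y x hb hf h i
  obtain ⟨n, n1, n2⟩ := first h hb hf.zz hf.z1 (hf.perf.ge (mem_Cz.2 rfl)) le_rfl hf.perf hf.gen hf.dv i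
  obtain ⟨θ, hθ⟩ := autL h hb hf.perf hf.gen n1 n2
  obtain ⟨yy, -, -, yz, ⟨σ, s1, s2⟩, q, q1, q2⟩ := hf.s3 1
  obtain ⟨-, -, -, -, ⟨σ', s1', s2'⟩, -⟩ := hf.s3 θ
  simp only [MulAut.one_apply] at yy yz s1 s2 q1 q2
  have zz := hf.zz
  replace s1 : R σ z (z * y) := s1
  replace s2 : R σ (y : Γ) y := s2
  replace q1 : R q z z := q1
  replace q2 : R q (y : Γ) (y * z) := q2
  replace s1' : R σ' z (z * θ y) := s1'
  replace s2' : R σ' (θ y : Γ) (θ y) := s2'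
  have ct : ∀ a, R (φ a) t t := fun a => R.of_comm (h.AC a)
  have zyz : z * (y * z) = y := by rw [yz, ← mul_assoc, zz, one_mul]
  have yzy : y * (z * y) = z := by rw [← yz, ← mul_assoc, yy, one_mul]
  -- the three-cycle and the transposition
  have r1 : R (q * σ) z y := s1.comp ((q1.mul q2).congr rfl zyz)
  have r2 : R (q * σ) (y : Γ) (y * z) := s2.comp q2
  have r3 : R (q * σ) (y * z) z :=
    (r2.mul r1).congr rfl (by rw [mul_assoc, yzy])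
  have t1 : R (q * σ * q⁻¹) z y := q1.inv.comp r1
  have t2 : R (q * σ * q⁻¹) (y : Γ) z :=
    ((q2.mul q1).congr rfl (by rw [mul_assoc, zz, mul_one])).inv.comp r3
  -- step 1
  obtain ⟨ν, v1, v2, v3⟩ : ∃ ν, R ν t (t * φ z) ∧ R ν (φ z) (φ z) ∧ R ν (φ y) (φ y) := by
    have u1 : R (n⁻¹ * (φ σ' * n)) t (t * φ y) :=
      (n1.comp ((ct σ').mul (s1'.map φ))).comp
        ((n1.mul (hθ y)).congr rfl (by rw [map_mul, mul_assoc])).inv
    have u2 : R (n⁻¹ * (φ σ' * n)) (φ z) (φ (z * y)) :=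
      (n2.comp (s1'.map φ)).comp
        ((n2.mul (hθ y)).congr (map_mul _ _ _).symm (map_mul _ _ _).symm).inv
    have u3 : R (n⁻¹ * (φ σ' * n)) (φ y) (φ y) := ((hθ y).comp (s2'.map φ)).comp (hθ y).inv
    have w1 := u1.comp ((ct σ).mul (s2.map φ)).inv
    have w2 := u2.comp (s1.map φ).inv
    have w3 := u3.comp (s2.map φ).inv
    exact ⟨_, ((ct _).inv.comp w1).comp ((ct _).mul (t2.map φ)),
      ((t2.map φ).inv.comp w3).comp (t2.map φ), ((t1.map φ).inv.comp w2).comp (t1.map φ)⟩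
  -- step 2
  let Q : Subgroup G := (Cz z ⊓ Cz (y : Γ)).map φ
  have xQ : φ x ∈ Q := ⟨x, ⟨x.2, mem_Cz.2 (congrArg Subtype.val hf.xy)⟩, rfl⟩
  have nQ : ν ∈ N[Q] := by
    obtain ⟨η, hη⟩ := autL h hb hf.perf hf.gen v1 v2
    refine mem_N_of ?_
    rintro _ ⟨l, hl, rfl⟩
    refine ⟨η ⟨l, hl.1⟩, ⟨(η _).2, mem_Cz.2 (h.inj ?_)⟩, (hη ⟨l, hl.1⟩).symm⟩
    rw [map_mul, map_mul]
    exact (hη ⟨l, hl.1⟩).cc v3 (by rw [← map_mul, ← map_mul, mem_Cz.1 hl.2])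
  have rQ : φ (q * σ) ∈ N[Q] := by
    refine mem_N_of ?_
    rintro _ ⟨l, hl, rfl⟩
    have e : R (q * σ) l (q * σ * l * (q * σ)⁻¹) := rfl
    have c1 : Commute l z := mem_Cz.1 hl.1
    have c2 : Commute l y := mem_Cz.1 hl.2
    exact ⟨_, ⟨mem_Cz.2 (e.cc r3 (c2.mul_right c1)), mem_Cz.2 (e.cc r1 c1)⟩, (e.map φ).symm⟩
  have two : ∀ u ∈ Q, ∀ v ∈ Q, orderOf u = orderOf (φ x) → orderOf v = orderOf (φ x) →
      CQ Q (φ x) u ∨ CQ Q (φ x) v ∨ CQ Q u v := by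
    rintro _ ⟨u, hu, rfl⟩ _ ⟨v, hv, rfl⟩ ou ov
    rw [orderOf_injective φ h.inj, orderOf_injective φ h.inj, Subgroup.orderOf_coe] at ou ov
    have ci : ∀ a b : Cz z, CI y a b → CQ Q (φ a) (φ b) := by
      rintro a b ⟨p, hp, e⟩
      exact ⟨φ p, ⟨p, ⟨p.2, mem_Cz.2 (congrArg Subtype.val hp)⟩, rfl⟩, by rw [← e]; simp⟩
    exact (hf.two ⟨u, hu.1⟩ ⟨v, hv.1⟩ (Subtype.ext (mem_Cz.1 hu.2)) (Subtype.ext (mem_Cz.1 hv.2))
      (by rw [← ou, Subgroup.orderOf_mk]) (by rw [← ov, Subgroup.orderOf_mk])).imp (ci _ _)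
      (Or.imp (ci _ _) (ci _ _))
  obtain ⟨μ, m1, m2, m3, m4⟩ : ∃ μ, R μ t (t * φ z) ∧ R μ (φ z) (φ z) ∧ R μ (φ y) (φ y) ∧
      CQ Q (φ x) (μ * φ x * μ⁻¹) := by
    rcases idx xQ two nQ rQ (mul_mem rQ rQ) with e | e
    · exact ⟨ν, v1, v2, v3, e⟩
    have v4 : R ν (φ (y * z)) (φ (y * z)) :=
      (v3.mul v2).congr (map_mul _ _ _).symm (map_mul _ _ _).symm
    have cr := ct (q * σ)
    replace r1 := r1.map φ
    replace r2 := r2.map φ
    replace r3 := r3.map φ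
    generalize φ (q * σ) = ρ at e cr r1 r2 r3
    have a1 : R (ρ * ν * ρ⁻¹) t (t * φ y) := cr.inv.comp (v1.comp (cr.mul r1))
    have a2 : R (ρ * ν * ρ⁻¹) (φ z) (φ z) := r3.inv.comp (v4.comp r3)
    have a3 : R (ρ * ν * ρ⁻¹) (φ y) (φ y) := r1.inv.comp (v2.comp r1)
    have b1 : R (ρ * ρ * ν * (ρ * ρ)⁻¹) t (t * φ (y * z)) :=
      (cr.comp cr).inv.comp (v1.comp ((cr.comp cr).mul (r1.comp r2)))
    have b2 : R (ρ * ρ * ν * (ρ * ρ)⁻¹) (φ z) (φ z) :=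
      (r2.comp r3).inv.comp (v3.comp (r2.comp r3))
    have b3 : R (ρ * ρ * ν * (ρ * ρ)⁻¹) (φ y) (φ y) :=
      (r3.comp r1).inv.comp (v4.comp (r3.comp r1))
    refine ⟨_, b1.comp ((a1.mul (a3.mul a2)).congr (by rw [map_mul]) ?_), b2.comp a2,
      b3.comp a3, e⟩
    rw [mul_assoc, ← mul_assoc (φ y), ← map_mul, yy, map_one, one_mul]
  obtain ⟨η, hη⟩ := autL h hb hf.perf hf.gen m1 m2
  obtain ⟨_, ⟨p, hp, rfl⟩, e⟩ := m4
  obtain ⟨c, rfl⟩ := hf.inn η (Subtype.ext (h.inj ((hη y).symm.trans m3)))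
    ⟨⟨p, hp.1⟩, Subtype.ext (mem_Cz.1 hp.2), Subtype.ext (h.inj (by
      rw [← show μ * φ x * μ⁻¹ = _ from hη x, ← e]; simp))⟩
  refine ⟨(φ c)⁻¹ * μ, m1.comp ((ct c).mul ((R.of_comm (mem_Cz.1 c.2)).map φ)).inv, fun l hl => ?_⟩
  exact ((hη ⟨l, hl⟩).comp (R.map φ (a := (c : Γ)) (x := l) rfl).inv).comm

set_option linter.unusedTactic false in
theorem eqns_THat1 : True := by
  first | (have := @Cfsg.Agent.H46.THat1.R.eq_def.{0,0,0}) | (have := @Cfsg.Agent.H46.THat1.R.eq_def.{0,0}) | (have := @Cfsg.Agent.H46.THat1.R.eq_def.{0}) | (have := @Cfsg.Agent.H46.THat1.R.eq_def) | skip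
  first | (have := @Cfsg.Agent.H46.THat1.R.eq_1.{0,0,0}) | (have := @Cfsg.Agent.H46.THat1.R.eq_1.{0,0}) | (have := @Cfsg.Agent.H46.THat1.R.eq_1.{0}) | (have := @Cfsg.Agent.H46.THat1.R.eq_1) | skip
  first | (have := @Cfsg.Agent.H46.THat1.R.eq_2.{0,0,0}) | (have := @Cfsg.Agent.H46.THat1.R.eq_2.{0,0}) | (have := @Cfsg.Agent.H46.THat1.R.eq_2.{0}) | (have := @Cfsg.Agent.H46.THat1.R.eq_2) | skip
  first | (have := @Cfsg.Agent.H46.THat1.R.eq_unfold.{0,0,0}) | (have := @Cfsg.Agent.H46.THat1.R.eq_unfold.{0,0}) | (have := @Cfsg.Agent.H46.THat1.R.eq_unfold.{0}) | (have := @Cfsg.Agent.H46.THat1.R.eq_unfold) | skip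
  first | (have := @Cfsg.Agent.H46.THat1.R.congr_simp.{0,0,0}) | (have := @Cfsg.Agent.H46.THat1.R.congr_simp.{0,0}) | (have := @Cfsg.Agent.H46.THat1.R.congr_simp.{0}) | (have := @Cfsg.Agent.H46.THat1.R.congr_simp) | skip
  first | (have := @Cfsg.Agent.H46.THat1.CQ.eq_def.{0,0,0}) | (have := @Cfsg.Agent.H46.THat1.CQ.eq_def.{0,0}) | (have := @Cfsg.Agent.H46.THat1.CQ.eq_def.{0}) | (have := @Cfsg.Agent.H46.THat1.CQ.eq_def) | skip
  first | (have := @Cfsg.Agent.H46.THat1.CQ.eq_1.{0,0,0}) | (have := @Cfsg.Agent.H46.THat1.CQ.eq_1.{0,0}) | (have := @Cfsg.Agent.H46.THat1.CQ.eq_1.{0}) | (have := @Cfsg.Agent.H46.THat1.CQ.eq_1) | skip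
  first | (have := @Cfsg.Agent.H46.THat1.CQ.eq_2.{0,0,0}) | (have := @Cfsg.Agent.H46.THat1.CQ.eq_2.{0,0}) | (have := @Cfsg.Agent.H46.THat1.CQ.eq_2.{0}) | (have := @Cfsg.Agent.H46.THat1.CQ.eq_2) | skip
  first | (have := @Cfsg.Agent.H46.THat1.CQ.eq_unfold.{0,0,0}) | (have := @Cfsg.Agent.H46.THat1.CQ.eq_unfold.{0,0}) | (have := @Cfsg.Agent.H46.THat1.CQ.eq_unfold.{0}) | (have := @Cfsg.Agent.H46.THat1.CQ.eq_unfold) | skip
  first | (have := @Cfsg.Agent.H46.THat1.CQ.congr_simp.{0,0,0}) | (have := @Cfsg.Agent.H46.THat1.CQ.congr_simp.{0,0}) | (have := @Cfsg.Agent.H46.THat1.CQ.congr_simp.{0}) | (have := @Cfsg.Agent.H46.THat1.CQ.congr_simp) | skip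
  trivial

end Cfsg.Agent.H46.THat1
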