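import Cfsg.Agent.H46.TClo

/-! The lifts of a class of involutions generate the base of a wreath product. -/

set_option autoImplicit false

namespace Cfsg.Agent.H46.TWr

open Subgroup Cfsg.Agent.H46.S94

universe u

theorem roots_top {Γ : Type} [Group Γ] (hb : Base Γ) {z : Γ} (hz : z ≠ 1) :
    closure {r | IsConj z r} = ⊤ := by
  haveI := hb.simple
  have e : {r | IsConj z r} = Group.conjugatesOfSet {z} := by
    ext r; simp [Group.mem_conjugatesOfSet_iff]
  rw [e]
  exact (normalClosure_normal (s := {z})).eq_bot_or_eq_top.resolve_left fun k =>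
    hz (mem_bot.1 (k ▸ subset_normalClosure rfl))

theorem wr' {Γ : Type} [Group Γ] {G : Type u} [Group G] {φ : Γ →* G} {t : G} {z : Γ} {f : Γ → G}
    (hb : Base Γ) (hz : z ≠ 1) (h : Lf φ t z f)
    (hg : ∀ r s, IsConj z r → IsConj z s → Good t f r s) :
    Wr φ t (closure (f '' {r | IsConj z r})) := by
  have tt : ∀ x, t * (t * x) = x := fun x => by rw [← mul_assoc, h.tt, one_mul]
  have cj : ∀ x, t * x * t = MulAut.conj t x := fun x => by rw [MulAut.conj_apply, h.tinv]
  have comm : ∀ b ∈ closure (f '' {r | IsConj z r}), ∀ c ∈ closure (f '' {r | IsConj z r}),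
      b * (t * c * t) = t * c * t * b := fun b hb c hc => by
    refine closure_induction₂ (p := fun b c _ _ => Commute b (t * c * t)) ?_ ?_ ?_ ?_ ?_ ?_ ?_ hb hc
    · rintro _ _ ⟨r, hr, rfl⟩ ⟨s, hs, rfl⟩; exact hg r s hr hs
    · exact fun _ _ => Commute.one_left _
    · intro x _; rw [cj, map_one]; exact Commute.one_right _
    · exact fun _ _ _ _ _ _ k k' => k.mul_left k'
    · intro x y w _ _ _ k k'; rw [cj] at k k' ⊢; rw [map_mul]; exact k.mul_right k'
    · exact fun _ _ _ _ k => k.inv_left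
    · intro x y _ _ k; rw [cj] at k ⊢; rw [map_inv]; exact k.inv_right
  have mul : ∀ b ∈ closure (f '' {r | IsConj z r}), ∀ c ∈ closure (f '' {r | IsConj z r}),
      b * c * (t * (b * c) * t) = b * (t * b * t) * (c * (t * c * t)) := fun b hb c hc => by
    have := comm c hc b hb
    rw [cj] at this
    rw [cj, cj, cj, map_mul, mul_assoc b, ← mul_assoc c, this]
    simp only [mul_assoc]
  have inv : ∀ b ∈ closure (f '' {r | IsConj z r}),
      b⁻¹ * (t * b⁻¹ * t) = (b * (t * b * t))⁻¹ := fun b hb => by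
    refine eq_inv_of_mul_eq_one_left ?_
    rw [← mul _ (inv_mem hb) _ hb, inv_mul_cancel, one_mul, mul_one, h.tt]
  refine ⟨comm, Subgroup.closure_mono ?_, fun b hb => ?_, fun a => ?_⟩
  · rintro _ ⟨r, hr, rfl⟩
    exact ⟨subset_closure ⟨r, hr, rfl⟩, h.sq r hr⟩
  · induction hb using closure_induction with
    | mem x hx => obtain ⟨r, hr, rfl⟩ := hx; exact ⟨r, h.phi hr⟩
    | one => rw [one_mul, mul_one, h.tt]; exact one_mem _
    | mul x y hx hy k k' => rw [mul x hx y hy]; exact mul_mem k k'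
    | inv x hx k => rw [inv x hx]; exact inv_mem k
  · have ha : a ∈ closure {r | IsConj z r} := roots_top hb hz ▸ mem_top a
    induction ha using closure_induction with
    | mem r hr => exact ⟨f r, subset_closure ⟨r, hr, rfl⟩, (h.phi hr).symm⟩
    | one => exact ⟨1, one_mem _, by rw [one_mul, mul_one, h.tt, map_one]⟩
    | mul x y _ _ k k' =>
      obtain ⟨b, hb, e⟩ := k
      obtain ⟨c, hc, e'⟩ := k'
      exact ⟨b * c, mul_mem hb hc, by rw [mul b hb c hc, e, e', map_mul]⟩
    | inv x _ k =>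
      obtain ⟨b, hb, e⟩ := k
      exact ⟨b⁻¹, inv_mem hb, by rw [inv b hb, e, map_inv]⟩

/-- piece WR -/
theorem wr : WrStmt.{u} := fun _ _ _ _ _ _ _ _ hb hz h hg => ⟨_, wr' hb hz h hg⟩

end Cfsg.Agent.H46.TWr
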