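import Cfsg.Agent.H46.TKit

/-!
# The lift of the involution `z` and of its class
-/

set_option autoImplicit false

namespace Cfsg.Agent.H46.THat

open Subgroup Cfsg.Agent.H46.S94

universe u

theorem zp_two {Γ : Type*} [Group Γ] {z x : Γ} (zz : z * z = 1) (hx : x ∈ zpowers z) :
    x = 1 ∨ x = z := by
  obtain ⟨k, rfl⟩ := hx
  have h2 : z ^ (2 : ℤ) = 1 := by rw [zpow_two, zz]
  rcases Int.even_or_odd' k with ⟨i, rfl | rfl⟩
  · left; show z ^ (2 * i) = 1; rw [zpow_mul, h2, one_zpow]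
  · right; show z ^ (2 * i + 1) = z; rw [zpow_add, zpow_mul, h2, one_zpow, one_mul, zpow_one]

theorem h2_of {Γ : Type} [Group Γ] {z : Γ} {y x : Cz z} (hF : HF z y x) :
    H2 z (Cz z) (zpowers z) := by
  obtain ⟨-, -, -, yz, ⟨σ, s1, s2⟩, q, q1, q2⟩ := hF.s3 1
  simp only [MulAut.one_apply] at yz s1 s2 q2
  have r1 : q * σ * z * (q * σ)⁻¹ = y := by
    calc q * σ * z * (q * σ)⁻¹ = q * (σ * z * σ⁻¹) * q⁻¹ := by group
      _ = q * z * q⁻¹ * (q * y * q⁻¹) := by rw [s1]; group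
      _ = _ := by rw [q1, q2, yz, ← mul_assoc, hF.zz, one_mul]
  have r2 : q * σ * y * (q * σ)⁻¹ = z * y := by
    calc q * σ * y * (q * σ)⁻¹ = q * (σ * y * σ⁻¹) * q⁻¹ := by group
      _ = _ := by rw [s2, q2, yz]
  refine ⟨hF.zz, hF.z1, mem_Cz.2 rfl, zpowers_le.2 (mem_Cz.2 rfl),
    zpowers_le.2 fun l hl => mem_Cz.1 hl, ?_, hF.cL, y, q * σ, y.2, yz, r1, r2,
    fun α hα => hF.cP α fun l hl ly => ?_⟩
  · rintro ⟨c, hc⟩
    refine ⟨1, Subtype.ext ?_⟩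
    show c ^ 2 ^ 1 = 1
    rcases zp_two hF.zz hc with rfl | rfl
    · simp
    · rw [pow_one, pow_two, hF.zz]
  · generalize q * σ = ρ at r1 r2 hα
    have lz := mem_Cz.1 hl
    refine hα l hl (mem_Cz.2 ?_) (mem_Cz.2 ?_)
    · calc ρ⁻¹ * l * ρ * z = ρ⁻¹ * (l * (ρ * z * ρ⁻¹)) * ρ := by group
        _ = ρ⁻¹ * (ρ * z * ρ⁻¹ * l) * ρ := by rw [r1, ly]
        _ = _ := by group
    · calc ρ⁻¹ * (ρ⁻¹ * l * ρ) * ρ * z
          = ρ⁻¹ * ρ⁻¹ * (l * (ρ * (ρ * z * ρ⁻¹) * ρ⁻¹)) * ρ * ρ := by group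
        _ = ρ⁻¹ * ρ⁻¹ * (ρ * (ρ * z * ρ⁻¹) * ρ⁻¹ * l) * ρ * ρ := by
          rw [r1, r2, ← mul_assoc l, lz, mul_assoc z, ly, mul_assoc z]
        _ = _ := by group

theorem hat (h1 : Hat1Stmt.{u}) (h2 : Hat2Stmt.{u}) : HatStmt.{u} := by
  intro Γ _ G _ _ φ t O z y x hb hF hC hz
  obtain ⟨n, n1, n2⟩ := h1 Γ G φ t O z y x hb hF hC hz
  obtain ⟨m, m1, m2, m3, c, hc, e⟩ := h2 Γ G φ t O z _ _ n hb (h2_of hF) hC n1 n2
  rcases zp_two hF.zz hc with rfl | rfl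
  · rw [map_one] at e
    exact ⟨m, e, by rw [← m1, inv_eq_of_mul_eq_one_right e], fun a ha => m2 a (mem_Cz.2 ha), m3⟩
  · refine ⟨t * m, ?_, ?_, fun a ha => ?_, fun o ho => ?_⟩
    · calc t * m * (t * m) = t * (m * t * m⁻¹) * (m * m) := by group
        _ = t * t * (φ c * φ c) := by rw [m1, e]; group
        _ = 1 := by rw [hC.tt, ← map_mul, hF.zz, map_one, one_mul]
    · calc t * m * t * (t * m) = t * m * (t * t) * m := by group
        _ = _ := by rw [hC.tt, mul_one, mul_assoc, e]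
    · rw [mul_assoc, m2 a (mem_Cz.2 ha), ← mul_assoc, ← hC.AC, mul_assoc]
    · rw [mul_assoc, m3 o ho, ← mul_assoc, ← hC.Ot o ho, mul_assoc]

theorem lift {Γ : Type} [Group Γ] {G : Type u} [Group G] {φ : Γ →* G} {t : G} {O : Subgroup G}
    {z : Γ} {w : G} (hC : Cx φ t O) (hH : Hat φ t O z w) : ∃ f, Lf φ t z f ∧ LO O z f := by
  classical
  let f : Γ → G := fun r =>
    if h : ∃ a, a * z * a⁻¹ = r then φ h.choose * w * (φ h.choose)⁻¹ else 1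
  have hf : ∀ a, f (a * z * a⁻¹) = φ a * w * (φ a)⁻¹ := fun a => by
    have h : ∃ b, b * z * b⁻¹ = a * z * a⁻¹ := ⟨a, rfl⟩
    have e : f (a * z * a⁻¹) = φ h.choose * w * (φ h.choose)⁻¹ := dif_pos h
    have hs := h.choose_spec
    rw [e]
    generalize h.choose = b at hs
    have k := hH.cen (a⁻¹ * b) (by
      calc a⁻¹ * b * z = a⁻¹ * (b * z * b⁻¹) * b := by group
        _ = _ := by rw [hs]; group)
    rw [map_mul, map_inv] at k
    calc φ b * w * (φ b)⁻¹ = φ a * ((φ a)⁻¹ * φ b * w) * (φ b)⁻¹ := by group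
      _ = _ := by rw [← k]; group
  refine ⟨f, ⟨hC.inj, hC.tt, hC.AC, fun a r hr => ?_, fun r hr => ?_, fun r hr => ?_⟩,
    fun r hr o ho => ?_⟩ <;> obtain ⟨b, rfl⟩ := isConj_iff.1 hr
  · rw [show a * (b * z * b⁻¹) * a⁻¹ = a * b * z * (a * b)⁻¹ by group, hf, hf, map_mul]
    group
  · rw [hf, conj_mul, hH.sq]; simp
  · have e : φ b * t * (φ b)⁻¹ = t := by rw [hC.AC, mul_inv_cancel_right]
    rw [hf, map_mul, map_mul, map_inv]
    calc φ b * w * (φ b)⁻¹ * t * (φ b * w * (φ b)⁻¹)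
        = φ b * w * (φ b)⁻¹ * (φ b * t * (φ b)⁻¹) * (φ b * w * (φ b)⁻¹) := by rw [e]
      _ = φ b * (w * t * w) * (φ b)⁻¹ := by group
      _ = φ b * t * (φ b)⁻¹ * (φ b * φ z * (φ b)⁻¹) := by rw [hH.br]; group
      _ = _ := by rw [e]
  · have e : φ b * o * (φ b)⁻¹ = o := by rw [hC.oA ho, mul_inv_cancel_right]
    rw [hf]
    calc φ b * w * (φ b)⁻¹ * o = φ b * w * (φ b)⁻¹ * (φ b * o * (φ b)⁻¹) := by rw [e]
      _ = φ b * (w * o) * (φ b)⁻¹ := by group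
      _ = φ b * o * (φ b)⁻¹ * (φ b * w * (φ b)⁻¹) := by rw [hH.cO o ho]; group
      _ = _ := by rw [e]

end Cfsg.Agent.H46.THat
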