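import Cfsg.Agent.H46.TKit

/-! `Hat2Stmt`: the lift centralises the odd core. -/

set_option autoImplicit false

namespace Cfsg.Agent.H46.THat2

open Subgroup Cfsg.Agent.H46.S94

universe u

variable {Γ : Type} [Group Γ] {G : Type u} [Group G] {φ : Γ →* G} {t : G} {O : Subgroup G}

theorem dec (h : Cx φ t O) {z : Γ} {Λ Z : Subgroup Γ} (k : H2 z Λ Z) {c : G} (hc : c * t = t * c)
    (hl : ∀ l ∈ Λ, c * φ l = φ l * c) : ∃ e ∈ Z, ∃ o ∈ O, ∃ w, (w = φ e ∨ w = φ e * t) ∧ c = w * o ∧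
      w * o = o * w ∧ ∃ i : ℕ, w ^ 2 ^ i = 1 := by
  obtain ⟨α, hα⟩ := h.aut hc
  obtain ⟨e, he, l⟩ := k.cen α fun l hl' => h.inj (by rw [hα, hl l hl', mul_inv_cancel_right])
  obtain ⟨i, hi⟩ := k.two ⟨e, he⟩
  replace hi : φ e ^ 2 ^ i = 1 := by rw [← map_pow, show e ^ 2 ^ i = 1 from congrArg Subtype.val hi, map_one]
  obtain ⟨o, ho, m | m⟩ := h.split' hc hα l
  · exact ⟨e, he, o, ho, _, Or.inl rfl, m, h.oA ho e, i, hi⟩
  · refine ⟨e, he, o, ho, _, Or.inr rfl, m,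
      (Commute.mul_left (h.oA ho e) (h.Ot o ho).symm : Commute (φ e * t) o), i + 1, ?_⟩
    rw [Commute.mul_pow (h.AC e), pow_succ, pow_mul, hi, one_pow, one_mul, mul_comm, pow_mul, pow_two,
      h.tt, one_pow]

theorem one_of_cop {w : G} {a b : ℕ} (c : a.Coprime b) (h1 : w ^ a = 1) (h2 : w ^ b = 1) : w = 1 :=
  orderOf_eq_one_iff.1 (Nat.eq_one_of_dvd_coprimes c (orderOf_dvd_of_pow_eq_one h1)
    (orderOf_dvd_of_pow_eq_one h2))

theorem hat2 : Hat2Stmt.{u} := by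
  intro Γ _ G _ _ φ t O z Λ Z n hb k h nt nl
  have zz : φ z * φ z = 1 := by rw [← map_mul, k.zz, map_one]
  have sw : ∀ {m : G}, m * t * m⁻¹ = t * φ z → m * φ z = φ z * m → m * (t * φ z) * m⁻¹ = t :=
    fun {m} e c => by
      calc m * (t * φ z) * m⁻¹ = m * t * m⁻¹ * (m * φ z * m⁻¹) := by group
        _ = t := by rw [e, c, mul_inv_cancel_right, mul_assoc, zz, mul_one]
  have sq : ∀ {m : G}, m * t * m⁻¹ = t * φ z → m * φ z = φ z * m → m * m * t = t * (m * m) :=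
    fun {m} e c => by
      calc m * m * t = m * (m * t * m⁻¹) * m⁻¹ * (m * m) := by group
        _ = _ := by rw [e, sw e c]
  have oN : ∀ o ∈ O, o ^ Nat.card O = 1 := fun o ho =>
    congrArg Subtype.val (pow_card_eq_one' (x := (⟨o, ho⟩ : O)))
  have nO : n ∈ normalizer (O : Set G) := mem_normalizer_fintype fun o ho => by
    obtain ⟨e, -, p, hp, w, -, e1, c, i, hi⟩ := dec h k (c := n * o * n⁻¹) (by
      have c : Commute o (t * φ z) := Commute.mul_right (h.Ot o ho) (h.oA ho z).symm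
      conv_lhs => rw [← sw nt (nl z k.zL)]
      conv_rhs => rw [← sw nt (nl z k.zL)]
      calc _ = n * (o * (t * φ z)) * n⁻¹ := by group
        _ = _ := by rw [c.eq]; group) fun l hl =>
      (Commute.mul_left (Commute.mul_left (nl l hl) (h.oA ho l).symm)
        (Commute.inv_left (nl l hl)) : Commute (n * o * n⁻¹) (φ l))
    have : (w * p) ^ Nat.card O = 1 := by rw [← e1, conj_pow, oN o ho, mul_one, mul_inv_cancel]
    rw [Commute.mul_pow c, oN p hp, mul_one] at this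
    rw [e1, one_of_cop ((Nat.coprime_two_right.2 h.odd).pow_right i) this hi, one_mul]
    exact hp
  obtain ⟨m, mt, ml, mO, j, hj⟩ : ∃ m, m * t * m⁻¹ = t * φ z ∧ (∀ l ∈ Λ, m * φ l = φ l * m) ∧
      m ∈ normalizer (O : Set G) ∧ ∃ j : ℕ, m ^ 2 ^ j = 1 := by
    obtain ⟨j, r, ⟨s, rfl⟩, e⟩ := Nat.exists_eq_two_pow_mul_odd (orderOf_pos n).ne'
    refine ⟨n ^ (2 * s + 1), ?_, fun l hl => Commute.pow_left (nl l hl) _, pow_mem nO _, j,
      by rw [← pow_mul, mul_comm, ← e, pow_orderOf_eq_one]⟩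
    have c : Commute ((n * n) ^ s) t := Commute.pow_left (sq nt (nl z k.zL)) s
    rw [pow_succ', pow_mul, pow_two, mul_assoc n, c.eq, ← nt]
    group
  obtain ⟨e, he, e2⟩ : ∃ e ∈ Z, m * m = φ e := by
    obtain ⟨e, he, p, hp, w, hw, e1, c, i, hi⟩ := dec h k (sq mt (ml z k.zL)) fun l hl =>
      (Commute.mul_left (ml l hl) (ml l hl) : Commute (m * m) (φ l))
    have p1 : p = 1 := h.o_one_of hb hp c (m := i) (n := j) (hi ▸ one_mem _)
      (by rw [← e1, (Commute.refl m).mul_pow, hj, one_mul])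
    rw [p1, mul_one] at e1
    rcases hw with rfl | rfl
    · exact ⟨e, he, e1⟩
    · exfalso
      have c1 : Commute m (φ e * t) := e1 ▸ (Commute.refl m).mul_right (Commute.refl m)
      have c2 : Commute m t := by
        simpa using (Commute.inv_right (ml e (k.ZL he))).mul_right c1
      rw [c2.eq, mul_inv_cancel_right, left_eq_mul] at mt
      exact k.z1 (h.inj (mt.trans (map_one φ).symm))
  refine ⟨m, mt, ml, ?_, e, he, e2⟩
  obtain ⟨y, ρ, yL, yz, e3, e4, inn⟩ := k.cyc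
  have yy : y * y = 1 := by rw [← e3, conj_mul, k.zz]; simp
  -- conjugates of `m`
  have cj : ∀ {x : G} {a : Γ}, x * t * x⁻¹ = t * φ a →
      φ ρ * x * (φ ρ)⁻¹ * t * (φ ρ * x * (φ ρ)⁻¹)⁻¹ = t * φ (ρ * a * ρ⁻¹) := fun {x a} e => by
    have c : Commute (φ ρ) t := h.AC ρ
    calc _ = φ ρ * (x * ((φ ρ)⁻¹ * t * φ ρ) * x⁻¹) * (φ ρ)⁻¹ := by group
      _ = _ := by
        rw [c.inv_left.eq, inv_mul_cancel_right, e, ← mul_assoc, c.eq, map_mul, map_mul, map_inv]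
        group
  have cl : ∀ {x : G} {l : Γ}, x * φ (ρ⁻¹ * l * ρ) = φ (ρ⁻¹ * l * ρ) * x →
      φ ρ * x * (φ ρ)⁻¹ * φ l = φ l * (φ ρ * x * (φ ρ)⁻¹) := fun {x l} e => by
    rw [map_mul, map_mul, map_inv] at e
    calc _ = φ ρ * (x * ((φ ρ)⁻¹ * φ l * φ ρ)) * (φ ρ)⁻¹ := by group
      _ = _ := by rw [e]; group
  have co : ∀ {x : G}, (∀ o ∈ O, x * o * x⁻¹ = m * o * m⁻¹) → ∀ o ∈ O,
      φ ρ * x * (φ ρ)⁻¹ * o * (φ ρ * x * (φ ρ)⁻¹)⁻¹ = m * o * m⁻¹ := fun {x} e o ho => by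
    calc _ = φ ρ * (x * ((φ ρ)⁻¹ * o * φ ρ) * x⁻¹) * (φ ρ)⁻¹ := by group
      _ = _ := by
        rw [mul_assoc _ o, ← h.oA ho, inv_mul_cancel_left, e o ho,
          h.oA ((mem_normalizer_iff.1 mO o).1 ho), mul_inv_cancel_right]
  have t1 := cj mt
  have t2 := cj t1
  have o1 := co (x := m) fun _ _ => rfl
  have o2 := co o1
  have l1 : ∀ l, ρ⁻¹ * l * ρ ∈ Λ → _ := fun l hl => cl (ml _ hl)
  have l2 : ∀ l, ρ⁻¹ * (ρ⁻¹ * l * ρ) * ρ ∈ Λ → _ := fun l hl => cl (l1 _ hl)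
  rw [e3] at t1 t2
  rw [e4] at t2
  generalize φ ρ * (φ ρ * m * (φ ρ)⁻¹) * (φ ρ)⁻¹ = m2 at t2 o2 l2
  generalize φ ρ * m * (φ ρ)⁻¹ = m1 at t1 o1 l1
  have pt : m * m1 * m2 * t = t * (m * m1 * m2) := by
    have c := l1 (z * y) (by rw [← e4]; simpa [mul_assoc] using yL)
    calc _ = m * (m1 * (m2 * t * m2⁻¹) * m1⁻¹) * m⁻¹ * (m * m1 * m2) := by group
      _ = m * (m1 * t * m1⁻¹ * (m1 * φ (z * y) * m1⁻¹)) * m⁻¹ * (m * m1 * m2) := by rw [t2]; group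
      _ = _ := by
        rw [t1, c, mul_inv_cancel_right, mul_assoc t, ← map_mul, ← mul_assoc y, yz, mul_assoc z, yy,
          mul_one, sw mt (ml z k.zL)]
  obtain ⟨α, hα⟩ := h.aut pt
  obtain ⟨a, ha⟩ := inn α fun l h0 h1 h2 => h.inj (by
    rw [hα, (Commute.mul_left (Commute.mul_left (ml l h0) (l1 l h1)) (l2 l h2) :
      Commute (m * m1 * m2) (φ l)).eq, mul_inv_cancel_right])
  have th2 : ∀ o ∈ O, m * (m * o * m⁻¹) * m⁻¹ = o := fun o ho => by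
    calc _ = m * m * o * (m * m)⁻¹ := by group
      _ = _ := by rw [e2, h.oA ho, mul_inv_cancel_right]
  obtain ⟨p, hp, w, e5, cw⟩ : ∃ p ∈ O, ∃ w, m * m1 * m2 = w * p ∧ ∀ o ∈ O, w * o = o * w := by
    obtain ⟨p, hp, l | l⟩ := h.split' pt hα ha
    · exact ⟨p, hp, _, l, fun o ho => h.oA ho a⟩
    · exact ⟨p, hp, _, l, fun o ho =>
        (Commute.mul_left (h.oA ho a) (h.Ot o ho).symm : Commute (φ a * t) o)⟩
  have th : ∀ o ∈ O, m * o * m⁻¹ = p * o * p⁻¹ := fun o ho => by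
    have h1 := (mem_normalizer_iff.1 mO o).1 ho
    have h2 := (mem_normalizer_iff.1 mO _).1 h1
    calc m * o * m⁻¹ = m * (m1 * (m2 * o * m2⁻¹) * m1⁻¹) * m⁻¹ := by rw [o2 o ho, o1 _ h1, th2 o ho]
      _ = m * m1 * m2 * o * (m * m1 * m2)⁻¹ := by group
      _ = w * (p * o * p⁻¹) * w⁻¹ := by rw [e5]; group
      _ = _ := by rw [cw _ (O.mul_mem (O.mul_mem hp ho) (O.inv_mem hp)), mul_inv_cancel_right]
  intro o ho
  have c : Commute (p * p) o := by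
    have := th2 o ho
    rw [th _ ((mem_normalizer_iff.1 mO o).1 ho), th o ho] at this
    calc p * p * o = p * (p * o * p⁻¹) * p⁻¹ * (p * p) := by group
      _ = _ := by rw [this]
  obtain ⟨s, hs⟩ := h.odd
  have c2 : Commute p o := by
    have := (c.pow_left (s + 1))
    rwa [← pow_two, ← pow_mul, show 2 * (s + 1) = 2 * s + 1 + 1 by ring, pow_succ, ← hs, oN p hp,
      one_mul] at this
  rw [← mul_inv_eq_iff_eq_mul, th o ho, c2.eq, mul_inv_cancel_right]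

end Cfsg.Agent.H46.THat2
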