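import Cfsg.Agent.H46.TKit
import Cfsg.Agent.H69.SlRed
import Cfsg.Agent.H8.FsTwoA

/-! Project S94, piece START. -/

set_option autoImplicit false
open scoped Pointwise commutatorElement
open Subgroup

namespace Cfsg.Agent.H46.TStart
open Cfsg.Agent.H8 Cfsg.Agent.H46.S94

universe u

variable {Γ : Type} [Group Γ] {G : Type u} [Group G] [Finite G] {φ : Γ →* G} {t : G}
  {F O : Subgroup G}

theorem exists_u (hF : AS F) (h : Cx φ t O) : ∃ g : G, Commute (g * t * g⁻¹) t ∧ g * t * g⁻¹ ≠ t := by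
  have := hF.normal
  refine H69.SlRed.iso (fun N _ ho => H69.SlRed.odd_bot hF.simple hF.nc hF.cent ho)
    (orderOf_eq_prime (by rw [pow_two, h.tt]) h.t1) fun k => h.t1 ?_
  exact mem_bot.1 (hF.cent.le fun y _ => (k y).symm)

theorem le_F (hb : Base Γ) (hF : AS F) (h : Cx φ t O) : φ.range ≤ F := by
  have := hF.normal
  have := hb.simple
  have : Fact (Nat.Prime 2) := ⟨Nat.prime_two⟩
  rcases (inferInstance : (F.comap φ).Normal).eq_bot_or_eq_top with e | e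
  swap
  · rintro _ ⟨a, rfl⟩
    exact (e.ge (mem_top a) : a ∈ F.comap φ)
  exfalso
  have key : ∀ x ∈ F, x * t = t * x → x * x = 1 → x ≠ 1 → x = t := fun x hx h1 h2 h3 => by
    refine (h.two_cent h1 (mem_C_range.2 fun a => ?_) (n := 1)
      (by rw [pow_one, pow_two, h2])).resolve_left h3
    obtain ⟨α, hα⟩ := h.aut h1
    have k : a * (α a)⁻¹ ∈ F.comap φ := by
      rw [mem_comap, map_mul, map_inv, hα]
      have := F.mul_mem (Normal.conj_mem inferInstance x hx (φ a)) (F.inv_mem hx)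
      simpa [mul_assoc] using this
    rw [e, mem_bot, mul_inv_eq_one] at k
    rw [mul_inv_eq_iff_eq_mul.1 (hα a).symm, ← k]
  obtain ⟨S, hS, hS'⟩ := exists_isSylowIn_ge (p := 2) (Q := zpowers t) (H := ⊤)
    (H10.isPGroup_zpowers_of_pow (k := 1) (by rw [pow_one, pow_two, h.tt])) le_top
  have ev : Even (Nat.card F) := Nat.not_odd_iff_even.1 fun ho => by
    have := hF.simple
    exact hF.nc ⟨⟨IsSimpleGroup.comm_iff_isSolvable.2 (S0205.result ho)⟩⟩
  obtain ⟨z, -, z1, z2, z3⟩ := FsA.exists_central_inv' hS le_top le_normalizer_of_normal ev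
  have z4 : z = t := key z z1 (mem_centralizer_singleton_iff.1 (z3 (hS' (mem_zpowers t)))).symm
    (by rw [← pow_two, ← z2, pow_orderOf_eq_one]) (by rintro rfl; simp at z2)
  obtain ⟨g, g1, g2⟩ := exists_u hF h
  exact g2 (key _ (Normal.conj_mem inferInstance t (z4 ▸ z1) g) g1 (h.conj g).tt (h.conj g).t1)

theorem start0 (hb : Base Γ) (ho : OutF Γ) (hF : AS F) (h : Cx φ t O) :
    ∃ a, a * a = 1 ∧ a ≠ 1 ∧ (IsConj t (t * φ a) ∨ IsConj t (φ a)) := by
  have nc : ∀ (g : G) (a : Γ), g * t * g⁻¹ = φ a →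
      ∃ a, a * a = 1 ∧ a ≠ 1 ∧ (IsConj t (t * φ a) ∨ IsConj t (φ a)) := fun g a e =>
    ⟨a, h.inj (by rw [map_mul, ← e, (h.conj g).tt, map_one]),
      fun k => (h.conj g).t1 (by rw [e, k, map_one]), .inr (isConj_iff.2 ⟨g, e⟩)⟩
  obtain ⟨g, g1, g2⟩ := exists_u hF h
  have k := h.conj g
  obtain ⟨α, hα⟩ := h.aut g1
  by_cases hi : H46.S94.Inn α
  · rcases h.inn_mem g1 hα hi with m | m
    · obtain ⟨a, e⟩ := h.inv_mem hb m k.tt
      exact nc g a e.symm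
    · have e1 : g * t * g⁻¹ * t * (g * t * g⁻¹ * t) = 1 := by
        rw [← pow_two, g1.mul_pow, pow_two, pow_two, k.tt, h.tt, one_mul]
      obtain ⟨a, e⟩ := h.inv_mem hb m e1
      refine ⟨a, h.inj (by rw [map_mul, e, e1, map_one]), fun e2 => g2 ?_,
        .inl (isConj_iff.2 ⟨g, ?_⟩)⟩
      · rw [e2, map_one] at e
        rw [eq_inv_of_mul_eq_one_left e.symm, h.tinv]
      · rw [e, g1.eq, ← mul_assoc, h.tt, one_mul]
  have hu := k.tinv
  obtain ⟨E, h1, h2⟩ := ho α (by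
    ext a
    refine h.inj ?_
    rw [MulAut.mul_apply, hα, hα, hu, MulAut.one_apply]
    calc _ = g * t * g⁻¹ * (g * t * g⁻¹) * φ a * (g * t * g⁻¹ * (g * t * g⁻¹)) := by group
      _ = _ := by rw [k.tt, one_mul, mul_one]) hi
  have hc : ∀ x, α x = x → φ x * (g * t * g⁻¹) = g * t * g⁻¹ * φ x := fun x hx => by
    rw [mul_inv_eq_iff_eq_mul.1 (hα x).symm, hx]
  obtain ⟨e, he, e1, m⟩ : ∃ e ∈ E, e ≠ 1 ∧
      (φ e ∈ ((MulAut.conj g).toMonoidHom.comp φ).range ⊔ MulAut.conj g • O ∨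
        φ e * (g * t * g⁻¹) ∈ ((MulAut.conj g).toMonoidHom.comp φ).range ⊔ MulAut.conj g • O) := by
    rcases h2 with h2 | ⟨h2, X, h3, h4⟩
    · have : Finite E := Nat.finite_of_card_ne_zero (by omega)
      have := Fintype.ofFinite E
      obtain ⟨a, b, c, ab, ac, bc⟩ := Fintype.two_lt_card_iff.1
        (show 2 < Fintype.card E by rw [← Nat.card_eq_fintype_card]; omega)
      obtain ⟨a, b, a1, b1, ab⟩ : ∃ a b : E, a ≠ 1 ∧ b ≠ 1 ∧ a ≠ b := by
        by_cases k1 : a = 1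
        · exact ⟨b, c, k1 ▸ ab.symm, k1 ▸ ac.symm, bc⟩
        by_cases k2 : b = 1
        · exact ⟨a, c, k1, k2 ▸ bc.symm, ac⟩
        · exact ⟨a, b, k1, k2, ab⟩
      have ca := hc a (h1 a a.2).2.1
      have cb := hc b (h1 b b.2).2.1
      obtain ⟨β, hβ⟩ := k.aut ca
      obtain ⟨γ, hγ⟩ := k.aut cb
      rcases hb.out β γ with i | i | i
      · exact ⟨a, a.2, fun e => a1 (Subtype.ext e), k.inn_mem ca hβ i⟩
      · exact ⟨b, b.2, fun e => b1 (Subtype.ext e), k.inn_mem cb hγ i⟩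
      · refine ⟨a * b, mul_mem a.2 b.2, fun e => ab (Subtype.ext ?_),
          k.inn_mem (hc _ (h1 _ (mul_mem a.2 b.2)).2.1) (α := β * γ) (fun x => ?_) i⟩
        · rw [eq_inv_of_mul_eq_one_left e, inv_eq_of_mul_eq_one_right (h1 b b.2).1]
        · rw [MulAut.mul_apply, hβ, hγ, map_mul]; group
    · obtain ⟨⟨e, he⟩, e1⟩ := ne_bot_iff_exists_ne_one.1 h2
      refine ⟨e, he, fun k => e1 (Subtype.ext k), .inl (k.der hb ?_)⟩
      have l : X.map φ ≤ centralizer {g * t * g⁻¹} := by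
        rintro _ ⟨x, hx, rfl⟩
        exact mem_centralizer_singleton_iff.2 (hc x (h3 x hx))
      refine commutator_mono l l ?_
      rw [← map_commutator]
      exact mem_map_of_mem _ (h4 he)
  obtain ⟨ee, e2, w, hw⟩ := h1 e he
  have e3 : g * t * g⁻¹ * φ e = (φ w)⁻¹ * (g * t * g⁻¹) * (φ w)⁻¹⁻¹ := by
    rw [hw, map_mul, map_inv, hα, hu]
    conv_rhs => rw [← hu]
    group
  have e4 : φ e * φ e = 1 := by rw [← map_mul, ee, map_one]
  rcases m with m | m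
  · obtain ⟨a, ha⟩ := k.inv_mem hb m e4
    have ha' : g * φ a * g⁻¹ = φ e := ha
    refine ⟨a, k.inj (by rw [map_mul, ha, e4, map_one]), fun k1 => e1 (h.inj ?_),
      .inl (isConj_iff.2 ⟨g⁻¹ * (φ w)⁻¹ * g, ?_⟩)⟩
    · rw [← ha, k1, map_one, map_one]
    · calc _ = g⁻¹ * ((φ w)⁻¹ * (g * t * g⁻¹) * (φ w)⁻¹⁻¹) * g := by group
        _ = _ := by rw [← e3, ← ha']; group
  · rw [hc e e2, e3] at m
    obtain ⟨a, ha⟩ := k.inv_mem hb m (k.conj (φ w)⁻¹).tt
    have ha' : g * φ a * g⁻¹ = (φ w)⁻¹ * (g * t * g⁻¹) * (φ w)⁻¹⁻¹ := ha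
    exact nc (g⁻¹ * (φ w)⁻¹ * g) a (by
      calc _ = g⁻¹ * ((φ w)⁻¹ * (g * t * g⁻¹) * (φ w)⁻¹⁻¹) * g := by group
        _ = _ := by rw [← ha']; group)

end Cfsg.Agent.H46.TStart
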