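import Cfsg.Agent.H53.FMDefs
import Cfsg.Agent.H4.CoprimeAction

/-! Two transitive subgroups of a group of odd order acting on an elementary abelian `2`-group. -/

set_option autoImplicit false

namespace Cfsg.Agent.H46.FMM

open Subgroup Cfsg Cfsg.Agent.H53.FM
open scoped commutatorElement

universe u

variable {Γ : Type u} [Group Γ] [Finite Γ] {V H : Subgroup Γ}

theorem cop_V (hV : IsElementaryAbelian 2 V) (ho : Odd (Nat.card H)) :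
    (Nat.card H).Coprime (Nat.card V) := by
  obtain ⟨n, hn⟩ := IsPGroup.iff_card.1 (H83.EA_isPGroup hV)
  rw [hn]
  exact Nat.Coprime.pow_right n (Nat.coprime_two_right.2 ho)

omit [Finite Γ] in
theorem comm_le (hn : H ≤ normalizer (V : Set Γ)) : ⁅V, H⁆ ≤ V :=
  commutator_le.2 fun v hv h hh => by
    rw [commutatorElement_def, mul_assoc, mul_assoc, ← mul_assoc h]
    exact mul_mem hv ((mem_normalizer_iff.1 (hn hh) _).1 (inv_mem hv))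

theorem eq_one (hV : IsElementaryAbelian 2 V) (ho : Odd (Nat.card H))
    (hn : H ≤ normalizer (V : Set Γ)) {x : Γ} (h1 : x ∈ ⁅V, H⁆)
    (h2 : x ∈ centralizer (H : Set Γ)) : x = 1 := by
  have := hV.1
  exact mem_bot.1 (H4.centralizer_inf_commutator_eq_bot hn (cop_V hV ho) ▸ mem_inf.2 ⟨h2, h1⟩)

theorem uniq (hV : IsElementaryAbelian 2 V) (ho : Odd (Nat.card H))
    (hn : H ≤ normalizer (V : Set Γ)) {a b x : Γ} (ha : a ∈ ⁅V, H⁆) (hb : b ∈ ⁅V, H⁆)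
    (h1 : a * x ∈ centralizer (H : Set Γ)) (h2 : b * x ∈ centralizer (H : Set Γ)) : a = b := by
  have := mul_mem h1 (inv_mem h2)
  rw [mul_inv_rev, mul_assoc, mul_inv_cancel_left] at this
  exact mul_inv_eq_one.1 (eq_one hV ho hn (mul_mem ha (inv_mem hb)) this)

/-- The points of a coset of `⁅V, H⁆` that are not fixed by `H` are conjugate. -/
theorem conj_coset (hV : IsElementaryAbelian 2 V) (ho : Odd (Nat.card H))
    (hn : H ≤ normalizer (V : Set Γ)) (ht : Tr V H) {x a : Γ} (hx : x ∈ V) (ha : a ∈ ⁅V, H⁆)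
    (h1 : x ∉ centralizer (H : Set Γ)) (h2 : a * x ∉ centralizer (H : Set Γ)) :
    ∃ h ∈ H, h * x * h⁻¹ = a * x := by
  have := hV.1
  obtain ⟨k, hk, c, hc, rfl⟩ := H4.exists_commutator_mul_centralizer hn (cop_V hV ho)
    (Or.inr (Group.isSolvable_of_comm fun a b => mul_comm' a b)) hx
  obtain ⟨h, hh, e⟩ := ht.2 k hk (a * k) (mul_mem ha hk) (fun e => h1 (by rw [e, one_mul]; exact hc.2))
    (fun e => h2 (by rw [← mul_assoc, e, one_mul]; exact hc.2))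
  refine ⟨h, hh, ?_⟩
  rw [← mul_assoc a, ← e, ← mul_assoc, mul_assoc (h * k), mul_assoc (h * k),
    hc.2 _ (inv_mem hh)]

theorem exists_three (hV : IsElementaryAbelian 2 V) (ho : Odd (Nat.card H))
    (hn : H ≤ normalizer (V : Set Γ)) (ht : Tr V H) :
    ∃ a ∈ ⁅V, H⁆, ∃ b ∈ ⁅V, H⁆, a ≠ 1 ∧ b ≠ 1 ∧ a ≠ b := by
  obtain ⟨⟨a, ha⟩, h1⟩ := ne_bot_iff_exists_ne_one.1 ht.1
  have h1' : a ≠ 1 := fun e => h1 (Subtype.ext e)
  have h2 : a ∉ centralizer (H : Set Γ) := fun k => h1' (eq_one hV ho hn ha k)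
  simp only [mem_centralizer_iff, not_forall] at h2
  obtain ⟨h, hh, h2⟩ := h2
  refine ⟨a, ha, h * a * h⁻¹, (mem_normalizer_iff.1
    (H4.le_normalizer_commutator hn le_normalizer hh) a).1 ha, h1', fun e => h1' ?_, fun e => h2 ?_⟩
  · simpa using e
  · exact (eq_mul_inv_iff_mul_eq.1 e).symm

theorem cent_of_cent {G₁ G₂ : Subgroup Γ} (hV : IsElementaryAbelian 2 V)
    (ho : Odd (Nat.card ↥(G₁ ⊔ G₂))) (n₁ : G₁ ≤ normalizer (V : Set Γ))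
    (n₂ : G₂ ≤ normalizer (V : Set Γ)) (h : ⁅V, G₂⁆ ≤ centralizer (G₁ : Set Γ)) :
    ⁅V, G₁⁆ ≤ centralizer (G₂ : Set Γ) := by
  set N := (G₁ ⊔ G₂) ⊓ centralizer ((⁅V, G₂⁆ : Subgroup Γ) : Set Γ) with hN
  have oN : Odd (Nat.card N) := ho.of_dvd_nat (card_dvd_of_le inf_le_left)
  have nN : N ≤ normalizer (V : Set Γ) := inf_le_left.trans (sup_le n₁ n₂)
  have l1 : G₁ ≤ N := le_inf le_sup_left (le_centralizer_iff.1 h)
  have n2 : G₂ ≤ normalizer ((⁅V, G₂⁆ : Subgroup Γ) : Set Γ) :=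
    H4.le_normalizer_commutator n₂ le_normalizer
  have gN : G₂ ≤ normalizer (N : Set Γ) := fun g hg => mem_normalizer_fintype fun x hx =>
    ⟨(G₁ ⊔ G₂).mul_mem ((G₁ ⊔ G₂).mul_mem (mem_sup_right hg) hx.1)
      ((G₁ ⊔ G₂).inv_mem (mem_sup_right hg)), fun y hy => by
      have := hx.2 _ ((mem_normalizer_iff.1 (inv_mem (n2 hg)) y).1 hy)
      calc y * (g * x * g⁻¹) = g * (g⁻¹ * y * g⁻¹⁻¹ * x) * g⁻¹ := by group
        _ = _ := by rw [this]; group⟩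
  intro k hk g hg
  have hk' : k ∈ ⁅V, N⁆ := commutator_mono le_rfl l1 hk
  have h1 : k * (g * k⁻¹ * g⁻¹) ∈ ⁅V, N⁆ := mul_mem hk'
    ((mem_normalizer_iff.1 (H4.le_normalizer_commutator n₂ gN hg) _).1 (inv_mem hk'))
  have h2 : k * (g * k⁻¹ * g⁻¹) ∈ ⁅V, G₂⁆ := by
    have := commutator_mem_commutator (comm_le n₁ hk) hg
    rwa [commutatorElement_def, mul_assoc, mul_assoc, ← mul_assoc g] at this
  have h3 := eq_one hV oN nN h1 fun y hy => (hy.2 _ h2).symm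
  calc g * k = (k * (g * k⁻¹ * g⁻¹))⁻¹ * (k * g) := by group
    _ = k * g := by rw [h3, inv_one, one_mul]

theorem merge : MergeStmt.{u} := by
  intro Γ _ _ V G₁ G₂ hV ho n₁ n₂ t₁ t₂ _
  by_contra hc
  simp only [not_or, not_exists, not_and] at hc
  obtain ⟨hc1, hc2⟩ := hc
  have o₁ : Odd (Nat.card G₁) := ho.of_dvd_nat (card_dvd_of_le le_sup_left)
  have o₂ : Odd (Nat.card G₂) := ho.of_dvd_nat (card_dvd_of_le le_sup_right)
  have cm : ∀ {a b : Γ}, a ∈ V → b ∈ V → a * b = b * a := fun {a b} ha hb =>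
    congrArg Subtype.val (hV.1.is_comm.comm (⟨a, ha⟩ : V) ⟨b, hb⟩)
  have sq : ∀ {a : Γ}, a ∈ V → a * a = 1 := fun ha => by rw [← sq]; exact hV.2 _ ha
  obtain ⟨k₁, hk₁, ck₁⟩ := SetLike.not_le_iff_exists.1 hc1
  obtain ⟨r₁, hr₁, cr₁⟩ := SetLike.not_le_iff_exists.1
    fun h => hc1 (cent_of_cent hV ho n₁ n₂ h)
  have key : ∀ k ∈ ⁅V, G₁⁆, k ∉ centralizer (G₂ : Set Γ) → ∀ r ∈ ⁅V, G₂⁆,
      r ∉ centralizer (G₁ : Set Γ) →
      k * r ∈ centralizer (G₁ : Set Γ) ∨ r * k ∈ centralizer (G₂ : Set Γ) := by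
    intro k hk ck r hr cr
    by_contra h
    rw [not_or] at h
    obtain ⟨g, hg, e⟩ := conj_coset hV o₁ n₁ t₁ (comm_le n₂ hr) hk cr h.1
    obtain ⟨g', hg', e'⟩ := conj_coset hV o₂ n₂ t₂ (comm_le n₁ hk) hr ck h.2
    refine hc2 k hk (fun e => ck (e ▸ one_mem _)) (g⁻¹ * g')
      (mul_mem (inv_mem (mem_sup_left hg)) (mem_sup_right hg')) ?_
    have : g⁻¹ * g' * k * (g⁻¹ * g')⁻¹ = r := by
      calc g⁻¹ * g' * k * (g⁻¹ * g')⁻¹ = g⁻¹ * (g' * k * g'⁻¹) * g := by group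
        _ = r := by rw [e', cm (comm_le n₂ hr) (comm_le n₁ hk), ← e]; group
    rwa [this]
  obtain ⟨r₂, hr₂, cr₂, ne⟩ : ∃ r ∈ ⁅V, G₂⁆, r ∉ centralizer (G₁ : Set Γ) ∧ r₁ ≠ r := by
    obtain ⟨r, hr, h1, h2⟩ : ∃ r ∈ ⁅V, G₂⁆, r ≠ 1 ∧ r₁ ≠ r := by
      obtain ⟨a, ha, b, hb, a1, b1, ab⟩ := exists_three hV o₂ n₂ t₂
      by_cases h : r₁ = a
      · exact ⟨b, hb, b1, h ▸ ab⟩
      · exact ⟨a, ha, a1, h⟩
    by_cases h : r ∈ centralizer (G₁ : Set Γ)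
    · exact ⟨r * r₁, mul_mem hr hr₁, fun k => cr₁ ((mul_mem_cancel_left h).1 k),
        fun e => h1 (right_eq_mul.1 e)⟩
    · exact ⟨r, hr, h, h2⟩
  have inj : ∀ k ∈ ⁅V, G₁⁆, k ≠ 1 → k ∉ centralizer (G₂ : Set Γ) := by
    intro k hk k1 ck
    obtain ⟨r, hr, cr, h⟩ : ∃ r ∈ ⁅V, G₂⁆, r ∉ centralizer (G₁ : Set Γ) ∧
        r * k₁ ∉ centralizer (G₂ : Set Γ) := by
      by_cases h : r₁ * k₁ ∈ centralizer (G₂ : Set Γ)
      · exact ⟨r₂, hr₂, cr₂, fun h' => ne (uniq hV o₂ n₂ hr₁ hr₂ h h')⟩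
      · exact ⟨r₁, hr₁, cr₁, h⟩
    have h1 := (key k₁ hk₁ ck₁ r hr cr).resolve_right h
    have h2 := (key (k₁ * k) (mul_mem hk₁ hk) (fun h' => ck₁ ((mul_mem_cancel_right ck).1 h')) r hr
      cr).resolve_right fun h' => h (by rw [← mul_assoc] at h'; exact (mul_mem_cancel_right ck).1 h')
    exact k1 (left_eq_mul.1 (uniq hV o₁ n₁ hk₁ (mul_mem hk₁ hk) h1 h2))
  have two : ∀ k ∈ ⁅V, G₁⁆, k ≠ 1 →
      k * r₁ ∈ centralizer (G₁ : Set Γ) ∨ k * r₂ ∈ centralizer (G₁ : Set Γ) := by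
    intro k hk k1
    by_contra h
    rw [not_or] at h
    exact ne (uniq hV o₂ n₂ hr₁ hr₂ ((key k hk (inj k hk k1) _ hr₁ cr₁).resolve_left h.1)
      ((key k hk (inj k hk k1) _ hr₂ cr₂).resolve_left h.2))
  obtain ⟨a, ha, b, hb, a1, b1, ab⟩ := exists_three hV o₁ n₁ t₁
  have c1 : a * b ≠ 1 := fun e => ab (mul_right_cancel (e.trans (sq (comm_le n₁ hb)).symm))
  have hab := mul_mem ha hb
  have u := fun {a b x : Γ} => @uniq Γ _ _ V G₁ hV o₁ n₁ a b x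
  rcases two a ha a1 with h1 | h1 <;> rcases two b hb b1 with h2 | h2 <;>
    rcases two _ hab c1 with h3 | h3
  all_goals first
    | exact ab (u ha hb h1 h2)
    | exact b1 (left_eq_mul.1 (u ha hab h1 h3))
    | exact a1 (right_eq_mul.1 (u hb hab h2 h3))

end Cfsg.Agent.H46.FMM
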