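import Cfsg.Agent.H78.G40B

/-! L40G piece CLS2: the involutions in the coset `PSp₆(3) τ` are conjugate. -/

set_option autoImplicit false

noncomputable section

namespace Cfsg.Agent.H46.G40Cls2

open Matrix Cfsg.Agent.H78.G40

abbrev n6 := Fin 3 ⊕ Fin 3
abbrev M6 := Matrix n6 n6 (ZMod 3)
abbrev JJ : M6 := J (Fin 3) (ZMod 3)

theorem cols (P : M6) (h : P.rank = 3) : ∃ A : Matrix n6 (Fin 3) (ZMod 3),
    (∃ C : Matrix (Fin 3) n6 (ZMod 3), P = A * C) ∧ (∃ E : Matrix n6 (Fin 3) (ZMod 3), A = P * E) ∧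
    ∀ v, A *ᵥ v = 0 → v = 0 := by
  classical
  let b := Module.finBasisOfFinrankEq (ZMod 3) (LinearMap.range P.mulVecLin) h
  have hA : ∀ v : Fin 3 → ZMod 3, (Matrix.of fun i j => (b j : n6 → ZMod 3) i) *ᵥ v =
      ((∑ j, v j • b j : LinearMap.range P.mulVecLin) : n6 → ZMod 3) := by
    intro v
    ext i
    simp [mulVec, dotProduct, mul_comm]
  refine ⟨Matrix.of fun i j => (b j : n6 → ZMod 3) i, ⟨Matrix.of fun j k =>
    b.repr ⟨P *ᵥ Pi.single k 1, ⟨Pi.single k 1, rfl⟩⟩ j, ?_⟩, ?_, fun v hv => ?_⟩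
  · ext i k
    have := congrFun (hA (b.repr ⟨P *ᵥ Pi.single k 1, ⟨Pi.single k 1, rfl⟩⟩)) i
    rw [b.sum_repr] at this
    have e : P i k = (P *ᵥ Pi.single k 1) i := by simp
    rw [e]
    exact this.symm
  · choose e he using fun j => (b j).2
    refine ⟨Matrix.of fun k j => e j k, ?_⟩
    ext i j
    have := congrFun (he j) i
    simp only [of_apply, ← this]
    rfl
  · rw [hA] at hv
    have h0 : (∑ j, v j • b j : LinearMap.range P.mulVecLin) = 0 := Subtype.ext hv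
    exact funext (Fintype.linearIndependent_iff.1 b.linearIndependent v h0)

theorem two (x : M6) : x + x = -x := by
  ext i j
  have : ∀ a : ZMod 3, a + a = -a := by decide
  exact this _

theorem rk (h : M6) (hh : h * h = 1) : (1 + h).rank + (1 - h).rank = 6 := by
  have k : LinearMap.ker (1 + h).mulVecLin = LinearMap.range (1 - h).mulVecLin := by
    ext v
    constructor
    · intro hv
      have hv' : (1 + h) *ᵥ v = 0 := hv
      refine ⟨-v, ?_⟩
      change (1 - h) *ᵥ (-v) = v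
      have e : (1 - h) = -1 - (1 + h) := by
        have := two 1
        rw [← this]; have t := two (1 : M6); rw [eq_sub_iff_add_eq]; abel
      rw [e, sub_mulVec, mulVec_neg, mulVec_neg, hv', neg_mulVec, one_mulVec]; simp
    · rintro ⟨w, rfl⟩
      change (1 + h) *ᵥ ((1 - h) *ᵥ w) = 0
      rw [mulVec_mulVec, show (1 + h) * (1 - h) = 1 - h * h by noncomm_ring, hh, sub_self, zero_mulVec]
  have := LinearMap.finrank_range_add_finrank_ker (1 + h).mulVecLin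
  rw [k] at this
  simpa [Matrix.rank] using this

theorem conj (h : M6) (hh : h * h = 1) (hJ : hᵀ * JJ * h = -JJ) :
    ∃ y : M6, yᵀ * JJ * y = JJ ∧ h * y = y * D6 := by
  have hJ' : hᵀ * JJ = -(JJ * h) := by
    rw [← neg_mul, ← hJ, mul_assoc _ h h, hh, mul_one]
  have hP : (1 + h)ᵀ * JJ = JJ * (1 - h) := by
    rw [transpose_add, transpose_one, add_mul, hJ', mul_sub, one_mul, mul_one, sub_eq_add_neg]
  have hu : IsUnit JJ.det := isUnit_det_J _ _
  have hr : (1 + h).rank = (1 - h).rank := by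
    rw [← rank_transpose, ← rank_mul_eq_left_of_isUnit_det JJ _ hu, hP,
      rank_mul_eq_right_of_isUnit_det JJ _ hu]
  have hs := rk h hh
  obtain ⟨A, ⟨C, hC⟩, ⟨E, hE⟩, -⟩ := cols (1 + h) (by omega)
  obtain ⟨B, -, ⟨E', hE'⟩, hB⟩ := cols (1 - h) (by omega)
  have hA1 : h * A = A := by
    rw [hE, ← Matrix.mul_assoc, mul_add, hh, mul_one, add_comm]
  have hB1 : h * B = -B := by
    rw [hE', ← Matrix.mul_assoc, mul_sub, hh, mul_one, ← Matrix.neg_mul, neg_sub]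
  have tw : ∀ {m n : Type} (x : Matrix m n (ZMod 3)), x = -x → x = 0 := by
    intro m n x hx
    ext i j
    have : ∀ a : ZMod 3, a = -a → a = 0 := by decide
    exact this _ (congrFun (congrFun hx i) j)
  have iso : ∀ (U : Matrix n6 (Fin 3) (ZMod 3)), (h * U = U ∨ h * U = -U) → Uᵀ * JJ * U = 0 := by
    intro U hU
    apply tw
    have e : (h * U)ᵀ * JJ * (h * U) = -(Uᵀ * JJ * U) := by
      rw [transpose_mul, show Uᵀ * hᵀ * JJ * (h * U) = Uᵀ * (hᵀ * JJ * h) * U by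
        simp only [Matrix.mul_assoc], hJ, Matrix.mul_neg, Matrix.neg_mul]
    rcases hU with hU | hU
    · rwa [hU] at e
    · rwa [hU, transpose_neg, Matrix.neg_mul, Matrix.neg_mul, Matrix.mul_neg, neg_neg] at e
  set M := Aᵀ * JJ * B with hM
  have hinj : ∀ v, M *ᵥ v = 0 → v = 0 := by
    intro v hv
    apply hB
    have e : Cᵀ * M = -(JJ * B) := by
      rw [hM, show Cᵀ * (Aᵀ * JJ * B) = (A * C)ᵀ * JJ * B by
        rw [transpose_mul]; simp only [Matrix.mul_assoc], ← hC, hP, Matrix.mul_assoc, Matrix.sub_mul,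
        Matrix.one_mul, hB1, sub_neg_eq_add, ← Matrix.mul_neg]
      congr 1
      ext i j
      have : ∀ a : ZMod 3, a + a = -a := by decide
      exact this _
    have e2 : JJ *ᵥ (B *ᵥ v) = 0 := by
      rw [mulVec_mulVec, ← neg_eq_zero, ← neg_mulVec, ← e, ← mulVec_mulVec, hv, mulVec_zero]
    exact eq_zero_of_mulVec_eq_zero hu.ne_zero e2
  have hMu : IsUnit M.det := by
    rw [isUnit_iff_ne_zero]
    intro h0
    obtain ⟨v, hv, e⟩ := exists_mulVec_eq_zero_iff.2 h0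
    exact hv (hinj v e)
  have h1 : Aᵀ * JJ * (B * -M⁻¹) = -1 := by
    rw [← Matrix.mul_assoc, ← hM, Matrix.mul_neg, mul_nonsing_inv _ hMu]
  have hB2 : h * (B * -M⁻¹) = -(B * -M⁻¹) := by rw [← Matrix.mul_assoc, hB1, Matrix.neg_mul]
  have h2 : (B * -M⁻¹)ᵀ * JJ * A = 1 := by
    have := congrArg transpose h1
    rw [transpose_mul, transpose_mul Aᵀ, transpose_transpose, J_transpose, transpose_neg, transpose_one,
      Matrix.neg_mul, Matrix.mul_neg, neg_inj, ← Matrix.mul_assoc] at this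
    exact this
  refine ⟨fromCols A (B * -M⁻¹), ?_, ?_⟩
  · rw [transpose_fromCols, fromRows_mul, fromRows_mul_fromCols, iso A (Or.inl hA1), h1, h2,
      iso _ (Or.inr hB2)]
    rfl
  · rw [mul_fromCols, hA1, hB2, D6, fromCols_mul_fromBlocks]
    simp

theorem cls2 : Cls2S := by
  intro x hx
  obtain ⟨g, rfl⟩ := QuotientGroup.mk'_surjective _ x
  have hg : g.1ᵀ * JJ * g.1 = JJ := SymplecticGroup.mem_iff'.1 g.2
  have hJ : (g.1 * D6)ᵀ * JJ * (g.1 * D6) = -JJ := by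
    rw [transpose_mul, D6_t, show D6 * g.1ᵀ * JJ * (g.1 * D6) = D6 * (g.1ᵀ * JJ * g.1) * D6 by
      simp only [mul_assoc], hg, D6_J]
  have hx' : mk2 (g * T2 g) = mk2 1 := by rw [map_mul, map_one]; exact hx
  have e : (g * T2 g).1 = g.1 * D6 * (g.1 * D6) := by
    change g.1 * (D6 * g.1 * D6) = _
    simp only [mul_assoc]
  rcases (mk2_eq _ _).1 hx' with h | h
  · rw [e] at h
    obtain ⟨y, hy, hy2⟩ := conj _ h hJ
    let Y : Sp6 := ⟨y, SymplecticGroup.mem_iff'.2 hy⟩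
    refine ⟨mk2 Y, ?_⟩
    have k : g * T2 Y = Y := Subtype.ext (by
      change g.1 * (D6 * y * D6) = y
      rw [← mul_assoc, ← mul_assoc, hy2, mul_assoc, D6_sq, mul_one])
    rw [eq_mul_inv_iff_mul_eq]
    change mk2 g * mk2 (T2 Y) = mk2 Y
    rw [← map_mul, k]
  · exfalso
    rw [e] at h
    have h' : g.1 * D6 * (g.1 * D6) = -1 := h
    have d1 : (g.1 * D6).det = -1 := by
      rw [det_mul, SymplecticGroup.det_eq_one g.2, one_mul]
      decide +kernel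
    have k : (1 + g.1 * D6) * (1 + g.1 * D6) = -(g.1 * D6) := by
      rw [← two, show (1 + g.1 * D6) * (1 + g.1 * D6) =
        1 + g.1 * D6 * (g.1 * D6) + (g.1 * D6 + g.1 * D6) by noncomm_ring, h']
      simp
    have d2 := congrArg det k
    rw [det_mul, det_neg, d1] at d2
    revert d2
    generalize (1 + g.1 * D6).det = a
    revert a
    decide

set_option linter.unusedTactic false in
theorem eqns_G40Cls2 : True := by
  first | (have := @Cfsg.Agent.H46.G40Cls2.n6.eq_def.{0,0,0}) | (have := @Cfsg.Agent.H46.G40Cls2.n6.eq_def.{0,0}) | (have := @Cfsg.Agent.H46.G40Cls2.n6.eq_def.{0}) | (have := @Cfsg.Agent.H46.G40Cls2.n6.eq_def) | skip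
  first | (have := @Cfsg.Agent.H46.G40Cls2.n6.eq_1.{0,0,0}) | (have := @Cfsg.Agent.H46.G40Cls2.n6.eq_1.{0,0}) | (have := @Cfsg.Agent.H46.G40Cls2.n6.eq_1.{0}) | (have := @Cfsg.Agent.H46.G40Cls2.n6.eq_1) | skip
  first | (have := @Cfsg.Agent.H46.G40Cls2.n6.eq_2.{0,0,0}) | (have := @Cfsg.Agent.H46.G40Cls2.n6.eq_2.{0,0}) | (have := @Cfsg.Agent.H46.G40Cls2.n6.eq_2.{0}) | (have := @Cfsg.Agent.H46.G40Cls2.n6.eq_2) | skip
  first | (have := @Cfsg.Agent.H46.G40Cls2.n6.eq_unfold.{0,0,0}) | (have := @Cfsg.Agent.H46.G40Cls2.n6.eq_unfold.{0,0}) | (have := @Cfsg.Agent.H46.G40Cls2.n6.eq_unfold.{0}) | (have := @Cfsg.Agent.H46.G40Cls2.n6.eq_unfold) | skip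
  first | (have := @Cfsg.Agent.H46.G40Cls2.n6.congr_simp.{0,0,0}) | (have := @Cfsg.Agent.H46.G40Cls2.n6.congr_simp.{0,0}) | (have := @Cfsg.Agent.H46.G40Cls2.n6.congr_simp.{0}) | (have := @Cfsg.Agent.H46.G40Cls2.n6.congr_simp) | skip
  first | (have := @Cfsg.Agent.H46.G40Cls2.M6.eq_def.{0,0,0}) | (have := @Cfsg.Agent.H46.G40Cls2.M6.eq_def.{0,0}) | (have := @Cfsg.Agent.H46.G40Cls2.M6.eq_def.{0}) | (have := @Cfsg.Agent.H46.G40Cls2.M6.eq_def) | skip
  first | (have := @Cfsg.Agent.H46.G40Cls2.M6.eq_1.{0,0,0}) | (have := @Cfsg.Agent.H46.G40Cls2.M6.eq_1.{0,0}) | (have := @Cfsg.Agent.H46.G40Cls2.M6.eq_1.{0}) | (have := @Cfsg.Agent.H46.G40Cls2.M6.eq_1) | skip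
  first | (have := @Cfsg.Agent.H46.G40Cls2.M6.eq_2.{0,0,0}) | (have := @Cfsg.Agent.H46.G40Cls2.M6.eq_2.{0,0}) | (have := @Cfsg.Agent.H46.G40Cls2.M6.eq_2.{0}) | (have := @Cfsg.Agent.H46.G40Cls2.M6.eq_2) | skip
  first | (have := @Cfsg.Agent.H46.G40Cls2.M6.eq_unfold.{0,0,0}) | (have := @Cfsg.Agent.H46.G40Cls2.M6.eq_unfold.{0,0}) | (have := @Cfsg.Agent.H46.G40Cls2.M6.eq_unfold.{0}) | (have := @Cfsg.Agent.H46.G40Cls2.M6.eq_unfold) | skip
  first | (have := @Cfsg.Agent.H46.G40Cls2.M6.congr_simp.{0,0,0}) | (have := @Cfsg.Agent.H46.G40Cls2.M6.congr_simp.{0,0}) | (have := @Cfsg.Agent.H46.G40Cls2.M6.congr_simp.{0}) | (have := @Cfsg.Agent.H46.G40Cls2.M6.congr_simp) | skip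
  first | (have := @Cfsg.Agent.H46.G40Cls2.JJ.eq_def.{0,0,0}) | (have := @Cfsg.Agent.H46.G40Cls2.JJ.eq_def.{0,0}) | (have := @Cfsg.Agent.H46.G40Cls2.JJ.eq_def.{0}) | (have := @Cfsg.Agent.H46.G40Cls2.JJ.eq_def) | skip
  first | (have := @Cfsg.Agent.H46.G40Cls2.JJ.eq_1.{0,0,0}) | (have := @Cfsg.Agent.H46.G40Cls2.JJ.eq_1.{0,0}) | (have := @Cfsg.Agent.H46.G40Cls2.JJ.eq_1.{0}) | (have := @Cfsg.Agent.H46.G40Cls2.JJ.eq_1) | skip
  first | (have := @Cfsg.Agent.H46.G40Cls2.JJ.eq_2.{0,0,0}) | (have := @Cfsg.Agent.H46.G40Cls2.JJ.eq_2.{0,0}) | (have := @Cfsg.Agent.H46.G40Cls2.JJ.eq_2.{0}) | (have := @Cfsg.Agent.H46.G40Cls2.JJ.eq_2) | skip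
  first | (have := @Cfsg.Agent.H46.G40Cls2.JJ.eq_unfold.{0,0,0}) | (have := @Cfsg.Agent.H46.G40Cls2.JJ.eq_unfold.{0,0}) | (have := @Cfsg.Agent.H46.G40Cls2.JJ.eq_unfold.{0}) | (have := @Cfsg.Agent.H46.G40Cls2.JJ.eq_unfold) | skip
  first | (have := @Cfsg.Agent.H46.G40Cls2.JJ.congr_simp.{0,0,0}) | (have := @Cfsg.Agent.H46.G40Cls2.JJ.congr_simp.{0,0}) | (have := @Cfsg.Agent.H46.G40Cls2.JJ.congr_simp.{0}) | (have := @Cfsg.Agent.H46.G40Cls2.JJ.congr_simp) | skip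
  trivial

end Cfsg.Agent.H46.G40Cls2
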