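import Cfsg.Agent.H46.J4L

set_option autoImplicit false
set_option maxRecDepth 1000000
set_option linter.all false
set_option Elab.async false

namespace Cfsg.Agent.H46.J4

open Cfsg Cfsg.Agent.H42 MulAction Cfsg.Agent.H81.DCE Cfsg.Agent.H81
open scoped Pointwise

noncomputable def lT_f : ℕ → ℕ := getL [338166595454607173937808147571255602, 7204858343175374399902591012419086, 4096336273257861558944733101763200124960, 6138030474783492339724980746353809393696, 23831384326676507523947556525745476044832, 348838263120054717775911613220771967633440, 391777849005301021161822824761879791648, 566233501830677708789329257929622323038240, 2874812758805995468362949091697439736432672, 697175751695449771429083291437839067220000, 3495551599013584901682043758391878410668064, 149467000519593615903425128536802464, 589994029588036803211817604546332192, 584828402856438615754612223622142176, 527891726325352086001449939482943520, 609452478603342601254326055075103776, 401643069237037295053310410721972256, 152184745589875953173491187039179808, 976944354185238578474546788649273376]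
theorem lT_slp : OK.slpB lT_f [[0, 1, 0, 1, 0, 1], [0, 1, 0, 1, 1, 1, 0, 1], [0, 1, 1, 1, 0, 1, 0, 1, 0, 1, 0, 1, 0], [13, 12, 13, 11], [13, 11, 11, 13], [14, 14, 15], [14, 15, 14], [17, 16, 17]] 11 = true := by decide +kernel
theorem lT_low : lowChk lT_f 19 [(0, [338166595454607173937808147571255602, 7204858343175374399902591012419086]), (1, [149467000519593615903425128536802464, 589994029588036803211817604546332192, 584828402856438615754612223622142176]), (4, [527891726325352086001449939482943520, 609452478603342601254326055075103776]), (2, [401643069237037295053310410721972256, 152184745589875953173491187039179808]), (3, [976944354185238578474546788649273376])] 64512 (getL [2, 3, 4, 5, 6, 7, 8, 9, 10]) 9 (getL [1727058, 196902, 74539, 2006311, 292936, 247336, 1580057, 1858177, 58405, 1407998, 1007525, 755920, 1154187, 1074305, 326012, 154115, 121347, 164134, 812161, 540368, 1310928]) (getL [0, 1, 2, 3, 4, 5, 6, 7, 8, 9, 10, 11, 12, 13, 14, 15, 17, 18, 16, 19, 21]) 21 = true := by decide +kernel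
theorem lT_card {A : Subgroup KK} (hA : CK.Tab A lT_f 11) (hC : ∀ i < 12, Tr A (bas i)) :
    64512 * 2 ^ 21 ≤ Nat.card A :=
  le_card_of_lowChk (Coded.Tab.of_slpB CK _ hA lT_slp) hC lT_low
theorem lT_gen : tF lT_f 11 = true := by decide +kernel

variable {G : Type*} [Group G] (D : Dat G)

theorem card_T : 64512 * 2 ^ 21 ≤ Nat.card (stabilizer KK x0 ⊓ (SD D).tsub : Subgroup KK) :=
  lT_card (D.tab_of_tF _ _ lT_gen) (D.tr_T _ _)

theorem ncard_x0 (D : Dat G) : (orbit KK x0).ncard ≤ 15180 := ncard_le inf_le_left (card_T D)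

set_option linter.unusedTactic false in
theorem eqns_J4C0 : True := by
  first | (have := @Cfsg.Agent.H46.J4.lT_f.eq_def.{0,0,0}) | (have := @Cfsg.Agent.H46.J4.lT_f.eq_def.{0,0}) | (have := @Cfsg.Agent.H46.J4.lT_f.eq_def.{0}) | (have := @Cfsg.Agent.H46.J4.lT_f.eq_def) | skip
  first | (have := @Cfsg.Agent.H46.J4.lT_f.eq_1.{0,0,0}) | (have := @Cfsg.Agent.H46.J4.lT_f.eq_1.{0,0}) | (have := @Cfsg.Agent.H46.J4.lT_f.eq_1.{0}) | (have := @Cfsg.Agent.H46.J4.lT_f.eq_1) | skip
  first | (have := @Cfsg.Agent.H46.J4.lT_f.eq_2.{0,0,0}) | (have := @Cfsg.Agent.H46.J4.lT_f.eq_2.{0,0}) | (have := @Cfsg.Agent.H46.J4.lT_f.eq_2.{0}) | (have := @Cfsg.Agent.H46.J4.lT_f.eq_2) | skip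
  first | (have := @Cfsg.Agent.H46.J4.lT_f.eq_unfold.{0,0,0}) | (have := @Cfsg.Agent.H46.J4.lT_f.eq_unfold.{0,0}) | (have := @Cfsg.Agent.H46.J4.lT_f.eq_unfold.{0}) | (have := @Cfsg.Agent.H46.J4.lT_f.eq_unfold) | skip
  first | (have := @Cfsg.Agent.H46.J4.lT_f.congr_simp.{0,0,0}) | (have := @Cfsg.Agent.H46.J4.lT_f.congr_simp.{0,0}) | (have := @Cfsg.Agent.H46.J4.lT_f.congr_simp.{0}) | (have := @Cfsg.Agent.H46.J4.lT_f.congr_simp) | skip
  trivial

end Cfsg.Agent.H46.J4
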