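import Cfsg.Agent.H16.J4Cz
import Cfsg.Agent.H16.J4Out
import Cfsg.Agent.S1552
import Cfsg.Agent.S1563

/-!
# The action of `M24` on the coordinates of the eleven-dimensional module
-/

set_option autoImplicit false
set_option maxRecDepth 1000000

namespace Cfsg.Agent.H46.JS

open H42 H83 H83.J4 Cfsg Subgroup MulAction

theorem nonempty_JL : Nonempty (@JL Spor.J4 _ H16.J4C.finite_J4) := by
  have := H16.J4C.finite_J4
  have := H16.J4C.simple_J4
  obtain ⟨z, P, h⟩ := H16.J4C.type_J4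
  obtain ⟨J, -⟩ := exists_JL H16.J4C.not_comm_J4 h
  exact ⟨J⟩

/-- The code of an element. -/
noncomputable def cd (m : M24) : ℕ := ofPerm m

theorem inM_cd (m : M24) : inM (cd m) = true :=
  inM_iff.mpr ⟨isPerm_ofPerm _, by rw [cd, toPerm_ofPerm]; exact m.2⟩

theorem toM_cd (m : M24) : toM (cd m) = m :=
  Subtype.ext ((coe_toM (inM_cd m)).trans (toPerm_ofPerm _))

/-- The action on coordinates. -/
noncomputable def ac (m : M24) (j : ℕ) : ℕ := cact (cd m) j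

theorem ac_toM {p : ℕ} (hp : inM p = true) (j : ℕ) : ac (toM p) j = cact p j := by
  rw [ac, toM_inj (inM_cd _) hp (toM_cd _)]

theorem ac_lt (m : M24) (j : ℕ) : ac m j < 2048 := cact_lt (inM_cd m) j

theorem xlt {i j : ℕ} (hi : i < 2048) (hj : j < 2048) : i ^^^ j < 2048 :=
  Nat.xor_lt_two_pow (n := 11) hi hj

theorem JL_ac {G : Type*} [Group G] [Finite G] (J : JL G) (m : M24) {j : ℕ} (hj : j < 2048) :
    J.lam m * J.χ j * (J.lam m)⁻¹ = J.χ (ac m j) := by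
  have := J.lam_χ (inM_cd m) hj
  rwa [toM_cd] at this

theorem ac_mul (m n : M24) {j : ℕ} (hj : j < 2048) : ac (m * n) j = ac m (ac n j) := by
  have := H16.J4C.finite_J4
  obtain ⟨J⟩ := nonempty_JL
  apply J.χ_inj (ac_lt _ _) (ac_lt _ _)
  rw [← JL_ac J _ hj, ← JL_ac J _ (ac_lt _ _), ← JL_ac J _ hj, map_mul]
  group

theorem ac_one {j : ℕ} (hj : j < 2048) : ac 1 j = j := by
  have := H16.J4C.finite_J4
  obtain ⟨J⟩ := nonempty_JL
  apply J.χ_inj (ac_lt _ _) hj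
  rw [← JL_ac J _ hj, map_one]
  group

theorem ac_xor (m : M24) {i j : ℕ} (hi : i < 2048) (hj : j < 2048) :
    ac m (i ^^^ j) = ac m i ^^^ ac m j := by
  have := H16.J4C.finite_J4
  obtain ⟨J⟩ := nonempty_JL
  apply J.χ_inj (ac_lt _ _) (xlt (ac_lt _ _) (ac_lt _ _))
  rw [← J.χ_mul (ac_lt _ _) (ac_lt _ _), ← JL_ac J _ (xlt hi hj), ← JL_ac J _ hi, ← JL_ac J _ hj,
    ← J.χ_mul hi hj]
  group

theorem ac_zero (m : M24) : ac m 0 = 0 := by
  have := ac_xor m (show 0 < 2048 by norm_num) (show 0 < 2048 by norm_num)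
  simpa using this

theorem ac_inv (m : M24) {j : ℕ} (hj : j < 2048) : ac m⁻¹ (ac m j) = j := by
  rw [← ac_mul _ _ hj, inv_mul_cancel, ac_one hj]

theorem ac_inv' (m : M24) {j : ℕ} (hj : j < 2048) : ac m (ac m⁻¹ j) = j := by
  rw [← ac_mul _ _ hj, mul_inv_cancel, ac_one hj]

theorem ac_inj {m : M24} {i j : ℕ} (hi : i < 2048) (hj : j < 2048) (e : ac m i = ac m j) : i = j := by
  rw [← ac_inv m hi, e, ac_inv m hj]

theorem ac_faith {m : M24} (h : ∀ j < 2048, ac m j = j) : m = 1 := by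
  have := H16.J4C.finite_J4
  obtain ⟨J⟩ := nonempty_JL
  apply J.lam_mem_V
  apply J.cent_V
  intro v hv
  obtain ⟨j, hj, rfl⟩ := J.exists_χ hv
  have := JL_ac J m hj
  rw [h j hj] at this
  rw [← mul_inv_eq_iff_eq_mul, this]

theorem ac_ext {m n : M24} (h : ∀ j < 2048, ac m j = ac n j) : m = n := by
  have : n⁻¹ * m = 1 := ac_faith fun j hj => by rw [ac_mul _ _ hj, h j hj, ac_inv _ hj]
  rw [← inv_mul_eq_one, ← inv_inj]; simpa using this

theorem lab_ac (m : M24) {j : ℕ} (hj : j < 2048) : lab (ac m j) = lab j := by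
  have := H16.J4C.finite_J4
  obtain ⟨J⟩ := nonempty_JL
  have h1 := J.conj_χ hj
  have h2 := J.conj_χ (ac_lt m j)
  rw [← JL_ac J m hj, conj_cj] at h2
  exact Bool.eq_iff_iff.mpr (h2.symm.trans h1)

theorem exists_ac_M {G : Type*} [Group G] [Finite G] (J : JL G) {x : G} (hx : x ∈ J.M) {j : ℕ}
    (hj : j < 2048) : x * J.χ j * x⁻¹ = J.χ (ac (J.μ x) j) :=
  J.conj_χ_eq hx (inM_cd _) (toM_cd _).symm hj

/-- The two orbits on nonzero vectors. -/
theorem ac_orbits {j : ℕ} (hj : j < 2048) (h0 : j ≠ 0) :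
    (lab j = true ∧ ∃ m, ac m 64 = j) ∨ (lab j = false ∧ ∃ m, ac m 88 = j) := by
  have := H16.J4C.finite_J4
  obtain ⟨J⟩ := nonempty_JL
  cases hl : lab j
  · right
    obtain ⟨m, hm, e⟩ := J.conj_t (J.χ_mem hj) (fun h => h0 ((J.χ_eq_one hj).mp h))
      (fun h => by simp [(J.conj_χ hj).mp h] at hl)
    refine ⟨rfl, J.μ m, J.χ_inj (ac_lt _ _) hj ?_⟩
    rw [← e, J.t_eq, ← exists_ac_M J hm (by norm_num)]
    rfl
  · left
    obtain ⟨g, hg⟩ := isConj_iff.mp ((J.conj_χ hj).mpr hl)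
    obtain ⟨m, hm, e⟩ := J.fusion J.z_mem_V (g := g) (by rw [hg]; exact J.χ_mem hj)
    refine ⟨rfl, J.μ m, J.χ_inj (ac_lt _ _) hj ?_⟩
    rw [← hg, ← e, ← J.χ_64, ← exists_ac_M J hm (by norm_num)]

theorem exists_ac {i j : ℕ} (hi : i < 2048) (hj : j < 2048) (hi0 : i ≠ 0) (hj0 : j ≠ 0)
    (h : lab i = lab j) : ∃ m, ac m i = j := by
  rcases ac_orbits hi hi0 with ⟨a, m, rfl⟩ | ⟨a, m, rfl⟩ <;>
    rcases ac_orbits hj hj0 with ⟨b, n, rfl⟩ | ⟨b, n, rfl⟩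
  · exact ⟨n * m⁻¹, by rw [ac_mul _ _ hi, ac_inv _ (by norm_num)]⟩
  · rw [a, b] at h; cases h
  · rw [a, b] at h; cases h
  · exact ⟨n * m⁻¹, by rw [ac_mul _ _ hi, ac_inv _ (by norm_num)]⟩

/-! ### Matrices -/

/-- The matrix of an additive map. -/
noncomputable def mk (f : ℕ → ℕ) : ℕ := packW 16 (fun i => f (Nat.pow 2 i)) 11

/-- All columns lie below `2048`. -/
def Ok (A : ℕ) : Prop := ∀ i < 12, fld 16 A i < 2048

theorem Ok.lt {A : ℕ} (h : Ok A) (v : ℕ) : mvS A v < 2048 := xorC_lt (w := 11) _ _ h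

theorem Ok.mm {A : ℕ} (h : Ok A) (B : ℕ) : Ok (mm A B) := fun i hi => by
  rw [fld_mm _ _ hi]; exact h.lt _

theorem Ok.xor {A B : ℕ} (h : Ok A) (h' : Ok B) : Ok (A ^^^ B) := fun i hi => by
  rw [fld_xor]; exact xlt (h i hi) (h' i hi)

theorem ok_zero : Ok 0 := fun i _ => by rw [fld_zero]; norm_num

theorem two_pow_lt {i : ℕ} (hi : i < 11) : 2 ^ i < 2048 :=
  Nat.pow_lt_pow_right (n := 11) (by norm_num : 1 < 2) hi

theorem mvS_eq11 (A : ℕ) {v : ℕ} (hv : v < 2048) : mvS A v = xorC (fld 16 A) v 11 := by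
  rw [mvS, xorC_succ, if_neg]
  rw [Nat.testBit_lt_two_pow (show v < 2 ^ 11 from hv)]; simp

theorem mvS_two_pow (A : ℕ) {i : ℕ} (hi : i < 12) : mvS A (2 ^ i) = fld 16 A i := xorC_two_pow _ hi

section mk
variable {f : ℕ → ℕ} (hl : ∀ j < 2048, f j < 2048)
include hl

theorem mk_lt : mk f < 2 ^ (16 * 11) :=
  packW_lt _ _ _ fun i hi => (hl _ (two_pow_lt hi)).trans (by norm_num)

theorem fld_mk {i : ℕ} (hi : i < 11) : fld 16 (mk f) i = f (2 ^ i) :=
  fld_packW _ _ _ (fun i hi => (hl _ (two_pow_lt hi)).trans (by norm_num)) hi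

theorem fld_mk11 : fld 16 (mk f) 11 = 0 := by
  rw [fld_eq, Nat.div_eq_of_lt (mk_lt hl), Nat.zero_mod]

theorem ok_mk : Ok (mk f) := fun i hi => by
  rcases Nat.lt_succ_iff_lt_or_eq.mp hi with h | rfl
  · rw [fld_mk hl h]; exact hl _ (two_pow_lt h)
  · rw [fld_mk11 hl]; norm_num

theorem okM_mk : okM (mk f) = true :=
  okM_iff.mpr ⟨(mk_lt hl).trans (by norm_num), fun i hi => (ok_mk hl i hi).trans (by norm_num)⟩

theorem mvS_mk (hx : ∀ i < 2048, ∀ j < 2048, f (i ^^^ j) = f i ^^^ f j) {j : ℕ} (hj : j < 2048) :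
    mvS (mk f) j = f j := by
  have h0 : f 0 = 0 := by simpa using hx 0 (by norm_num) 0 (by norm_num)
  rw [mvS_eq11 _ hj, xorC_congr (fun i hi => fld_mk hl hi),
    ← map_xorC h0 (· < 2048) (by norm_num) (fun _ _ => xlt) (fun a b ha hb => hx a ha b hb)
      (fun i => 2 ^ i) j 11 (fun i hi => two_pow_lt hi), xorC_pow_self (show j < 2 ^ 11 from hj)]

end mk

/-- The matrix of a coded permutation. -/
noncomputable def mt (p : ℕ) : ℕ := mk (cact p)

theorem ok_mt {p : ℕ} (hp : inM p = true) : Ok (mt p) := ok_mk fun j _ => cact_lt hp j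

theorem okM_mt {p : ℕ} (hp : inM p = true) : okM (mt p) = true := okM_mk fun j _ => cact_lt hp j

theorem mvS_mt {p : ℕ} (hp : inM p = true) {j : ℕ} (hj : j < 2048) : mvS (mt p) j = ac (toM p) j := by
  rw [ac_toM hp]
  refine mvS_mk (fun j _ => cact_lt hp j) (fun a ha b hb => ?_) hj
  rw [← ac_toM hp, ← ac_toM hp, ← ac_toM hp, ac_xor _ ha hb]

/-- The identity matrix. -/
def mE : ℕ := 1496589094695499186470450515180624054925945538215937

theorem mE_eq : mE = mk fun j => j := by decide +kernel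

theorem ok_mE : Ok mE := mE_eq ▸ ok_mk fun _ h => h

theorem mvS_mE {j : ℕ} (hj : j < 2048) : mvS mE j = j :=
  mE_eq ▸ mvS_mk (fun _ h => h) (fun _ _ _ _ => rfl) hj

theorem mvS_zero_left (v : ℕ) : mvS 0 v = 0 := by
  have := mvS_xor_left 0 0 v
  simpa using this

/-- An element fixing the columns of a matrix fixes its image. -/
theorem ac_fix_mvS {m : M24} {A : ℕ} (hA : Ok A) (h : ∀ i < 12, ac m (fld 16 A i) = fld 16 A i)
    (v : ℕ) : ac m (mvS A v) = mvS A v := by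
  rw [mvS, map_xorC (ac_zero m) (· < 2048) (by norm_num) (fun _ _ => xlt)
    (fun a b ha hb => ac_xor m ha hb) _ _ _ hA]
  exact xorC_congr h

/-- The stabiliser of a vector. -/
def stab (j : ℕ) (hj : j < 2048) : Subgroup M24 where
  carrier := {m | ac m j = j}
  mul_mem' {a b} ha hb := by
    simp only [Set.mem_ofPred_eq] at *
    rw [ac_mul _ _ hj, hb, ha]
  one_mem' := ac_one hj
  inv_mem' {a} ha := by
    simp only [Set.mem_ofPred_eq] at *
    conv_lhs => rw [← ha]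
    exact ac_inv _ hj

theorem mem_stab {j : ℕ} {hj : j < 2048} {m : M24} : m ∈ stab j hj ↔ ac m j = j := Iff.rfl

theorem chk_stab : allL (fun g => Nat.beq (cact g 64) 64) gensS = true ∧
    allL (fun g => Nat.beq (cact g 88) 88) gensD2 = true ∧
    allB (fun j => Bool.or (Nat.beq j 0) (Bool.and
      (Bool.or (Nat.beq j 64) (anyL (fun g => force (cact g j) fun k =>
        Bool.and (!Nat.beq k j) (!Nat.beq k (Nat.xor j 64))) gensS))
      (Bool.or (Nat.beq j 88) (anyL (fun g => force (cact g j) fun k =>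
        Bool.and (!Nat.beq k j) (!Nat.beq k (Nat.xor j 88))) gensD2)))) 2048 = true := by
  decide +kernel

theorem GS_le : GS ≤ stab 64 (by norm_num) := GS_eq ▸ gen_le _ fun g hg => by
  rw [mem_stab, ac_toM (inM_gensS g hg)]; exact beq_iff.mp (allL_iff.mp chk_stab.1 g hg)

theorem GD2_le : GD2 ≤ stab 88 (by norm_num) := GD2_eq ▸ gen_le _ fun g hg => by
  rw [mem_stab, ac_toM (inM_gensD2 g hg)]; exact beq_iff.mp (allL_iff.mp chk_stab.2.1 g hg)

theorem sp_aux {v : ℕ} {L : List ℕ} (hL : ∀ g ∈ L, inM g = true) (hv : ∀ g ∈ L, ac (toM g) v = v) {j : ℕ}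
    (h : Bool.or (Nat.beq j v) (anyL (fun g => force (cact g j) fun k =>
        Bool.and (!Nat.beq k j) (!Nat.beq k (Nat.xor j v))) L) = true)
    (hs : ∀ m, ac m v = v → ac m j = j ∨ ac m j = j ^^^ v) : j = v := by
  rcases Bool.or_eq_true_iff.mp h with h | h
  · exact beq_iff.mp h
  · obtain ⟨g, hg, e⟩ := anyL_iff.mp h
    simp only [force_eq, Bool.and_eq_true, Bool.not_eq_true', beq_false_iff] at e
    have := hs _ (hv g hg)
    rw [ac_toM (hL g hg)] at this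
    exact (this.elim e.1 e.2).elim

/-- The stabiliser of `v` has no fixed point modulo `v`. -/
theorem sp {v s : ℕ} (hv : v < 2048) (hs : s < 2048) (h0 : v ≠ 0)
    (h : ∀ m, ac m v = v → ac m s = s ∨ ac m s = s ^^^ v) : s = 0 ∨ s = v := by
  have key : ∀ r < 2048, (∀ j < 2048, j ≠ 0 → (∀ m, ac m r = r → ac m j = j ∨ ac m j = j ^^^ r) → j = r) →
      ∀ k, ac k r = v → s = 0 ∨ s = v := by
    intro r hr H k hk
    by_cases h1 : ac k⁻¹ s = 0
    · left; rw [← ac_inv' k hs, h1, ac_zero]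
    · right
      rw [← hk, ← H _ (ac_lt _ _) h1 fun m hm => ?_, ac_inv' _ hs]
      have e : ∀ j < 2048, ac m (ac k⁻¹ j) = ac k⁻¹ (ac (k * m * k⁻¹) j) := fun j hj => by
        rw [← ac_mul _ _ hj, ← ac_mul _ _ hj]; congr 1; group
      have hr' : ac k⁻¹ v = r := by rw [← hk, ac_inv _ hr]
      rw [e _ hs]
      rcases h (k * m * k⁻¹) (by rw [ac_mul _ _ hv, hr', ac_mul _ _ hr, hm, hk]) with h | h
      · left; rw [h]
      · right; rw [h, ac_xor _ hs hv, hr']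
  have c := fun j hj (h0 : j ≠ 0) => Bool.and_eq_true_iff.mp ((Bool.or_eq_true_iff.mp
    (of_allB chk_stab.2.2 (i := j) hj)).resolve_left (fun h => h0 (beq_iff.mp h)))
  rcases ac_orbits hv h0 with ⟨-, k, hk⟩ | ⟨-, k, hk⟩
  · exact key 64 (by norm_num) (fun j hj j0 => sp_aux inM_gensS
      (fun g hg => GS_le (gensS_mem g hg)) (c j hj j0).1) k hk
  · exact key 88 (by norm_num) (fun j hj j0 => sp_aux inM_gensD2
      (fun g hg => GD2_le (gensD2_mem g hg)) (c j hj j0).2) k hk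

theorem fix_zero {s : ℕ} (hs : s < 2048) (h : ∀ m, ac m s = s) : s = 0 := by
  rcases sp (v := 64) (by norm_num) hs (by norm_num) (fun m _ => Or.inl (h m)) with h1 | h1
  · exact h1
  · rcases sp (v := 88) (by norm_num) hs (by norm_num) (fun m _ => Or.inl (h m)) with h2 | h2
    · exact h2
    · omega

/-- Stabilisers of nonzero vectors are maximal. -/
theorem coatom_stab {N : Subgroup M24} {v : ℕ} (hv : v = 64 ∨ v = 88) (h : ∀ m, ac m v = v → m ∈ N) :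
    N = ⊤ ∨ ∀ m ∈ N, ac m v = v := by
  by_cases hN : N = ⊤
  · exact Or.inl hN
  right
  rcases hv with rfl | rfl
  · have := (S1552.coatom.le_iff.mp (show GS ≤ N from fun m hm => h m (GS_le hm))).resolve_left hN
    exact fun m hm => GS_le (this ▸ hm)
  · have := (S1563.coatom.le_iff.mp (show GD2 ≤ N from fun m hm => h m (GD2_le hm))).resolve_left hN
    exact fun m hm => GD2_le (this ▸ hm)

theorem chk_irr : lab 64 = true ∧ lab 88 = false ∧ lab 3 = true ∧ lab (3 ^^^ 88) = true ∧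
    lab 1 = false ∧ lab 65 = false := by decide +kernel

/-- Irreducibility. -/
theorem irr (P : ℕ → Prop) (hx : ∀ i < 2048, ∀ j < 2048, P i → P j → P (i ^^^ j))
    (ha : ∀ m, ∀ j < 2048, P j → P (ac m j)) {v : ℕ} (hv : v < 2048) (h0 : v ≠ 0) (h : P v) {j : ℕ}
    (hj : j < 2048) : P j := by
  have tr : ∀ a < 2048, ∀ b < 2048, a ≠ 0 → b ≠ 0 → lab a = lab b → P a → P b := by
    intro a h1 b h2 h3 h4 h5 h6
    obtain ⟨m, rfl⟩ := exists_ac h1 h2 h3 h4 h5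
    exact ha m a h1 h6
  obtain ⟨c1, c2, c3, c4, c5, c6⟩ := chk_irr
  have both : P 64 ∧ P 88 := by
    cases hl : lab v
    · have := hx 1 (by norm_num) 65 (by norm_num)
        (tr v hv 1 (by norm_num) h0 (by norm_num) (hl.trans c5.symm) h)
        (tr v hv 65 (by norm_num) h0 (by norm_num) (hl.trans c6.symm) h)
      exact ⟨this, tr v hv 88 (by norm_num) h0 (by norm_num) (hl.trans c2.symm) h⟩
    · have := hx 3 (by norm_num) (3 ^^^ 88) (by decide)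
        (tr v hv 3 (by norm_num) h0 (by norm_num) (hl.trans c3.symm) h)
        (tr v hv (3 ^^^ 88) (by decide) h0 (by decide) (hl.trans c4.symm) h)
      exact ⟨tr v hv 64 (by norm_num) h0 (by norm_num) (hl.trans c1.symm) h, this⟩
  by_cases j0 : j = 0
  · subst j0
    have := hx v hv v hv h h
    rwa [Nat.xor_self] at this
  cases hl : lab j
  · exact tr 88 (by norm_num) j hj (by norm_num) j0 (c2.trans hl.symm) both.2
  · exact tr 64 (by norm_num) j hj (by norm_num) j0 (c1.trans hl.symm) both.1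

set_option linter.unusedTactic false in
theorem eqns_J4StD : True := by
  first | (have := @Cfsg.Agent.H46.JS.cd.eq_def.{0,0,0}) | (have := @Cfsg.Agent.H46.JS.cd.eq_def.{0,0}) | (have := @Cfsg.Agent.H46.JS.cd.eq_def.{0}) | (have := @Cfsg.Agent.H46.JS.cd.eq_def) | skip
  first | (have := @Cfsg.Agent.H46.JS.cd.eq_1.{0,0,0}) | (have := @Cfsg.Agent.H46.JS.cd.eq_1.{0,0}) | (have := @Cfsg.Agent.H46.JS.cd.eq_1.{0}) | (have := @Cfsg.Agent.H46.JS.cd.eq_1) | skip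
  first | (have := @Cfsg.Agent.H46.JS.cd.eq_2.{0,0,0}) | (have := @Cfsg.Agent.H46.JS.cd.eq_2.{0,0}) | (have := @Cfsg.Agent.H46.JS.cd.eq_2.{0}) | (have := @Cfsg.Agent.H46.JS.cd.eq_2) | skip
  first | (have := @Cfsg.Agent.H46.JS.cd.eq_unfold.{0,0,0}) | (have := @Cfsg.Agent.H46.JS.cd.eq_unfold.{0,0}) | (have := @Cfsg.Agent.H46.JS.cd.eq_unfold.{0}) | (have := @Cfsg.Agent.H46.JS.cd.eq_unfold) | skip
  first | (have := @Cfsg.Agent.H46.JS.cd.congr_simp.{0,0,0}) | (have := @Cfsg.Agent.H46.JS.cd.congr_simp.{0,0}) | (have := @Cfsg.Agent.H46.JS.cd.congr_simp.{0}) | (have := @Cfsg.Agent.H46.JS.cd.congr_simp) | skip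
  first | (have := @Cfsg.Agent.H46.JS.ac.eq_def.{0,0,0}) | (have := @Cfsg.Agent.H46.JS.ac.eq_def.{0,0}) | (have := @Cfsg.Agent.H46.JS.ac.eq_def.{0}) | (have := @Cfsg.Agent.H46.JS.ac.eq_def) | skip
  first | (have := @Cfsg.Agent.H46.JS.ac.eq_1.{0,0,0}) | (have := @Cfsg.Agent.H46.JS.ac.eq_1.{0,0}) | (have := @Cfsg.Agent.H46.JS.ac.eq_1.{0}) | (have := @Cfsg.Agent.H46.JS.ac.eq_1) | skip
  first | (have := @Cfsg.Agent.H46.JS.ac.eq_2.{0,0,0}) | (have := @Cfsg.Agent.H46.JS.ac.eq_2.{0,0}) | (have := @Cfsg.Agent.H46.JS.ac.eq_2.{0}) | (have := @Cfsg.Agent.H46.JS.ac.eq_2) | skip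
  first | (have := @Cfsg.Agent.H46.JS.ac.eq_unfold.{0,0,0}) | (have := @Cfsg.Agent.H46.JS.ac.eq_unfold.{0,0}) | (have := @Cfsg.Agent.H46.JS.ac.eq_unfold.{0}) | (have := @Cfsg.Agent.H46.JS.ac.eq_unfold) | skip
  first | (have := @Cfsg.Agent.H46.JS.ac.congr_simp.{0,0,0}) | (have := @Cfsg.Agent.H46.JS.ac.congr_simp.{0,0}) | (have := @Cfsg.Agent.H46.JS.ac.congr_simp.{0}) | (have := @Cfsg.Agent.H46.JS.ac.congr_simp) | skip
  first | (have := @Cfsg.Agent.H46.JS.mk.eq_def.{0,0,0}) | (have := @Cfsg.Agent.H46.JS.mk.eq_def.{0,0}) | (have := @Cfsg.Agent.H46.JS.mk.eq_def.{0}) | (have := @Cfsg.Agent.H46.JS.mk.eq_def) | skip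
  first | (have := @Cfsg.Agent.H46.JS.mk.eq_1.{0,0,0}) | (have := @Cfsg.Agent.H46.JS.mk.eq_1.{0,0}) | (have := @Cfsg.Agent.H46.JS.mk.eq_1.{0}) | (have := @Cfsg.Agent.H46.JS.mk.eq_1) | skip
  first | (have := @Cfsg.Agent.H46.JS.mk.eq_2.{0,0,0}) | (have := @Cfsg.Agent.H46.JS.mk.eq_2.{0,0}) | (have := @Cfsg.Agent.H46.JS.mk.eq_2.{0}) | (have := @Cfsg.Agent.H46.JS.mk.eq_2) | skip
  first | (have := @Cfsg.Agent.H46.JS.mk.eq_unfold.{0,0,0}) | (have := @Cfsg.Agent.H46.JS.mk.eq_unfold.{0,0}) | (have := @Cfsg.Agent.H46.JS.mk.eq_unfold.{0}) | (have := @Cfsg.Agent.H46.JS.mk.eq_unfold) | skip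
  first | (have := @Cfsg.Agent.H46.JS.mk.congr_simp.{0,0,0}) | (have := @Cfsg.Agent.H46.JS.mk.congr_simp.{0,0}) | (have := @Cfsg.Agent.H46.JS.mk.congr_simp.{0}) | (have := @Cfsg.Agent.H46.JS.mk.congr_simp) | skip
  first | (have := @Cfsg.Agent.H46.JS.Ok.eq_def.{0,0,0}) | (have := @Cfsg.Agent.H46.JS.Ok.eq_def.{0,0}) | (have := @Cfsg.Agent.H46.JS.Ok.eq_def.{0}) | (have := @Cfsg.Agent.H46.JS.Ok.eq_def) | skip
  first | (have := @Cfsg.Agent.H46.JS.Ok.eq_1.{0,0,0}) | (have := @Cfsg.Agent.H46.JS.Ok.eq_1.{0,0}) | (have := @Cfsg.Agent.H46.JS.Ok.eq_1.{0}) | (have := @Cfsg.Agent.H46.JS.Ok.eq_1) | skip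
  first | (have := @Cfsg.Agent.H46.JS.Ok.eq_2.{0,0,0}) | (have := @Cfsg.Agent.H46.JS.Ok.eq_2.{0,0}) | (have := @Cfsg.Agent.H46.JS.Ok.eq_2.{0}) | (have := @Cfsg.Agent.H46.JS.Ok.eq_2) | skip
  first | (have := @Cfsg.Agent.H46.JS.Ok.eq_unfold.{0,0,0}) | (have := @Cfsg.Agent.H46.JS.Ok.eq_unfold.{0,0}) | (have := @Cfsg.Agent.H46.JS.Ok.eq_unfold.{0}) | (have := @Cfsg.Agent.H46.JS.Ok.eq_unfold) | skip
  first | (have := @Cfsg.Agent.H46.JS.Ok.congr_simp.{0,0,0}) | (have := @Cfsg.Agent.H46.JS.Ok.congr_simp.{0,0}) | (have := @Cfsg.Agent.H46.JS.Ok.congr_simp.{0}) | (have := @Cfsg.Agent.H46.JS.Ok.congr_simp) | skip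
  first | (have := @Cfsg.Agent.H46.JS.mt.eq_def.{0,0,0}) | (have := @Cfsg.Agent.H46.JS.mt.eq_def.{0,0}) | (have := @Cfsg.Agent.H46.JS.mt.eq_def.{0}) | (have := @Cfsg.Agent.H46.JS.mt.eq_def) | skip
  first | (have := @Cfsg.Agent.H46.JS.mt.eq_1.{0,0,0}) | (have := @Cfsg.Agent.H46.JS.mt.eq_1.{0,0}) | (have := @Cfsg.Agent.H46.JS.mt.eq_1.{0}) | (have := @Cfsg.Agent.H46.JS.mt.eq_1) | skip
  first | (have := @Cfsg.Agent.H46.JS.mt.eq_2.{0,0,0}) | (have := @Cfsg.Agent.H46.JS.mt.eq_2.{0,0}) | (have := @Cfsg.Agent.H46.JS.mt.eq_2.{0}) | (have := @Cfsg.Agent.H46.JS.mt.eq_2) | skip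
  first | (have := @Cfsg.Agent.H46.JS.mt.eq_unfold.{0,0,0}) | (have := @Cfsg.Agent.H46.JS.mt.eq_unfold.{0,0}) | (have := @Cfsg.Agent.H46.JS.mt.eq_unfold.{0}) | (have := @Cfsg.Agent.H46.JS.mt.eq_unfold) | skip
  first | (have := @Cfsg.Agent.H46.JS.mt.congr_simp.{0,0,0}) | (have := @Cfsg.Agent.H46.JS.mt.congr_simp.{0,0}) | (have := @Cfsg.Agent.H46.JS.mt.congr_simp.{0}) | (have := @Cfsg.Agent.H46.JS.mt.congr_simp) | skip
  first | (have := @Cfsg.Agent.H46.JS.mE.eq_def.{0,0,0}) | (have := @Cfsg.Agent.H46.JS.mE.eq_def.{0,0}) | (have := @Cfsg.Agent.H46.JS.mE.eq_def.{0}) | (have := @Cfsg.Agent.H46.JS.mE.eq_def) | skip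
  first | (have := @Cfsg.Agent.H46.JS.mE.eq_1.{0,0,0}) | (have := @Cfsg.Agent.H46.JS.mE.eq_1.{0,0}) | (have := @Cfsg.Agent.H46.JS.mE.eq_1.{0}) | (have := @Cfsg.Agent.H46.JS.mE.eq_1) | skip
  first | (have := @Cfsg.Agent.H46.JS.mE.eq_2.{0,0,0}) | (have := @Cfsg.Agent.H46.JS.mE.eq_2.{0,0}) | (have := @Cfsg.Agent.H46.JS.mE.eq_2.{0}) | (have := @Cfsg.Agent.H46.JS.mE.eq_2) | skip
  first | (have := @Cfsg.Agent.H46.JS.mE.eq_unfold.{0,0,0}) | (have := @Cfsg.Agent.H46.JS.mE.eq_unfold.{0,0}) | (have := @Cfsg.Agent.H46.JS.mE.eq_unfold.{0}) | (have := @Cfsg.Agent.H46.JS.mE.eq_unfold) | skip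
  first | (have := @Cfsg.Agent.H46.JS.mE.congr_simp.{0,0,0}) | (have := @Cfsg.Agent.H46.JS.mE.congr_simp.{0,0}) | (have := @Cfsg.Agent.H46.JS.mE.congr_simp.{0}) | (have := @Cfsg.Agent.H46.JS.mE.congr_simp) | skip
  first | (have := @Cfsg.Agent.H46.JS.stab.eq_def.{0,0,0}) | (have := @Cfsg.Agent.H46.JS.stab.eq_def.{0,0}) | (have := @Cfsg.Agent.H46.JS.stab.eq_def.{0}) | (have := @Cfsg.Agent.H46.JS.stab.eq_def) | skip
  first | (have := @Cfsg.Agent.H46.JS.stab.eq_1.{0,0,0}) | (have := @Cfsg.Agent.H46.JS.stab.eq_1.{0,0}) | (have := @Cfsg.Agent.H46.JS.stab.eq_1.{0}) | (have := @Cfsg.Agent.H46.JS.stab.eq_1) | skip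
  first | (have := @Cfsg.Agent.H46.JS.stab.eq_2.{0,0,0}) | (have := @Cfsg.Agent.H46.JS.stab.eq_2.{0,0}) | (have := @Cfsg.Agent.H46.JS.stab.eq_2.{0}) | (have := @Cfsg.Agent.H46.JS.stab.eq_2) | skip
  first | (have := @Cfsg.Agent.H46.JS.stab.eq_unfold.{0,0,0}) | (have := @Cfsg.Agent.H46.JS.stab.eq_unfold.{0,0}) | (have := @Cfsg.Agent.H46.JS.stab.eq_unfold.{0}) | (have := @Cfsg.Agent.H46.JS.stab.eq_unfold) | skip
  first | (have := @Cfsg.Agent.H46.JS.stab.congr_simp.{0,0,0}) | (have := @Cfsg.Agent.H46.JS.stab.congr_simp.{0,0}) | (have := @Cfsg.Agent.H46.JS.stab.congr_simp.{0}) | (have := @Cfsg.Agent.H46.JS.stab.congr_simp) | skip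
  trivial

end Cfsg.Agent.H46.JS
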