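import Cfsg.Agent.H46.J4StF
import Cfsg.Agent.H23.Dbl2e
import Cfsg.Agent.H45.FiGrp2

/-!
# Groups acting on the doubled module
-/

set_option autoImplicit false
set_option maxRecDepth 1000000

namespace Cfsg.Agent.H46.JS

open H42 H83 H83.J4 Cfsg Subgroup MulAction H23.D2
open scoped Pointwise

local notation "C[" A "]" => Subgroup.centralizer (SetLike.coe A)
local notation "N[" A "]" => Subgroup.normalizer (SetLike.coe A)

/-- A group acting faithfully on the sum of two copies of the module. -/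
structure HM (H W : Type*) [Group H] [Group W] where
  /-- the action -/
  ρ : H →* MulAut W
  inj : Function.Injective ρ
  /-- coordinates -/
  e : ℕ → ℕ → W
  e_mul : ∀ i < 2048, ∀ j < 2048, ∀ k < 2048, ∀ l < 2048, e i j * e k l = e (i ^^^ k) (j ^^^ l)
  e_inj : ∀ i < 2048, ∀ j < 2048, ∀ k < 2048, ∀ l < 2048, e i j = e k l → i = k ∧ j = l
  e_surj : ∀ w, ∃ i < 2048, ∃ j < 2048, e i j = w
  /-- the swap -/
  τ : H
  /-- the diagonal group -/
  lam : M24 →* H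
  τ_e : ∀ i < 2048, ∀ j < 2048, ρ τ (e i j) = e j i
  lam_e : ∀ m, ∀ i < 2048, ∀ j < 2048, ρ (lam m) (e i j) = e (ac m i) (ac m j)
  spl : Spl τ lam.range
  fus : IsConj τ (τ * lam (toM z24))

/-- First conjugating element. -/
def k1 : ℕ := 979127512749506942872592717583521314
/-- Second conjugating element. -/
def k2 : ℕ := 109781369113748358421951029734052960

theorem zz : toM z24 * toM z24 = 1 := RB_sq z24_RB

theorem z_ne : toM z24 ≠ 1 := fun h => by simpa [h] using orderOf_z24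

namespace HM

variable {H W : Type*} [Group H] [Group W] (X : HM H W)

theorem e_zero : X.e 0 0 = 1 := by
  have := X.e_mul 0 (by norm_num) 0 (by norm_num) 0 (by norm_num) 0 (by norm_num)
  simpa using this

theorem ext {a b : H} (h : ∀ i < 2048, ∀ j < 2048, X.ρ a (X.e i j) = X.ρ b (X.e i j)) : a = b :=
  X.inj (MulEquiv.ext fun w => by obtain ⟨i, hi, j, hj, rfl⟩ := X.e_surj w; exact h i hi j hj)

theorem lam_inj : Function.Injective X.lam := fun a b h => ac_ext fun j hj => by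
  have h1 := X.lam_e a j hj j hj
  rw [h, X.lam_e b j hj j hj] at h1
  exact (X.e_inj _ (ac_lt _ _) _ (ac_lt _ _) _ (ac_lt _ _) _ (ac_lt _ _) h1).1.symm

theorem lam_τ (m : M24) : X.lam m * X.τ = X.τ * X.lam m := X.spl.comm _ ⟨m, rfl⟩

/-- Block matrices. -/
structure Blk (h : H) (a b c d : ℕ) : Prop where
  oa : Ok a
  ob : Ok b
  oc : Ok c
  od : Ok d
  app : ∀ i < 2048, ∀ j < 2048, X.ρ h (X.e i j) = X.e (mvS a i ^^^ mvS b j) (mvS c i ^^^ mvS d j)

variable {X}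

theorem Blk.mul {g h : H} {a b c d a' b' c' d' : ℕ} (p : X.Blk g a b c d) (q : X.Blk h a' b' c' d') :
    X.Blk (g * h) (mm a a' ^^^ mm b c') (mm a b' ^^^ mm b d') (mm c a' ^^^ mm d c')
      (mm c b' ^^^ mm d d') where
  oa := (p.oa.mm _).xor (p.ob.mm _)
  ob := (p.oa.mm _).xor (p.ob.mm _)
  oc := (p.oc.mm _).xor (p.od.mm _)
  od := (p.oc.mm _).xor (p.od.mm _)
  app i hi j hj := by
    rw [map_mul, MulAut.mul_apply, q.app i hi j hj,
      p.app _ (xlt (q.oa.lt _) (q.ob.lt _)) _ (xlt (q.oc.lt _) (q.od.lt _))]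
    simp only [mvS_xor_left, mvS_mm, mvS_xor]
    congr 1 <;> simp only [Nat.xor_assoc, Nat.xor_left_comm]

theorem Blk.congr {g : H} {a b c d a' b' c' d' : ℕ} (p : X.Blk g a b c d)
    (h : a = a' ∧ b = b' ∧ c = c' ∧ d = d') : X.Blk g a' b' c' d' := by
  obtain ⟨rfl, rfl, rfl, rfl⟩ := h; exact p

variable (X)

theorem blk_τ : X.Blk X.τ 0 mE mE 0 := ⟨ok_zero, ok_mE, ok_mE, ok_zero, fun i hi j hj => by
  simp only [mvS_zero_left, mvS_mE hi, mvS_mE hj, Nat.zero_xor, Nat.xor_zero, X.τ_e i hi j hj]⟩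

theorem blk_lam {p : ℕ} (hp : inM p = true) : X.Blk (X.lam (toM p)) (mt p) 0 0 (mt p) :=
  ⟨ok_mt hp, ok_zero, ok_zero, ok_mt hp, fun i hi j hj => by
    simp only [mvS_zero_left, mvS_mt hp hi, mvS_mt hp hj, Nat.zero_xor, Nat.xor_zero,
      X.lam_e _ i hi j hj]⟩

theorem blk_z : X.Blk (X.lam (toM z24)) mL 0 0 mL := chk_y.2.2.2.2.2.1 ▸ X.blk_lam inM_z24

/-- The transvection. -/
def mT : ℕ := 1679279586997547812476028436021318905669137532583937

variable {X}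

theorem not_tv {w : H} (p : X.Blk w mT 0 0 mT) : False := by
  have c : lab (mvS mT 128) ≠ lab 128 := by decide +kernel
  have key : ∀ m u, X.lam m = w * u → X.ρ u (X.e 128 128) = X.e 128 128 → False := by
    intro m u e hu
    have h1 := X.lam_e m 128 (by norm_num) 128 (by norm_num)
    rw [e, map_mul, MulAut.mul_apply, hu, p.app _ (by norm_num) _ (by norm_num)] at h1
    simp only [mvS_zero_left, Nat.zero_xor, Nat.xor_zero] at h1
    rw [(X.e_inj _ (p.oa.lt _) _ (p.oa.lt _) _ (ac_lt _ _) _ (ac_lt _ _) h1).1,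
      lab_ac _ (by norm_num)] at c
    exact c rfl
  have hc : w * X.τ = X.τ * w := X.ext fun i hi j hj => by
    rw [map_mul, map_mul, MulAut.mul_apply, MulAut.mul_apply, X.τ_e i hi j hj, p.app i hi j hj,
      p.app j hj i hi, X.τ_e _ (xlt (p.oa.lt _) (p.ob.lt _)) _ (xlt (p.oc.lt _) (p.od.lt _))]
    simp only [mvS_zero_left, Nat.zero_xor, Nat.xor_zero]
  rcases X.spl.cover w hc with ⟨m, e⟩ | ⟨m, e⟩
  · exact key m 1 (by rw [e, mul_one]) (by simp)
  · exact key m _ e (X.τ_e _ (by norm_num) _ (by norm_num))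

theorem not_bad {h : H} (p : X.Blk h mE mN mN mL) : False := by
  have i1 : inM k1 = true := by decide +kernel
  have i2 : inM k2 = true := by decide +kernel
  have q1 := (((X.blk_lam i1).mul p).mul (X.blk_lam (inM_pinv i1))).congr
    (a' := mE) (b' := 1973057918991434131630334935479642282343369485058173)
    (c' := 1973057918991434131630334935479642282343369485058173)
    (d' := 476491660259019569756118419963480613694907158233212) (by decide +kernel)
  have q2 := (((X.blk_lam i2).mul p).mul (X.blk_lam (inM_pinv i2))).congr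
    (a' := mE) (b' := 1978903546422304573237197095986813974632895659114621)
    (c' := 1978903546422304573237197095986813974632895659114621)
    (d' := 482337287689890011362980580470652305984433332289660) (by decide +kernel)
  exact not_tv (((p.mul q1).mul q2).congr (by decide +kernel))

/-- The three outcomes. -/
noncomputable def finB (a b c d : ℕ) : Bool :=
  Bool.or (Bool.and (Nat.beq (Nat.xor (mvS a 64) (mvS b 64)) 0) (Nat.beq (Nat.xor (mvS c 64) (mvS d 64)) 0))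
    (Bool.or (Bool.and (Bool.and (Nat.beq a mL) (Nat.beq b 0)) (Bool.and (Nat.beq c 0) (Nat.beq d mE)))
      (Bool.and (Bool.and (Nat.beq a mE) (Nat.beq b mN)) (Bool.and (Nat.beq c mN) (Nat.beq d mL))))

theorem fin {h : H} {a b c d : ℕ} (p : X.Blk h a b c d) (k : finB a b c d = true) :
    ∃ h : H, ∀ i < 2048, ∀ j < 2048, X.ρ h (X.e i j) = X.e (ac (toM z24) i) j := by
  simp only [finB, Bool.or_eq_true, Bool.and_eq_true, beq_iff] at k
  rcases k with ⟨k1, k2⟩ | ⟨⟨rfl, rfl⟩, rfl, rfl⟩ | ⟨⟨rfl, rfl⟩, rfl, rfl⟩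
  · have := p.app 64 (by norm_num) 64 (by norm_num)
    rw [show mvS a 64 ^^^ mvS b 64 = 0 from k1, show mvS c 64 ^^^ mvS d 64 = 0 from k2, X.e_zero,
      MulEquiv.map_eq_one_iff, ← X.e_zero] at this
    exact absurd (X.e_inj _ (by norm_num) _ (by norm_num) _ (by norm_num) _ (by norm_num) this).1
      (by norm_num)
  · refine ⟨h, fun i hi j hj => ?_⟩
    simp only [p.app i hi j hj, mvS_zero_left, Nat.zero_xor, Nat.xor_zero, mvS_mE hj, mvS_mL hi]
  · exact (not_bad p).elim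

variable (X)

/-- An element centralising `C(z)` and conjugating `τ` to `τ z`. -/
theorem of_cent {h : H} (h1 : h * X.lam (toM y1) = X.lam (toM y1) * h)
    (h2 : h * X.lam (toM y2) = X.lam (toM y2) * h) (ht : h * X.τ * h⁻¹ = X.τ * X.lam (toM z24)) :
    ∃ h : H, ∀ i < 2048, ∀ j < 2048, X.ρ h (X.e i j) = X.e (ac (toM z24) i) j := by
  choose a ha c hc e using fun i => X.e_surj (X.ρ h (X.e i 0))
  have z : (0 : ℕ) < 2048 := by norm_num
  have hx : ∀ i < 2048, ∀ j < 2048, a (i ^^^ j) = a i ^^^ a j ∧ c (i ^^^ j) = c i ^^^ c j := by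
    intro i hi j hj
    apply X.e_inj _ (ha _) _ (hc _) _ (xlt (ha _) (ha _)) _ (xlt (hc _) (hc _))
    rw [← X.e_mul _ (ha _) _ (hc _) _ (ha _) _ (hc _), e, e, e, ← map_mul, X.e_mul i hi 0 z j hj 0 z]
    rfl
  have hy : ∀ y, h * X.lam y = X.lam y * h → ∀ j < 2048,
      a (ac y j) = ac y (a j) ∧ c (ac y j) = ac y (c j) := by
    intro y hy j hj
    apply X.e_inj _ (ha _) _ (hc _) _ (ac_lt _ _) _ (ac_lt _ _)
    rw [← X.lam_e _ _ (ha _) _ (hc _), e, e, ← MulAut.mul_apply, ← map_mul, ← hy, map_mul,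
      MulAut.mul_apply, X.lam_e _ _ hj _ z, ac_zero]
  have ma := end_CZ (fun j _ => ha j) (fun i hi j hj => (hx i hi j hj).1)
    (fun j hj => (hy _ h1 j hj).1) (fun j hj => (hy _ h2 j hj).1)
  have mc := end_CZ (fun j _ => hc j) (fun i hi j hj => (hx i hi j hj).2)
    (fun j hj => (hy _ h1 j hj).2) (fun j hj => (hy _ h2 j hj).2)
  have p : X.Blk h (JS.mk a) (mm mL (JS.mk c)) (JS.mk c) (mm mL (JS.mk a)) := by
    refine ⟨ok_mk fun j _ => ha j, ok_mL.mm _, ok_mk fun j _ => hc j, ok_mL.mm _, fun i hi j hj => ?_⟩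
    have va := fun j hj => mvS_mk (fun j _ => ha j) (fun i hi j hj => (hx i hi j hj).1) (j := j) hj
    have vc := fun j hj => mvS_mk (fun j _ => hc j) (fun i hi j hj => (hx i hi j hj).2) (j := j) hj
    have e1 : X.e i j = X.e i 0 * X.ρ X.τ (X.e j 0) := by
      rw [X.τ_e j hj 0 z, X.e_mul i hi 0 z 0 z j hj]; simp
    rw [mvS_mm, mvS_mm, va i hi, va j hj, vc i hi, vc j hj, mvS_mL (ha j), mvS_mL (hc j), e1, map_mul,
      ← MulAut.mul_apply, ← map_mul, mul_inv_eq_iff_eq_mul.mp ht, map_mul, map_mul, MulAut.mul_apply,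
      MulAut.mul_apply, ← e, ← e, X.lam_e _ _ (ha _) _ (hc _), X.τ_e _ (ac_lt _ _) _ (ac_lt _ _),
      X.e_mul _ (ha _) _ (hc _) _ (ac_lt _ _) _ (ac_lt _ _)]
  generalize JS.mk a = A at ma p
  generalize JS.mk c = B at mc p
  simp only [List.mem_cons, List.not_mem_nil, or_false] at ma mc
  rcases ma with rfl | rfl | rfl | rfl <;> rcases mc with rfl | rfl | rfl | rfl <;>
    first
    | exact fin p (by decide +kernel)
    | exact fin (X.blk_z.mul p) (by decide +kernel)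
    | exact fin (X.blk_τ.mul p) (by decide +kernel)
    | exact fin (X.blk_τ.mul (X.blk_z.mul p)) (by decide +kernel)

variable [Finite H]

/-- Conjugation by `g⁻¹` maps `C(z)` into the diagonal group. -/
theorem conj_CZ {g : H} (ht : g * X.τ * g⁻¹ = X.τ * X.lam (toM z24)) {y : M24} (hy : y ∈ CZ) :
    ∃ y', X.lam y' = g⁻¹ * X.lam y * g := by
  have key : ∀ y ∈ CZ, ∀ n, Odd n → y ^ n = 1 → g⁻¹ * X.lam y * g⁻¹⁻¹ ∈ X.lam.range := by
    intro y hy n hn e
    apply X.spl.odd_mem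
    · have h1 : X.lam y * (g * X.τ * g⁻¹) = g * X.τ * g⁻¹ * X.lam y := by
        rw [ht, ← mul_assoc, X.lam_τ, mul_assoc, mul_assoc, ← map_mul, ← map_mul, mem_cent_iff.mp hy]
      calc _ = g⁻¹ * (X.lam y * (g * X.τ * g⁻¹)) * g := by group
        _ = _ := by rw [h1]; group
    · refine hn.of_dvd_nat (orderOf_dvd_of_pow_eq_one ?_)
      rw [pow_conj, ← map_pow, e]; simp
  have := CZ_le (S := (X.lam.range.comap (MulAut.conj g⁻¹).toMonoidHom).comap X.lam)
    (key _ y1_mem 7 (by decide) y1_pow) (key _ y2_mem 3 (by decide) y2_pow) hy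
  simpa using this

theorem exists_norm : ∃ g ∈ N[RB.map X.lam], g * X.τ * g⁻¹ = X.τ * X.lam (toM z24) := by
  -- first arrange that `g` centralises `z`
  have hz : toM z24 ∈ CZ := mem_cent_iff.mpr rfl
  have card : ∀ g : H, g * X.τ * g⁻¹ = X.τ * X.lam (toM z24) → ∀ S : Subgroup M24,
      (∀ y ∈ CZ, ∀ y', X.lam y' = g⁻¹ * X.lam y * g → y' ∈ S) →
      21504 ≤ Nat.card S ∧ (S ≤ CZ → CZ ≤ S) := by
    intro g ht S hS
    choose φ hφ using fun y : CZ => X.conj_CZ ht y.2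
    have h1 : Nat.card CZ ≤ Nat.card S := Nat.card_le_card_of_injective
      (fun y => ⟨φ y, hS y y.2 _ (hφ y)⟩) fun a b e => by
        have e' : φ a = φ b := congrArg Subtype.val e
        have := (hφ a).symm.trans (e' ▸ hφ b)
        exact Subtype.ext (X.lam_inj (by simpa using this))
    exact ⟨card_CZ ▸ h1, fun h => (eq_of_le_of_card_ge h h1).ge⟩
  obtain ⟨g, ht, gz⟩ : ∃ g : H, g * X.τ * g⁻¹ = X.τ * X.lam (toM z24) ∧
      X.lam (toM z24) = g⁻¹ * X.lam (toM z24) * g := by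
    obtain ⟨g, ht⟩ := isConj_iff.mp X.fus
    obtain ⟨z', e⟩ := X.conj_CZ ht hz
    have h2 : orderOf z' = 2 := by
      rw [← orderOf_injective X.lam X.lam_inj, e, show g⁻¹ * X.lam (toM z24) * g =
        g⁻¹ * X.lam (toM z24) * g⁻¹⁻¹ by simp, H42.orderOf_conj', orderOf_injective X.lam X.lam_inj,
        orderOf_z24]
    have h3 := (card g ht (centralizer {z'}) fun y hy y' e' => mem_cent_iff.mpr (X.lam_inj (by
      rw [map_mul, map_mul, e, e']
      calc _ = g⁻¹ * X.lam (y * toM z24) * g := by rw [map_mul]; group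
        _ = _ := by rw [mem_cent_iff.mp hy, map_mul]; group))).1
    rcases invol_classes h2 with ⟨k, rfl⟩ | ⟨k, rfl⟩
    · refine ⟨g * X.lam k, ?_, ?_⟩
      · rw [← ht, mul_assoc g, X.lam_τ]; group
      · simp only [map_mul, map_inv] at e
        calc _ = (X.lam k)⁻¹ * (X.lam k * X.lam (toM z24) * (X.lam k)⁻¹) * X.lam k := by group
          _ = _ := by rw [e]; group
    · rw [card_eq_of_conj k CT _ (conj_mem_cent k _), card_CT] at h3
      omega
  have into : ∀ y ∈ CZ, ∀ y', X.lam y' = g⁻¹ * X.lam y * g → y' ∈ CZ := fun y hy y' e' =>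
    mem_cent_iff.mpr (X.lam_inj (by
      rw [map_mul, map_mul, gz, e']
      calc _ = g⁻¹ * X.lam (y * toM z24) * g := by rw [map_mul]; group
        _ = _ := by rw [mem_cent_iff.mp hy, map_mul]; group))
  have onto : ∀ c ∈ CZ, ∃ y ∈ CZ, X.lam c = g⁻¹ * X.lam y * g := by
    intro c hc
    have := (card g ht (((CZ.map X.lam).map (MulAut.conj g⁻¹).toMonoidHom).comap X.lam)
      fun y hy y' e' => ⟨_, ⟨y, hy, rfl⟩, by simp [e']⟩).2 (by
        rintro y' ⟨_, ⟨y, hy, rfl⟩, e'⟩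
        exact into y hy y' (by simpa using e'.symm)) hc
    obtain ⟨_, ⟨y, hy, rfl⟩, e'⟩ := this
    exact ⟨y, hy, by simpa using e'.symm⟩
  have hRC : ∀ u ∈ RB, u ∈ CZ := fun u hu => mem_cent_iff.mpr
    (comm_of_sq (fun _ => RB_sq) hu z24_RB)
  refine ⟨g, ?_, ht⟩
  rw [← inv_mem_iff]
  apply mem_N_of
  rintro _ ⟨u, hu, rfl⟩
  rw [RB_eq] at hu
  refine gen_le (((RB.map X.lam).comap (MulAut.conj g⁻¹).toMonoidHom).comap X.lam) (fun u hu => ?_) hu
  have hu' : toM u ∈ RB := RB_eq ▸ toM_mem_gen hu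
  obtain ⟨x, e⟩ := X.conj_CZ ht (hRC _ hu')
  rcases mem_RB_or (into _ (hRC _ hu') x e) (X.lam_inj (by
      rw [map_mul, e, map_one]
      calc _ = g⁻¹ * X.lam (toM u * toM u) * g := by rw [map_mul]; group
        _ = 1 := by rw [RB_sq hu']; simp)) (fun c hc => X.lam_inj (by
      obtain ⟨y, hy, e'⟩ := onto c hc
      have := congrArg X.lam (comm_of_sq (fun _ => RB_sq) hu' (conj_mem_RB (CZ_le_GO hy) hu'))
      simp only [map_mul, map_inv, e, e'] at this ⊢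
      calc _ = g⁻¹ * (X.lam (toM u) * (X.lam y * X.lam (toM u) * (X.lam y)⁻¹)) * g := by group
        _ = _ := by rw [this]; group)) with h | h
  · exact ⟨x, h, by simp [e]⟩
  · exfalso
    apply E16_move hu
    have z : (0 : ℕ) < 2048 := by norm_num
    have h1 : ∀ w, X.ρ (X.lam x) (X.ρ (X.lam (toM z24)) w * w) = X.ρ (X.lam (toM z24)) w * w := by
      intro w
      obtain ⟨i, hi, j, hj, rfl⟩ := X.e_surj w
      rw [X.lam_e _ i hi j hj, X.e_mul _ (ac_lt _ _) _ (ac_lt _ _) i hi j hj,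
        X.lam_e _ _ (xlt (ac_lt _ _) hi) _ (xlt (ac_lt _ _) hj), h i hi, h j hj]
    have h2 := h1 (X.ρ g⁻¹ (X.e 128 0))
    have h3 : ∀ (a : H) w, X.ρ (g⁻¹ * a * g) (X.ρ g⁻¹ w) = X.ρ g⁻¹ (X.ρ a w) := fun a w => by
      rw [← MulAut.mul_apply, ← MulAut.mul_apply, ← map_mul, ← map_mul]; congr 2; group
    rw [gz, e, h3, ← map_mul, h3, MulEquiv.apply_eq_iff_eq, X.lam_e _ _ (by norm_num) _ z,
      X.e_mul _ (ac_lt _ _) _ (ac_lt _ _) _ (by norm_num) _ z,
      X.lam_e _ _ (xlt (ac_lt _ _) (by norm_num)) _ (xlt (ac_lt _ _) z)] at h2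
    exact (X.e_inj _ (ac_lt _ _) _ (ac_lt _ _) _ (xlt (ac_lt _ _) (by norm_num)) _
      (xlt (ac_lt _ _) z) h2).1

theorem exists_tr : ∃ h ∈ C[RB.map X.lam], h * X.τ * h⁻¹ = X.τ * X.lam (toM z24) := by
  have hGO : ∀ c ∈ GO, X.lam c ∈ N[RB.map X.lam] := fun c hc => mem_N_of (by
    rintro _ ⟨u, hu, rfl⟩
    exact ⟨_, conj_mem_RB hc hu, by simp⟩)
  have cU : Nat.card (RB.map X.lam) = 16 := by rw [card_map_of_injective X.lam_inj, card_RB]
  have hI : Irr X.lam.range (RB.map X.lam) := by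
    intro Y hY hn
    by_cases h0 : Y = ⊥
    · exact Or.inl h0
    right
    obtain ⟨⟨x, hx⟩, x1⟩ := ne_bot_iff_exists_ne_one.mp h0
    obtain ⟨u, hu, rfl⟩ := hY hx
    have u1 : u ≠ 1 := fun h => x1 (Subtype.ext (by simp [h]))
    have tr : ∀ v ∈ RB, v ≠ 1 → ∃ k ∈ GO, k * toM z24 * k⁻¹ = v := fun v hv v1 => by
      obtain ⟨k, e⟩ := conj_z24 (orderOf_eq_prime (by rw [sq, RB_sq hv]) v1)
        (by rw [fixSet_RB hv v1, ← fixSet_z24, card_fixSet_z24]; norm_num)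
      exact ⟨k, mem_GO_of_conj z24_RB z_ne (e ▸ hv), e⟩
    refine le_antisymm hY ?_
    rintro _ ⟨v, hv, rfl⟩
    by_cases v1 : v = 1
    · rw [v1, map_one]; exact one_mem _
    obtain ⟨k, hk, rfl⟩ := tr u hu u1
    obtain ⟨l, hl, rfl⟩ := tr v hv v1
    have hm : l * k⁻¹ ∈ GO := mul_mem hl (inv_mem hk)
    have := norm_conj (hn _ ⟨_, rfl⟩ (hGO _ hm)) hx
    rw [← map_inv, ← map_mul, ← map_mul] at this
    convert this using 2; group
  rcases tr_or_dvd X.spl (map_le_range _ _) hI with h | h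
  · exact h _ ⟨_, z24_RB, rfl⟩
  exfalso
  rw [H45.card_mulAut_elem (p := 2) (n := 4) Nat.prime_two
    (fun a b => Subtype.ext (by
      obtain ⟨_, u, hu, rfl⟩ := a; obtain ⟨_, v, hv, rfl⟩ := b
      show X.lam u * X.lam v = X.lam v * X.lam u
      rw [← map_mul, ← map_mul, comm_of_sq (fun _ => RB_sq) hu hv]))
    (fun a => Subtype.ext (by
      obtain ⟨_, u, hu, rfl⟩ := a
      show X.lam u ^ 2 = 1
      rw [← map_pow, sq, RB_sq hu, map_one])) cU] at h
  have h1 := Nat.le_of_dvd (by decide) h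
  rw [show ∏ i : Fin 4, (2 ^ 4 - 2 ^ (i : ℕ)) = 20160 by decide] at h1
  obtain ⟨g, hg, ht⟩ := X.exists_norm
  have h2 : 2 ≤ Nat.card {v : H // v ∈ RB.map X.lam ∧ ∃ g ∈ N[RB.map X.lam], g * X.τ * g⁻¹ = X.τ * v} :=
    Finite.one_lt_card_iff_nontrivial.mpr ⟨⟨1, one_mem _, 1, one_mem _, by simp⟩,
      ⟨_, ⟨_, z24_RB, rfl⟩, g, hg, ht⟩, fun e => z_ne (X.lam_inj (by
        rw [map_one]; exact (congrArg Subtype.val e).symm))⟩
  have h3 := card_mul_index (C[RB.map X.lam].subgroupOf (X.lam.range ⊓ N[RB.map X.lam]))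
  have h4 : Nat.card (C[RB.map X.lam].subgroupOf (X.lam.range ⊓ N[RB.map X.lam])) ≤ 16 := by
    rw [← cU]
    refine Nat.card_le_card_of_injective (fun x => ⟨x.1.1, ?_⟩) fun a b e =>
      Subtype.ext (Subtype.ext (by simpa using e))
    obtain ⟨⟨_, ⟨c, rfl⟩, -⟩, hc⟩ := x
    exact ⟨c, cent_RB' fun r hr => X.lam_inj (by
      rw [map_mul, map_mul]; exact (mem_C.mp hc _ ⟨r, hr, rfl⟩).symm), rfl⟩
  have h5 : 322560 ≤ Nat.card (X.lam.range ⊓ N[RB.map X.lam] : Subgroup H) := by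
    rw [← card_stab_octad oct0_mem, ← card_map_of_injective (f := X.lam) X.lam_inj]
    refine card_le_of_le ?_
    rintro _ ⟨c, hc, rfl⟩
    exact ⟨⟨c, rfl⟩, hGO c hc⟩
  rw [relIndex] at h1
  nlinarith

/-- The group contains an element acting on one summand only. -/
theorem exists_one : ∃ h : H, ∀ i < 2048, ∀ j < 2048, X.ρ h (X.e i j) = X.e (ac (toM z24) i) j := by
  obtain ⟨h, hC, ht⟩ := X.exists_tr
  have hu : ∀ u ∈ RB, h⁻¹ * X.lam u * h = X.lam u := fun u hu => by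
    rw [mul_assoc, mem_C.mp hC _ ⟨u, hu, rfl⟩]; simp
  have key : ∀ y ∈ CZ, ∃ u ∈ RB, X.lam (y * u) = h⁻¹ * X.lam y * h := by
    intro y hy
    obtain ⟨y', e⟩ := X.conj_CZ ht hy
    refine ⟨y⁻¹ * y', cent_RB' fun r hr => X.lam_inj ?_, by simpa using e⟩
    have h1 := hu _ (conj_mem_RB (CZ_le_GO hy) hr)
    have h2 := hu r hr
    simp only [map_mul, map_inv, e] at h1 ⊢
    calc _ = (X.lam y)⁻¹ * (h⁻¹ * X.lam y * h) * (h⁻¹ * X.lam r * h) := by rw [h2]
      _ = (X.lam y)⁻¹ * (h⁻¹ * (X.lam y * X.lam r * (X.lam y)⁻¹) * h) * (h⁻¹ * X.lam y * h) := by group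
      _ = _ := by rw [h1]; group
  obtain ⟨u, ru, eu⟩ := key _ y1_mem
  obtain ⟨v, rv, ev⟩ := key _ y2_mem
  obtain ⟨e, he, e1, e2⟩ := inner_of_rel ru rv fun w hw => X.lam_inj (by
    rw [← hu _ hw]
    clear hw
    induction w with
    | nil => simp [wd_nil]
    | cons c w ih =>
      rw [wd_cons, wd_cons, map_mul, map_mul, ih]
      split_ifs
      · rw [eu]; group
      · rw [ev]; group)
  have fin : ∀ y u, e * y * e⁻¹ = y * u → X.lam (y * u) = h⁻¹ * X.lam y * h →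
      h * X.lam e * X.lam y = X.lam y * (h * X.lam e) := fun y u e1 eu => by
    rw [← e1, map_mul, map_mul, map_inv] at eu
    calc _ = h * (X.lam e * X.lam y * (X.lam e)⁻¹) * X.lam e := by group
      _ = _ := by rw [eu]; group
  refine X.of_cent (fin _ _ e1 eu) (fin _ _ e2 ev) ?_
  rw [← ht, mul_assoc h, X.lam_τ]; group

end HM

set_option linter.unusedTactic false in
theorem eqns_J4StE : True := by
  first | (have := @Cfsg.Agent.H46.JS.k1.eq_def.{0,0,0}) | (have := @Cfsg.Agent.H46.JS.k1.eq_def.{0,0}) | (have := @Cfsg.Agent.H46.JS.k1.eq_def.{0}) | (have := @Cfsg.Agent.H46.JS.k1.eq_def) | skip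
  first | (have := @Cfsg.Agent.H46.JS.k1.eq_1.{0,0,0}) | (have := @Cfsg.Agent.H46.JS.k1.eq_1.{0,0}) | (have := @Cfsg.Agent.H46.JS.k1.eq_1.{0}) | (have := @Cfsg.Agent.H46.JS.k1.eq_1) | skip
  first | (have := @Cfsg.Agent.H46.JS.k1.eq_2.{0,0,0}) | (have := @Cfsg.Agent.H46.JS.k1.eq_2.{0,0}) | (have := @Cfsg.Agent.H46.JS.k1.eq_2.{0}) | (have := @Cfsg.Agent.H46.JS.k1.eq_2) | skip
  first | (have := @Cfsg.Agent.H46.JS.k1.eq_unfold.{0,0,0}) | (have := @Cfsg.Agent.H46.JS.k1.eq_unfold.{0,0}) | (have := @Cfsg.Agent.H46.JS.k1.eq_unfold.{0}) | (have := @Cfsg.Agent.H46.JS.k1.eq_unfold) | skip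
  first | (have := @Cfsg.Agent.H46.JS.k1.congr_simp.{0,0,0}) | (have := @Cfsg.Agent.H46.JS.k1.congr_simp.{0,0}) | (have := @Cfsg.Agent.H46.JS.k1.congr_simp.{0}) | (have := @Cfsg.Agent.H46.JS.k1.congr_simp) | skip
  first | (have := @Cfsg.Agent.H46.JS.k2.eq_def.{0,0,0}) | (have := @Cfsg.Agent.H46.JS.k2.eq_def.{0,0}) | (have := @Cfsg.Agent.H46.JS.k2.eq_def.{0}) | (have := @Cfsg.Agent.H46.JS.k2.eq_def) | skip
  first | (have := @Cfsg.Agent.H46.JS.k2.eq_1.{0,0,0}) | (have := @Cfsg.Agent.H46.JS.k2.eq_1.{0,0}) | (have := @Cfsg.Agent.H46.JS.k2.eq_1.{0}) | (have := @Cfsg.Agent.H46.JS.k2.eq_1) | skip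
  first | (have := @Cfsg.Agent.H46.JS.k2.eq_2.{0,0,0}) | (have := @Cfsg.Agent.H46.JS.k2.eq_2.{0,0}) | (have := @Cfsg.Agent.H46.JS.k2.eq_2.{0}) | (have := @Cfsg.Agent.H46.JS.k2.eq_2) | skip
  first | (have := @Cfsg.Agent.H46.JS.k2.eq_unfold.{0,0,0}) | (have := @Cfsg.Agent.H46.JS.k2.eq_unfold.{0,0}) | (have := @Cfsg.Agent.H46.JS.k2.eq_unfold.{0}) | (have := @Cfsg.Agent.H46.JS.k2.eq_unfold) | skip
  first | (have := @Cfsg.Agent.H46.JS.k2.congr_simp.{0,0,0}) | (have := @Cfsg.Agent.H46.JS.k2.congr_simp.{0,0}) | (have := @Cfsg.Agent.H46.JS.k2.congr_simp.{0}) | (have := @Cfsg.Agent.H46.JS.k2.congr_simp) | skip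
  first | (have := @Cfsg.Agent.H46.JS.HM.mT.eq_def.{0,0,0}) | (have := @Cfsg.Agent.H46.JS.HM.mT.eq_def.{0,0}) | (have := @Cfsg.Agent.H46.JS.HM.mT.eq_def.{0}) | (have := @Cfsg.Agent.H46.JS.HM.mT.eq_def) | skip
  first | (have := @Cfsg.Agent.H46.JS.HM.mT.eq_1.{0,0,0}) | (have := @Cfsg.Agent.H46.JS.HM.mT.eq_1.{0,0}) | (have := @Cfsg.Agent.H46.JS.HM.mT.eq_1.{0}) | (have := @Cfsg.Agent.H46.JS.HM.mT.eq_1) | skip
  first | (have := @Cfsg.Agent.H46.JS.HM.mT.eq_2.{0,0,0}) | (have := @Cfsg.Agent.H46.JS.HM.mT.eq_2.{0,0}) | (have := @Cfsg.Agent.H46.JS.HM.mT.eq_2.{0}) | (have := @Cfsg.Agent.H46.JS.HM.mT.eq_2) | skip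
  first | (have := @Cfsg.Agent.H46.JS.HM.mT.eq_unfold.{0,0,0}) | (have := @Cfsg.Agent.H46.JS.HM.mT.eq_unfold.{0,0}) | (have := @Cfsg.Agent.H46.JS.HM.mT.eq_unfold.{0}) | (have := @Cfsg.Agent.H46.JS.HM.mT.eq_unfold) | skip
  first | (have := @Cfsg.Agent.H46.JS.HM.mT.congr_simp.{0,0,0}) | (have := @Cfsg.Agent.H46.JS.HM.mT.congr_simp.{0,0}) | (have := @Cfsg.Agent.H46.JS.HM.mT.congr_simp.{0}) | (have := @Cfsg.Agent.H46.JS.HM.mT.congr_simp) | skip
  first | (have := @Cfsg.Agent.H46.JS.HM.finB.eq_def.{0,0,0}) | (have := @Cfsg.Agent.H46.JS.HM.finB.eq_def.{0,0}) | (have := @Cfsg.Agent.H46.JS.HM.finB.eq_def.{0}) | (have := @Cfsg.Agent.H46.JS.HM.finB.eq_def) | skip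
  first | (have := @Cfsg.Agent.H46.JS.HM.finB.eq_1.{0,0,0}) | (have := @Cfsg.Agent.H46.JS.HM.finB.eq_1.{0,0}) | (have := @Cfsg.Agent.H46.JS.HM.finB.eq_1.{0}) | (have := @Cfsg.Agent.H46.JS.HM.finB.eq_1) | skip
  first | (have := @Cfsg.Agent.H46.JS.HM.finB.eq_2.{0,0,0}) | (have := @Cfsg.Agent.H46.JS.HM.finB.eq_2.{0,0}) | (have := @Cfsg.Agent.H46.JS.HM.finB.eq_2.{0}) | (have := @Cfsg.Agent.H46.JS.HM.finB.eq_2) | skip
  first | (have := @Cfsg.Agent.H46.JS.HM.finB.eq_unfold.{0,0,0}) | (have := @Cfsg.Agent.H46.JS.HM.finB.eq_unfold.{0,0}) | (have := @Cfsg.Agent.H46.JS.HM.finB.eq_unfold.{0}) | (have := @Cfsg.Agent.H46.JS.HM.finB.eq_unfold) | skip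
  first | (have := @Cfsg.Agent.H46.JS.HM.finB.congr_simp.{0,0,0}) | (have := @Cfsg.Agent.H46.JS.HM.finB.congr_simp.{0,0}) | (have := @Cfsg.Agent.H46.JS.HM.finB.congr_simp.{0}) | (have := @Cfsg.Agent.H46.JS.HM.finB.congr_simp) | skip
  trivial

end Cfsg.Agent.H46.JS
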