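import Cfsg.Agent.H46.J4StD
import Cfsg.Agent.H23.Dbl2b

/-!
# Computations in `M24` for the standard form problem of `J4`
-/

set_option autoImplicit false
set_option maxRecDepth 1000000

namespace Cfsg.Agent.H46.JS

open H42 H83 H83.J4 Cfsg Subgroup MulAction
open scoped commutatorElement

theorem chk_tv : cact z24 4 = 4 ^^^ 64 ∧ cact z24 128 = 128 ^^^ 124 ∧ cact t24 1 = 1 ^^^ 64 ∧
    cact t24 128 = 128 ^^^ 55 ∧ lab 124 = false := by decide +kernel

theorem xor_cancel {a b c : ℕ} (h : a ^^^ b = a ^^^ c) : b = c := by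
  have := congrArg (a ^^^ ·) h
  simpa [← Nat.xor_assoc] using this

theorem xor_self_left (a b : ℕ) : a ^^^ (a ^^^ b) = b := by rw [← Nat.xor_assoc]; simp

/-- There are no transvections. -/
theorem no_tv {m : M24} {s : ℕ} (hs : s < 2048) (h : ∀ j < 2048, ac m j = j ∨ ac m j = j ^^^ s) :
    m = 1 := by
  by_contra h1
  have hss : ac m s = s := by
    rcases h s hs with e | e
    · exact e
    · rw [Nat.xor_self, ← ac_zero m] at e
      rw [ac_inj hs (by norm_num) e, ac_zero]
  have h2 : orderOf m = 2 := orderOf_eq_prime (ac_faith fun j hj => by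
    rw [sq, ac_mul _ _ hj]
    rcases h j hj with e | e
    · rw [e, e]
    · rw [e, ac_xor _ hj hs, e, hss, Nat.xor_assoc, Nat.xor_self, Nat.xor_zero]) h1
  have key : ∀ (k x : M24) (a b u v : ℕ), k * x * k⁻¹ = m → a < 2048 → b < 2048 → u < 2048 → v < 2048 →
      u ≠ 0 → v ≠ 0 → ac x a = a ^^^ u → ac x b = b ^^^ v → u = v := by
    intro k x a b u v e ha hb hu hv u0 v0 e1 e2
    have : ∀ a < 2048, ∀ u < 2048, u ≠ 0 → ac x a = a ^^^ u → ac k u = s := by
      intro a ha u hu u0 e1
      have e3 : ac m (ac k a) = ac k a ^^^ ac k u := by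
        rw [← e, ac_mul _ _ (ac_lt _ _), ac_inv _ ha, ac_mul _ _ ha, e1, ac_xor _ ha hu]
      rcases h _ (ac_lt k a) with e4 | e4
      · rw [e3] at e4
        have : ac k u = ac k 0 := by
          rw [ac_zero]; exact xor_cancel (e4.trans (Nat.xor_zero _).symm)
        exact absurd (ac_inj hu (by norm_num) this) u0
      · exact xor_cancel (e3.symm.trans e4)
    exact ac_inj hu hv ((this a ha u hu u0 e1).trans (this b hb v hv v0 e2).symm)
  obtain ⟨c1, c2, c3, c4, -⟩ := chk_tv
  rcases invol_classes h2 with ⟨k, e⟩ | ⟨k, e⟩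
  · exact absurd (key k _ 4 128 64 124 e (by norm_num) (by norm_num) (by norm_num) (by norm_num)
      (by norm_num) (by norm_num) ((ac_toM inM_z24 _).trans c1) ((ac_toM inM_z24 _).trans c2))
      (by norm_num)
  · exact absurd (key k _ 1 128 64 55 e (by norm_num) (by norm_num) (by norm_num) (by norm_num)
      (by norm_num) (by norm_num) ((ac_toM inM_t24 _).trans c3) ((ac_toM inM_t24 _).trans c4))
      (by norm_num)

/-! ### The Sylow subgroup -/

/-- A basis of the commutator space of the Sylow subgroup. -/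
def mB : ℕ := 25779905102060870531556548827742043605567340621
/-- Coordinates with respect to this basis. -/
def mBi : ℕ := 1081517545354328272874391065606578877451666757779485
/-- The commutators giving the basis. -/
def lB : List (ℕ × ℕ) := [(0, 1), (1, 1), (1, 2), (0, 4), (1, 4), (2, 4), (0, 128), (1, 128), (3, 128),
  (0, 256), (0, 0), (0, 0)]
/-- A commutator in the Sylow subgroup. -/
noncomputable def cP : ℕ := pmul (pconj (nth gensP24 0) (nth gensP24 1)) (pinv (nth gensP24 1))

theorem chk_P : (∀ i < 12, (lB.getD i (0, 0)).1 < 4 ∧ (lB.getD i (0, 0)).2 < 2048 ∧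
      fld 16 mB i = cact (nth gensP24 (lB.getD i (0, 0)).1) (lB.getD i (0, 0)).2 ^^^ (lB.getD i (0, 0)).2) ∧
    force cP (fun c => allB (fun j => Bool.and
      (Bool.or (!Nat.beq (cact c j) j) (Nat.beq (mv mB (mv mBi j)) j))
      (Bool.or (Bool.or (Nat.beq j 0) (Nat.beq j 64))
        (anyL (fun g => !Nat.beq (cact g j) j) gensP24))) 2048) = true ∧ okM mBi = true ∧
    orbAll (actsOf pm gensP24) pid 1100 (fun y => Bool.or (Nat.beq y pid)
      (anyB (fun i => force (fld 16 mB i) fun v => !Nat.beq (cact y v) v) 10)) = true := by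
  decide +kernel

theorem nthP {i : ℕ} (hi : i < 4) : nth gensP24 i ∈ gensP24 := by
  rw [nth_eq]; interval_cases i <;> simp [gensP24]

theorem P_fix {j : ℕ} (hj : j < 2048) (h : ∀ m ∈ P24, ac m j = j) : j = 0 ∨ j = 64 := by
  have c := chk_P.2.1
  rw [force_eq] at c
  rcases Bool.or_eq_true_iff.mp (Bool.and_eq_true_iff.mp (of_allB c hj)).2 with c | c
  · simpa only [Bool.or_eq_true, beq_iff] using c
  · obtain ⟨g, hg, e⟩ := anyL_iff.mp c
    simp only [Bool.not_eq_true', beq_false_iff] at e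
    exact absurd ((ac_toM (inM_gensP24 g hg) j).symm.trans (h _ (gensP24_mem g hg))) e

theorem P_col {i : ℕ} (hi : i < 12) : ∃ m ∈ P24, ∃ v < 2048, fld 16 mB i = ac m v ^^^ v := by
  obtain ⟨h1, h2, h3⟩ := chk_P.1 i hi
  exact ⟨_, gensP24_mem _ (nthP h1), _, h2, by rw [h3, ac_toM (inM_gensP24 _ (nthP h1))]⟩

theorem P_span (U : ℕ → Prop) (h0 : U 0) (hx : ∀ a b, U a → U b → U (a ^^^ b))
    (hc : ∀ m ∈ P24, ∀ v < 2048, U (ac m v ^^^ v)) {j : ℕ} (hj : j < 2048)
    (h : ∀ a ∈ P24, ∀ b ∈ P24, ac ⁅a, b⁆ j = j) : U j := by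
  have c := chk_P.2.1
  rw [force_eq] at c
  have i0 := inM_gensP24 _ (nthP (i := 0) (by norm_num))
  have i1 := inM_gensP24 _ (nthP (i := 1) (by norm_num))
  have h1 := h _ (gensP24_mem _ (nthP (i := 0) (by norm_num))) _ (gensP24_mem _ (nthP (i := 1) (by norm_num)))
  rw [commutatorElement_def, ← toM_pconj i0 i1, ← toM_pinv i1,
    ← toM_pmul (inM_pconj i0 i1) (inM_pinv i1), ac_toM (inM_pmul (inM_pconj i0 i1) (inM_pinv i1))] at h1
  rcases Bool.or_eq_true_iff.mp (Bool.and_eq_true_iff.mp (of_allB c hj)).1 with c | c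
  · simp only [Bool.not_eq_true', beq_false_iff] at c
    exact absurd h1 c
  · rw [← beq_iff.mp c, mv_eq _ (mv_lt chk_P.2.2.1 (by omega))]
    refine xorC_induction U h0 hx _ _ _ fun i hi => ?_
    obtain ⟨m, hm, v, hv, e⟩ := P_col hi
    rw [e]; exact hc m hm v hv

theorem P_cent {m : M24} (hm : m ∈ P24)
    (h : ∀ n ∈ P24, ∀ v < 2048, ac m (ac n v ^^^ v) = ac n v ^^^ v) : m = 1 := by
  obtain ⟨y, hy, rfl, c⟩ := forall_gen' inM_gensP24 chk_P.2.2.2 (P24_eq ▸ hm)
  rcases Bool.or_eq_true_iff.mp c with c | c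
  · rw [beq_iff.mp c, toM_pid]
  · obtain ⟨i, hi, c⟩ := anyB_iff.mp c
    simp only [force_eq, Bool.not_eq_true', beq_false_iff] at c
    obtain ⟨n, hn, v, hv, e⟩ := P_col (i := i) (by omega)
    rw [e, ← ac_toM hy] at c
    exact absurd (h n hn v hv) c

/-! ### Elements of order eleven -/

/-- An element of order eleven. -/
def b11 : ℕ := 971247707635106370954021097514279104
/-- An element normalising it. -/
def g11 : ℕ := 14787195730423824223539984853538327

theorem chk_11 : inM b11 = true ∧ inM g11 = true ∧ ppow b11 11 = pid ∧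
    orbSize (actsOf pmul [b11]) pid 20 = 11 ∧
    orbAll (actsOf pmul [b11]) pid 20 (fun y => Bool.or (Nat.beq y pid)
      (anyB (fun k => Nat.beq (pconj (ppow g11 k) b11) y) 10)) = true ∧
    allB (fun j => force (cact b11 j) fun k => Bool.and (!Nat.beq (Nat.xor k j) 88)
      (Bool.or (!Nat.beq k j) (Bool.or (Nat.beq j 0) (Nat.beq j 88)))) 2048 = true ∧
    cact b11 88 = 88 ∧ cact b11 1 = 556 := by decide +kernel

theorem b11_pow : toM b11 ^ 11 = 1 := (pow_toM_eq_one_iff chk_11.1 11).mpr chk_11.2.2.1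

theorem conj_b11 {m : M24} (h : m ^ 11 = 1) (h1 : m ≠ 1) : ∃ k, k * toM b11 * k⁻¹ = m := by
  have : Fact (Nat.Prime 11) := ⟨by norm_num⟩
  have hg : ∀ g ∈ [b11], inM g = true := by simp [chk_11.1]
  obtain ⟨k, -, y, hy, e, c⟩ := exists_conj_enum (p := 11) (a := 1) ⊤ hg (fun _ _ => mem_top _)
    (card_gen_of_orbSize hg (by norm_num) chk_11.2.2.2.1) (by rw [card_top, card_M24]; norm_num)
    chk_11.2.2.2.2.1 (mem_top m) (m := 1) h
  rcases Bool.or_eq_true_iff.mp c with c | c
  · rw [beq_iff.mp c, toM_pid, eq_comm, mul_inv_eq_one, mul_eq_left] at e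
    exact absurd e h1
  · obtain ⟨i, -, c⟩ := anyB_iff.mp c
    refine ⟨k⁻¹ * toM (ppow g11 i), ?_⟩
    rw [← beq_iff.mp c, toM_pconj (inM_ppow chk_11.2.1 i) chk_11.1] at e
    calc _ = k⁻¹ * (toM (ppow g11 i) * toM b11 * (toM (ppow g11 i))⁻¹) * k := by group
      _ = m := by rw [e]; group

theorem b11_fix {j : ℕ} (hj : j < 2048) :
    ac (toM b11) j ^^^ j ≠ 88 ∧ (ac (toM b11) j = j ↔ j = 0 ∨ j = 88) := by
  have c := of_allB chk_11.2.2.2.2.2.1 hj
  simp only [force_eq, Bool.and_eq_true, Bool.or_eq_true, Bool.not_eq_true', beq_false_iff, beq_iff] at c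
  rw [ac_toM chk_11.1]
  refine ⟨c.1, fun h => c.2.resolve_left (fun h' => h' h), ?_⟩
  rintro (rfl | rfl)
  · rw [← ac_toM chk_11.1, ac_zero]
  · exact chk_11.2.2.2.2.2.2.1

theorem b11_one : ac (toM b11) 1 = 556 := (ac_toM chk_11.1 1).trans chk_11.2.2.2.2.2.2.2

theorem cnt_lab : cnt (fun j => Bool.or (lab j) (Nat.beq j 0)) 2048 = 1772 := by decide +kernel

/-! ### The centraliser of a `2A` involution -/

/-- A generator of order seven. -/
def y1 : ℕ := 153430392130039375329190432294995488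
/-- A generator of order three. -/
def y2 : ℕ := 971350372326306564603418639548319918
/-- The matrix of the involution. -/
def mL : ℕ := 1661740474596388408285627516906428230340557557334017
/-- The nilpotent part. -/
def mN : ℕ := 165151379900889221815177001725804175414612019118080
/-- Conjugating elements. -/
def cC : List ℕ := [11248635677783981766643159417261218, 717009031611520648732514514272747555,
  63226777436404404284066390971890231]

theorem chk_y : slpChk [y1, y2] [[3, 1, 1, 1, 3, 1, 3, 0, 2, 1, 1], [4, 2, 4, 3, 3, 4, 3, 3, 5, 3, 3]]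
      gensCZ = true ∧ ppow y1 7 = pid ∧ ppow y2 3 = pid ∧ comm y1 z24 = true ∧ comm y2 z24 = true ∧
    mt z24 = mL ∧ mN = mL ^^^ mE ∧ allL (fun c => Bool.and (inM c) (comm c z24)) cC = true ∧
    allL (fun u => !Nat.beq (cact u 124) 124) gensE16 = true ∧ fld 16 mN 7 = 124 := by
  decide +kernel

theorem inM_y1 : inM y1 = true := (slpChk_spec chk_y.1).1 _ (by simp)
theorem inM_y2 : inM y2 = true := (slpChk_spec chk_y.1).1 _ (by simp)
theorem y1_pow : toM y1 ^ 7 = 1 := (pow_toM_eq_one_iff inM_y1 7).mpr chk_y.2.1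
theorem y2_pow : toM y2 ^ 3 = 1 := (pow_toM_eq_one_iff inM_y2 3).mpr chk_y.2.2.1
theorem y1_mem : toM y1 ∈ CZ := mem_cent_iff.mpr ((comm_iff inM_y1 inM_z24).mp chk_y.2.2.2.1)
theorem y2_mem : toM y2 ∈ CZ := mem_cent_iff.mpr ((comm_iff inM_y2 inM_z24).mp chk_y.2.2.2.2.1)

theorem CZ_le {S : Subgroup M24} (h1 : toM y1 ∈ S) (h2 : toM y2 ∈ S) : CZ ≤ S :=
  CZ_eq ▸ (gen_le_of_slpChk chk_y.1).trans (gen_le _ (by simp [h1, h2]))

theorem ok_mL : Ok mL := chk_y.2.2.2.2.2.1 ▸ ok_mt inM_z24
theorem ok_mN : Ok mN := chk_y.2.2.2.2.2.2.1 ▸ ok_mL.xor ok_mE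
theorem mvS_mL {j : ℕ} (hj : j < 2048) : mvS mL j = ac (toM z24) j :=
  chk_y.2.2.2.2.2.1 ▸ mvS_mt inM_z24 hj
theorem mvS_mN {j : ℕ} (hj : j < 2048) : mvS mN j = ac (toM z24) j ^^^ j := by
  rw [chk_y.2.2.2.2.2.2.1, mvS_xor_left, mvS_mL hj, mvS_mE hj]

theorem RB_eq : RB = gen gensE16 := fixS_oct0_eq.1

theorem z24_RB : toM z24 ∈ RB := mem_fixS.mpr fun _ hp => mem_fixSet.mp (fixSet_z24 ▸ hp)

theorem chk_CZ : orbAll (actsOf pm gensP24) pid 1100 (fun y => Bool.or (inRB y)
    (Bool.and (!allL (fun g => comm y g) gensE16)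
      (Bool.or (!Nat.beq (pm y y) pid) (Bool.or
        (anyL (fun c => force (pconj c y) fun x => !comm y x) cC)
        (allB (fun i => force (fld 16 mN i) fun v => Nat.beq (cact y v) v) 12))))) = true ∧
    allL (fun g => comm g z24) gensP24 = true ∧
    orbSize (actsOf pmul [y1]) pid 20 = 7 ∧ orbSize (actsOf pmul [y2]) pid 20 = 3 ∧
    orbAll (actsOf pmul [y1]) pid 20 (fun y => Bool.or (inRB y) (!allL (fun g => comm y g) gensE16)) = true ∧
    orbAll (actsOf pmul [y2]) pid 20 (fun y => Bool.or (inRB y) (!allL (fun g => comm y g) gensE16)) = true := by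
  decide +kernel

theorem RB_conj {k x : M24} (hk : k ∈ CZ) (h : k * x * k⁻¹ ∈ RB) : x ∈ RB := by
  simpa [mul_assoc] using conj_mem_RB (CZ_le_GO (inv_mem hk)) h

theorem cent_RB' {c : M24} (h : ∀ r ∈ RB, c * r = r * c) : c ∈ RB := by
  have key : ∀ x ∈ zpowers c, x ∈ CZ ∧ ∀ k ∈ CZ, ∀ y, inM y = true → toM y = k * x * k⁻¹ →
      inRB y = true ∨ (!allL (fun g => comm y g) gensE16) = true → x ∈ RB := by
    intro x hx
    have hx' : ∀ r ∈ RB, x * r = r * x := fun r hr => H23.D2.comm_of_zpowers hx (h r hr)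
    refine ⟨mem_cent_iff.mpr (hx' _ z24_RB), fun k hk y hy e c => ?_⟩
    rcases c with c | c
    · exact RB_conj hk (e ▸ (inRB_iff hy).mp c)
    · rw [Bool.not_eq_true', ← Bool.not_eq_true, allL_iff] at c
      refine absurd (fun g hg => (comm_iff hy (inM_gensE16 g hg)).mpr ?_) c
      have := hx' _ (conj_mem_RB (CZ_le_GO (inv_mem hk)) (RB_eq ▸ toM_mem_gen hg))
      rw [e]
      calc _ = k * (x * (k⁻¹ * toM g * k⁻¹⁻¹)) * k⁻¹ := by group
        _ = _ := by rw [this]; group
  obtain ⟨a, ha, b, hb, e, ⟨n, hn⟩, ho, -⟩ := H23.D2.exists_parts c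
  obtain ⟨k, hk, y, hy, e1, c1⟩ := exists_conj_enum (p := 2) (a := 10) CZ inM_gensP24
    (allL_comm inM_gensP24 inM_z24 chk_CZ.2.1) (P24_eq ▸ card_P24) (by rw [card_CZ]; norm_num)
    (actsOf_pm gensP24 ▸ chk_CZ.1) (key a ha).1 hn
  have h1 := (key a ha).2 k hk y hy e1 ((Bool.or_eq_true_iff.mp c1).imp_right
    fun c => (Bool.and_eq_true_iff.mp c).1)
  by_cases b1 : orderOf b = 1
  · rwa [e, orderOf_eq_one_iff.mp b1, mul_one]
  exfalso
  obtain ⟨p, hp, hd⟩ := Nat.exists_prime_and_dvd b1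
  have := Fact.mk hp
  obtain ⟨⟨x, hx⟩, hxo⟩ := exists_prime_orderOf_dvd_card' (G := zpowers b) p (by rwa [Nat.card_zpowers])
  rw [← orderOf_coe] at hxo
  obtain ⟨x1, x2⟩ := key x (zpowers_le_of_mem hb hx)
  have p2 : ¬ p ∣ 2 := fun h => by
    rw [(Nat.prime_dvd_prime_iff_eq hp Nat.prime_two).mp h] at hd
    exact (Nat.not_even_iff_odd.mpr ho) (even_iff_two_dvd.mpr hd)
  have x3 : x ∉ RB := fun h => p2 (hxo ▸ orderOf_dvd_of_pow_eq_one (by rw [sq]; exact RB_sq h))
  have h3 : p ∣ 2 ^ 10 * (3 * 7) := by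
    have := x1
    rw [← hxo]
    exact (orderOf_dvd_natCard CZ this).trans (by rw [card_CZ]; norm_num)
  rcases (Nat.Prime.dvd_mul hp).mp ((hp.dvd_mul.mp h3).resolve_left fun h => p2 (hp.dvd_of_dvd_pow h))
    with h4 | h4
  · obtain rfl := (Nat.prime_dvd_prime_iff_eq hp Nat.prime_three).mp h4
    have hg : ∀ g ∈ [y2], inM g = true := by simp [inM_y2]
    obtain ⟨k, hk, y, hy, e1, c1⟩ := exists_conj_enum (p := 3) (a := 1) CZ hg (by simp [y2_mem])
      (card_gen_of_orbSize hg (by norm_num) chk_CZ.2.2.2.1) (by rw [card_CZ]; norm_num)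
      chk_CZ.2.2.2.2.2 x1 (pow_eq_one_of_orderOf hxo)
    exact x3 (x2 k hk y hy e1 (Bool.or_eq_true_iff.mp c1))
  · obtain rfl := (Nat.prime_dvd_prime_iff_eq hp (by norm_num : Nat.Prime 7)).mp h4
    have hg : ∀ g ∈ [y1], inM g = true := by simp [inM_y1]
    obtain ⟨k, hk, y, hy, e1, c1⟩ := exists_conj_enum (p := 7) (a := 1) CZ hg (by simp [y1_mem])
      (card_gen_of_orbSize hg (by norm_num) chk_CZ.2.2.1) (by rw [card_CZ]; norm_num)
      chk_CZ.2.2.2.2.1 x1 (pow_eq_one_of_orderOf hxo)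
    exact x3 (x2 k hk y hy e1 (Bool.or_eq_true_iff.mp c1))

theorem mem_RB_or {x : M24} (hx : x ∈ CZ) (h2 : x * x = 1)
    (hc : ∀ c ∈ CZ, x * (c * x * c⁻¹) = c * x * c⁻¹ * x) :
    x ∈ RB ∨ ∀ j < 2048, ac x (ac (toM z24) j ^^^ j) = ac (toM z24) j ^^^ j := by
  obtain ⟨l, hl, y, hy, e, k⟩ := exists_conj_enum (p := 2) (a := 10) CZ inM_gensP24
    (allL_comm inM_gensP24 inM_z24 chk_CZ.2.1) (P24_eq ▸ card_P24) (by rw [card_CZ]; norm_num)
    (actsOf_pm gensP24 ▸ chk_CZ.1) hx (m := 1) (by rw [pow_one, sq, h2])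
  rcases Bool.or_eq_true_iff.mp k with k | k
  · exact Or.inl (RB_conj hl (e ▸ (inRB_iff hy).mp k))
  rcases Bool.or_eq_true_iff.mp (Bool.and_eq_true_iff.mp k).2 with k | k
  · rw [Bool.not_eq_true', beq_false_iff, pm_eq] at k
    refine absurd ((toM_eq_one_iff (inM_pmul hy hy)).mp ?_) k
    rw [toM_pmul hy hy, e, conj_mul, h2]; simp
  rcases Bool.or_eq_true_iff.mp k with k | k
  · obtain ⟨c, hc', k⟩ := anyL_iff.mp k
    obtain ⟨c1, c2⟩ := Bool.and_eq_true_iff.mp (allL_iff.mp chk_y.2.2.2.2.2.2.2.1 c hc')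
    rw [force_eq, Bool.not_eq_true', ← Bool.not_eq_true] at k
    refine absurd ((comm_iff hy (inM_pconj c1 hy)).mpr ?_) k
    have := hc _ (mul_mem (mul_mem (inv_mem hl) (mem_cent_iff.mpr ((comm_iff c1 inM_z24).mp c2))) hl)
    rw [toM_pconj c1 hy, e]
    calc _ = l * (x * (l⁻¹ * toM c * l * x * (l⁻¹ * toM c * l)⁻¹)) * l⁻¹ := by group
      _ = _ := by rw [this]; group
  · right
    intro j hj
    have h1 : ac (toM y) (mvS mN (ac l j)) = mvS mN (ac l j) := ac_fix_mvS ok_mN (fun i hi => by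
      have := of_allB k hi
      rw [force_eq, beq_iff] at this
      rw [ac_toM hy, this]) _
    have h3 := xlt (ac_lt (toM z24) j) hj
    rw [mvS_mN (ac_lt _ _), ← ac_mul _ _ hj, ← mem_cent_iff.mp hl, ac_mul _ _ hj,
      ← ac_xor _ (ac_lt _ _) hj, e, ac_mul _ _ (ac_lt _ _), ac_inv _ h3, ac_mul _ _ h3] at h1
    exact ac_inj (ac_lt _ _) h3 h1

theorem E16_move {u : ℕ} (hu : u ∈ gensE16) :
    ac (toM u) (ac (toM z24) 128 ^^^ 128) ≠ ac (toM z24) 128 ^^^ 128 := by
  have := allL_iff.mp chk_y.2.2.2.2.2.2.2.2.1 u hu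
  rw [Bool.not_eq_true', beq_false_iff] at this
  rwa [← mvS_mN (by norm_num), show 128 = 2 ^ 7 from rfl, mvS_two_pow _ (by norm_num),
    chk_y.2.2.2.2.2.2.2.2.2, ac_toM (inM_gensE16 u hu)]

/-- The relators. -/
def wZ : List (List ℕ) := [[1, 1, 1], [0, 0, 0, 0, 0, 0, 0], [0, 0, 1, 0, 1, 1, 0, 0, 1, 0, 1, 1]]

/-- Two generators. -/
noncomputable def two (a b : ℕ) (c : ℕ) : ℕ := iteB (Nat.beq c 0) a b

/-- The elements fixing the octad pointwise. -/
def lE : List ℕ := [961365507626256404119956257276790816, 963721886883755259286232606933354528, 965128854020860192151391391390468128, 966182099583441531322624363496310816, 967812279691448225500382947153381408, 968708902336673183175954409307867168, 970499966350631336865513127433832480, 971592882964418941354553515258775584, 972512676110088067912772961567868960, 975346028712660580592452217730074656, 976448692869377735270425038196672544, 979121071158219704299181131031480352, 980224387687010295957922729495201824, 981818691054096003685363657089320992,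 983548720921252936276249910206105632, 984818244535754528103549039458486304]

theorem chk_256 : allL (fun w => Bool.and (okW 2 w) (inRB (evW pm pid (two y1 y2) w))) wZ = true ∧
    allL (fun e => Bool.and (inM e) (inRB e)) lE = true ∧
    orbAll (actsOf pm gensE16) pid 20 (fun u => force (pmul y1 u) fun a =>
      orbAll (actsOf pm gensE16) pid 20 fun v => force (pmul y2 v) fun b => Bool.or
        (anyL (fun w => !Nat.beq (evW pm pid (two a b) w) (evW pm pid (two y1 y2) w)) wZ)
        (anyL (fun e => Bool.and (Nat.beq (pconj e y1) a) (Nat.beq (pconj e y2) b)) lE)) = true := by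
  decide +kernel

theorem evW_two {a b : ℕ} (ha : inM a = true) (hb : inM b = true) {w : List ℕ} (hw : okW 2 w = true) :
    inM (evW pm pid (two a b) w) = true ∧
      toM (evW pm pid (two a b) w) = wd (fun c => if c = 0 then toM a else toM b) w :=
  evW_rel (fun x n => inM n = true ∧ toM n = x) ⟨inM_pid, toM_pid⟩
    (fun x y a b h1 h2 => by
      rw [pm_eq]; exact ⟨inM_pmul h1.1 h2.1, by rw [toM_pmul h1.1 h2.1, h1.2, h2.2]⟩)
    (n := 2) (fun i hi => by interval_cases i; exacts [⟨ha, rfl⟩, ⟨hb, rfl⟩]) hw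

theorem inner_of_rel {u v : M24} (hu : u ∈ RB) (hv : v ∈ RB)
    (h : ∀ w : List ℕ, wd (fun c => if c = 0 then toM y1 else toM y2) w ∈ RB →
      wd (fun c => if c = 0 then toM y1 * u else toM y2 * v) w =
        wd (fun c => if c = 0 then toM y1 else toM y2) w) :
    ∃ e ∈ RB, e * toM y1 * e⁻¹ = toM y1 * u ∧ e * toM y2 * e⁻¹ = toM y2 * v := by
  obtain ⟨u, iu, rfl, c⟩ := forall_gen' inM_gensE16 chk_256.2.2 (RB_eq ▸ hu)
  rw [force_eq] at c
  obtain ⟨v, iv, rfl, c⟩ := forall_gen' inM_gensE16 c (RB_eq ▸ hv)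
  rw [force_eq] at c
  have ia := inM_pmul inM_y1 iu
  have ib := inM_pmul inM_y2 iv
  rcases Bool.or_eq_true_iff.mp c with c | c
  · obtain ⟨w, hw, c⟩ := anyL_iff.mp c
    obtain ⟨c1, c2⟩ := Bool.and_eq_true_iff.mp (allL_iff.mp chk_256.1 w hw)
    obtain ⟨a1, a2⟩ := evW_two inM_y1 inM_y2 c1
    obtain ⟨b1, b2⟩ := evW_two ia ib c1
    rw [Bool.not_eq_true', beq_false_iff] at c
    refine absurd (toM_inj b1 a1 ?_) c
    rw [a2, b2, toM_pmul inM_y1 iu, toM_pmul inM_y2 iv]
    exact h w (a2 ▸ (inRB_iff a1).mp c2)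
  · obtain ⟨e, he, c⟩ := anyL_iff.mp c
    obtain ⟨c1, c2⟩ := Bool.and_eq_true_iff.mp (allL_iff.mp chk_256.2.1 e he)
    simp only [Bool.and_eq_true, beq_iff] at c
    exact ⟨toM e, (inRB_iff c1).mp c2, by rw [← toM_pconj c1 inM_y1, c.1, toM_pmul inM_y1 iu],
      by rw [← toM_pconj c1 inM_y2, c.2, toM_pmul inM_y2 iv]⟩

/-- The certificate for the endomorphism ring. -/
def endL : List (ℕ × ℕ) := [(0, 1822526372559227956743541283946948206405684822933504), (1, 1528740235097300019455231143405854800471211394401366), (2, 803843852878587597342647594837789682282419198624388), (4, 464782252547466813802672134688594996181747820986708), (6, 2154299063450331033776540090954428927412595494946692), (8, 847701301657596494338610326088946856892600017158866), (3, 423850104378540751067720468826301899242999154672260), (5, 1958456148816017496144294817017382164169082791723264), (10, 1373842403976427163869093026313687018861145829212502), (9, 349333078938540953099257711282994829315969673986390),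 (27, 2993155353950587463935228510575938820275611279294464), (18, 1039154581836589233198756076832419668966540025135104), (16, 1747965703973885547266346496767844018867706011516928), (17, 1990601535803179570995193790050270055800672534659072), (20, 2391032289209628463933122917989524172149624152653824), (23, 2154288537655802598805298977758437686108180805648384), (22, 277726545808774358054974461807753346024614635634688), (24, 969004888769053561837193491680658370583889243013120), (19, 1924834296892061199008804341925168642924201604939776), (21, 821379820626947947010351632837419397418117481824256), (26, 673775269225214963921633335201905910599307507859456), (25, 1690974543811579799618705240681144355248256867500032), (43, 2993155353253689176643408290112240134868229959976960), (32, 799469450213702516504001304418420743018277541184420), (33, 2749089575366032568018015910736868642035277904021298), (7, 2038811465720037765347977165497211647037454120715348), (114, 939752867559810501948702819752494834348669561470976),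 (34, 2152834238672905590010072359590681768805541693949770), (36, 1278816676112185020247180398227102564315932258533424), (35, 119875270022897098460385220736375389374276893410526), (38, 973386182745333254662856044376619205047023040202744), (40, 1316845846883379334030684952220907226180509283713170), (37, 1268594036379386402217340741357676077945234559402004), (11, 10633986228032036275741078158447738880), (41, 1898526910648333905444155949639139934550133539012608), (49, 847714146441741719668848100000381463328253574907698), (50, 1321226515985187134713507810351308263843114778298186), (39, 2155721694668959444150022903564952210623601554490666), (48, 511547495333315576433481424771728593209985348731812), (51, 1023078108183113095643328485684211249175779880797406), (52, 1683652027621194725592512777022354009581048717901872), (42, 2187889939800506016104998605895309056788786566135808), (54, 2374950664562120019504142778170652117834974145808376), (56, 200249341308141956837566213128245539417893543739538),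 (53, 1348980863820532609507092492607679695517454587265044), (123, 2993155353253699810305112816729930854711832090771456), (68, 1322680747922595476431590206414905052723400313339988), (64, 70189566637637902362410621352632131761281771177302), (55, 1600357673640589619104878116696656278439955977405738), (98, 2785649930463891984111328287018722851583157887502032), (65, 1223290006098720801237368402811852763675207329580932), (67, 1863423106610544694786302814685559628540953160515586), (70, 1312461096512443392230935988437576604611016540094548), (69, 2388136761102993855497024905128055014980917123221380), (71, 2374955860589809943518662048429527978802142061201028), (97, 1227695004987207472201490502715865677043640586274694), (66, 2448059978124268546155085677142803556048163938566788), (59, 2993155353253689176643408290112240134868230094194688), (73, 838923861885831571415633739827801262767000758584322), (81, 2408594795679151499746454506114429938353065469544324), (85, 1305138223156584099016316561045192079251798000732036),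 (72, 1619351084502310989396815826684526840960846543128452), (88, 792158975977577600540874232042091377759008208848772), (80, 1468822548476741975280499132966155009860366007076182), (84, 2595656233650833497878895616456046357975999524241492), (74, 855005486988299913418159606920724902497693313991558), (82, 1512699487704838589684365410570536432128763802616452), (83, 2038800180964823455097203338146989016173938790498306), (86, 1556508209118067020337481530199995049019397532352596), (139, 2993201025876764688475388655053945011046006032171008), (87, 1661746585340521567590381361669058765853758260119172), (89, 1302209644652407464428322808901143092631642738263042), (96, 1946725154205664401011726787505468417316228983816914), (113, 182705411728234915501929141804271409142328916443136), (99, 2012525108422283273331588688302416652854343754187862), (112, 1528730801852467253529399757075381982358615422402560), (100, 809686090951446864315301252746634625515084280629200), (90, 1591594841220686085332764422526886875248959025644422),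 (115, 1031827403808401218294636227770884301576101093703680), (117, 1030358676619376010338238667416241268583099726299136), (118, 2623403043679124828265958445621366425809153758855168), (91, 696898287616341250002205135881387703795712), (116, 619684477307138012287130449104051338804626538364928), (119, 2062180683565090695658301501283156751100442723745792), (121, 2914253064652883676483376373642428024340136981430272), (162, 2421715371705747990685351627498207511489162409672704), (122, 871056759936067006031233992534587164089320099282944), (144, 171035409551874659091650844222074341430142999265280), (148, 2825117298560683520328845840792021730101286522191872), (147, 789219983324837186553648847969380116375736729272320), (145, 1289071473027173458024909177199121225774975006998528), (161, 2421725496398556318170363947126675365619308892782592), (146, 933930321311065505367244981259565477999075886759936), (75, 45671926177224702419421307219554161973031600128), (130, 2367665390017314011368595532091932591226152653553664),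 (120, 1360659897646254470311041738633110981075592007385088), (128, 1654434661326945832353538153858058793764132636655616), (134, 2931796013115354807461866682340487024097330318344192), (129, 2272679380620428798589114146323722703433092340318208), (132, 204619528637423704896806405480893028615161798066176), (160, 1157517057543826861438098366127258474218580655210496), (133, 1183860749867606130654526895503490212472466475057152), (131, 1913128657750901365190048884041418474684789559197696), (164, 2693555122271008251416485054148990067240579788439552), (135, 1423518005145208407921745195534978650253977492258816), (107, 45671926166590716196341068880462937419738515456), (150, 334714137596977927976876624648847943205971118325760), (136, 1423528708991119022771761683630834111890120972828672), (137, 1866365199275107630781359443471479270037655021027328), (192, 2244892740917772689515546865922031627235668317766342), (138, 1799132845836483135173416797132291829758799966240768), (196, 802388595824904702672385498585268016169568102253764),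 (163, 2421715639318773761455880587488387278558681699975168), (193, 1378214509495787744515313075001292288672640295175068), (194, 837478461136758115517659526613192593094267765392006), (197, 621138909523510770398331766753242362549505607140536), (199, 144712859025998389480728017777986167648341083031170), (171, 45672623064878170278314241871658957680901357568), (198, 1568203767699680708769603885466221511529831640006732), (208, 1590125221823874084415401803023086826887696470900736), (209, 907606610965752640981542168369425441798701858488320), (304, 17538287260996668096535480400706705671346431459328), (214, 1422064933249113277441357688777417873912247914659840), (308, 850606932158338402681970799434275225060301925777408), (224, 1691000770003121844762973416021145870486302145642496), (227, 944164624398261220578366956595423349402850438414336), (225, 2765168814005646025442729554847083687494064659234816), (309, 922221672043997325231541486530002951632167622410240), (226, 2358872786097130734691535149802997870322678186901504),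 (155, 2993201025876764688475391130971801937199964595683328), (178, 133422893026636448730823588051273793298806474825109864448), (176, 7279353819112972077202148378963968622189010830372110336), (177, 8620287417370624828265702027720489157855407562282762240), (180, 153249554086588885835834702715030918361873912218360217600), (183, 87448026800659782980073177236764517790244301159601799168), (182, 5842639249551201272491198041010553762546442903324983296), (184, 174896053601319565960146354473529035580488602319203598336), (179, 134572264682285865374592348321636525186520529166747566080), (181, 154494706713542420533250859674590544573564137755134394368), (186, 87160683886747428819130987169173834818315787574192373760), (185, 179301978281308996427926602176586174483392477295481454592)]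

/-- A basis of the endomorphism ring. -/
def endB : List (ℕ × ℕ) := [(0, mE), (38, mN), (187, 196159429230833773869868419475239575503198607639501078528)]

theorem chk_end : force (mt y1) (fun a => force (mt y2) fun b => linChk [(a, a), (b, b)] endB endL) = true ∧
    spanAll endB (fun M => Bool.or (!Nat.beq (fld 16 M 11) 0) (memL M [0, mE, mN, mL])) 0 = true := by
  decide +kernel

theorem end_CZ {f : ℕ → ℕ} (hl : ∀ j < 2048, f j < 2048)
    (hx : ∀ i < 2048, ∀ j < 2048, f (i ^^^ j) = f i ^^^ f j)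
    (h1 : ∀ j < 2048, f (ac (toM y1) j) = ac (toM y1) (f j))
    (h2 : ∀ j < 2048, f (ac (toM y2) j) = ac (toM y2) (f j)) : mk f ∈ [0, mE, mN, mL] := by
  have c := chk_end.1
  simp only [force_eq] at c
  have key : ∀ y, inM y = true → (∀ j < 2048, f (ac (toM y) j) = ac (toM y) (f j)) →
      mm (mk f) (mt y) = mm (mt y) (mk f) := by
    intro y hy h
    refine eq_of_fld (w := 16) (k := 12) (by norm_num) (mm_lt _ _) (mm_lt _ _) fun i hi => ?_
    rw [fld_mm _ _ hi, fld_mm _ _ hi]
    rcases Nat.lt_succ_iff_lt_or_eq.mp hi with h' | rfl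
    · have := two_pow_lt h'
      rw [mvS_mk hl hx (ok_mt hy i hi), mvS_mt hy (ok_mk hl i hi), fld_mk hl h', ← h _ this,
        ← mvS_mt hy this, mvS_two_pow _ hi]
    · rw [fld_mk11 hl, mt, fld_mk11 fun j _ => cact_lt hy j, mvS_zero, mvS_zero]
  have := linChk_all c chk_end.2 (okM_mk hl) (by
    simp only [List.mem_cons, List.not_mem_nil, or_false]
    rintro a (rfl | rfl)
    · exact key _ inM_y1 h1
    · exact key _ inM_y2 h2)
  rw [fld_mk11 hl] at this
  exact memL_iff.mp this

set_option linter.unusedTactic false in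
theorem eqns_J4StF : True := by
  first | (have := @Cfsg.Agent.H46.JS.mB.eq_def.{0,0,0}) | (have := @Cfsg.Agent.H46.JS.mB.eq_def.{0,0}) | (have := @Cfsg.Agent.H46.JS.mB.eq_def.{0}) | (have := @Cfsg.Agent.H46.JS.mB.eq_def) | skip
  first | (have := @Cfsg.Agent.H46.JS.mB.eq_1.{0,0,0}) | (have := @Cfsg.Agent.H46.JS.mB.eq_1.{0,0}) | (have := @Cfsg.Agent.H46.JS.mB.eq_1.{0}) | (have := @Cfsg.Agent.H46.JS.mB.eq_1) | skip
  first | (have := @Cfsg.Agent.H46.JS.mB.eq_2.{0,0,0}) | (have := @Cfsg.Agent.H46.JS.mB.eq_2.{0,0}) | (have := @Cfsg.Agent.H46.JS.mB.eq_2.{0}) | (have := @Cfsg.Agent.H46.JS.mB.eq_2) | skip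
  first | (have := @Cfsg.Agent.H46.JS.mB.eq_unfold.{0,0,0}) | (have := @Cfsg.Agent.H46.JS.mB.eq_unfold.{0,0}) | (have := @Cfsg.Agent.H46.JS.mB.eq_unfold.{0}) | (have := @Cfsg.Agent.H46.JS.mB.eq_unfold) | skip
  first | (have := @Cfsg.Agent.H46.JS.mB.congr_simp.{0,0,0}) | (have := @Cfsg.Agent.H46.JS.mB.congr_simp.{0,0}) | (have := @Cfsg.Agent.H46.JS.mB.congr_simp.{0}) | (have := @Cfsg.Agent.H46.JS.mB.congr_simp) | skip
  first | (have := @Cfsg.Agent.H46.JS.mBi.eq_def.{0,0,0}) | (have := @Cfsg.Agent.H46.JS.mBi.eq_def.{0,0}) | (have := @Cfsg.Agent.H46.JS.mBi.eq_def.{0}) | (have := @Cfsg.Agent.H46.JS.mBi.eq_def) | skip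
  first | (have := @Cfsg.Agent.H46.JS.mBi.eq_1.{0,0,0}) | (have := @Cfsg.Agent.H46.JS.mBi.eq_1.{0,0}) | (have := @Cfsg.Agent.H46.JS.mBi.eq_1.{0}) | (have := @Cfsg.Agent.H46.JS.mBi.eq_1) | skip
  first | (have := @Cfsg.Agent.H46.JS.mBi.eq_2.{0,0,0}) | (have := @Cfsg.Agent.H46.JS.mBi.eq_2.{0,0}) | (have := @Cfsg.Agent.H46.JS.mBi.eq_2.{0}) | (have := @Cfsg.Agent.H46.JS.mBi.eq_2) | skip
  first | (have := @Cfsg.Agent.H46.JS.mBi.eq_unfold.{0,0,0}) | (have := @Cfsg.Agent.H46.JS.mBi.eq_unfold.{0,0}) | (have := @Cfsg.Agent.H46.JS.mBi.eq_unfold.{0}) | (have := @Cfsg.Agent.H46.JS.mBi.eq_unfold) | skip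
  first | (have := @Cfsg.Agent.H46.JS.mBi.congr_simp.{0,0,0}) | (have := @Cfsg.Agent.H46.JS.mBi.congr_simp.{0,0}) | (have := @Cfsg.Agent.H46.JS.mBi.congr_simp.{0}) | (have := @Cfsg.Agent.H46.JS.mBi.congr_simp) | skip
  first | (have := @Cfsg.Agent.H46.JS.lB.eq_def.{0,0,0}) | (have := @Cfsg.Agent.H46.JS.lB.eq_def.{0,0}) | (have := @Cfsg.Agent.H46.JS.lB.eq_def.{0}) | (have := @Cfsg.Agent.H46.JS.lB.eq_def) | skip
  first | (have := @Cfsg.Agent.H46.JS.lB.eq_1.{0,0,0}) | (have := @Cfsg.Agent.H46.JS.lB.eq_1.{0,0}) | (have := @Cfsg.Agent.H46.JS.lB.eq_1.{0}) | (have := @Cfsg.Agent.H46.JS.lB.eq_1) | skip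
  first | (have := @Cfsg.Agent.H46.JS.lB.eq_2.{0,0,0}) | (have := @Cfsg.Agent.H46.JS.lB.eq_2.{0,0}) | (have := @Cfsg.Agent.H46.JS.lB.eq_2.{0}) | (have := @Cfsg.Agent.H46.JS.lB.eq_2) | skip
  first | (have := @Cfsg.Agent.H46.JS.lB.eq_unfold.{0,0,0}) | (have := @Cfsg.Agent.H46.JS.lB.eq_unfold.{0,0}) | (have := @Cfsg.Agent.H46.JS.lB.eq_unfold.{0}) | (have := @Cfsg.Agent.H46.JS.lB.eq_unfold) | skip
  first | (have := @Cfsg.Agent.H46.JS.lB.congr_simp.{0,0,0}) | (have := @Cfsg.Agent.H46.JS.lB.congr_simp.{0,0}) | (have := @Cfsg.Agent.H46.JS.lB.congr_simp.{0}) | (have := @Cfsg.Agent.H46.JS.lB.congr_simp) | skip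
  first | (have := @Cfsg.Agent.H46.JS.cP.eq_def.{0,0,0}) | (have := @Cfsg.Agent.H46.JS.cP.eq_def.{0,0}) | (have := @Cfsg.Agent.H46.JS.cP.eq_def.{0}) | (have := @Cfsg.Agent.H46.JS.cP.eq_def) | skip
  first | (have := @Cfsg.Agent.H46.JS.cP.eq_1.{0,0,0}) | (have := @Cfsg.Agent.H46.JS.cP.eq_1.{0,0}) | (have := @Cfsg.Agent.H46.JS.cP.eq_1.{0}) | (have := @Cfsg.Agent.H46.JS.cP.eq_1) | skip
  first | (have := @Cfsg.Agent.H46.JS.cP.eq_2.{0,0,0}) | (have := @Cfsg.Agent.H46.JS.cP.eq_2.{0,0}) | (have := @Cfsg.Agent.H46.JS.cP.eq_2.{0}) | (have := @Cfsg.Agent.H46.JS.cP.eq_2) | skip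
  first | (have := @Cfsg.Agent.H46.JS.cP.eq_unfold.{0,0,0}) | (have := @Cfsg.Agent.H46.JS.cP.eq_unfold.{0,0}) | (have := @Cfsg.Agent.H46.JS.cP.eq_unfold.{0}) | (have := @Cfsg.Agent.H46.JS.cP.eq_unfold) | skip
  first | (have := @Cfsg.Agent.H46.JS.cP.congr_simp.{0,0,0}) | (have := @Cfsg.Agent.H46.JS.cP.congr_simp.{0,0}) | (have := @Cfsg.Agent.H46.JS.cP.congr_simp.{0}) | (have := @Cfsg.Agent.H46.JS.cP.congr_simp) | skip
  first | (have := @Cfsg.Agent.H46.JS.b11.eq_def.{0,0,0}) | (have := @Cfsg.Agent.H46.JS.b11.eq_def.{0,0}) | (have := @Cfsg.Agent.H46.JS.b11.eq_def.{0}) | (have := @Cfsg.Agent.H46.JS.b11.eq_def) | skip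
  first | (have := @Cfsg.Agent.H46.JS.b11.eq_1.{0,0,0}) | (have := @Cfsg.Agent.H46.JS.b11.eq_1.{0,0}) | (have := @Cfsg.Agent.H46.JS.b11.eq_1.{0}) | (have := @Cfsg.Agent.H46.JS.b11.eq_1) | skip
  first | (have := @Cfsg.Agent.H46.JS.b11.eq_2.{0,0,0}) | (have := @Cfsg.Agent.H46.JS.b11.eq_2.{0,0}) | (have := @Cfsg.Agent.H46.JS.b11.eq_2.{0}) | (have := @Cfsg.Agent.H46.JS.b11.eq_2) | skip
  first | (have := @Cfsg.Agent.H46.JS.b11.eq_unfold.{0,0,0}) | (have := @Cfsg.Agent.H46.JS.b11.eq_unfold.{0,0}) | (have := @Cfsg.Agent.H46.JS.b11.eq_unfold.{0}) | (have := @Cfsg.Agent.H46.JS.b11.eq_unfold) | skip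
  first | (have := @Cfsg.Agent.H46.JS.b11.congr_simp.{0,0,0}) | (have := @Cfsg.Agent.H46.JS.b11.congr_simp.{0,0}) | (have := @Cfsg.Agent.H46.JS.b11.congr_simp.{0}) | (have := @Cfsg.Agent.H46.JS.b11.congr_simp) | skip
  first | (have := @Cfsg.Agent.H46.JS.g11.eq_def.{0,0,0}) | (have := @Cfsg.Agent.H46.JS.g11.eq_def.{0,0}) | (have := @Cfsg.Agent.H46.JS.g11.eq_def.{0}) | (have := @Cfsg.Agent.H46.JS.g11.eq_def) | skip
  first | (have := @Cfsg.Agent.H46.JS.g11.eq_1.{0,0,0}) | (have := @Cfsg.Agent.H46.JS.g11.eq_1.{0,0}) | (have := @Cfsg.Agent.H46.JS.g11.eq_1.{0}) | (have := @Cfsg.Agent.H46.JS.g11.eq_1) | skip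
  first | (have := @Cfsg.Agent.H46.JS.g11.eq_2.{0,0,0}) | (have := @Cfsg.Agent.H46.JS.g11.eq_2.{0,0}) | (have := @Cfsg.Agent.H46.JS.g11.eq_2.{0}) | (have := @Cfsg.Agent.H46.JS.g11.eq_2) | skip
  first | (have := @Cfsg.Agent.H46.JS.g11.eq_unfold.{0,0,0}) | (have := @Cfsg.Agent.H46.JS.g11.eq_unfold.{0,0}) | (have := @Cfsg.Agent.H46.JS.g11.eq_unfold.{0}) | (have := @Cfsg.Agent.H46.JS.g11.eq_unfold) | skip
  first | (have := @Cfsg.Agent.H46.JS.g11.congr_simp.{0,0,0}) | (have := @Cfsg.Agent.H46.JS.g11.congr_simp.{0,0}) | (have := @Cfsg.Agent.H46.JS.g11.congr_simp.{0}) | (have := @Cfsg.Agent.H46.JS.g11.congr_simp) | skip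
  first | (have := @Cfsg.Agent.H46.JS.y1.eq_def.{0,0,0}) | (have := @Cfsg.Agent.H46.JS.y1.eq_def.{0,0}) | (have := @Cfsg.Agent.H46.JS.y1.eq_def.{0}) | (have := @Cfsg.Agent.H46.JS.y1.eq_def) | skip
  first | (have := @Cfsg.Agent.H46.JS.y1.eq_1.{0,0,0}) | (have := @Cfsg.Agent.H46.JS.y1.eq_1.{0,0}) | (have := @Cfsg.Agent.H46.JS.y1.eq_1.{0}) | (have := @Cfsg.Agent.H46.JS.y1.eq_1) | skip
  first | (have := @Cfsg.Agent.H46.JS.y1.eq_2.{0,0,0}) | (have := @Cfsg.Agent.H46.JS.y1.eq_2.{0,0}) | (have := @Cfsg.Agent.H46.JS.y1.eq_2.{0}) | (have := @Cfsg.Agent.H46.JS.y1.eq_2) | skip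
  first | (have := @Cfsg.Agent.H46.JS.y1.eq_unfold.{0,0,0}) | (have := @Cfsg.Agent.H46.JS.y1.eq_unfold.{0,0}) | (have := @Cfsg.Agent.H46.JS.y1.eq_unfold.{0}) | (have := @Cfsg.Agent.H46.JS.y1.eq_unfold) | skip
  first | (have := @Cfsg.Agent.H46.JS.y1.congr_simp.{0,0,0}) | (have := @Cfsg.Agent.H46.JS.y1.congr_simp.{0,0}) | (have := @Cfsg.Agent.H46.JS.y1.congr_simp.{0}) | (have := @Cfsg.Agent.H46.JS.y1.congr_simp) | skip
  first | (have := @Cfsg.Agent.H46.JS.y2.eq_def.{0,0,0}) | (have := @Cfsg.Agent.H46.JS.y2.eq_def.{0,0}) | (have := @Cfsg.Agent.H46.JS.y2.eq_def.{0}) | (have := @Cfsg.Agent.H46.JS.y2.eq_def) | skip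
  first | (have := @Cfsg.Agent.H46.JS.y2.eq_1.{0,0,0}) | (have := @Cfsg.Agent.H46.JS.y2.eq_1.{0,0}) | (have := @Cfsg.Agent.H46.JS.y2.eq_1.{0}) | (have := @Cfsg.Agent.H46.JS.y2.eq_1) | skip
  first | (have := @Cfsg.Agent.H46.JS.y2.eq_2.{0,0,0}) | (have := @Cfsg.Agent.H46.JS.y2.eq_2.{0,0}) | (have := @Cfsg.Agent.H46.JS.y2.eq_2.{0}) | (have := @Cfsg.Agent.H46.JS.y2.eq_2) | skip
  first | (have := @Cfsg.Agent.H46.JS.y2.eq_unfold.{0,0,0}) | (have := @Cfsg.Agent.H46.JS.y2.eq_unfold.{0,0}) | (have := @Cfsg.Agent.H46.JS.y2.eq_unfold.{0}) | (have := @Cfsg.Agent.H46.JS.y2.eq_unfold) | skip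
  first | (have := @Cfsg.Agent.H46.JS.y2.congr_simp.{0,0,0}) | (have := @Cfsg.Agent.H46.JS.y2.congr_simp.{0,0}) | (have := @Cfsg.Agent.H46.JS.y2.congr_simp.{0}) | (have := @Cfsg.Agent.H46.JS.y2.congr_simp) | skip
  first | (have := @Cfsg.Agent.H46.JS.mL.eq_def.{0,0,0}) | (have := @Cfsg.Agent.H46.JS.mL.eq_def.{0,0}) | (have := @Cfsg.Agent.H46.JS.mL.eq_def.{0}) | (have := @Cfsg.Agent.H46.JS.mL.eq_def) | skip
  first | (have := @Cfsg.Agent.H46.JS.mL.eq_1.{0,0,0}) | (have := @Cfsg.Agent.H46.JS.mL.eq_1.{0,0}) | (have := @Cfsg.Agent.H46.JS.mL.eq_1.{0}) | (have := @Cfsg.Agent.H46.JS.mL.eq_1) | skip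
  first | (have := @Cfsg.Agent.H46.JS.mL.eq_2.{0,0,0}) | (have := @Cfsg.Agent.H46.JS.mL.eq_2.{0,0}) | (have := @Cfsg.Agent.H46.JS.mL.eq_2.{0}) | (have := @Cfsg.Agent.H46.JS.mL.eq_2) | skip
  first | (have := @Cfsg.Agent.H46.JS.mL.eq_unfold.{0,0,0}) | (have := @Cfsg.Agent.H46.JS.mL.eq_unfold.{0,0}) | (have := @Cfsg.Agent.H46.JS.mL.eq_unfold.{0}) | (have := @Cfsg.Agent.H46.JS.mL.eq_unfold) | skip
  first | (have := @Cfsg.Agent.H46.JS.mL.congr_simp.{0,0,0}) | (have := @Cfsg.Agent.H46.JS.mL.congr_simp.{0,0}) | (have := @Cfsg.Agent.H46.JS.mL.congr_simp.{0}) | (have := @Cfsg.Agent.H46.JS.mL.congr_simp) | skip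
  first | (have := @Cfsg.Agent.H46.JS.mN.eq_def.{0,0,0}) | (have := @Cfsg.Agent.H46.JS.mN.eq_def.{0,0}) | (have := @Cfsg.Agent.H46.JS.mN.eq_def.{0}) | (have := @Cfsg.Agent.H46.JS.mN.eq_def) | skip
  first | (have := @Cfsg.Agent.H46.JS.mN.eq_1.{0,0,0}) | (have := @Cfsg.Agent.H46.JS.mN.eq_1.{0,0}) | (have := @Cfsg.Agent.H46.JS.mN.eq_1.{0}) | (have := @Cfsg.Agent.H46.JS.mN.eq_1) | skip
  first | (have := @Cfsg.Agent.H46.JS.mN.eq_2.{0,0,0}) | (have := @Cfsg.Agent.H46.JS.mN.eq_2.{0,0}) | (have := @Cfsg.Agent.H46.JS.mN.eq_2.{0}) | (have := @Cfsg.Agent.H46.JS.mN.eq_2) | skip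
  first | (have := @Cfsg.Agent.H46.JS.mN.eq_unfold.{0,0,0}) | (have := @Cfsg.Agent.H46.JS.mN.eq_unfold.{0,0}) | (have := @Cfsg.Agent.H46.JS.mN.eq_unfold.{0}) | (have := @Cfsg.Agent.H46.JS.mN.eq_unfold) | skip
  first | (have := @Cfsg.Agent.H46.JS.mN.congr_simp.{0,0,0}) | (have := @Cfsg.Agent.H46.JS.mN.congr_simp.{0,0}) | (have := @Cfsg.Agent.H46.JS.mN.congr_simp.{0}) | (have := @Cfsg.Agent.H46.JS.mN.congr_simp) | skip
  first | (have := @Cfsg.Agent.H46.JS.cC.eq_def.{0,0,0}) | (have := @Cfsg.Agent.H46.JS.cC.eq_def.{0,0}) | (have := @Cfsg.Agent.H46.JS.cC.eq_def.{0}) | (have := @Cfsg.Agent.H46.JS.cC.eq_def) | skip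
  first | (have := @Cfsg.Agent.H46.JS.cC.eq_1.{0,0,0}) | (have := @Cfsg.Agent.H46.JS.cC.eq_1.{0,0}) | (have := @Cfsg.Agent.H46.JS.cC.eq_1.{0}) | (have := @Cfsg.Agent.H46.JS.cC.eq_1) | skip
  first | (have := @Cfsg.Agent.H46.JS.cC.eq_2.{0,0,0}) | (have := @Cfsg.Agent.H46.JS.cC.eq_2.{0,0}) | (have := @Cfsg.Agent.H46.JS.cC.eq_2.{0}) | (have := @Cfsg.Agent.H46.JS.cC.eq_2) | skip
  first | (have := @Cfsg.Agent.H46.JS.cC.eq_unfold.{0,0,0}) | (have := @Cfsg.Agent.H46.JS.cC.eq_unfold.{0,0}) | (have := @Cfsg.Agent.H46.JS.cC.eq_unfold.{0}) | (have := @Cfsg.Agent.H46.JS.cC.eq_unfold) | skip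
  first | (have := @Cfsg.Agent.H46.JS.cC.congr_simp.{0,0,0}) | (have := @Cfsg.Agent.H46.JS.cC.congr_simp.{0,0}) | (have := @Cfsg.Agent.H46.JS.cC.congr_simp.{0}) | (have := @Cfsg.Agent.H46.JS.cC.congr_simp) | skip
  first | (have := @Cfsg.Agent.H46.JS.wZ.eq_def.{0,0,0}) | (have := @Cfsg.Agent.H46.JS.wZ.eq_def.{0,0}) | (have := @Cfsg.Agent.H46.JS.wZ.eq_def.{0}) | (have := @Cfsg.Agent.H46.JS.wZ.eq_def) | skip
  first | (have := @Cfsg.Agent.H46.JS.wZ.eq_1.{0,0,0}) | (have := @Cfsg.Agent.H46.JS.wZ.eq_1.{0,0}) | (have := @Cfsg.Agent.H46.JS.wZ.eq_1.{0}) | (have := @Cfsg.Agent.H46.JS.wZ.eq_1) | skip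
  first | (have := @Cfsg.Agent.H46.JS.wZ.eq_2.{0,0,0}) | (have := @Cfsg.Agent.H46.JS.wZ.eq_2.{0,0}) | (have := @Cfsg.Agent.H46.JS.wZ.eq_2.{0}) | (have := @Cfsg.Agent.H46.JS.wZ.eq_2) | skip
  first | (have := @Cfsg.Agent.H46.JS.wZ.eq_unfold.{0,0,0}) | (have := @Cfsg.Agent.H46.JS.wZ.eq_unfold.{0,0}) | (have := @Cfsg.Agent.H46.JS.wZ.eq_unfold.{0}) | (have := @Cfsg.Agent.H46.JS.wZ.eq_unfold) | skip
  first | (have := @Cfsg.Agent.H46.JS.wZ.congr_simp.{0,0,0}) | (have := @Cfsg.Agent.H46.JS.wZ.congr_simp.{0,0}) | (have := @Cfsg.Agent.H46.JS.wZ.congr_simp.{0}) | (have := @Cfsg.Agent.H46.JS.wZ.congr_simp) | skip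
  first | (have := @Cfsg.Agent.H46.JS.two.eq_def.{0,0,0}) | (have := @Cfsg.Agent.H46.JS.two.eq_def.{0,0}) | (have := @Cfsg.Agent.H46.JS.two.eq_def.{0}) | (have := @Cfsg.Agent.H46.JS.two.eq_def) | skip
  first | (have := @Cfsg.Agent.H46.JS.two.eq_1.{0,0,0}) | (have := @Cfsg.Agent.H46.JS.two.eq_1.{0,0}) | (have := @Cfsg.Agent.H46.JS.two.eq_1.{0}) | (have := @Cfsg.Agent.H46.JS.two.eq_1) | skip
  first | (have := @Cfsg.Agent.H46.JS.two.eq_2.{0,0,0}) | (have := @Cfsg.Agent.H46.JS.two.eq_2.{0,0}) | (have := @Cfsg.Agent.H46.JS.two.eq_2.{0}) | (have := @Cfsg.Agent.H46.JS.two.eq_2) | skip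
  first | (have := @Cfsg.Agent.H46.JS.two.eq_unfold.{0,0,0}) | (have := @Cfsg.Agent.H46.JS.two.eq_unfold.{0,0}) | (have := @Cfsg.Agent.H46.JS.two.eq_unfold.{0}) | (have := @Cfsg.Agent.H46.JS.two.eq_unfold) | skip
  first | (have := @Cfsg.Agent.H46.JS.two.congr_simp.{0,0,0}) | (have := @Cfsg.Agent.H46.JS.two.congr_simp.{0,0}) | (have := @Cfsg.Agent.H46.JS.two.congr_simp.{0}) | (have := @Cfsg.Agent.H46.JS.two.congr_simp) | skip
  first | (have := @Cfsg.Agent.H46.JS.lE.eq_def.{0,0,0}) | (have := @Cfsg.Agent.H46.JS.lE.eq_def.{0,0}) | (have := @Cfsg.Agent.H46.JS.lE.eq_def.{0}) | (have := @Cfsg.Agent.H46.JS.lE.eq_def) | skip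
  first | (have := @Cfsg.Agent.H46.JS.lE.eq_1.{0,0,0}) | (have := @Cfsg.Agent.H46.JS.lE.eq_1.{0,0}) | (have := @Cfsg.Agent.H46.JS.lE.eq_1.{0}) | (have := @Cfsg.Agent.H46.JS.lE.eq_1) | skip
  first | (have := @Cfsg.Agent.H46.JS.lE.eq_2.{0,0,0}) | (have := @Cfsg.Agent.H46.JS.lE.eq_2.{0,0}) | (have := @Cfsg.Agent.H46.JS.lE.eq_2.{0}) | (have := @Cfsg.Agent.H46.JS.lE.eq_2) | skip
  first | (have := @Cfsg.Agent.H46.JS.lE.eq_unfold.{0,0,0}) | (have := @Cfsg.Agent.H46.JS.lE.eq_unfold.{0,0}) | (have := @Cfsg.Agent.H46.JS.lE.eq_unfold.{0}) | (have := @Cfsg.Agent.H46.JS.lE.eq_unfold) | skip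
  first | (have := @Cfsg.Agent.H46.JS.lE.congr_simp.{0,0,0}) | (have := @Cfsg.Agent.H46.JS.lE.congr_simp.{0,0}) | (have := @Cfsg.Agent.H46.JS.lE.congr_simp.{0}) | (have := @Cfsg.Agent.H46.JS.lE.congr_simp) | skip
  first | (have := @Cfsg.Agent.H46.JS.endL.eq_def.{0,0,0}) | (have := @Cfsg.Agent.H46.JS.endL.eq_def.{0,0}) | (have := @Cfsg.Agent.H46.JS.endL.eq_def.{0}) | (have := @Cfsg.Agent.H46.JS.endL.eq_def) | skip
  first | (have := @Cfsg.Agent.H46.JS.endL.eq_1.{0,0,0}) | (have := @Cfsg.Agent.H46.JS.endL.eq_1.{0,0}) | (have := @Cfsg.Agent.H46.JS.endL.eq_1.{0}) | (have := @Cfsg.Agent.H46.JS.endL.eq_1) | skip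
  first | (have := @Cfsg.Agent.H46.JS.endL.eq_2.{0,0,0}) | (have := @Cfsg.Agent.H46.JS.endL.eq_2.{0,0}) | (have := @Cfsg.Agent.H46.JS.endL.eq_2.{0}) | (have := @Cfsg.Agent.H46.JS.endL.eq_2) | skip
  first | (have := @Cfsg.Agent.H46.JS.endL.eq_unfold.{0,0,0}) | (have := @Cfsg.Agent.H46.JS.endL.eq_unfold.{0,0}) | (have := @Cfsg.Agent.H46.JS.endL.eq_unfold.{0}) | (have := @Cfsg.Agent.H46.JS.endL.eq_unfold) | skip
  first | (have := @Cfsg.Agent.H46.JS.endL.congr_simp.{0,0,0}) | (have := @Cfsg.Agent.H46.JS.endL.congr_simp.{0,0}) | (have := @Cfsg.Agent.H46.JS.endL.congr_simp.{0}) | (have := @Cfsg.Agent.H46.JS.endL.congr_simp) | skip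
  first | (have := @Cfsg.Agent.H46.JS.endB.eq_def.{0,0,0}) | (have := @Cfsg.Agent.H46.JS.endB.eq_def.{0,0}) | (have := @Cfsg.Agent.H46.JS.endB.eq_def.{0}) | (have := @Cfsg.Agent.H46.JS.endB.eq_def) | skip
  first | (have := @Cfsg.Agent.H46.JS.endB.eq_1.{0,0,0}) | (have := @Cfsg.Agent.H46.JS.endB.eq_1.{0,0}) | (have := @Cfsg.Agent.H46.JS.endB.eq_1.{0}) | (have := @Cfsg.Agent.H46.JS.endB.eq_1) | skip
  first | (have := @Cfsg.Agent.H46.JS.endB.eq_2.{0,0,0}) | (have := @Cfsg.Agent.H46.JS.endB.eq_2.{0,0}) | (have := @Cfsg.Agent.H46.JS.endB.eq_2.{0}) | (have := @Cfsg.Agent.H46.JS.endB.eq_2) | skip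
  first | (have := @Cfsg.Agent.H46.JS.endB.eq_unfold.{0,0,0}) | (have := @Cfsg.Agent.H46.JS.endB.eq_unfold.{0,0}) | (have := @Cfsg.Agent.H46.JS.endB.eq_unfold.{0}) | (have := @Cfsg.Agent.H46.JS.endB.eq_unfold) | skip
  first | (have := @Cfsg.Agent.H46.JS.endB.congr_simp.{0,0,0}) | (have := @Cfsg.Agent.H46.JS.endB.congr_simp.{0,0}) | (have := @Cfsg.Agent.H46.JS.endB.congr_simp.{0}) | (have := @Cfsg.Agent.H46.JS.endB.congr_simp) | skip
  trivial

end Cfsg.Agent.H46.JS
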