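import Cfsg.Agent.H46.J4StF

/-!
# Extensions of the eleven-dimensional module of `M24` by itself split

A certificate for the vanishing of the first cohomology group of the endomorphism module and
for the non-existence of a lift to `ℤ/4`.
-/

set_option autoImplicit false
set_option maxRecDepth 1000000

namespace Cfsg.Agent.H46.JS

open H42 H83 H83.J4 Cfsg Subgroup MulAction

/-- The carries in a sum of columns. -/
noncomputable def carN (A b k : ℕ) : ℕ :=
  Nat.rec 0 (fun i r => iteB (tb b i) (Nat.xor r (Nat.land (xorC (fld 16 A) b i) (fld 16 A i))) r) k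

theorem carN_succ (A b k : ℕ) : carN A b (k + 1) =
    if b.testBit k = true then carN A b k ^^^ (xorC (fld 16 A) b k &&& fld 16 A k) else carN A b k := by
  show iteB (tb b k) _ _ = _
  rw [iteB_eq, tb_eq]; rfl

theorem carN_lt {A : ℕ} (h : Ok A) (b : ℕ) {k : ℕ} (hk : k ≤ 12) : carN A b k < 2048 := by
  induction k with
  | zero => show 0 < 2048; norm_num
  | succ k ih =>
    rw [carN_succ]
    split_ifs
    · exact xlt (ih (by omega)) (Nat.and_lt_two_pow (n := 11) _ (h k (by omega)))
    · exact ih (by omega)

/-- The carries in a product of matrices. -/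
noncomputable def car (A B : ℕ) : ℕ := packW 16 (fun j => carN A (fld 16 B j) 11) 12

theorem fld_car {A : ℕ} (h : Ok A) (B : ℕ) {j : ℕ} (hj : j < 12) :
    fld 16 (car A B) j = carN A (fld 16 B j) 11 :=
  fld_packW _ _ _ (fun _ _ => (carN_lt h _ (by norm_num)).trans (by norm_num)) hj

/-- Multiplication by a bit. -/
noncomputable def thc (θ x : ℕ) : ℕ := iteB (Nat.beq θ 0) 0 x

theorem thc_zero (x : ℕ) : thc 0 x = 0 := rfl
theorem thc_one (x : ℕ) : thc 1 x = x := rfl

/-- `2 ^ 192`. -/
def T192 : ℕ := 6277101735386680763835789423207666416102355444464034512896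
/-- `2 ^ 176`. -/
def T176 : ℕ := 95780971304118053647396689196894323976171195136475136
/-- Packing a pair. -/
def pk (A X : ℕ) : ℕ := Nat.add A (Nat.mul T192 X)
/-- The first component. -/
def lo1 (s : ℕ) : ℕ := Nat.mod s T192
/-- The second component. -/
def hi1 (s : ℕ) : ℕ := Nat.div s T192

theorem lo_pk {A : ℕ} (h : A < 2 ^ 192) (X : ℕ) : lo1 (pk A X) = A := by
  show (A + T192 * X) % T192 = A
  rw [Nat.add_mul_mod_self_left, Nat.mod_eq_of_lt (show A < T192 from h)]

theorem hi_pk {A : ℕ} (h : A < 2 ^ 192) (X : ℕ) : hi1 (pk A X) = X := by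
  show (A + T192 * X) / T192 = X
  rw [Nat.add_mul_div_left _ _ (by decide), Nat.div_eq_of_lt (show A < T192 from h), Nat.zero_add]

/-- The product of two block triangular matrices. -/
noncomputable def stp (θ s t : ℕ) : ℕ := force (lo1 s) fun A => force (lo1 t) fun B =>
  pk (mm A B) (Nat.xor (Nat.xor (mm (hi1 s) B) (mm A (hi1 t))) (thc θ (car A B)))

theorem lo_stp (θ s t : ℕ) : lo1 (stp θ s t) = mm (lo1 s) (lo1 t) := by
  simp only [stp, force_eq]; exact lo_pk (mm_lt _ _) _

theorem hi_stp (θ s t : ℕ) : hi1 (stp θ s t) =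
    mm (hi1 s) (lo1 t) ^^^ mm (lo1 s) (hi1 t) ^^^ thc θ (car (lo1 s) (lo1 t)) := by
  simp only [stp, force_eq]; exact hi_pk (mm_lt _ _) _

/-- The matrix of the first generator. -/
def mA0 : ℕ := 2065129288371550730002098001188017717675430723781822
/-- The matrix of the second generator. -/
def mA1 : ℕ := 2012507736203022268516812774263701284677868262523036

/-- The relators. -/
def rels : List (List ℕ × List ℕ) := [([1], [0, 0, 0, 0, 0]), ([0, 0, 0, 1, 1, 0, 1], [0, 0, 0]),
  ([0, 1, 1, 1], [0, 0, 0, 0, 0, 0]), ([0, 0, 0, 0, 0, 0, 1, 1, 0, 1], [0, 0, 0, 0]),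
  ([0, 0, 0], [0, 0, 0, 0, 0, 0, 0])]

/-- The value of a relator. -/
noncomputable def val (θ X Y : ℕ) (r : List ℕ × List ℕ) : ℕ :=
  force (evW (stp θ) mE (two (pk mA0 X) (pk mA1 Y)) r.1) fun a => evW (stp θ) mE (two a a) r.2

/-- The defects of the relators. -/
noncomputable def dfc (θ X Y : ℕ) (L : List (List ℕ × List ℕ)) : ℕ :=
  List.rec 0 (fun r _ ih => Nat.xor (Nat.shiftLeft ih 176) (Nat.mod (hi1 (val θ X Y r)) T176)) L

theorem dfc_cons (θ X Y : ℕ) (r : List ℕ × List ℕ) (L : List (List ℕ × List ℕ)) :
    dfc θ X Y (r :: L) = dfc θ X Y L <<< 176 ^^^ hi1 (val θ X Y r) % 2 ^ 176 := rfl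

/-- The third state is the sum of the first two. -/
def Lin3 (s t u : ℕ) : Prop := lo1 s = lo1 u ∧ lo1 t = lo1 u ∧ hi1 u = hi1 s ^^^ hi1 t

theorem evW_lin (θ : ℕ) {a b a' b' a'' b'' : ℕ} (ha : Lin3 a a' a'') (hb : Lin3 b b' b'') (w : List ℕ) :
    Lin3 (evW (stp θ) mE (two a b) w) (evW (stp 0) mE (two a' b') w) (evW (stp θ) mE (two a'' b'') w) := by
  induction w with
  | nil => exact ⟨rfl, rfl, show hi1 mE = hi1 mE ^^^ hi1 mE by decide +kernel⟩
  | cons c w ih =>
    have hc : Lin3 (two a b c) (two a' b' c) (two a'' b'' c) := by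
      unfold two; cases Nat.beq c 0; exacts [hb, ha]
    simp only [evW_cons, Lin3, lo_stp, hi_stp, ih.1, ih.2.1, ih.2.2, hc.1, hc.2.1, hc.2.2, mm_xor_left,
      mm_xor_right, thc_zero, Nat.xor_zero, true_and]
    simp only [Nat.xor_assoc, Nat.xor_comm, Nat.xor_left_comm]

theorem lin_pk {A : ℕ} (h : A < 2 ^ 192) (X X' : ℕ) : Lin3 (pk A X) (pk A X') (pk A (X ^^^ X')) := by
  simp only [Lin3, lo_pk h, hi_pk h, and_self]

theorem dfc_xor (θ X Y X' Y' : ℕ) (L : List (List ℕ × List ℕ)) :
    dfc θ (X ^^^ X') (Y ^^^ Y') L = dfc θ X Y L ^^^ dfc 0 X' Y' L := by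
  induction L with
  | nil => exact (Nat.xor_self 0).symm
  | cons r L ih =>
    have h1 := evW_lin θ (lin_pk (A := mA0) (by decide) X X') (lin_pk (A := mA1) (by decide) Y Y') r.1
    have h2 := (evW_lin θ h1 h1 r.2).2.2
    simp only [dfc_cons, ih, val, force_eq, h2, Nat.shiftLeft_xor_distrib, Nat.xor_mod_two_pow]
    simp only [Nat.xor_assoc, Nat.xor_comm, Nat.xor_left_comm]

/-- Coboundaries. -/
def cob (A Y : ℕ) : ℕ := Nat.xor (mm Y A) (mm A Y)

theorem cob_xor (A Y Z : ℕ) : cob A (Y ^^^ Z) = cob A Y ^^^ cob A Z := by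
  show mm _ A ^^^ mm A _ = (mm Y A ^^^ mm A Y) ^^^ (mm Z A ^^^ mm A Z)
  simp only [mm_xor_left, mm_xor_right, Nat.xor_assoc, Nat.xor_comm, Nat.xor_left_comm]

/-- Certificate. -/
def cB0 : List (ℕ × ℕ) := [
  (1, 21942640115248534261490759976974127844721217176294), (0, 122792809718767808823790453945642199876099353085166),
  (6, 733688540897113909816896823432352235896678878806177), (3, 1366546201925952902619670207606899053581985084344086),
  (2, 472105259537655320433310540425767513028423695336607), (7, 92085151654438920762340985978019552735838287495696),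
  (8, 628484686001603128277301113160915190478490192577688), (10, 644556699251850557895009005034504575021370719338528),
  (9, 1309527545164639017722285557659398092530498880275288), (4, 1359224733339750379300861187118180382386246212715867),
  (5, 1308049585830861791163007121453960145854285461652906), (17, 1341677213600525492261049375233021653256889995036615),
  (16, 1319755268899067349943620586175879356284729649005315), (18, 955841361413291373193312661506594737660817201038672),
  (19, 1309530176606966652600205665248022800372657346577240), (21, 102341286936048528714458132672719572903518278517275),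
  (22, 526171297770461986664232008429461906759964714991622), (20, 660611942327069255560170836954778937170839832756801),
  (24, 81852075730264590511089535642825443574298441613899), (25, 62878267212002925663353678252298915410190973994137),
  (23, 236791453825783872589233449835543087530617625378950), (26, 244075947474278131023072258876047997007866319274699),
  (33, 1230601238169877346312774289141482244218098450629895), (32, 837449425501518744496640681332944355046360953454901),
  (35, 162255762162862203083736348703807388695160441996841), (36, 1375293267525717300138430220945787742703934272635742),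
  (42, 245545856304025745575836646443060582093683063783468), (37, 1099051930164251472085045593978080040654318875902229),
  (39, 1042080394642404604284109391346090742738175986172393), (40, 625550554423012209878321095207195635469365309604423),
  (38, 521801533897745295156898831433015612250681363858065), (41, 1265662670408643496417242692193233569920767193972909),
  (34, 122782417463976039623356157922908295340614556583556), (49, 384410433607542356235134144706278957919851298948740),
  (48, 1100523266196440286753406553703980185056512497157376), (51, 1137071979536615913415558955459636556940014022100939),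
  (52, 464758234968832790743789648418844800042345844572701), (58, 26332698282344550018305071320565295393740593366772),
  (53, 1439592114572267779992638518309971007423358884184915), (55, 722016130088844346932096933498317262796051816185978),
  (56, 203166613103452891487244966380681179504116064846528), (54, 948551136464779552504346604523658220558495724603244),
  (57, 140335311938345430314076168948793102907141839980390), (50, 1197011276300668503198648432973485853148654276969840),
  (64, 795083875277676947230407156756376301862968567596326), (66, 400493753603054525128950565494044344076136717353828),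
  (65, 1055226438848562214334164979743564461259242322330151), (67, 393151656881311152700359900435045827304717834913206),
  (68, 532027830135398798014007117587459589693421965018813), (69, 1106402278218886086386098662103664705343931700478808),
  (72, 444314450447045686922055268733299465597141668987894), (70, 926594491181754714995330654706286833734988126880123),
  (73, 333225495689368902200715882028337931600927836996539), (71, 599251352916205129344943297312412161914111987024001),
  (74, 242654074519094684451403264270533566702705620353517), (81, 483768660853378351186869246161007756578309163189794),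
  (80, 1232050162064762732987768387322445231694312335804214), (83, 171000887866277609200054608762289085180909830013148),
  (84, 1249595206913995857207276957065193137532418607678210), (90, 42423287805277351249544183936563968701619515294739),
  (85, 746838264643203817134222375535724118338868063961659), (87, 1316857353917839188767577864745939600290575795683605),
  (88, 419488904156673513279437555393041446163679266472652), (86, 941235577128240485291985995587368871998219612259835),
  (89, 1182360333091656244542821014387731933863639001662290), (82, 551005987669207461245569404465580714253359482012866),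
  (96, 517412167260650825752961318412943849264715087544493), (99, 423866294816869374051795316439044405397313884914168),
  (97, 480848155688546817820024573413253534526887690569478), (98, 1068361153674205684118618668930182027194751825609387),
  (100, 1160446907090095792206231277215805504688948150469031), (102, 988004834366735514653441370657065430451924123255260),
  (101, 719067235767087395979216347063161536961145892046057), (104, 616795237264410304112754341930140783356520815461669),
  (103, 571486010662052963697029583355796804977393387504151), (105, 489614890474809986376904427890582131324598091449466),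
  (106, 643069329095127132920254922492975784414386941854471), (113, 574409683079186569048654048078937137407353783714546),
  (112, 1058165810379516447259003091969961756097833655010136), (115, 514455578913311472614012316264882233061614045233204),
  (116, 1239395002296068947311072456374205305127752259732666), (122, 947094920162242043974602401804712046403234752300575),
  (117, 665009649414966924247981875207388285097370348618853), (119, 821406849592921256374924684849645484193305236931953),
  (120, 283557944762595065358028137699093790548702804836623), (118, 365407210298150106246208942873231770308746912990680),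
  (121, 1080073705887459443930204729672569421021237518074310), (114, 334702027791444149732229165840877805275314412191970),
  (128, 717625023804425739682174147594839592430000042017970), (129, 1395756587892314143928968513860753825903402843504674),
  (132, 692796132584330797761758796293383670976579937765201), (134, 606558013462199303391872440496212223428525282690939),
  (131, 520296724202012814340263028619023067635670604776401), (130, 385841762586383778689940153152908331354694447727988),
  (133, 472091143224812705604448029180803194955975157482655), (136, 64329532496948491714290891474789823435056582952176),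
  (145, 207542041830271065446028101152012216082886729794678), (135, 1493664976770488344789060785011113279844268904219400),
  (146, 1435239990426343154654211002000214133781316864181650), (144, 54104797176026119658023640858906024169707810260568),
  (138, 1230602866593183879293356464174079022308976517580579), (147, 903219920608299973471984745857704456087140038019071),
  (148, 909079642046493799892321469390986443951249922721447), (137, 1335814638001095017608444714661258616373797821351583),
  (149, 792172713607866701069823617888829975967265463863094), (151, 1443987167435588476132248903931140224945399744169227),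
  (154, 973369077729392084853368985823438972282368643170539), (152, 106714418299891406337841366659503064369265161274319),
  (150, 916369109393751960068978432898032394955319089300148), (153, 939779249613265367492994757874420633297151639684768)]
/-- Certificate. -/
def cB1 : List (ℕ × ℕ) := [
  (1, 1188207276736092661172254446914962777948626592268773), (4, 819943028229253219406413283439485846499572656898710),
  (0, 1242310556882951949052649385437628392157143195583996), (2, 1346048695103274356458950865746626991428202413753538),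
  (3, 1468816683656726165289681858716495212919330106705153), (8, 266003289412041032927834828744891222836583274579287),
  (5, 1267150777001731309076327323224651385106980158832947), (16, 210487680137742478454606979456425858123007563661926),
  (6, 1325615860227634018069439081023698981229253167546528), (7, 856464066825454642124074362404310441775397945016754)]
/-- Certificate. -/
def cLt : List (ℕ × ℕ) := [
  (0, 1), (180, 1), (178, 1), (179, 1), (176, 1), (181, 1), (183, 1), (184, 1), (185, 1), (1, 1), (2, 1), (5, 1), (7, 1), (192, 1), (194, 1), (20, 1),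
  (21, 1), (22, 1), (25, 1), (34, 1), (32, 1), (193, 1), (80, 1), (82, 1), (197, 1), (196, 1), (208, 1), (201, 1), (209, 1), (213, 1), (214, 1),
  (217, 1), (216, 1), (229, 1), (225, 1), (226, 1), (357, 1), (370, 1), (368, 1), (373, 1), (374, 1), (384, 1), (385, 1), (386, 1), (389, 1), (417, 1),
  (464, 1), (528, 1), (466, 1), (530, 1), (531, 1), (544, 1), (533, 1), (537, 1), (549, 1), (548, 1), (550, 1), (552, 1), (565, 1), (613, 1), (609, 1),
  (704, 1), (709, 1), (710, 1), (707, 1), (721, 1)]
/-- Certificate. -/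
def cL0 : List (ℕ × ℕ) := [
  (0, 1883875610519533861564549749371288812336497047896064), (180, 1883875610519533861564549749371288812336497047896064),
  (178, 1775724489357047045617477071750283868881958039715840), (179, 1775724489357047045617477071750283868881958039715840),
  (176, 1883875610519533861564549749371288812336497047896064), (181, 1775724489357047045617477071750283868881958039715840),
  (183, 1883875610519533861564549749371288812336497047896064), (184, 1883875610519533861564549749371288812336497047896064),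
  (185, 1883875610519533861564549749371288812336497047896064), (8, 640137717150935478173213956729731962609298453823488),
  (1, 1883875610519533861564549749371288812336497047896064), (3, 640137717150935478173213956729731962609298453823488),
  (2, 1775724489357047045617477071750283868881958039715840), (5, 1775724489357047045617477071750283868881958039715840),
  (7, 1883875610519533861564549749371288812336497047896064), (16, 640137717150935478173213956729731962609298453823488),
  (18, 640137717150935478173213956729731962609298453823488), (4, 640137717150935478173213956729731962609298453823488),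
  (192, 1883875610519533861564549749371288812336497047896064), (194, 1775724489357047045617477071750283868881958039715840),
  (19, 640137717150935478173213956729731962609298453823488), (20, 1775724489357047045617477071750283868881958039715840),
  (17, 640137717150935478173213956729731962609298453823488), (23, 640137717150935478173213956729731962609298453823488),
  (21, 1775724489357047045617477071750283868881958039715840), (22, 1775724489357047045617477071750283868881958039715840),
  (25, 1883875610519533861564549749371288812336497047896064), (26, 640137717150935478173213956729731962609298453823488),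
  (34, 1883875610519533861564549749371288812336497047896064), (32, 1775724489357047045617477071750283868881958039715840),
  (193, 1775724489357047045617477071750283868881958039715840), (80, 1883875610519533861564549749371288812336497047896064),
  (82, 1883875610519533861564549749371288812336497047896064), (197, 1775724489357047045617477071750283868881958039715840),
  (196, 1775724489357047045617477071750283868881958039715840), (198, 640137717150935478173213956729731962609298453823488),
  (208, 1883875610519533861564549749371288812336497047896064), (199, 640137717150935478173213956729731962609298453823488),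
  (201, 1775724489357047045617477071750283868881958039715840), (209, 1883875610519533861564549749371288812336497047896064),
  (213, 1883875610519533861564549749371288812336497047896064), (214, 1883875610519533861564549749371288812336497047896064),
  (217, 1883875610519533861564549749371288812336497047896064), (216, 1775724489357047045617477071750283868881958039715840),
  (229, 1775724489357047045617477071750283868881958039715840), (230, 640137717150935478173213956729731962609298453823488),
  (225, 1883875610519533861564549749371288812336497047896064), (226, 1775724489357047045617477071750283868881958039715840),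
  (228, 640137717150935478173213956729731962609298453823488), (357, 1775724489357047045617477071750283868881958039715840),
  (352, 640137717150935478173213956729731962609298453823488), (370, 1883875610519533861564549749371288812336497047896064),
  (353, 640137717150935478173213956729731962609298453823488), (368, 1775724489357047045617477071750283868881958039715840),
  (373, 1775724489357047045617477071750283868881958039715840), (374, 1883875610519533861564549749371288812336497047896064),
  (371, 640137717150935478173213956729731962609298453823488), (384, 1775724489357047045617477071750283868881958039715840),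
  (385, 1775724489357047045617477071750283868881958039715840), (386, 1775724489357047045617477071750283868881958039715840),
  (387, 640137717150935478173213956729731962609298453823488), (389, 1775724489357047045617477071750283868881958039715840),
  (416, 640137717150935478173213956729731962609298453823488), (417, 1883875610519533861564549749371288812336497047896064),
  (418, 640137717150935478173213956729731962609298453823488), (464, 1775724489357047045617477071750283868881958039715840),
  (528, 1775724489357047045617477071750283868881958039715840), (466, 1775724489357047045617477071750283868881958039715840),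
  (530, 1775724489357047045617477071750283868881958039715840), (529, 640137717150935478173213956729731962609298453823488),
  (531, 1775724489357047045617477071750283868881958039715840), (536, 640137717150935478173213956729731962609298453823488),
  (544, 1883875610519533861564549749371288812336497047896064), (533, 1883875610519533861564549749371288812336497047896064),
  (538, 640137717150935478173213956729731962609298453823488), (537, 1775724489357047045617477071750283868881958039715840),
  (546, 640137717150935478173213956729731962609298453823488), (549, 1775724489357047045617477071750283868881958039715840),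
  (548, 1775724489357047045617477071750283868881958039715840), (550, 1775724489357047045617477071750283868881958039715840),
  (552, 1883875610519533861564549749371288812336497047896064), (553, 640137717150935478173213956729731962609298453823488),
  (561, 640137717150935478173213956729731962609298453823488), (565, 1883875610519533861564549749371288812336497047896064),
  (551, 640137717150935478173213956729731962609298453823488), (613, 1775724489357047045617477071750283868881958039715840),
  (609, 1775724489357047045617477071750283868881958039715840), (704, 184149206303693767693664288922251660476647500414976),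
  (709, 1598882791240007792514831206991613623503590202015744), (705, 1411810581661652218984759548403929396987630836514816),
  (706, 1017205139582308431069764643570532981680529049911296), (710, 2822159661685973535051315411975142510955605740486656),
  (707, 1071280700163551839043300982381035453407798554001408), (708, 2146945905239096386841213019260219755874564905631744),
  (711, 181226203029031961857256919256819094437335635329024), (721, 939745552803770576404969347436569981638764625133568),
  (712, 1294890450675179985528464761786626755415156233076736)]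
/-- Certificate. -/
def cL1 : List (ℕ × ℕ) := [
  (0, 2595632884875416250156778642093665215139204716560896), (180, 2057820754104588725944416712635861253469792941506560),
  (178, 2544506508703585337516460355119592977008819515819008), (179, 2122132691325827850106640366963952493979411725682176),
  (176, 1641279919980898235678592524746699033534845532898304), (182, 2221486324652865373523777122134102849099126546497536),
  (181, 2442172090969422004610194365967142089030516167541760), (177, 184154736969155345159060912856230957515355488256512),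
  (183, 1726071055336917173291545807619828512081357804405248), (184, 226542053353912490387577788454803725397689271451648),
  (185, 1769880534977187146037239999380764854613352224653312), (186, 1639819712103938467670570398294845976685606655493120),
  (8, 2835326133190302324114882846198624033499765481799680), (1, 2440713756154962564243916488933097584304893505830912),
  (3, 1584305195659727130893008449729097501777961513648640), (2, 1588669785950452557236107325164360657667166241423872),
  (5, 1277358207295553261929929221181044336895927701864960), (7, 1014322902551713680417724810945053832461168965584384),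
  (16, 2659942948712570187489550831925996143504366578828288), (18, 529073316414801458211913213644079754359449680872448),
  (4, 2809024434092248444379891716189893568884826170458624), (192, 998246651853968456868488986520640560547468949324800),
  (194, 388789051047940563222954457213617131832311156048384), (19, 1084434326741500820961392354821707749583507953156096),
  (20, 1020147321608783368074554387346380832684305072784384), (17, 2285808698762031137926282608268092066082544502702592),
  (23, 736619772835733917016600397551598142950463417614336), (21, 2863083603635297213414681883833229332888200097302016),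
  (24, 2385197991223594227061165814470723157106428367602176), (22, 2747645535284663426688493923619515990243788763038208),
  (25, 2113357214548092672597347236846096473342085385420800), (26, 2858740265791065759874121657814489277985779797196800),
  (34, 200266066893925477598780146453255646840934546145792), (35, 1753828547955384023257482143187740242367734136964608),
  (32, 1680745504552314142154831719917366841553007842427904), (193, 2811943913837590994895728131748325467416313536578048),
  (80, 1921879403194471719516730971532007184420331792761344), (82, 2715494862953178321994714312573916621751788030919168),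
  (197, 62888258015951364238299584907183134004688424535040), (195, 350779750229140927781237102240347152383692581504000),
  (196, 1654430000753972844097005666647305191994045997778432), (198, 1793296451157080461887737252177141937769050987429888),
  (208, 1432298923546718973773300427657829427273731620602880), (199, 776085758900538227060842197132417581596242957042688),
  (201, 1588694695807628714220324855429257357380906850845184), (209, 1834228510234988406350199380841762087570000433513984),
  (210, 808219571268735185693467600091482922260667770208768), (200, 2844104464937777794685468410856965359163635438192128),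
  (213, 887145722332150047079377697626796301752992119129088), (214, 1255473170240622685881259695833150920552458716972544),
  (202, 62846332511528693985187098130336582885782439199232), (211, 2268270924183372120631476526142301627844438723789312),
  (215, 385856503037312466215440442374800774086706839028224), (212, 2293128717732068952574002934073705350005396908539904),
  (217, 2003741447103296806918568383345079631793521283170304), (216, 881311802252149246692406426606552408231093447427584),
  (224, 2227343749565187098655412527802760623142468694573056), (218, 1110786336895804858798795820398379338196356652859904),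
  (229, 276248117298095119577888540786501969213324963087872), (230, 2661398607476394427013096107879749712734615731175936),
  (225, 2752027631943150426708661699173946604494718345150464), (226, 1262760853071607636801181106302492292429564618736128),
  (228, 1002608164536368817342192847782823453017038454523392), (231, 337648737114191684946461636483774666452882557109760),
  (357, 1582824760883678754244259621656002967163116643026432), (352, 2192291883908172737912174368003556024989995448402944),
  (354, 1515611474488278690887196076682616443903634636407808), (370, 2585439259032110813490959039031731922660263160447488),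
  (353, 381495034908423883456399277089360960391806260871680), (369, 1252518968410590675710461196840829281891764250214400),
  (368, 1395757278734935282569135045728555302682404853122048), (373, 716177884178772541167222062578035369996114820596736),
  (374, 19041558839268665430653557477574349838432064373760), (371, 172471756261340226920091190034957023578278390923264),
  (384, 2081179959676603248787143581521135150762036258669056), (385, 472073436413056590588513920244091558286833667932160),
  (386, 1505391845719158154614265808255785182302245515952640), (387, 304027865895579486383367085973685158631117335692800),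
  (389, 2344280070844009301686596964988519535093682802655232), (416, 1832733824856045409734319391893436049000443690223104),
  (83, 435541872227856986666765738271432512527741596075008), (417, 333241797822330300858077254205388936960790890546176),
  (418, 609451646501285569045013503785805838723247752479232), (464, 2298964800274192218831198771225193547319253481161216),
  (528, 1647119214479593244257941574318976351241241207505920), (466, 2879196739603623056000781958999985635679327285150208),
  (530, 2385196920558480607919641638775187887231039008408576), (534, 230954300587912991327698631911872274654497563738624),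
  (532, 2645331790359337939444256772133523831059747302147584), (535, 62860760764968806056379559087460825756449145225728),
  (529, 2068059071061176844989286001896715901031831354607104), (531, 2307742440525027164491750108510612452180655071036416),
  (536, 1271524622132337466962099759126891405383624846345216), (544, 2325268752582913873136699937790071598372991844615168),
  (533, 2676012107161170982436351565770862670696506626015232), (545, 2284342045750218513289041626256538064434677831565824),
  (538, 1670509685434024290205918148723645708523262486904832), (537, 1463005956924752035772561120236675250815440963633664),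
  (547, 2947888030117026403116451029463852649370275962553856), (546, 2864582904862878961179150478815335598456280240227328),
  (549, 2934709516173885838478700987886229810973251692265984), (548, 2811955041788646420692731934138783415784282662503936),
  (550, 939774655334105724760010082226332654435096528815616), (552, 678167981255513592713840944825992154368094266458112),
  (553, 2382267806614553895627128381040252552289767650362880), (561, 1156062625345833936175488449920134662865418112729600),
  (565, 572939417498764423474779655017756730488164485693440), (551, 2263892641140157874808076357698256305874098510889472),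
  (613, 2065111915899455341648334148742349930336202226008064), (609, 244112833200153857208688792658294971458045303718400),
  (610, 2443648243992173864735019577827128265557425417618432), (554, 2790045295793198550512916438584890037910725447517184),
  (608, 2813396138500697430560431189484829127747323669775360), (704, 2199586012091436605450315581020987878537539933701632),
  (709, 2811962422967463484515242802084539770915079158104576), (705, 1237897618638918015509952149671958859433411508568576),
  (706, 2269734834616627818191363512526000955218966756459008), (710, 77493573491256294667630756212065937344919777707008),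
  (707, 282079606620361889439183657015552995647804800631808), (708, 580254975676637669869545813156032467150046359717376),
  (711, 401940870916726503734990522659506198389556275315712), (721, 1185306128193768033721275731673234144901697699972096),
  (712, 2810498290016769855697350095462998051852815873868288)]

/-- The data are recovered from the defects up to a coboundary. -/
noncomputable def good (θ X Y : ℕ) : Bool := force (dfc θ X Y rels) fun d =>
  force (Nat.xor (sel cB0 X) (sel cB1 Y)) fun Z => Bool.and (Nat.beq θ (sel cLt d))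
    (Bool.and (Nat.beq (Nat.xor X (cob mA0 Z)) (sel cL0 d)) (Nat.beq (Nat.xor Y (cob mA1 Z)) (sel cL1 d)))

theorem good_iff {θ X Y : ℕ} : good θ X Y = true ↔ θ = sel cLt (dfc θ X Y rels) ∧
    X ^^^ cob mA0 (sel cB0 X ^^^ sel cB1 Y) = sel cL0 (dfc θ X Y rels) ∧
    Y ^^^ cob mA1 (sel cB0 X ^^^ sel cB1 Y) = sel cL1 (dfc θ X Y rels) := by
  simp only [good, force_eq, Bool.and_eq_true, beq_iff]; rfl

theorem good_xor {θ X Y X' Y' : ℕ} (h : good θ X Y = true) (k : good 0 X' Y' = true) :
    good θ (X ^^^ X') (Y ^^^ Y') = true := by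
  rw [good_iff] at *
  simp only [dfc_xor, sel_xor, ← h.1, ← h.2.1, ← h.2.2, ← k.1, ← k.2.1, ← k.2.2, cob_xor, Nat.xor_zero,
    true_and]
  simp only [Nat.xor_assoc, Nat.xor_comm, Nat.xor_left_comm, and_self]

theorem chk_good : good 0 0 0 = true ∧ good 1 0 0 = true ∧
    allB (fun j => allB (fun i => force (Nat.pow 2 (Nat.add (Nat.mul 16 j) i)) fun M =>
      Bool.and (good 0 M 0) (good 0 0 M)) 11) 11 = true := by decide +kernel

theorem chk_rels : mt (nth gens24 0) = mA0 ∧ mt (nth gens24 1) = mA1 ∧
    allL (fun r => Bool.and (Bool.and (okW 2 r.1) (okW 2 r.2))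
      (force (evW pm pid (two (nth gens24 0) (nth gens24 1)) r.1) fun a =>
        Nat.beq (evW pm pid (two a a) r.2) pid)) rels = true ∧
    allL (fun a : ℕ × ℕ => allB (fun i => Nat.ble (fld 16 a.2 i) 2047) 12) (cB0 ++ cB1) = true := by
  decide +kernel

theorem mat_ind (P : ℕ → Prop) (h0 : P 0) (hx : ∀ a b, P a → P b → P (a ^^^ b))
    (hu : ∀ j < 11, ∀ i < 11, P (2 ^ (16 * j + i))) {M : ℕ} (h1 : M < 2 ^ 176) (h2 : Ok M) : P M := by
  have : ∀ k ≤ 176, P (xorC (fun i => 2 ^ i) M k) := by
    intro k hk
    induction k with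
    | zero => exact h0
    | succ k ih =>
      rw [xorC_succ]
      split_ifs with hb
      · refine hx _ _ (ih (by omega)) ?_
        have h3 : k % 16 < 11 := by
          by_contra h4
          have h5 := testBit_fld 16 M (k / 16) (k % 16)
          rw [Nat.div_add_mod, hb, Nat.testBit_lt_two_pow ((h2 _ (by omega)).trans_le
            (Nat.pow_le_pow_right (n := 2) (by norm_num) (not_lt.mp h4)))] at h5
          simp [Nat.mod_lt] at h5
        have := hu (k / 16) (by omega) _ h3
        rwa [Nat.div_add_mod] at this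
      · exact ih (by omega)
  exact xorC_pow_self h1 ▸ this 176 le_rfl

theorem good_all {θ X Y : ℕ} (hθ : θ ≤ 1) (x1 : X < 2 ^ 176) (x2 : Ok X) (y1 : Y < 2 ^ 176) (y2 : Ok Y) :
    good θ X Y = true := by
  have c := fun j hj i hi => Bool.and_eq_true_iff.mp
    ((force_eq _ _).symm.trans (of_allB (of_allB chk_good.2.2 (i := j) hj) (i := i) hi))
  have h0 : good θ 0 0 = true := by interval_cases θ; exacts [chk_good.1, chk_good.2.1]
  have h1 := mat_ind (fun M => good 0 M 0 = true) chk_good.1
    (fun a b ha hb => by simpa using good_xor ha hb) (fun j hj i hi => (c j hj i hi).1) x1 x2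
  have h2 := mat_ind (fun M => good 0 0 M = true) chk_good.1
    (fun a b ha hb => by simpa using good_xor ha hb) (fun j hj i hi => (c j hj i hi).2) y1 y2
  simpa using good_xor (good_xor h0 h1) h2

theorem ok_sel {L : List (ℕ × ℕ)} (h : ∀ a ∈ L, Ok a.2) (M : ℕ) : Ok (sel L M) := by
  induction L with
  | nil => exact ok_zero
  | cons a L ih =>
    have := ih fun b hb => h b (List.mem_cons_of_mem _ hb)
    rw [sel_cons]
    split_ifs
    · exact this.xor (h a List.mem_cons_self)
    · exact this

/-- An extension of the module by itself. -/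
structure DM (W : Type*) [CommGroup W] where
  /-- the submodule -/
  χ : ℕ → W
  χ_mul : ∀ {i j}, i < 2048 → j < 2048 → χ i * χ j = χ (i ^^^ j)
  χ_inj : ∀ {i j}, i < 2048 → j < 2048 → χ i = χ j → i = j
  /-- the map onto the submodule -/
  s : W →* W
  s_χ : ∀ j < 2048, s (χ j) = 1
  ker : ∀ x, s x = 1 → ∃ j < 2048, χ j = x
  /-- lifts of the basis -/
  w : ℕ → W
  s_w : ∀ i < 11, s (w i) = χ (2 ^ i)
  /-- the type -/
  θ : ℕ
  θ_le : θ ≤ 1
  sq : ∀ x, x * x = s x ^ θ
  /-- the action -/
  ρ : M24 →* MulAut W
  ρ_χ : ∀ m, ∀ j < 2048, ρ m (χ j) = χ (ac m j)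
  s_ρ : ∀ m x, s (ρ m x) = ρ m (s x)

namespace DM

variable {W : Type*} [CommGroup W] (D : DM W)

theorem χ_zero : D.χ 0 = 1 := by
  have := D.χ_mul (i := 0) (j := 0) (by norm_num) (by norm_num)
  simpa using this

theorem θ_cases : D.θ = 0 ∨ D.θ = 1 := by have := D.θ_le; omega

theorem thc_lt {x : ℕ} (h : x < 2048) : thc D.θ x < 2048 := by
  rcases D.θ_cases with e | e <;> rw [e]
  · rw [thc_zero]; norm_num
  · exact h

theorem thc_xor (x y : ℕ) : thc D.θ (x ^^^ y) = thc D.θ x ^^^ thc D.θ y := by
  rcases D.θ_cases with e | e <;> simp [e, thc_zero, thc_one]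

theorem thc_arg : thc D.θ 0 = 0 := by simpa using D.thc_xor 0 0

theorem χ_pow (x : ℕ) : D.χ x ^ D.θ = D.χ (thc D.θ x) := by
  rcases D.θ_cases with e | e <;> simp [e, thc_zero, thc_one, D.χ_zero]

theorem fld_thc (x i : ℕ) : fld 16 (thc D.θ x) i = thc D.θ (fld 16 x i) := by
  rcases D.θ_cases with e | e <;> simp [e, thc_zero, thc_one, fld_zero]

/-- The section. -/
noncomputable def ω (b : ℕ) : W := pr D.w b 11

theorem s_ω {b : ℕ} (hb : b < 2048) : D.s (D.ω b) = D.χ b := by
  rw [ω, map_pr, pr_congr D.s_w, ← map_xorC_pr D.χ_zero (· < 2048) (by norm_num) (fun _ _ => xlt)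
    (fun a b ha hb => (D.χ_mul ha hb).symm) _ _ _ (fun i hi => two_pow_lt hi),
    xorC_pow_self (show b < 2 ^ 11 from hb)]

theorem ω_mul {a b : ℕ} (hb : b < 2048) :
    D.ω a * D.ω b = D.χ (thc D.θ (a &&& b)) * D.ω (a ^^^ b) := by
  have : ∀ k ≤ 11, pr D.w a k * pr D.w b k =
      D.χ (thc D.θ (xorC (fun i => 2 ^ i) (a &&& b) k)) * pr D.w (a ^^^ b) k := by
    intro k hk
    induction k with
    | zero => simp [pr_zero, xorC_zero, D.thc_arg, D.χ_zero]
    | succ k ih =>
      have ih := ih (by omega)
      simp only [pr_succ, xorC_succ, Nat.testBit_xor, Nat.testBit_and]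
      cases a.testBit k <;> cases b.testBit k <;> simp only [Bool.false_eq_true, if_false, if_true,
        Bool.and_false, Bool.and_true, Bool.xor_false, Bool.xor_true, Bool.not_false, Bool.not_true]
      · exact ih
      · rw [← mul_assoc, ih, mul_assoc]
      · rw [mul_right_comm, ih, mul_assoc]
      · rw [mul_mul_mul_comm, ih, D.sq, D.s_w k (by omega), D.χ_pow, D.thc_xor, ← D.χ_mul
          (D.thc_lt (xorC_lt (w := 11) _ _ fun i hi => two_pow_lt (by omega)))
          (D.thc_lt (two_pow_lt (by omega))), mul_right_comm]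
  have h := this 11 le_rfl
  rwa [xorC_pow_self (Nat.and_lt_two_pow a (show b < 2 ^ 11 from hb))] at h

/-- The automorphism has the given block triangular matrix. -/
structure Act (α : MulAut W) (A X : ℕ) : Prop where
  oa : Ok A
  ox : Ok X
  onχ : ∀ j < 2048, α (D.χ j) = D.χ (mvS A j)
  onw : ∀ i < 11, α (D.w i) = D.χ (fld 16 X i) * D.ω (fld 16 A i)

variable {D}

theorem Act.onω {α : MulAut W} {A X : ℕ} (h : D.Act α A X) {b : ℕ} (hb : b < 2048) :
    α (D.ω b) = D.χ (mvS X b ^^^ thc D.θ (carN A b 11)) * D.ω (mvS A b) := by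
  have : ∀ k ≤ 11, α (pr D.w b k) =
      D.χ (xorC (fld 16 X) b k ^^^ thc D.θ (carN A b k)) * D.ω (xorC (fld 16 A) b k) := by
    intro k hk
    induction k with
    | zero =>
      rw [pr_zero, xorC_zero, xorC_zero, show carN A b 0 = 0 from rfl, D.thc_arg, map_one, ω,
        pr_arg_zero, Nat.xor_zero, D.χ_zero, one_mul]
    | succ k ih =>
      have ih := ih (by omega)
      rw [pr_succ, xorC_succ, xorC_succ, carN_succ]
      split_ifs
      · have l1 : xorC (fld 16 X) b k < 2048 := xorC_lt (w := 11) _ _ fun i hi => h.ox i (by omega)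
        have l2 := D.thc_lt (carN_lt h.oa b (k := k) (by omega))
        have l3 := h.ox k (by omega)
        have l4 := D.thc_lt (Nat.and_lt_two_pow (n := 11) (xorC (fld 16 A) b k) (h.oa k (by omega)))
        rw [map_mul, ih, h.onw k (by omega), mul_mul_mul_comm, D.ω_mul (h.oa k (by omega)), ← mul_assoc,
          D.χ_mul (xlt l1 l2) l3, D.χ_mul (xlt (xlt l1 l2) l3) l4, D.thc_xor]
        simp only [Nat.xor_assoc, Nat.xor_comm, Nat.xor_left_comm]
      · exact ih
  rw [mvS_eq11 _ hb, mvS_eq11 _ hb]
  exact this 11 le_rfl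

theorem Act.mul {α β : MulAut W} {s t : ℕ} (h : D.Act α (lo1 s) (hi1 s)) (k : D.Act β (lo1 t) (hi1 t)) :
    D.Act (α * β) (lo1 (stp D.θ s t)) (hi1 (stp D.θ s t)) := by
  rw [lo_stp, hi_stp]
  refine ⟨h.oa.mm _, ((h.ox.mm _).xor (h.oa.mm _)).xor fun i hi => ?_, fun j hj => ?_, fun i hi => ?_⟩
  · rw [fld_thc, fld_car h.oa _ hi]; exact D.thc_lt (carN_lt h.oa _ (by norm_num))
  · rw [MulAut.mul_apply, k.onχ j hj, h.onχ _ (k.oa.lt _), mvS_mm]
  · have hi' : i < 12 := by omega
    rw [MulAut.mul_apply, k.onw i hi, map_mul, h.onχ _ (k.ox i hi'), h.onω (k.oa i hi'), fld_xor, fld_xor,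
      fld_thc, fld_car h.oa _ hi', fld_mm _ _ hi', fld_mm _ _ hi', fld_mm _ _ hi', ← mul_assoc,
      D.χ_mul (h.oa.lt _) (xlt (h.ox.lt _) (D.thc_lt (carN_lt h.oa _ (by norm_num))))]
    simp only [Nat.xor_assoc, Nat.xor_comm, Nat.xor_left_comm]

theorem act_one : D.Act 1 (lo1 mE) (hi1 mE) := by
  rw [show lo1 mE = mE by decide +kernel, show hi1 mE = 0 by decide +kernel]
  refine ⟨ok_mE, ok_zero, fun j hj => by rw [mvS_mE hj]; rfl, fun i hi => ?_⟩
  rw [fld_zero, D.χ_zero, one_mul, ← mvS_two_pow _ (by omega), mvS_mE (two_pow_lt hi), ω,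
    pr_two_pow _ hi]
  rfl

theorem Act.zero {A X : ℕ} (h : D.Act 1 A X) : X % 2 ^ 176 = 0 := by
  refine eq_of_fld (w := 16) (k := 11) (by norm_num) (Nat.mod_lt _ (by norm_num)) (by norm_num)
    fun i hi => ?_
  have h1 := h.onw i hi
  have h2 := h.onχ _ (two_pow_lt hi)
  rw [mvS_two_pow _ (by omega)] at h2
  rw [← D.χ_inj (two_pow_lt hi) (h.oa i (by omega)) h2, ω, pr_two_pow _ hi, MulAut.one_apply, eq_comm,
    mul_eq_right, ← D.χ_zero] at h1
  rw [fld_zero, ← D.χ_inj (h.ox i (by omega)) (by norm_num) h1]
  apply Nat.eq_of_testBit_eq; intro j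
  simp only [testBit_fld, Nat.testBit_mod_two_pow]
  by_cases hj : j < 16
  · simp [hj, show 16 * i + j < 176 by omega]
  · simp [hj]

theorem act_word {a b : M24} {s t : ℕ} (ha : D.Act (D.ρ a) (lo1 s) (hi1 s))
    (hb : D.Act (D.ρ b) (lo1 t) (hi1 t)) {w : List ℕ} (hw : okW 2 w = true) :
    D.Act (D.ρ (wd (fun c => if c = 0 then a else b) w)) (lo1 (evW (stp D.θ) mE (two s t) w))
      (hi1 (evW (stp D.θ) mE (two s t) w)) :=
  evW_rel (fun x n => D.Act (D.ρ x) (lo1 n) (hi1 n)) (by rw [map_one]; exact act_one)
    (fun x y a b h1 h2 => by rw [map_mul]; exact h1.mul h2)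
    (n := 2) (fun i hi => by interval_cases i; exacts [ha, hb]) hw

variable (D)

theorem exists_act {p : ℕ} (hp : inM p = true) : ∃ X < 2 ^ 176, D.Act (D.ρ (toM p)) (mt p) X := by
  have : ∀ b, ∃ j < 2048, b < 2048 → D.χ j = D.ρ (toM p) (D.ω b) * (D.ω (ac (toM p) b))⁻¹ := fun b => by
    by_cases hb : b < 2048
    · obtain ⟨j, hj, e⟩ := D.ker (D.ρ (toM p) (D.ω b) * (D.ω (ac (toM p) b))⁻¹) (by
        rw [map_mul, map_inv, D.s_ρ, D.s_ω hb, D.s_ω (ac_lt _ _), D.ρ_χ _ _ hb, mul_inv_cancel])
      exact ⟨j, hj, fun _ => e⟩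
    · exact ⟨0, by norm_num, fun h => absurd h hb⟩
  choose f hf e using this
  refine ⟨JS.mk f, mk_lt fun j _ => hf j, ok_mt hp, ok_mk fun j _ => hf j,
    fun j hj => by rw [D.ρ_χ _ _ hj, mvS_mt hp hj], fun i hi => ?_⟩
  rw [fld_mk (fun j _ => hf j) hi, e _ (two_pow_lt hi), ← mvS_two_pow _ (by omega),
    mvS_mt hp (two_pow_lt hi), inv_mul_cancel_right, ω, pr_two_pow _ hi]

/-- The extension splits. -/
theorem split : D.θ = 0 ∧ ∃ e : ℕ → W, (∀ i < 2048, ∀ j < 2048, e i * e j = e (i ^^^ j)) ∧
    (∀ j < 2048, D.s (e j) = D.χ j) ∧ ∀ m, ∀ j < 2048, D.ρ m (e j) = e (ac m j) := by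
  have i0 : inM (nth gens24 0) = true := inM_gens24 _ (by rw [nth_eq]; simp [gens24])
  have i1 : inM (nth gens24 1) = true := inM_gens24 _ (by rw [nth_eq]; simp [gens24])
  obtain ⟨X, x1, hX⟩ := D.exists_act i0
  obtain ⟨Y, y1, hY⟩ := D.exists_act i1
  obtain ⟨e0, e1, hr, hB⟩ := chk_rels
  have hd : ∀ L : List (List ℕ × List ℕ), (∀ r ∈ L, r ∈ rels) → dfc D.θ X Y L = 0 := by
    intro L hL
    induction L with
    | nil => rfl
    | cons r L ih =>
      have c := allL_iff.mp hr r (hL r List.mem_cons_self)
      simp only [Bool.and_eq_true, force_eq, beq_iff] at c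
      obtain ⟨a1, a2⟩ := evW_two i0 i1 c.1.1
      obtain ⟨-, b2⟩ := evW_two a1 a1 c.1.2
      have h1 := act_word (s := pk mA0 X) (t := pk mA1 Y)
        (by rw [lo_pk (by decide), hi_pk (by decide), ← e0]; exact hX)
        (by rw [lo_pk (by decide), hi_pk (by decide), ← e1]; exact hY) c.1.1
      have h2 := act_word h1 h1 c.1.2
      rw [← a2, ← b2, c.2, toM_pid, map_one] at h2
      rw [dfc_cons, ih fun r hr => hL r (List.mem_cons_of_mem _ hr), val, force_eq, h2.zero]
      rfl
  have hg := good_iff.mp (good_all D.θ_le x1 hX.ox y1 hY.ox)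
  simp only [hd rels fun _ h => h, sel_zero, Nat.xor_eq_zero_iff] at hg
  have oZ : Ok (sel cB0 X ^^^ sel cB1 Y) :=
    (ok_sel (fun a ha i hi => Nat.lt_succ_of_le (ble_iff.mp
      (of_allB (allL_iff.mp hB a (List.mem_append_left _ ha)) hi))) _).xor
    (ok_sel (fun a ha i hi => Nat.lt_succ_of_le (ble_iff.mp
      (of_allB (allL_iff.mp hB a (List.mem_append_right _ ha)) hi))) _)
  generalize sel cB0 X ^^^ sel cB1 Y = Z at hg oZ
  obtain ⟨h0, hx, hy⟩ := hg
  refine ⟨h0, fun j => D.χ (mvS Z j) * D.ω j, fun i hi j hj => ?_, fun j hj => ?_, fun m => ?_⟩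
  · rw [mul_mul_mul_comm, D.χ_mul (oZ.lt _) (oZ.lt _), D.ω_mul hj, h0, thc_zero, D.χ_zero, one_mul,
      ← mvS_xor]
  · rw [map_mul, D.s_χ _ (oZ.lt _), one_mul, D.s_ω hj]
  have key : ∀ p, inM p = true → D.Act (D.ρ (toM p)) (mt p) (cob (mt p) Z) → ∀ j < 2048,
      D.ρ (toM p) (D.χ (mvS Z j) * D.ω j) = D.χ (mvS Z (ac (toM p) j)) * D.ω (ac (toM p) j) := by
    intro p hp h j hj
    rw [map_mul, h.onχ _ (oZ.lt _), h.onω hj, h0, thc_zero, Nat.xor_zero, ← mul_assoc,
      D.χ_mul (h.oa.lt _) (h.ox.lt _), ← mvS_mt hp hj,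
      show cob (mt p) Z = mm Z (mt p) ^^^ mm (mt p) Z from rfl, mvS_xor_left, mvS_mm, mvS_mm,
      Nat.xor_comm (mvS Z _), xor_self_left]
  have hm : m ∈ closure (toM '' {g | g ∈ gens24}) := (gen_gens24 ▸ mem_top m : m ∈ gen gens24)
  induction hm using closure_induction with
  | mem x hx' =>
    obtain ⟨g, hg, rfl⟩ := hx'
    have : g = nth gens24 0 ∨ g = nth gens24 1 := by simpa [gens24, nth_eq] using hg
    rcases this with rfl | rfl
    · exact key _ i0 (by rw [e0, ← hx, ← e0]; exact hX)
    · exact key _ i1 (by rw [e1, ← hy, ← e1]; exact hY)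
  | one => intro j hj; rw [map_one, ac_one hj]; rfl
  | mul x y _ _ hx hy =>
    intro j hj; rw [map_mul D.ρ, MulAut.mul_apply, hy j hj, hx _ (ac_lt _ _), ac_mul _ _ hj]
  | inv x _ hx =>
    intro j hj
    rw [map_inv D.ρ, MulAut.inv_def, MulEquiv.symm_apply_eq, hx _ (ac_lt _ _), ac_inv' _ hj]

end DM

set_option linter.unusedTactic false in
theorem eqns_J4StL : True := by
  first | (have := @Cfsg.Agent.H46.JS.carN.eq_def.{0,0,0}) | (have := @Cfsg.Agent.H46.JS.carN.eq_def.{0,0}) | (have := @Cfsg.Agent.H46.JS.carN.eq_def.{0}) | (have := @Cfsg.Agent.H46.JS.carN.eq_def) | skip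
  first | (have := @Cfsg.Agent.H46.JS.carN.eq_1.{0,0,0}) | (have := @Cfsg.Agent.H46.JS.carN.eq_1.{0,0}) | (have := @Cfsg.Agent.H46.JS.carN.eq_1.{0}) | (have := @Cfsg.Agent.H46.JS.carN.eq_1) | skip
  first | (have := @Cfsg.Agent.H46.JS.carN.eq_2.{0,0,0}) | (have := @Cfsg.Agent.H46.JS.carN.eq_2.{0,0}) | (have := @Cfsg.Agent.H46.JS.carN.eq_2.{0}) | (have := @Cfsg.Agent.H46.JS.carN.eq_2) | skip
  first | (have := @Cfsg.Agent.H46.JS.carN.eq_unfold.{0,0,0}) | (have := @Cfsg.Agent.H46.JS.carN.eq_unfold.{0,0}) | (have := @Cfsg.Agent.H46.JS.carN.eq_unfold.{0}) | (have := @Cfsg.Agent.H46.JS.carN.eq_unfold) | skip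
  first | (have := @Cfsg.Agent.H46.JS.carN.congr_simp.{0,0,0}) | (have := @Cfsg.Agent.H46.JS.carN.congr_simp.{0,0}) | (have := @Cfsg.Agent.H46.JS.carN.congr_simp.{0}) | (have := @Cfsg.Agent.H46.JS.carN.congr_simp) | skip
  first | (have := @Cfsg.Agent.H46.JS.car.eq_def.{0,0,0}) | (have := @Cfsg.Agent.H46.JS.car.eq_def.{0,0}) | (have := @Cfsg.Agent.H46.JS.car.eq_def.{0}) | (have := @Cfsg.Agent.H46.JS.car.eq_def) | skip
  first | (have := @Cfsg.Agent.H46.JS.car.eq_1.{0,0,0}) | (have := @Cfsg.Agent.H46.JS.car.eq_1.{0,0}) | (have := @Cfsg.Agent.H46.JS.car.eq_1.{0}) | (have := @Cfsg.Agent.H46.JS.car.eq_1) | skip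
  first | (have := @Cfsg.Agent.H46.JS.car.eq_2.{0,0,0}) | (have := @Cfsg.Agent.H46.JS.car.eq_2.{0,0}) | (have := @Cfsg.Agent.H46.JS.car.eq_2.{0}) | (have := @Cfsg.Agent.H46.JS.car.eq_2) | skip
  first | (have := @Cfsg.Agent.H46.JS.car.eq_unfold.{0,0,0}) | (have := @Cfsg.Agent.H46.JS.car.eq_unfold.{0,0}) | (have := @Cfsg.Agent.H46.JS.car.eq_unfold.{0}) | (have := @Cfsg.Agent.H46.JS.car.eq_unfold) | skip
  first | (have := @Cfsg.Agent.H46.JS.car.congr_simp.{0,0,0}) | (have := @Cfsg.Agent.H46.JS.car.congr_simp.{0,0}) | (have := @Cfsg.Agent.H46.JS.car.congr_simp.{0}) | (have := @Cfsg.Agent.H46.JS.car.congr_simp) | skip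
  first | (have := @Cfsg.Agent.H46.JS.thc.eq_def.{0,0,0}) | (have := @Cfsg.Agent.H46.JS.thc.eq_def.{0,0}) | (have := @Cfsg.Agent.H46.JS.thc.eq_def.{0}) | (have := @Cfsg.Agent.H46.JS.thc.eq_def) | skip
  first | (have := @Cfsg.Agent.H46.JS.thc.eq_1.{0,0,0}) | (have := @Cfsg.Agent.H46.JS.thc.eq_1.{0,0}) | (have := @Cfsg.Agent.H46.JS.thc.eq_1.{0}) | (have := @Cfsg.Agent.H46.JS.thc.eq_1) | skip
  first | (have := @Cfsg.Agent.H46.JS.thc.eq_2.{0,0,0}) | (have := @Cfsg.Agent.H46.JS.thc.eq_2.{0,0}) | (have := @Cfsg.Agent.H46.JS.thc.eq_2.{0}) | (have := @Cfsg.Agent.H46.JS.thc.eq_2) | skip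
  first | (have := @Cfsg.Agent.H46.JS.thc.eq_unfold.{0,0,0}) | (have := @Cfsg.Agent.H46.JS.thc.eq_unfold.{0,0}) | (have := @Cfsg.Agent.H46.JS.thc.eq_unfold.{0}) | (have := @Cfsg.Agent.H46.JS.thc.eq_unfold) | skip
  first | (have := @Cfsg.Agent.H46.JS.thc.congr_simp.{0,0,0}) | (have := @Cfsg.Agent.H46.JS.thc.congr_simp.{0,0}) | (have := @Cfsg.Agent.H46.JS.thc.congr_simp.{0}) | (have := @Cfsg.Agent.H46.JS.thc.congr_simp) | skip
  first | (have := @Cfsg.Agent.H46.JS.T192.eq_def.{0,0,0}) | (have := @Cfsg.Agent.H46.JS.T192.eq_def.{0,0}) | (have := @Cfsg.Agent.H46.JS.T192.eq_def.{0}) | (have := @Cfsg.Agent.H46.JS.T192.eq_def) | skip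
  first | (have := @Cfsg.Agent.H46.JS.T192.eq_1.{0,0,0}) | (have := @Cfsg.Agent.H46.JS.T192.eq_1.{0,0}) | (have := @Cfsg.Agent.H46.JS.T192.eq_1.{0}) | (have := @Cfsg.Agent.H46.JS.T192.eq_1) | skip
  first | (have := @Cfsg.Agent.H46.JS.T192.eq_2.{0,0,0}) | (have := @Cfsg.Agent.H46.JS.T192.eq_2.{0,0}) | (have := @Cfsg.Agent.H46.JS.T192.eq_2.{0}) | (have := @Cfsg.Agent.H46.JS.T192.eq_2) | skip
  first | (have := @Cfsg.Agent.H46.JS.T192.eq_unfold.{0,0,0}) | (have := @Cfsg.Agent.H46.JS.T192.eq_unfold.{0,0}) | (have := @Cfsg.Agent.H46.JS.T192.eq_unfold.{0}) | (have := @Cfsg.Agent.H46.JS.T192.eq_unfold) | skip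
  first | (have := @Cfsg.Agent.H46.JS.T192.congr_simp.{0,0,0}) | (have := @Cfsg.Agent.H46.JS.T192.congr_simp.{0,0}) | (have := @Cfsg.Agent.H46.JS.T192.congr_simp.{0}) | (have := @Cfsg.Agent.H46.JS.T192.congr_simp) | skip
  first | (have := @Cfsg.Agent.H46.JS.T176.eq_def.{0,0,0}) | (have := @Cfsg.Agent.H46.JS.T176.eq_def.{0,0}) | (have := @Cfsg.Agent.H46.JS.T176.eq_def.{0}) | (have := @Cfsg.Agent.H46.JS.T176.eq_def) | skip
  first | (have := @Cfsg.Agent.H46.JS.T176.eq_1.{0,0,0}) | (have := @Cfsg.Agent.H46.JS.T176.eq_1.{0,0}) | (have := @Cfsg.Agent.H46.JS.T176.eq_1.{0}) | (have := @Cfsg.Agent.H46.JS.T176.eq_1) | skip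
  first | (have := @Cfsg.Agent.H46.JS.T176.eq_2.{0,0,0}) | (have := @Cfsg.Agent.H46.JS.T176.eq_2.{0,0}) | (have := @Cfsg.Agent.H46.JS.T176.eq_2.{0}) | (have := @Cfsg.Agent.H46.JS.T176.eq_2) | skip
  first | (have := @Cfsg.Agent.H46.JS.T176.eq_unfold.{0,0,0}) | (have := @Cfsg.Agent.H46.JS.T176.eq_unfold.{0,0}) | (have := @Cfsg.Agent.H46.JS.T176.eq_unfold.{0}) | (have := @Cfsg.Agent.H46.JS.T176.eq_unfold) | skip
  first | (have := @Cfsg.Agent.H46.JS.T176.congr_simp.{0,0,0}) | (have := @Cfsg.Agent.H46.JS.T176.congr_simp.{0,0}) | (have := @Cfsg.Agent.H46.JS.T176.congr_simp.{0}) | (have := @Cfsg.Agent.H46.JS.T176.congr_simp) | skip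
  first | (have := @Cfsg.Agent.H46.JS.pk.eq_def.{0,0,0}) | (have := @Cfsg.Agent.H46.JS.pk.eq_def.{0,0}) | (have := @Cfsg.Agent.H46.JS.pk.eq_def.{0}) | (have := @Cfsg.Agent.H46.JS.pk.eq_def) | skip
  first | (have := @Cfsg.Agent.H46.JS.pk.eq_1.{0,0,0}) | (have := @Cfsg.Agent.H46.JS.pk.eq_1.{0,0}) | (have := @Cfsg.Agent.H46.JS.pk.eq_1.{0}) | (have := @Cfsg.Agent.H46.JS.pk.eq_1) | skip
  first | (have := @Cfsg.Agent.H46.JS.pk.eq_2.{0,0,0}) | (have := @Cfsg.Agent.H46.JS.pk.eq_2.{0,0}) | (have := @Cfsg.Agent.H46.JS.pk.eq_2.{0}) | (have := @Cfsg.Agent.H46.JS.pk.eq_2) | skip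
  first | (have := @Cfsg.Agent.H46.JS.pk.eq_unfold.{0,0,0}) | (have := @Cfsg.Agent.H46.JS.pk.eq_unfold.{0,0}) | (have := @Cfsg.Agent.H46.JS.pk.eq_unfold.{0}) | (have := @Cfsg.Agent.H46.JS.pk.eq_unfold) | skip
  first | (have := @Cfsg.Agent.H46.JS.pk.congr_simp.{0,0,0}) | (have := @Cfsg.Agent.H46.JS.pk.congr_simp.{0,0}) | (have := @Cfsg.Agent.H46.JS.pk.congr_simp.{0}) | (have := @Cfsg.Agent.H46.JS.pk.congr_simp) | skip
  first | (have := @Cfsg.Agent.H46.JS.lo1.eq_def.{0,0,0}) | (have := @Cfsg.Agent.H46.JS.lo1.eq_def.{0,0}) | (have := @Cfsg.Agent.H46.JS.lo1.eq_def.{0}) | (have := @Cfsg.Agent.H46.JS.lo1.eq_def) | skip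
  first | (have := @Cfsg.Agent.H46.JS.lo1.eq_1.{0,0,0}) | (have := @Cfsg.Agent.H46.JS.lo1.eq_1.{0,0}) | (have := @Cfsg.Agent.H46.JS.lo1.eq_1.{0}) | (have := @Cfsg.Agent.H46.JS.lo1.eq_1) | skip
  first | (have := @Cfsg.Agent.H46.JS.lo1.eq_2.{0,0,0}) | (have := @Cfsg.Agent.H46.JS.lo1.eq_2.{0,0}) | (have := @Cfsg.Agent.H46.JS.lo1.eq_2.{0}) | (have := @Cfsg.Agent.H46.JS.lo1.eq_2) | skip
  first | (have := @Cfsg.Agent.H46.JS.lo1.eq_unfold.{0,0,0}) | (have := @Cfsg.Agent.H46.JS.lo1.eq_unfold.{0,0}) | (have := @Cfsg.Agent.H46.JS.lo1.eq_unfold.{0}) | (have := @Cfsg.Agent.H46.JS.lo1.eq_unfold) | skip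
  first | (have := @Cfsg.Agent.H46.JS.lo1.congr_simp.{0,0,0}) | (have := @Cfsg.Agent.H46.JS.lo1.congr_simp.{0,0}) | (have := @Cfsg.Agent.H46.JS.lo1.congr_simp.{0}) | (have := @Cfsg.Agent.H46.JS.lo1.congr_simp) | skip
  first | (have := @Cfsg.Agent.H46.JS.hi1.eq_def.{0,0,0}) | (have := @Cfsg.Agent.H46.JS.hi1.eq_def.{0,0}) | (have := @Cfsg.Agent.H46.JS.hi1.eq_def.{0}) | (have := @Cfsg.Agent.H46.JS.hi1.eq_def) | skip
  first | (have := @Cfsg.Agent.H46.JS.hi1.eq_1.{0,0,0}) | (have := @Cfsg.Agent.H46.JS.hi1.eq_1.{0,0}) | (have := @Cfsg.Agent.H46.JS.hi1.eq_1.{0}) | (have := @Cfsg.Agent.H46.JS.hi1.eq_1) | skip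
  first | (have := @Cfsg.Agent.H46.JS.hi1.eq_2.{0,0,0}) | (have := @Cfsg.Agent.H46.JS.hi1.eq_2.{0,0}) | (have := @Cfsg.Agent.H46.JS.hi1.eq_2.{0}) | (have := @Cfsg.Agent.H46.JS.hi1.eq_2) | skip
  first | (have := @Cfsg.Agent.H46.JS.hi1.eq_unfold.{0,0,0}) | (have := @Cfsg.Agent.H46.JS.hi1.eq_unfold.{0,0}) | (have := @Cfsg.Agent.H46.JS.hi1.eq_unfold.{0}) | (have := @Cfsg.Agent.H46.JS.hi1.eq_unfold) | skip
  first | (have := @Cfsg.Agent.H46.JS.hi1.congr_simp.{0,0,0}) | (have := @Cfsg.Agent.H46.JS.hi1.congr_simp.{0,0}) | (have := @Cfsg.Agent.H46.JS.hi1.congr_simp.{0}) | (have := @Cfsg.Agent.H46.JS.hi1.congr_simp) | skip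
  first | (have := @Cfsg.Agent.H46.JS.stp.eq_def.{0,0,0}) | (have := @Cfsg.Agent.H46.JS.stp.eq_def.{0,0}) | (have := @Cfsg.Agent.H46.JS.stp.eq_def.{0}) | (have := @Cfsg.Agent.H46.JS.stp.eq_def) | skip
  first | (have := @Cfsg.Agent.H46.JS.stp.eq_1.{0,0,0}) | (have := @Cfsg.Agent.H46.JS.stp.eq_1.{0,0}) | (have := @Cfsg.Agent.H46.JS.stp.eq_1.{0}) | (have := @Cfsg.Agent.H46.JS.stp.eq_1) | skip
  first | (have := @Cfsg.Agent.H46.JS.stp.eq_2.{0,0,0}) | (have := @Cfsg.Agent.H46.JS.stp.eq_2.{0,0}) | (have := @Cfsg.Agent.H46.JS.stp.eq_2.{0}) | (have := @Cfsg.Agent.H46.JS.stp.eq_2) | skip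
  first | (have := @Cfsg.Agent.H46.JS.stp.eq_unfold.{0,0,0}) | (have := @Cfsg.Agent.H46.JS.stp.eq_unfold.{0,0}) | (have := @Cfsg.Agent.H46.JS.stp.eq_unfold.{0}) | (have := @Cfsg.Agent.H46.JS.stp.eq_unfold) | skip
  first | (have := @Cfsg.Agent.H46.JS.stp.congr_simp.{0,0,0}) | (have := @Cfsg.Agent.H46.JS.stp.congr_simp.{0,0}) | (have := @Cfsg.Agent.H46.JS.stp.congr_simp.{0}) | (have := @Cfsg.Agent.H46.JS.stp.congr_simp) | skip
  first | (have := @Cfsg.Agent.H46.JS.mA0.eq_def.{0,0,0}) | (have := @Cfsg.Agent.H46.JS.mA0.eq_def.{0,0}) | (have := @Cfsg.Agent.H46.JS.mA0.eq_def.{0}) | (have := @Cfsg.Agent.H46.JS.mA0.eq_def) | skip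
  first | (have := @Cfsg.Agent.H46.JS.mA0.eq_1.{0,0,0}) | (have := @Cfsg.Agent.H46.JS.mA0.eq_1.{0,0}) | (have := @Cfsg.Agent.H46.JS.mA0.eq_1.{0}) | (have := @Cfsg.Agent.H46.JS.mA0.eq_1) | skip
  first | (have := @Cfsg.Agent.H46.JS.mA0.eq_2.{0,0,0}) | (have := @Cfsg.Agent.H46.JS.mA0.eq_2.{0,0}) | (have := @Cfsg.Agent.H46.JS.mA0.eq_2.{0}) | (have := @Cfsg.Agent.H46.JS.mA0.eq_2) | skip
  first | (have := @Cfsg.Agent.H46.JS.mA0.eq_unfold.{0,0,0}) | (have := @Cfsg.Agent.H46.JS.mA0.eq_unfold.{0,0}) | (have := @Cfsg.Agent.H46.JS.mA0.eq_unfold.{0}) | (have := @Cfsg.Agent.H46.JS.mA0.eq_unfold) | skip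
  first | (have := @Cfsg.Agent.H46.JS.mA0.congr_simp.{0,0,0}) | (have := @Cfsg.Agent.H46.JS.mA0.congr_simp.{0,0}) | (have := @Cfsg.Agent.H46.JS.mA0.congr_simp.{0}) | (have := @Cfsg.Agent.H46.JS.mA0.congr_simp) | skip
  first | (have := @Cfsg.Agent.H46.JS.mA1.eq_def.{0,0,0}) | (have := @Cfsg.Agent.H46.JS.mA1.eq_def.{0,0}) | (have := @Cfsg.Agent.H46.JS.mA1.eq_def.{0}) | (have := @Cfsg.Agent.H46.JS.mA1.eq_def) | skip
  first | (have := @Cfsg.Agent.H46.JS.mA1.eq_1.{0,0,0}) | (have := @Cfsg.Agent.H46.JS.mA1.eq_1.{0,0}) | (have := @Cfsg.Agent.H46.JS.mA1.eq_1.{0}) | (have := @Cfsg.Agent.H46.JS.mA1.eq_1) | skip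
  first | (have := @Cfsg.Agent.H46.JS.mA1.eq_2.{0,0,0}) | (have := @Cfsg.Agent.H46.JS.mA1.eq_2.{0,0}) | (have := @Cfsg.Agent.H46.JS.mA1.eq_2.{0}) | (have := @Cfsg.Agent.H46.JS.mA1.eq_2) | skip
  first | (have := @Cfsg.Agent.H46.JS.mA1.eq_unfold.{0,0,0}) | (have := @Cfsg.Agent.H46.JS.mA1.eq_unfold.{0,0}) | (have := @Cfsg.Agent.H46.JS.mA1.eq_unfold.{0}) | (have := @Cfsg.Agent.H46.JS.mA1.eq_unfold) | skip
  first | (have := @Cfsg.Agent.H46.JS.mA1.congr_simp.{0,0,0}) | (have := @Cfsg.Agent.H46.JS.mA1.congr_simp.{0,0}) | (have := @Cfsg.Agent.H46.JS.mA1.congr_simp.{0}) | (have := @Cfsg.Agent.H46.JS.mA1.congr_simp) | skip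
  first | (have := @Cfsg.Agent.H46.JS.rels.eq_def.{0,0,0}) | (have := @Cfsg.Agent.H46.JS.rels.eq_def.{0,0}) | (have := @Cfsg.Agent.H46.JS.rels.eq_def.{0}) | (have := @Cfsg.Agent.H46.JS.rels.eq_def) | skip
  first | (have := @Cfsg.Agent.H46.JS.rels.eq_1.{0,0,0}) | (have := @Cfsg.Agent.H46.JS.rels.eq_1.{0,0}) | (have := @Cfsg.Agent.H46.JS.rels.eq_1.{0}) | (have := @Cfsg.Agent.H46.JS.rels.eq_1) | skip
  first | (have := @Cfsg.Agent.H46.JS.rels.eq_2.{0,0,0}) | (have := @Cfsg.Agent.H46.JS.rels.eq_2.{0,0}) | (have := @Cfsg.Agent.H46.JS.rels.eq_2.{0}) | (have := @Cfsg.Agent.H46.JS.rels.eq_2) | skip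
  first | (have := @Cfsg.Agent.H46.JS.rels.eq_unfold.{0,0,0}) | (have := @Cfsg.Agent.H46.JS.rels.eq_unfold.{0,0}) | (have := @Cfsg.Agent.H46.JS.rels.eq_unfold.{0}) | (have := @Cfsg.Agent.H46.JS.rels.eq_unfold) | skip
  first | (have := @Cfsg.Agent.H46.JS.rels.congr_simp.{0,0,0}) | (have := @Cfsg.Agent.H46.JS.rels.congr_simp.{0,0}) | (have := @Cfsg.Agent.H46.JS.rels.congr_simp.{0}) | (have := @Cfsg.Agent.H46.JS.rels.congr_simp) | skip
  first | (have := @Cfsg.Agent.H46.JS.val.eq_def.{0,0,0}) | (have := @Cfsg.Agent.H46.JS.val.eq_def.{0,0}) | (have := @Cfsg.Agent.H46.JS.val.eq_def.{0}) | (have := @Cfsg.Agent.H46.JS.val.eq_def) | skip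
  first | (have := @Cfsg.Agent.H46.JS.val.eq_1.{0,0,0}) | (have := @Cfsg.Agent.H46.JS.val.eq_1.{0,0}) | (have := @Cfsg.Agent.H46.JS.val.eq_1.{0}) | (have := @Cfsg.Agent.H46.JS.val.eq_1) | skip
  first | (have := @Cfsg.Agent.H46.JS.val.eq_2.{0,0,0}) | (have := @Cfsg.Agent.H46.JS.val.eq_2.{0,0}) | (have := @Cfsg.Agent.H46.JS.val.eq_2.{0}) | (have := @Cfsg.Agent.H46.JS.val.eq_2) | skip
  first | (have := @Cfsg.Agent.H46.JS.val.eq_unfold.{0,0,0}) | (have := @Cfsg.Agent.H46.JS.val.eq_unfold.{0,0}) | (have := @Cfsg.Agent.H46.JS.val.eq_unfold.{0}) | (have := @Cfsg.Agent.H46.JS.val.eq_unfold) | skip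
  first | (have := @Cfsg.Agent.H46.JS.val.congr_simp.{0,0,0}) | (have := @Cfsg.Agent.H46.JS.val.congr_simp.{0,0}) | (have := @Cfsg.Agent.H46.JS.val.congr_simp.{0}) | (have := @Cfsg.Agent.H46.JS.val.congr_simp) | skip
  first | (have := @Cfsg.Agent.H46.JS.dfc.eq_def.{0,0,0}) | (have := @Cfsg.Agent.H46.JS.dfc.eq_def.{0,0}) | (have := @Cfsg.Agent.H46.JS.dfc.eq_def.{0}) | (have := @Cfsg.Agent.H46.JS.dfc.eq_def) | skip
  first | (have := @Cfsg.Agent.H46.JS.dfc.eq_1.{0,0,0}) | (have := @Cfsg.Agent.H46.JS.dfc.eq_1.{0,0}) | (have := @Cfsg.Agent.H46.JS.dfc.eq_1.{0}) | (have := @Cfsg.Agent.H46.JS.dfc.eq_1) | skip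
  first | (have := @Cfsg.Agent.H46.JS.dfc.eq_2.{0,0,0}) | (have := @Cfsg.Agent.H46.JS.dfc.eq_2.{0,0}) | (have := @Cfsg.Agent.H46.JS.dfc.eq_2.{0}) | (have := @Cfsg.Agent.H46.JS.dfc.eq_2) | skip
  first | (have := @Cfsg.Agent.H46.JS.dfc.eq_unfold.{0,0,0}) | (have := @Cfsg.Agent.H46.JS.dfc.eq_unfold.{0,0}) | (have := @Cfsg.Agent.H46.JS.dfc.eq_unfold.{0}) | (have := @Cfsg.Agent.H46.JS.dfc.eq_unfold) | skip
  first | (have := @Cfsg.Agent.H46.JS.dfc.congr_simp.{0,0,0}) | (have := @Cfsg.Agent.H46.JS.dfc.congr_simp.{0,0}) | (have := @Cfsg.Agent.H46.JS.dfc.congr_simp.{0}) | (have := @Cfsg.Agent.H46.JS.dfc.congr_simp) | skip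
  first | (have := @Cfsg.Agent.H46.JS.Lin3.eq_def.{0,0,0}) | (have := @Cfsg.Agent.H46.JS.Lin3.eq_def.{0,0}) | (have := @Cfsg.Agent.H46.JS.Lin3.eq_def.{0}) | (have := @Cfsg.Agent.H46.JS.Lin3.eq_def) | skip
  first | (have := @Cfsg.Agent.H46.JS.Lin3.eq_1.{0,0,0}) | (have := @Cfsg.Agent.H46.JS.Lin3.eq_1.{0,0}) | (have := @Cfsg.Agent.H46.JS.Lin3.eq_1.{0}) | (have := @Cfsg.Agent.H46.JS.Lin3.eq_1) | skip
  first | (have := @Cfsg.Agent.H46.JS.Lin3.eq_2.{0,0,0}) | (have := @Cfsg.Agent.H46.JS.Lin3.eq_2.{0,0}) | (have := @Cfsg.Agent.H46.JS.Lin3.eq_2.{0}) | (have := @Cfsg.Agent.H46.JS.Lin3.eq_2) | skip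
  first | (have := @Cfsg.Agent.H46.JS.Lin3.eq_unfold.{0,0,0}) | (have := @Cfsg.Agent.H46.JS.Lin3.eq_unfold.{0,0}) | (have := @Cfsg.Agent.H46.JS.Lin3.eq_unfold.{0}) | (have := @Cfsg.Agent.H46.JS.Lin3.eq_unfold) | skip
  first | (have := @Cfsg.Agent.H46.JS.Lin3.congr_simp.{0,0,0}) | (have := @Cfsg.Agent.H46.JS.Lin3.congr_simp.{0,0}) | (have := @Cfsg.Agent.H46.JS.Lin3.congr_simp.{0}) | (have := @Cfsg.Agent.H46.JS.Lin3.congr_simp) | skip
  first | (have := @Cfsg.Agent.H46.JS.cob.eq_def.{0,0,0}) | (have := @Cfsg.Agent.H46.JS.cob.eq_def.{0,0}) | (have := @Cfsg.Agent.H46.JS.cob.eq_def.{0}) | (have := @Cfsg.Agent.H46.JS.cob.eq_def) | skip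
  first | (have := @Cfsg.Agent.H46.JS.cob.eq_1.{0,0,0}) | (have := @Cfsg.Agent.H46.JS.cob.eq_1.{0,0}) | (have := @Cfsg.Agent.H46.JS.cob.eq_1.{0}) | (have := @Cfsg.Agent.H46.JS.cob.eq_1) | skip
  first | (have := @Cfsg.Agent.H46.JS.cob.eq_2.{0,0,0}) | (have := @Cfsg.Agent.H46.JS.cob.eq_2.{0,0}) | (have := @Cfsg.Agent.H46.JS.cob.eq_2.{0}) | (have := @Cfsg.Agent.H46.JS.cob.eq_2) | skip
  first | (have := @Cfsg.Agent.H46.JS.cob.eq_unfold.{0,0,0}) | (have := @Cfsg.Agent.H46.JS.cob.eq_unfold.{0,0}) | (have := @Cfsg.Agent.H46.JS.cob.eq_unfold.{0}) | (have := @Cfsg.Agent.H46.JS.cob.eq_unfold) | skip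
  first | (have := @Cfsg.Agent.H46.JS.cob.congr_simp.{0,0,0}) | (have := @Cfsg.Agent.H46.JS.cob.congr_simp.{0,0}) | (have := @Cfsg.Agent.H46.JS.cob.congr_simp.{0}) | (have := @Cfsg.Agent.H46.JS.cob.congr_simp) | skip
  first | (have := @Cfsg.Agent.H46.JS.cB0.eq_def.{0,0,0}) | (have := @Cfsg.Agent.H46.JS.cB0.eq_def.{0,0}) | (have := @Cfsg.Agent.H46.JS.cB0.eq_def.{0}) | (have := @Cfsg.Agent.H46.JS.cB0.eq_def) | skip
  first | (have := @Cfsg.Agent.H46.JS.cB0.eq_1.{0,0,0}) | (have := @Cfsg.Agent.H46.JS.cB0.eq_1.{0,0}) | (have := @Cfsg.Agent.H46.JS.cB0.eq_1.{0}) | (have := @Cfsg.Agent.H46.JS.cB0.eq_1) | skip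
  first | (have := @Cfsg.Agent.H46.JS.cB0.eq_2.{0,0,0}) | (have := @Cfsg.Agent.H46.JS.cB0.eq_2.{0,0}) | (have := @Cfsg.Agent.H46.JS.cB0.eq_2.{0}) | (have := @Cfsg.Agent.H46.JS.cB0.eq_2) | skip
  first | (have := @Cfsg.Agent.H46.JS.cB0.eq_unfold.{0,0,0}) | (have := @Cfsg.Agent.H46.JS.cB0.eq_unfold.{0,0}) | (have := @Cfsg.Agent.H46.JS.cB0.eq_unfold.{0}) | (have := @Cfsg.Agent.H46.JS.cB0.eq_unfold) | skip
  first | (have := @Cfsg.Agent.H46.JS.cB0.congr_simp.{0,0,0}) | (have := @Cfsg.Agent.H46.JS.cB0.congr_simp.{0,0}) | (have := @Cfsg.Agent.H46.JS.cB0.congr_simp.{0}) | (have := @Cfsg.Agent.H46.JS.cB0.congr_simp) | skip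
  first | (have := @Cfsg.Agent.H46.JS.cB1.eq_def.{0,0,0}) | (have := @Cfsg.Agent.H46.JS.cB1.eq_def.{0,0}) | (have := @Cfsg.Agent.H46.JS.cB1.eq_def.{0}) | (have := @Cfsg.Agent.H46.JS.cB1.eq_def) | skip
  first | (have := @Cfsg.Agent.H46.JS.cB1.eq_1.{0,0,0}) | (have := @Cfsg.Agent.H46.JS.cB1.eq_1.{0,0}) | (have := @Cfsg.Agent.H46.JS.cB1.eq_1.{0}) | (have := @Cfsg.Agent.H46.JS.cB1.eq_1) | skip
  first | (have := @Cfsg.Agent.H46.JS.cB1.eq_2.{0,0,0}) | (have := @Cfsg.Agent.H46.JS.cB1.eq_2.{0,0}) | (have := @Cfsg.Agent.H46.JS.cB1.eq_2.{0}) | (have := @Cfsg.Agent.H46.JS.cB1.eq_2) | skip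
  first | (have := @Cfsg.Agent.H46.JS.cB1.eq_unfold.{0,0,0}) | (have := @Cfsg.Agent.H46.JS.cB1.eq_unfold.{0,0}) | (have := @Cfsg.Agent.H46.JS.cB1.eq_unfold.{0}) | (have := @Cfsg.Agent.H46.JS.cB1.eq_unfold) | skip
  first | (have := @Cfsg.Agent.H46.JS.cB1.congr_simp.{0,0,0}) | (have := @Cfsg.Agent.H46.JS.cB1.congr_simp.{0,0}) | (have := @Cfsg.Agent.H46.JS.cB1.congr_simp.{0}) | (have := @Cfsg.Agent.H46.JS.cB1.congr_simp) | skip
  first | (have := @Cfsg.Agent.H46.JS.cLt.eq_def.{0,0,0}) | (have := @Cfsg.Agent.H46.JS.cLt.eq_def.{0,0}) | (have := @Cfsg.Agent.H46.JS.cLt.eq_def.{0}) | (have := @Cfsg.Agent.H46.JS.cLt.eq_def) | skip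
  first | (have := @Cfsg.Agent.H46.JS.cLt.eq_1.{0,0,0}) | (have := @Cfsg.Agent.H46.JS.cLt.eq_1.{0,0}) | (have := @Cfsg.Agent.H46.JS.cLt.eq_1.{0}) | (have := @Cfsg.Agent.H46.JS.cLt.eq_1) | skip
  first | (have := @Cfsg.Agent.H46.JS.cLt.eq_2.{0,0,0}) | (have := @Cfsg.Agent.H46.JS.cLt.eq_2.{0,0}) | (have := @Cfsg.Agent.H46.JS.cLt.eq_2.{0}) | (have := @Cfsg.Agent.H46.JS.cLt.eq_2) | skip
  first | (have := @Cfsg.Agent.H46.JS.cLt.eq_unfold.{0,0,0}) | (have := @Cfsg.Agent.H46.JS.cLt.eq_unfold.{0,0}) | (have := @Cfsg.Agent.H46.JS.cLt.eq_unfold.{0}) | (have := @Cfsg.Agent.H46.JS.cLt.eq_unfold) | skip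
  first | (have := @Cfsg.Agent.H46.JS.cLt.congr_simp.{0,0,0}) | (have := @Cfsg.Agent.H46.JS.cLt.congr_simp.{0,0}) | (have := @Cfsg.Agent.H46.JS.cLt.congr_simp.{0}) | (have := @Cfsg.Agent.H46.JS.cLt.congr_simp) | skip
  first | (have := @Cfsg.Agent.H46.JS.cL0.eq_def.{0,0,0}) | (have := @Cfsg.Agent.H46.JS.cL0.eq_def.{0,0}) | (have := @Cfsg.Agent.H46.JS.cL0.eq_def.{0}) | (have := @Cfsg.Agent.H46.JS.cL0.eq_def) | skip
  first | (have := @Cfsg.Agent.H46.JS.cL0.eq_1.{0,0,0}) | (have := @Cfsg.Agent.H46.JS.cL0.eq_1.{0,0}) | (have := @Cfsg.Agent.H46.JS.cL0.eq_1.{0}) | (have := @Cfsg.Agent.H46.JS.cL0.eq_1) | skip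
  first | (have := @Cfsg.Agent.H46.JS.cL0.eq_2.{0,0,0}) | (have := @Cfsg.Agent.H46.JS.cL0.eq_2.{0,0}) | (have := @Cfsg.Agent.H46.JS.cL0.eq_2.{0}) | (have := @Cfsg.Agent.H46.JS.cL0.eq_2) | skip
  first | (have := @Cfsg.Agent.H46.JS.cL0.eq_unfold.{0,0,0}) | (have := @Cfsg.Agent.H46.JS.cL0.eq_unfold.{0,0}) | (have := @Cfsg.Agent.H46.JS.cL0.eq_unfold.{0}) | (have := @Cfsg.Agent.H46.JS.cL0.eq_unfold) | skip
  first | (have := @Cfsg.Agent.H46.JS.cL0.congr_simp.{0,0,0}) | (have := @Cfsg.Agent.H46.JS.cL0.congr_simp.{0,0}) | (have := @Cfsg.Agent.H46.JS.cL0.congr_simp.{0}) | (have := @Cfsg.Agent.H46.JS.cL0.congr_simp) | skip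
  first | (have := @Cfsg.Agent.H46.JS.cL1.eq_def.{0,0,0}) | (have := @Cfsg.Agent.H46.JS.cL1.eq_def.{0,0}) | (have := @Cfsg.Agent.H46.JS.cL1.eq_def.{0}) | (have := @Cfsg.Agent.H46.JS.cL1.eq_def) | skip
  first | (have := @Cfsg.Agent.H46.JS.cL1.eq_1.{0,0,0}) | (have := @Cfsg.Agent.H46.JS.cL1.eq_1.{0,0}) | (have := @Cfsg.Agent.H46.JS.cL1.eq_1.{0}) | (have := @Cfsg.Agent.H46.JS.cL1.eq_1) | skip
  first | (have := @Cfsg.Agent.H46.JS.cL1.eq_2.{0,0,0}) | (have := @Cfsg.Agent.H46.JS.cL1.eq_2.{0,0}) | (have := @Cfsg.Agent.H46.JS.cL1.eq_2.{0}) | (have := @Cfsg.Agent.H46.JS.cL1.eq_2) | skip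
  first | (have := @Cfsg.Agent.H46.JS.cL1.eq_unfold.{0,0,0}) | (have := @Cfsg.Agent.H46.JS.cL1.eq_unfold.{0,0}) | (have := @Cfsg.Agent.H46.JS.cL1.eq_unfold.{0}) | (have := @Cfsg.Agent.H46.JS.cL1.eq_unfold) | skip
  first | (have := @Cfsg.Agent.H46.JS.cL1.congr_simp.{0,0,0}) | (have := @Cfsg.Agent.H46.JS.cL1.congr_simp.{0,0}) | (have := @Cfsg.Agent.H46.JS.cL1.congr_simp.{0}) | (have := @Cfsg.Agent.H46.JS.cL1.congr_simp) | skip
  first | (have := @Cfsg.Agent.H46.JS.good.eq_def.{0,0,0}) | (have := @Cfsg.Agent.H46.JS.good.eq_def.{0,0}) | (have := @Cfsg.Agent.H46.JS.good.eq_def.{0}) | (have := @Cfsg.Agent.H46.JS.good.eq_def) | skip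
  first | (have := @Cfsg.Agent.H46.JS.good.eq_1.{0,0,0}) | (have := @Cfsg.Agent.H46.JS.good.eq_1.{0,0}) | (have := @Cfsg.Agent.H46.JS.good.eq_1.{0}) | (have := @Cfsg.Agent.H46.JS.good.eq_1) | skip
  first | (have := @Cfsg.Agent.H46.JS.good.eq_2.{0,0,0}) | (have := @Cfsg.Agent.H46.JS.good.eq_2.{0,0}) | (have := @Cfsg.Agent.H46.JS.good.eq_2.{0}) | (have := @Cfsg.Agent.H46.JS.good.eq_2) | skip
  first | (have := @Cfsg.Agent.H46.JS.good.eq_unfold.{0,0,0}) | (have := @Cfsg.Agent.H46.JS.good.eq_unfold.{0,0}) | (have := @Cfsg.Agent.H46.JS.good.eq_unfold.{0}) | (have := @Cfsg.Agent.H46.JS.good.eq_unfold) | skip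
  first | (have := @Cfsg.Agent.H46.JS.good.congr_simp.{0,0,0}) | (have := @Cfsg.Agent.H46.JS.good.congr_simp.{0,0}) | (have := @Cfsg.Agent.H46.JS.good.congr_simp.{0}) | (have := @Cfsg.Agent.H46.JS.good.congr_simp) | skip
  first | (have := @Cfsg.Agent.H46.JS.DM.ω.eq_def.{0,0,0}) | (have := @Cfsg.Agent.H46.JS.DM.ω.eq_def.{0,0}) | (have := @Cfsg.Agent.H46.JS.DM.ω.eq_def.{0}) | (have := @Cfsg.Agent.H46.JS.DM.ω.eq_def) | skip
  first | (have := @Cfsg.Agent.H46.JS.DM.ω.eq_1.{0,0,0}) | (have := @Cfsg.Agent.H46.JS.DM.ω.eq_1.{0,0}) | (have := @Cfsg.Agent.H46.JS.DM.ω.eq_1.{0}) | (have := @Cfsg.Agent.H46.JS.DM.ω.eq_1) | skip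
  first | (have := @Cfsg.Agent.H46.JS.DM.ω.eq_2.{0,0,0}) | (have := @Cfsg.Agent.H46.JS.DM.ω.eq_2.{0,0}) | (have := @Cfsg.Agent.H46.JS.DM.ω.eq_2.{0}) | (have := @Cfsg.Agent.H46.JS.DM.ω.eq_2) | skip
  first | (have := @Cfsg.Agent.H46.JS.DM.ω.eq_unfold.{0,0,0}) | (have := @Cfsg.Agent.H46.JS.DM.ω.eq_unfold.{0,0}) | (have := @Cfsg.Agent.H46.JS.DM.ω.eq_unfold.{0}) | (have := @Cfsg.Agent.H46.JS.DM.ω.eq_unfold) | skip
  first | (have := @Cfsg.Agent.H46.JS.DM.ω.congr_simp.{0,0,0}) | (have := @Cfsg.Agent.H46.JS.DM.ω.congr_simp.{0,0}) | (have := @Cfsg.Agent.H46.JS.DM.ω.congr_simp.{0}) | (have := @Cfsg.Agent.H46.JS.DM.ω.congr_simp) | skip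
  trivial

end Cfsg.Agent.H46.JS
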