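import Mathlib
import Cfsg.Prelude.Def_BlockRank
import Cfsg.Agent.H76.K0Defs

/-! Pieces: principal blocks with four ordinary and three modular characters. -/

set_option autoImplicit false

namespace Cfsg.Agent.H46.K4

open Cfsg

universe u

def StrStmt : Prop := ∀ (G : Type u) [Group G] [Finite G] (p : ℕ) [Fact p.Prime] (M : Ideal AlgInt),
  IsPModular p M → Nat.card (principalBlock M G) = 4 → blockRank p (principalBlock M G) = 3 →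
  ∀ P : Sylow p G, ∃ χ ψ η : IrrCharacter G, χ ≠ ψ ∧ χ ≠ η ∧ ψ ≠ η ∧ (χ : G → ℂ) ≠ (fun _ => 1) ∧
    (ψ : G → ℂ) ≠ (fun _ => 1) ∧ (η : G → ℂ) ≠ (fun _ => 1) ∧ ∃ x y z : ℤ, x ≠ 0 ∧ y ≠ 0 ∧ z ≠ 0 ∧
      (Nat.card P : ℤ) = 1 + x ^ 2 + y ^ 2 + z ^ 2 ∧ ∀ g : G, IsIntegral ℤ
        ((1 + x * (χ : G → ℂ) g + y * (ψ : G → ℂ) g + z * (η : G → ℂ) g) / (Nat.card P : ℂ))

def QuadStmt : Prop := ∀ (G : Type u) [Group G] [Finite G] (χ ψ η : IrrCharacter G), χ ≠ ψ → χ ≠ η →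
  ψ ≠ η → (χ : G → ℂ) ≠ (fun _ => 1) → (ψ : G → ℂ) ≠ (fun _ => 1) → (η : G → ℂ) ≠ (fun _ => 1) →
  ∀ (n : ℕ), 0 < n → ∀ a b c d : ℤ, (∀ g, IsIntegral ℤ
    (((a : ℂ) + b * (χ : G → ℂ) g + c * (ψ : G → ℂ) g + d * (η : G → ℂ) g) / n)) →
    (n : ℤ) * a ≤ a ^ 2 + b ^ 2 + c ^ 2 + d ^ 2

/-- the order of the Sylow subgroup is four or seven -/
def OrdStmt : Prop := ∀ (G : Type u) [Group G] [Finite G] (p : ℕ) [Fact p.Prime] (M : Ideal AlgInt),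
  IsPModular p M → Nat.card (principalBlock M G) = 4 → blockRank p (principalBlock M G) = 3 →
  ∀ P : Sylow p G, Nat.card P = 4 ∨ Nat.card P = 7

set_option linter.unusedTactic false in
theorem eqns_K4Defs : True := by
  first | (have := @Cfsg.Agent.H46.K4.StrStmt.eq_def.{0,0,0}) | (have := @Cfsg.Agent.H46.K4.StrStmt.eq_def.{0,0}) | (have := @Cfsg.Agent.H46.K4.StrStmt.eq_def.{0}) | (have := @Cfsg.Agent.H46.K4.StrStmt.eq_def) | skip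
  first | (have := @Cfsg.Agent.H46.K4.StrStmt.eq_1.{0,0,0}) | (have := @Cfsg.Agent.H46.K4.StrStmt.eq_1.{0,0}) | (have := @Cfsg.Agent.H46.K4.StrStmt.eq_1.{0}) | (have := @Cfsg.Agent.H46.K4.StrStmt.eq_1) | skip
  first | (have := @Cfsg.Agent.H46.K4.StrStmt.eq_2.{0,0,0}) | (have := @Cfsg.Agent.H46.K4.StrStmt.eq_2.{0,0}) | (have := @Cfsg.Agent.H46.K4.StrStmt.eq_2.{0}) | (have := @Cfsg.Agent.H46.K4.StrStmt.eq_2) | skip
  first | (have := @Cfsg.Agent.H46.K4.StrStmt.eq_unfold.{0,0,0}) | (have := @Cfsg.Agent.H46.K4.StrStmt.eq_unfold.{0,0}) | (have := @Cfsg.Agent.H46.K4.StrStmt.eq_unfold.{0}) | (have := @Cfsg.Agent.H46.K4.StrStmt.eq_unfold) | skip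
  first | (have := @Cfsg.Agent.H46.K4.StrStmt.congr_simp.{0,0,0}) | (have := @Cfsg.Agent.H46.K4.StrStmt.congr_simp.{0,0}) | (have := @Cfsg.Agent.H46.K4.StrStmt.congr_simp.{0}) | (have := @Cfsg.Agent.H46.K4.StrStmt.congr_simp) | skip
  first | (have := @Cfsg.Agent.H46.K4.QuadStmt.eq_def.{0,0,0}) | (have := @Cfsg.Agent.H46.K4.QuadStmt.eq_def.{0,0}) | (have := @Cfsg.Agent.H46.K4.QuadStmt.eq_def.{0}) | (have := @Cfsg.Agent.H46.K4.QuadStmt.eq_def) | skip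
  first | (have := @Cfsg.Agent.H46.K4.QuadStmt.eq_1.{0,0,0}) | (have := @Cfsg.Agent.H46.K4.QuadStmt.eq_1.{0,0}) | (have := @Cfsg.Agent.H46.K4.QuadStmt.eq_1.{0}) | (have := @Cfsg.Agent.H46.K4.QuadStmt.eq_1) | skip
  first | (have := @Cfsg.Agent.H46.K4.QuadStmt.eq_2.{0,0,0}) | (have := @Cfsg.Agent.H46.K4.QuadStmt.eq_2.{0,0}) | (have := @Cfsg.Agent.H46.K4.QuadStmt.eq_2.{0}) | (have := @Cfsg.Agent.H46.K4.QuadStmt.eq_2) | skip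
  first | (have := @Cfsg.Agent.H46.K4.QuadStmt.eq_unfold.{0,0,0}) | (have := @Cfsg.Agent.H46.K4.QuadStmt.eq_unfold.{0,0}) | (have := @Cfsg.Agent.H46.K4.QuadStmt.eq_unfold.{0}) | (have := @Cfsg.Agent.H46.K4.QuadStmt.eq_unfold) | skip
  first | (have := @Cfsg.Agent.H46.K4.QuadStmt.congr_simp.{0,0,0}) | (have := @Cfsg.Agent.H46.K4.QuadStmt.congr_simp.{0,0}) | (have := @Cfsg.Agent.H46.K4.QuadStmt.congr_simp.{0}) | (have := @Cfsg.Agent.H46.K4.QuadStmt.congr_simp) | skip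
  first | (have := @Cfsg.Agent.H46.K4.OrdStmt.eq_def.{0,0,0}) | (have := @Cfsg.Agent.H46.K4.OrdStmt.eq_def.{0,0}) | (have := @Cfsg.Agent.H46.K4.OrdStmt.eq_def.{0}) | (have := @Cfsg.Agent.H46.K4.OrdStmt.eq_def) | skip
  first | (have := @Cfsg.Agent.H46.K4.OrdStmt.eq_1.{0,0,0}) | (have := @Cfsg.Agent.H46.K4.OrdStmt.eq_1.{0,0}) | (have := @Cfsg.Agent.H46.K4.OrdStmt.eq_1.{0}) | (have := @Cfsg.Agent.H46.K4.OrdStmt.eq_1) | skip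
  first | (have := @Cfsg.Agent.H46.K4.OrdStmt.eq_2.{0,0,0}) | (have := @Cfsg.Agent.H46.K4.OrdStmt.eq_2.{0,0}) | (have := @Cfsg.Agent.H46.K4.OrdStmt.eq_2.{0}) | (have := @Cfsg.Agent.H46.K4.OrdStmt.eq_2) | skip
  first | (have := @Cfsg.Agent.H46.K4.OrdStmt.eq_unfold.{0,0,0}) | (have := @Cfsg.Agent.H46.K4.OrdStmt.eq_unfold.{0,0}) | (have := @Cfsg.Agent.H46.K4.OrdStmt.eq_unfold.{0}) | (have := @Cfsg.Agent.H46.K4.OrdStmt.eq_unfold) | skip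
  first | (have := @Cfsg.Agent.H46.K4.OrdStmt.congr_simp.{0,0,0}) | (have := @Cfsg.Agent.H46.K4.OrdStmt.congr_simp.{0,0}) | (have := @Cfsg.Agent.H46.K4.OrdStmt.congr_simp.{0}) | (have := @Cfsg.Agent.H46.K4.OrdStmt.congr_simp) | skip
  trivial

end Cfsg.Agent.H46.K4
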