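import Mathlib
import Cfsg.Agent.H46.RuOps
import Cfsg.Agent.H46.Slp

/-!
# The Rudvalis group: named elements
-/

set_option autoImplicit false
set_option maxRecDepth 1000000

namespace Cfsg.Agent.H46.Ru

open Cfsg.Agent.H42 Cfsg.Agent.H46

def c_g1i : ℕ := (nat_lit 0xabe25e9a9510e06c5e148398a1814407617264b6ff1662dccaa2cf11a4b0712dd508bd26849503aee0a43618dea00e1284f1b0e4339526f7b83fe70e830d7ca0ab36aa7dc4ea4e2c2e17d8f62ad06327a04d79ddca49fea01d4e4d1e346390000002)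
def c_t1 : ℕ := (nat_lit 0x70ea8cb8e465f8d38a4cbb133a06be3861d08c65db14220a72d1c3378ee623db21c3b58e66a6529a3b2719f12bc3b50f8e2dd5212266793f59744d8a040e8cd5e2ae50f043f5fbb63f0d0729557eac883807b60130ed5e0bb642ee2ccd2370000001)
def c_t2 : ℕ := (nat_lit 0xa8676f67f9cdf64ab753068ca65bdb6d76822dc19988f4760d8f4aa14d5de974d95bfac9898b0ea050b2babaea300017c57b5d99e02cdf04fc562b72febd3366441bb00066206e4d625aa544f67198d85e9bb4be10b5ddcb50045c359e8ae0000001)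
def c_t1i : ℕ := (nat_lit 0x300f278a97c878acd022d7e7dd77c60f58676aaa5bc5de58612b1c2356b8934e3d5ac4963245e2eee676d66cb394ecf0675e2cb6b0f043f57e7b21be02c5710c6ec538736a52de3627fb874293670df982e2e09cbe399208d3cef7f6ceb080000001)
def c_t2i : ℕ := (nat_lit 0xef6a026a9fc6c5e20d820410df4875bedbaa9ff7f8ed37732f2bd0a4aca3f59dc7b67e9d05945bddcb29ac4775ad079ff7e0c20b9c3e5c436f453e0a526c1f6ec99e4af0332a098511d8714444fb54bb59f206f583a6172299cfca426fba20000001)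
def c_k1 : ℕ := (nat_lit 0xd7c76000f03a4bb868d44612f34da784bf9109770e4e0b1200003282a3398e31b99204d0fb0947e1d0519d32d487275ac43117b7d00052e5d913dd0014195b83268b5d17cbff7e155e4e8600e1c104a33d68e4402e895d97e6c2a100000020000001)
def c_k2 : ℕ := (nat_lit 0xc7bbd0b691e3db32da7ab9a9493a9001f66ae2e2000397537cc214cb6ab2c1fed6cd43e87d365733c5acd615f9035fa61d6685fc800048828c58f404a43280b337132b7277b7996fa7b3c11e37aa0e882c745586cf4c2d373a2a3600000020000001)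
def c_k1i : ℕ := (nat_lit 0x3947c04c042b3ab2c0c84a331cbb13b70b207327c01b59e62f47f361fce975a87a74c86d9507fb472f5aa22342007192d5a96d7a072dcc35df7954e97101b902d6a2dffda65ad8671ba21f15814bd6bc59c1a20f9c4cb05c552b3200000020000001)
def c_k2i : ℕ := (nat_lit 0x4c91ef4f6703822a549d77bb56ecba1a8f53d3946921d289ce647cbeb19155f1b48f4188281dc031baa19a7c63a5429e2f6770150096b37ea9faf13e27f775e539bbadd5c94cfdd213e3a7d322bb642ee0ddcb319851622c4b603800000020000001)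
def c_k : ℕ := (nat_lit 0x6cdc0a0bf036b162a30fa8e6ca65babaea31668de01057c5f5dd5b2209bca32de0ebb978720fede34763b7859f63a7ca580a4ff328f7b15e3aabcef057ad32a32402c8103dd1026ffa72b4a5a79f06b0ac3e5c43cdb713bd064f0500000020000001)
def c_z : ℕ := (nat_lit 0x43db32f30eed0ddfea84c43698ad1e24fe18067832bb180337bfd7a6917c0bfdc21ccbf7108982ba194dbcdab4f9997b4157a6a911800fc33a78ca99edcdfbad4ed860312bbd8c245f8fbb853a90438fbe1ad27d7f5c91a6bfec6100000020000001)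
def c_c0 : ℕ := (nat_lit 0x3ebf59184a7c76aa7c691e3dbb34179529a3b27211c1b0de6b7b22b505b70001ab9b337132ee1a30827bcafbe8d9f30d2e83d5c72e5183206266d5fcafe5136637715e7078d797c5da4f44e0b49d428b0509a9c1a20fb6c9fa60000002ff880cc)
def c_g0 : ℕ := (nat_lit 0x541e29e0c8fcac44fe88c6cdf78962bee6860e8b120000065a22794e0002c4cc142b32fa38fe0d693eb3960bef3a38a3ea96baec2eac98cfe9bb4be0003485b7d0399b3dafbbf50be5f0631eb8393ca795b3a845f58a42867c31625747a6e108d06f)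
def c_g0i : ℕ := (nat_lit 0x8c765e5a32402cfe513a4cd22e695ac6d4a00044b660716e67353a0b82e19d5df237c952fcef50c1565559d0e1bb55fa91692956de2fd7ddae22c381f055ce6bfec616d873fa07192d574181b7e5d001cc3cabf327bb1c08b2dcec640a52a18e5d47)
def c_zp : ℕ := (nat_lit 0xc770cfb08a0dc5a9510e034867d657a7660611a9576ab76abe31c541fdbbe5e882e3be59184a7f4a8fc8997a858981c56b1a8ddc6884d18297a3c1e000027b39929d509e9241e70df1885c184d4825c61b5a16a6e3715a2eb9e6456a18251ff880cc)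
def c_n0 : ℕ := (nat_lit 0xa348d2f0b4f62c5882c4d2767412a54d20b781cc26b8624c37bfd7a6b5590c0e49667e9df20b63e2713329249e30628b03f4036191800fc3e63623fc2de834c33ed8051a4e0c660eb1d52574809e2b1f8a290f29e08fc3c7e0f45a00000020000001)
def c_a_g1 : ℕ := (nat_lit 0x1d894b74eb57bec7ce2e5fd562d2629aef5e3730638785d388e0bcc88547f2664a043dfc60ab3e731107dc2a7176275ee6ca29205e176e7aa040e8c78139f38772d44b5ce428791405e06a1de1359e8aeaafb791576b5041fc5aec7b662e061a7134)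
def c_b_g1 : ℕ := (nat_lit 0xf2162add963e25b8278f43e0cb585b1b7994b34aba75be242711de9af50857c6c6037b5539165bfed970037198f1b991383ad58f343717d2283ca02c958d7c858f06bd9d8c8da92906f91d28733998258831b3776ab41822b70450b5c2001985e1f3)
def c_a_g2 : ℕ := (nat_lit 0xbcaa7b11bd91ff61e52e23fc53a63694fe26de095688609887066cc49bfb8032d19a6f4821eb07557a266d97bfa4e2a138f4be4637633328947aa8a289cc54393c998cc61557ad67114c958d7cc22a8efc0f457c07060ccdb558581ca559cbdb17ec)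
def c_b_g2 : ℕ := (nat_lit 0x1b748013bb40f6c5a233e61a8b4ffb4dd4d831bd63b7a71724cfb1be40acfed79af69add5b91d6263f1aedf66d03f2bf110b4e51214156112c3eb693aee0a473f63a28849192eb812880003ac1fe66fcb50d3344ffa308bb1b8bd06bfda18491851d)
def c_a_v : ℕ := (nat_lit 0x1df0f2a55397f61d550b05d14e3703f858a4cf286682a7c750d334428a5cdfc98973d8bc0265fc6d1af02ca0ff100ba8dae2e200b11c2695249ff4210cb7713a672d1df07068e2b51ba62e8ad00061d6e51a9f96c1605f4204d920a4af0672a0e55)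
def c_b_v : ℕ := (nat_lit 0x873298d0a98fc7b5a16a6bea98a4d66cb3953b713500000800fed4b0df78c1e04bbca6c7b82776bffdbc6ab4182eb04752fa0c412dc52be6a0147dc5b2a9450b4e5125b3b7513f57612d0030c00bfab3d4ee1d60c666201a325710000313c0a7c2b8)
def c_p7a : ℕ := (nat_lit 0x111e9c393687511f9d720ec059a2092b00f4778161a3fc13e3fd15964519d9e8f0aa09c5af1eb07b9be17d8f62a1aec3959d059457911d908e071b980ed80dfce975a6788c8744fe88cfe2c3459df20b63fc68eeb1cb6a490636af1e6e13d557eb02)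
def c_p7b : ℕ := (nat_lit 0x1e252916f813a38b16ffe602c85029a3b27e3d5167d312b994bb4fcaf7da80ec86f90d1431c7d124f28ab1c1f7932ff25461a7134028f8993d3bfecf7c61597a80e56f2f42923aee0a46f2a966deb57bec6643ad3f2b234377a018b64717f997a858)
def c_p29a : ℕ := (nat_lit 0x833992edc7b67e88f7edd226872af4982334778161da6e8eb76bf059abe25e961db7aee71c8603d8b642e04f7bd6260841ec684bb064a971fbb348f248fe82787095d5b579da01029bfa2e84aeac38a1f00044b645466b05a1d3b4aa2cf1139526f7)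
def c_p29b : ℕ := (nat_lit 0x5febe07f3e4939dfee194ce46b6c111e9c307327c0123a8649a79fe1368513b697149dae3861f1e8c39b7517bba0003ebf3fcb3a84c4963cd300fb6ec6ca4b9f34798703f858f86e297910007bbbb1cfba21a4fb0b6a05f611a957bab61c69bc8838)
def c_p3a : ℕ := (nat_lit 0x79482e606ed6322bd70d6d71662ff7f8aafd57b78992cd925dfea84c04a545b64092712560586ece376215da06adb322f4eb7a50b3cba19f0003d1d4b4a2bbde3746720290e44821eb039ad4f04020ae4b55fa917ff36c5760f29f3a7d3220000001)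
def c_p3b : ℕ := (nat_lit 0xf369c170d3fcaa51940a5d0fb0948fed5e8180f40fc82598dbd6e0ab53a8629f11bce2f2c4f06692c958204fa99ed15a061cce54ba3024b1640e7fb3efe1d8548ff4a51a4e0c681661e07f6d693fe6ec04316a2bd53ddfc4a9e44f0749d8c0000001)
def c_p5a : ℕ := (nat_lit 0xdb54951978a8cc01df0f2e3dcbde733f480ae2e200cedfdb174ce9dfcab99972c72fa131e70c136eb3bdc9cc28d482316ab437e14dcb9feae696fa689dd87a57cefdab6b22afdb558581f577df02cb7869a85effcde6bf71d9d69900000020000001)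
def c_p5b : ℕ := (nat_lit 0x5ed929598b4078f3e4939ec684bbbe4d63bc1a7de98ae663d582647e10b15404d5d64f16dcf65791405e12aae7de2fc2b4936b630fa1b95452c6d421b748011ce54dbc4b606868644e3b3a62cfacd022d1ca5645682b4db55573e300000020000001)
def c_p2a : ℕ := (nat_lit 0x768511b69ef0a197ab58e8f0a194755454e52bd88a5b3a8459fb008e06ed632f2214380a3d36200015797d8f62a3cd9fca3546ff40004f655bf78328d69c983d905994279a3efe193cc3998258e5930f12243da6af6d3fd4373c02f6ceb080000001)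
def c_p2b : ℕ := (nat_lit 0xb8278f4900001e8572c67ac4789a9d52c278450366406a57a5771d80c662fb9eefbc7db11c2691d52824765466c2213f24c58e2aa007c2b8f01a7fd9100fe2832f0c04020ae4d68e440591b599491851d8591ad6230dc8f13a0dcabcd59d20000001)
def c_cj0 : ℕ := (nat_lit 0xfc60ab33aed998871444402136e13cd9fca000757624a0c3df0c7fa9fe2c3459f30f2d7876de0d1386a4b1c1f7926d87f91d31a881c5e21ffa0a2caed9134a1721a7f553d42ab92285779aba4307dd03c4821eb0ecd6dae0108c1d6f8373f0000001)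
def c_ci0 : ℕ := (nat_lit 0x807b6017b45999d17cbff52512140bcb5d5531cec60f043f5ab256ed28e58fd7f7e663e3dcbdea54eb16e6e8bba51292df4e2a138cfe4dac0c11cd73a850730850759eaa9f13a548e1caa8d6090694b49c1ae48689de71c332926c5a55a810000001)
def c_cj1 : ℕ := (nat_lit 0x6d903c14b6e9f07a49ef09805eddd3c4adbddd015fc52bf9b8c5a6865a4e8131223c1db3795f19fc4505a1d3b4d610785e3d5ac480b1dc249a792aaa2642a9cefb8dc0098f00004882b6c9fa6573a956097f471d693eb32bba91bfd1b9b90000001)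
def c_ci1 : ℕ := (nat_lit 0x64168d2cfa000796dc147f26548ff4ac1d47fa7d8f62a4f7147ed9283b30661f55067ba3f7f7b01213243ed5f70b18bd11cac9c122113083677ff7655a88ff6d4d0e4f0d21d917f4cd9c01397c239831b377453d434ec059a24e2ac900000001)
def c_cj2 : ℕ := (nat_lit 0x4a43280da43e83e3d297b1a730b7eabf957c4b6b95a2a4a0114b0ccf3c81dcda3ba272ece3f6ac39c18b58124f6e027fe071e9a791661cb0d0023bc9a7c63a3659b723663ed504f8b5b1d9d699b437e148ef663de6465f68cb261334867d60000001)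
def c_ci2 : ℕ := (nat_lit 0xcbee68ef2c39c4de48ec6abe25e99916e8558d59ab78b802258b5ca267c5c190f126b7c5accab1d1f8bac7e6b1f180655f3f573b6ac9460353a8629cc616e986d9baf0d3c1f78965fce30383110479b8aff714fb07964b75386f453fc53a60000001)
def c_cj3 : ℕ := (nat_lit 0xb5ce42800009d82a19949abd17eda348d2f9a650dbaf399205fbd0fc28a4fe2fddad7580b367f1800040c958d7c4400fbc24a0c3dc7bba4a39a4acd46deb75c1ae4867517bbacd758d062cd370eefbc7dda3b56aae2e20007f6d6967c1aa40000001)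
def c_ci3 : ℕ := (nat_lit 0x9a7c63ad617c4b52bdb32e294b9fb58c3edfd562d263fe843db1447054bbed71d269cfe563776109770e51292dfc82a6f3c51ec9d549590e0d24dc4b5c20015a9bbbb375a9c058b5ca25708872f0c7fa9a9510e0dc9203423d32f8b41e34a0000001)
def c_cj4 : ℕ := (nat_lit 0x513bd29e6acc508c8b81c000244d8ae6cdd057078fc22a8efc2de834f3aecdb1848cf42b704500fe9149e90790d3a7d32222e7e3c30b582cc04f9df976b3d401d4e4d436bf563cba19fe59756a9001f667a80e565f7be46b983a5ecd43eb70000001)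
def c_ci4 : ℕ := (nat_lit 0xfa0c412cab9997626654aeb81288886098888d35be1b17577e04da00539ce5168c25befdc9d7905d14e343129871e24fe1dad6a73a8452bbf3d22d9468d540f9e204716dc283a225a953f14307d49e3bff83f9d6fff1f6e4cbe35b449d2bf0000001)
def c_s1 : ℕ := (nat_lit 0xa3024b10b5adf97874443bbb37226e4748f79af17d6591ee2607469eaacdd854e4c5ed971290475be242fdbbe5e04e1b18acbdb9b6e0fddc7eb13828785d3897a3c1eb922857fc40abb2d1c337332926c55dc03a1663f79165324500000020000001)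
def c_s2 : ℕ := (nat_lit 0xa348d2f0b4f62c5882c4d2767412a54d20b781cc26b8624c37bfd7a6b5590c0e49667e9df20b63e2713329249e30628b03f4036191800fc3e63623fc2de834c33ed8051a4e0c660eb1d52574809e2b1f8a290f29e08fc3c7e0f45a00000020000001)
noncomputable def nmA : ℕ → ℕ := getL [c_g1, c_g2, c_v, c_g1i, c_t1, c_t2, c_t1i, c_t2i, c_k1, c_k2, c_k1i, c_k2i, c_k, c_z, c_c0, c_g0, c_g0i, c_zp, c_n0, c_a_g1, c_b_g1, c_a_g2, c_b_g2, c_a_v, c_b_v, c_p7a, c_p7b, c_p29a, c_p29b]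
def dWA : List (List ℕ) := [[nat_lit 0, nat_lit 0, nat_lit 0, nat_lit 0], [nat_lit 0, nat_lit 1, nat_lit 0, nat_lit 1, nat_lit 0, nat_lit 2, nat_lit 0, nat_lit 1, nat_lit 3, nat_lit 2, nat_lit 1], [nat_lit 0, nat_lit 1, nat_lit 0, nat_lit 2, nat_lit 0, nat_lit 1, nat_lit 3, nat_lit 2, nat_lit 1, nat_lit 0, nat_lit 1], [nat_lit 4, nat_lit 4, nat_lit 4, nat_lit 4, nat_lit 4, nat_lit 4, nat_lit 4, nat_lit 4, nat_lit 4, nat_lit 4, nat_lit 4, nat_lit 4], [nat_lit 5, nat_lit 5, nat_lit 5, nat_lit 5, nat_lit 5, nat_lit 5, nat_lit 5, nat_lit 5, nat_lit 5, nat_lit 5, nat_lit 5, nat_lit 5], [nat_lit 4, nat_lit 5, nat_lit 5, nat_lit 5, nat_lit 5, nat_lit 4, nat_lit 5], [nat_lit 4, nat_lit 5, nat_lit 5, nat_lit 4, nat_lit 5, nat_lit 4, nat_lit 4, nat_lit 5], [nat_lit 8, nat_lit 8, nat_lit 8, nat_lit 8, nat_lit 8, nat_lit 8, nat_lit 8, nat_lit 8, nat_lit 8, nat_lit 8, nat_lit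 8, nat_lit 8], [nat_lit 9, nat_lit 9, nat_lit 9, nat_lit 9, nat_lit 9, nat_lit 9, nat_lit 9, nat_lit 9, nat_lit 9, nat_lit 9, nat_lit 9], [nat_lit 3, nat_lit 2, nat_lit 0, nat_lit 1, nat_lit 3, nat_lit 3, nat_lit 1, nat_lit 2, nat_lit 0, nat_lit 0, nat_lit 5, nat_lit 5, nat_lit 6, nat_lit 5, nat_lit 4, nat_lit 4, nat_lit 5], [nat_lit 0, nat_lit 1, nat_lit 0, nat_lit 1, nat_lit 0, nat_lit 1, nat_lit 0, nat_lit 1], [nat_lit 3, nat_lit 3, nat_lit 1, nat_lit 0, nat_lit 7, nat_lit 6, nat_lit 6, nat_lit 6, nat_lit 5, nat_lit 8, nat_lit 11, nat_lit 8, nat_lit 9, nat_lit 9, nat_lit 8, nat_lit 9, nat_lit 8, nat_lit 9, nat_lit 12], [nat_lit 1, nat_lit 2, nat_lit 3, nat_lit 1, nat_lit 2, nat_lit 0, nat_lit 2, nat_lit 1, nat_lit 0, nat_lit 7, nat_lit 6, nat_lit 6, nat_lit 5, nat_lit 8, nat_lit 9, nat_lit 8, nat_lit 9, nat_lit 9, nat_lit 8], [nat_lit 3, nat_lit 2, nat_lit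 1, nat_lit 0, nat_lit 1, nat_lit 0, nat_lit 2, nat_lit 3, nat_lit 2, nat_lit 7, nat_lit 4, nat_lit 4, nat_lit 5, nat_lit 5, nat_lit 5, nat_lit 9, nat_lit 8, nat_lit 11, nat_lit 12], [nat_lit 0, nat_lit 0, nat_lit 0, nat_lit 1, nat_lit 0, nat_lit 0, nat_lit 1, nat_lit 0, nat_lit 1], [nat_lit 8, nat_lit 8, nat_lit 9, nat_lit 9, nat_lit 8, nat_lit 8, nat_lit 8], [nat_lit 1, nat_lit 0, nat_lit 0, nat_lit 1, nat_lit 0, nat_lit 2, nat_lit 3, nat_lit 1, nat_lit 2], [nat_lit 19, nat_lit 19, nat_lit 19, nat_lit 19, nat_lit 19, nat_lit 19, nat_lit 19, nat_lit 19, nat_lit 19, nat_lit 19, nat_lit 19, nat_lit 19, nat_lit 0], [nat_lit 3, nat_lit 1, nat_lit 3, nat_lit 3, nat_lit 1, nat_lit 0, nat_lit 2, nat_lit 0], [nat_lit 21, nat_lit 21, nat_lit 21, nat_lit 21, nat_lit 21, nat_lit 21, nat_lit 21, nat_lit 21, nat_lit 21, nat_lit 21, nat_lit 21, nat_lit 21, nat_lit 1], [nat_lit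 0, nat_lit 1, nat_lit 3, nat_lit 3, nat_lit 1, nat_lit 0, nat_lit 2, nat_lit 3], [nat_lit 23, nat_lit 23, nat_lit 23, nat_lit 23, nat_lit 23, nat_lit 23, nat_lit 23, nat_lit 23, nat_lit 23, nat_lit 23, nat_lit 23, nat_lit 23, nat_lit 2], [nat_lit 0, nat_lit 2, nat_lit 3, nat_lit 1], [nat_lit 2, nat_lit 3, nat_lit 2, nat_lit 1, nat_lit 3, nat_lit 2, nat_lit 0], [nat_lit 0, nat_lit 0, nat_lit 2, nat_lit 0, nat_lit 2], [nat_lit 0, nat_lit 1, nat_lit 0, nat_lit 1, nat_lit 2, nat_lit 0, nat_lit 0]]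
theorem chk_slpA : O.slpB nmA dWA 3 = true := by decide +kernel
noncomputable def nmB : ℕ → ℕ := getL [c_t1, c_t2, c_t1i, c_t2i, c_k1, c_k2, c_k1i, c_k2i, c_p3a, c_p3b, c_p5a, c_p5b, c_p2a, c_p2b, c_cj0, c_ci0, c_cj1, c_ci1, c_cj2, c_ci2, c_cj3, c_ci3, c_cj4, c_ci4]
def dWB : List (List ℕ) := [[nat_lit 0, nat_lit 0, nat_lit 0, nat_lit 0, nat_lit 0, nat_lit 0, nat_lit 0, nat_lit 0, nat_lit 0, nat_lit 0, nat_lit 0, nat_lit 0], [nat_lit 1, nat_lit 1, nat_lit 1, nat_lit 1, nat_lit 1, nat_lit 1, nat_lit 1, nat_lit 1, nat_lit 1, nat_lit 1, nat_lit 1, nat_lit 1], [nat_lit 0, nat_lit 1, nat_lit 1, nat_lit 1, nat_lit 1, nat_lit 0, nat_lit 1], [nat_lit 0, nat_lit 1, nat_lit 1, nat_lit 0, nat_lit 1, nat_lit 0, nat_lit 0, nat_lit 1], [nat_lit 4, nat_lit 4, nat_lit 4, nat_lit 4, nat_lit 4, nat_lit 4, nat_lit 4, nat_lit 4, nat_lit 4, nat_lit 4, nat_lit 4, nat_lit 4], [nat_lit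 5, nat_lit 5, nat_lit 5, nat_lit 5, nat_lit 5, nat_lit 5, nat_lit 5, nat_lit 5, nat_lit 5, nat_lit 5, nat_lit 5], [nat_lit 3, nat_lit 3, nat_lit 2, nat_lit 2, nat_lit 2, nat_lit 1, nat_lit 6, nat_lit 7, nat_lit 6, nat_lit 5, nat_lit 5, nat_lit 6, nat_lit 5, nat_lit 5, nat_lit 6], [nat_lit 3, nat_lit 3, nat_lit 0, nat_lit 0, nat_lit 3, nat_lit 6, nat_lit 6, nat_lit 7, nat_lit 4, nat_lit 5, nat_lit 6, nat_lit 7, nat_lit 6], [nat_lit 6, nat_lit 7, nat_lit 4, nat_lit 5, nat_lit 6, nat_lit 7, nat_lit 4, nat_lit 5, nat_lit 5], [nat_lit 4, nat_lit 4, nat_lit 5, nat_lit 4, nat_lit 5, nat_lit 5, nat_lit 5, nat_lit 4], [nat_lit 2, nat_lit 4, nat_lit 4, nat_lit 5, nat_lit 6, nat_lit 5, nat_lit 4, nat_lit 4], [nat_lit 2, nat_lit 3, nat_lit 0, nat_lit 0, nat_lit 0, nat_lit 1, nat_lit 6, nat_lit 6, nat_lit 6, nat_lit 5, nat_lit 4, nat_lit 5, nat_lit 6, nat_lit 7, nat_lit 4],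 [nat_lit 0, nat_lit 3, nat_lit 0, nat_lit 1, nat_lit 1], [nat_lit 3, nat_lit 3, nat_lit 2, nat_lit 1, nat_lit 2], [nat_lit 0, nat_lit 3, nat_lit 0], [nat_lit 2, nat_lit 1, nat_lit 2], [nat_lit 1, nat_lit 1, nat_lit 0, nat_lit 3, nat_lit 3], [nat_lit 1, nat_lit 1, nat_lit 2, nat_lit 3, nat_lit 3], [nat_lit 1, nat_lit 0, nat_lit 1], [nat_lit 3, nat_lit 2, nat_lit 3], [nat_lit 1, nat_lit 1], [nat_lit 3, nat_lit 3]]
theorem chk_slpB : O.slpB nmB dWB 2 = true := by decide +kernel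
noncomputable def nmC : ℕ → ℕ := getL [c_k1, c_k2, c_k1i, c_k2i, c_s1, c_s2]
def dWC : List (List ℕ) := [[nat_lit 0, nat_lit 0, nat_lit 0, nat_lit 0, nat_lit 0, nat_lit 0, nat_lit 0, nat_lit 0, nat_lit 0, nat_lit 0, nat_lit 0, nat_lit 0], [nat_lit 1, nat_lit 1, nat_lit 1, nat_lit 1, nat_lit 1, nat_lit 1, nat_lit 1, nat_lit 1, nat_lit 1, nat_lit 1, nat_lit 1], [nat_lit 1, nat_lit 1, nat_lit 0, nat_lit 3, nat_lit 3, nat_lit 2, nat_lit 2], [nat_lit 0, nat_lit 0, nat_lit 1, nat_lit 1, nat_lit 0, nat_lit 0, nat_lit 0]]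
theorem chk_slpC : O.slpB nmC dWC 2 = true := by decide +kernel
noncomputable def genH : ℕ → ℕ := getL [c_t1, c_t2, c_k]
noncomputable def genK : ℕ → ℕ := getL [c_k1, c_k2, c_k]
noncomputable def genS : ℕ → ℕ := getL [c_s1, c_s2]
noncomputable def genC : ℕ → ℕ := getL [c_g1, c_g2, c_c0]
def c_y : ℕ := (nat_lit 0xff880cc)
def dS2_c0 : ℕ := (nat_lit 0xd3e81d38aa14362a6c26325820c47dc9212ea4589d72dfa4155f51)
noncomputable def dS2 : ℕ → ℕ := memo (look1 dS2_c0 (nat_lit 9) (nat_lit 511))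
noncomputable def dS2_par (i : ℕ) : ℕ := bits (dS2 i) (nat_lit 0) (nat_lit 31)
noncomputable def dS2_gi (i : ℕ) : ℕ := bits (dS2 i) (nat_lit 5) (nat_lit 1)
noncomputable def dS2_dep (i : ℕ) : ℕ := bits (dS2 i) (nat_lit 6) (nat_lit 7)
noncomputable def tS : ℕ → ℕ := O.tabW genS 2 dS2_par dS2_gi dS2_dep
theorem chkS_w0 : allW (sortP (fun i => O.key (tS i)) 24) 0 24 = true := by decide +kernel
theorem chkS : ∀ i < 24, (sortP (fun i => O.key (tS i)) 24) i = true :=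
  all_step (all_zero _) chkS_w0 rfl
theorem chkSz : cnt (fun i => O.commB (tS i) c_z) 24 = 3 := by decide +kernel
theorem chk_fix : allB (fun j => Nat.beq (act (genH j) 1) 1) 3 = true ∧
    allB (fun j => Nat.beq (act (genK j) 2) 2) 3 = true ∧
    allB (fun j => Nat.beq (act (genS j) c_y) c_y) 2 = true ∧
    act c_z 1 = 1 ∧ act c_z 2 = 2 ∧ act c_z c_y = c_y := by decide +kernel
theorem chk_can : canonB 1 2 (28 * 1) 1 = true ∧ canonB 1 2 (28 * 1) 2 = true ∧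
    canonB 1 2 (28 * 1) c_y = true := by decide +kernel
theorem chk_ord : O.ordChk c_t1 13 [13] = true ∧ O.ordChk c_t2 13 [13] = true ∧
    O.ordChk c_z 3 [3] = true ∧ O.commB c_t1 c_t2 = false ∧ O.ordChk c_p29a 29 [29] = true ∧
    allB (fun j => O.commB (genC j) c_z) 3 = true := by decide +kernel
theorem chk_gen13 : allB (fun j => andB (O.ordChk (nmA (19 + 2 * j)) 13 [13])
    (andB (O.ordChk (nmA (20 + 2 * j)) 13 [13])
      (O.eqB (O.mul (nmA (19 + 2 * j)) (nmA (20 + 2 * j))) (nmA j)))) 3 = true := by decide +kernel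
theorem chkPr7 : O.ordChk c_p7a 7 [7] = true ∧ O.ordChk c_p7b 7 [7] = true ∧
    O.ordChk (O.mul c_p7a c_p7b) 13 [13] = true := by decide +kernel
theorem chkPr29 : O.ordChk c_p29a 29 [29] = true ∧ O.ordChk c_p29b 29 [29] = true ∧
    O.ordChk (O.mul c_p29a c_p29b) 13 [13] = true := by decide +kernel

set_option linter.unusedTactic false in
theorem eqns_RuPool : True := by
  first | (have := @Cfsg.Agent.H46.Ru.nmA.eq_def.{0,0,0}) | (have := @Cfsg.Agent.H46.Ru.nmA.eq_def.{0,0}) | (have := @Cfsg.Agent.H46.Ru.nmA.eq_def.{0}) | (have := @Cfsg.Agent.H46.Ru.nmA.eq_def) | skip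
  first | (have := @Cfsg.Agent.H46.Ru.nmA.eq_1.{0,0,0}) | (have := @Cfsg.Agent.H46.Ru.nmA.eq_1.{0,0}) | (have := @Cfsg.Agent.H46.Ru.nmA.eq_1.{0}) | (have := @Cfsg.Agent.H46.Ru.nmA.eq_1) | skip
  first | (have := @Cfsg.Agent.H46.Ru.nmA.eq_2.{0,0,0}) | (have := @Cfsg.Agent.H46.Ru.nmA.eq_2.{0,0}) | (have := @Cfsg.Agent.H46.Ru.nmA.eq_2.{0}) | (have := @Cfsg.Agent.H46.Ru.nmA.eq_2) | skip
  first | (have := @Cfsg.Agent.H46.Ru.nmA.eq_unfold.{0,0,0}) | (have := @Cfsg.Agent.H46.Ru.nmA.eq_unfold.{0,0}) | (have := @Cfsg.Agent.H46.Ru.nmA.eq_unfold.{0}) | (have := @Cfsg.Agent.H46.Ru.nmA.eq_unfold) | skip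
  first | (have := @Cfsg.Agent.H46.Ru.nmA.congr_simp.{0,0,0}) | (have := @Cfsg.Agent.H46.Ru.nmA.congr_simp.{0,0}) | (have := @Cfsg.Agent.H46.Ru.nmA.congr_simp.{0}) | (have := @Cfsg.Agent.H46.Ru.nmA.congr_simp) | skip
  first | (have := @Cfsg.Agent.H46.Ru.nmB.eq_def.{0,0,0}) | (have := @Cfsg.Agent.H46.Ru.nmB.eq_def.{0,0}) | (have := @Cfsg.Agent.H46.Ru.nmB.eq_def.{0}) | (have := @Cfsg.Agent.H46.Ru.nmB.eq_def) | skip
  first | (have := @Cfsg.Agent.H46.Ru.nmB.eq_1.{0,0,0}) | (have := @Cfsg.Agent.H46.Ru.nmB.eq_1.{0,0}) | (have := @Cfsg.Agent.H46.Ru.nmB.eq_1.{0}) | (have := @Cfsg.Agent.H46.Ru.nmB.eq_1) | skip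
  first | (have := @Cfsg.Agent.H46.Ru.nmB.eq_2.{0,0,0}) | (have := @Cfsg.Agent.H46.Ru.nmB.eq_2.{0,0}) | (have := @Cfsg.Agent.H46.Ru.nmB.eq_2.{0}) | (have := @Cfsg.Agent.H46.Ru.nmB.eq_2) | skip
  first | (have := @Cfsg.Agent.H46.Ru.nmB.eq_unfold.{0,0,0}) | (have := @Cfsg.Agent.H46.Ru.nmB.eq_unfold.{0,0}) | (have := @Cfsg.Agent.H46.Ru.nmB.eq_unfold.{0}) | (have := @Cfsg.Agent.H46.Ru.nmB.eq_unfold) | skip
  first | (have := @Cfsg.Agent.H46.Ru.nmB.congr_simp.{0,0,0}) | (have := @Cfsg.Agent.H46.Ru.nmB.congr_simp.{0,0}) | (have := @Cfsg.Agent.H46.Ru.nmB.congr_simp.{0}) | (have := @Cfsg.Agent.H46.Ru.nmB.congr_simp) | skip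
  first | (have := @Cfsg.Agent.H46.Ru.nmC.eq_def.{0,0,0}) | (have := @Cfsg.Agent.H46.Ru.nmC.eq_def.{0,0}) | (have := @Cfsg.Agent.H46.Ru.nmC.eq_def.{0}) | (have := @Cfsg.Agent.H46.Ru.nmC.eq_def) | skip
  first | (have := @Cfsg.Agent.H46.Ru.nmC.eq_1.{0,0,0}) | (have := @Cfsg.Agent.H46.Ru.nmC.eq_1.{0,0}) | (have := @Cfsg.Agent.H46.Ru.nmC.eq_1.{0}) | (have := @Cfsg.Agent.H46.Ru.nmC.eq_1) | skip
  first | (have := @Cfsg.Agent.H46.Ru.nmC.eq_2.{0,0,0}) | (have := @Cfsg.Agent.H46.Ru.nmC.eq_2.{0,0}) | (have := @Cfsg.Agent.H46.Ru.nmC.eq_2.{0}) | (have := @Cfsg.Agent.H46.Ru.nmC.eq_2) | skip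
  first | (have := @Cfsg.Agent.H46.Ru.nmC.eq_unfold.{0,0,0}) | (have := @Cfsg.Agent.H46.Ru.nmC.eq_unfold.{0,0}) | (have := @Cfsg.Agent.H46.Ru.nmC.eq_unfold.{0}) | (have := @Cfsg.Agent.H46.Ru.nmC.eq_unfold) | skip
  first | (have := @Cfsg.Agent.H46.Ru.nmC.congr_simp.{0,0,0}) | (have := @Cfsg.Agent.H46.Ru.nmC.congr_simp.{0,0}) | (have := @Cfsg.Agent.H46.Ru.nmC.congr_simp.{0}) | (have := @Cfsg.Agent.H46.Ru.nmC.congr_simp) | skip
  first | (have := @Cfsg.Agent.H46.Ru.genH.eq_def.{0,0,0}) | (have := @Cfsg.Agent.H46.Ru.genH.eq_def.{0,0}) | (have := @Cfsg.Agent.H46.Ru.genH.eq_def.{0}) | (have := @Cfsg.Agent.H46.Ru.genH.eq_def) | skip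
  first | (have := @Cfsg.Agent.H46.Ru.genH.eq_1.{0,0,0}) | (have := @Cfsg.Agent.H46.Ru.genH.eq_1.{0,0}) | (have := @Cfsg.Agent.H46.Ru.genH.eq_1.{0}) | (have := @Cfsg.Agent.H46.Ru.genH.eq_1) | skip
  first | (have := @Cfsg.Agent.H46.Ru.genH.eq_2.{0,0,0}) | (have := @Cfsg.Agent.H46.Ru.genH.eq_2.{0,0}) | (have := @Cfsg.Agent.H46.Ru.genH.eq_2.{0}) | (have := @Cfsg.Agent.H46.Ru.genH.eq_2) | skip
  first | (have := @Cfsg.Agent.H46.Ru.genH.eq_unfold.{0,0,0}) | (have := @Cfsg.Agent.H46.Ru.genH.eq_unfold.{0,0}) | (have := @Cfsg.Agent.H46.Ru.genH.eq_unfold.{0}) | (have := @Cfsg.Agent.H46.Ru.genH.eq_unfold) | skip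
  first | (have := @Cfsg.Agent.H46.Ru.genH.congr_simp.{0,0,0}) | (have := @Cfsg.Agent.H46.Ru.genH.congr_simp.{0,0}) | (have := @Cfsg.Agent.H46.Ru.genH.congr_simp.{0}) | (have := @Cfsg.Agent.H46.Ru.genH.congr_simp) | skip
  first | (have := @Cfsg.Agent.H46.Ru.genK.eq_def.{0,0,0}) | (have := @Cfsg.Agent.H46.Ru.genK.eq_def.{0,0}) | (have := @Cfsg.Agent.H46.Ru.genK.eq_def.{0}) | (have := @Cfsg.Agent.H46.Ru.genK.eq_def) | skip
  first | (have := @Cfsg.Agent.H46.Ru.genK.eq_1.{0,0,0}) | (have := @Cfsg.Agent.H46.Ru.genK.eq_1.{0,0}) | (have := @Cfsg.Agent.H46.Ru.genK.eq_1.{0}) | (have := @Cfsg.Agent.H46.Ru.genK.eq_1) | skip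
  first | (have := @Cfsg.Agent.H46.Ru.genK.eq_2.{0,0,0}) | (have := @Cfsg.Agent.H46.Ru.genK.eq_2.{0,0}) | (have := @Cfsg.Agent.H46.Ru.genK.eq_2.{0}) | (have := @Cfsg.Agent.H46.Ru.genK.eq_2) | skip
  first | (have := @Cfsg.Agent.H46.Ru.genK.eq_unfold.{0,0,0}) | (have := @Cfsg.Agent.H46.Ru.genK.eq_unfold.{0,0}) | (have := @Cfsg.Agent.H46.Ru.genK.eq_unfold.{0}) | (have := @Cfsg.Agent.H46.Ru.genK.eq_unfold) | skip
  first | (have := @Cfsg.Agent.H46.Ru.genK.congr_simp.{0,0,0}) | (have := @Cfsg.Agent.H46.Ru.genK.congr_simp.{0,0}) | (have := @Cfsg.Agent.H46.Ru.genK.congr_simp.{0}) | (have := @Cfsg.Agent.H46.Ru.genK.congr_simp) | skip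
  first | (have := @Cfsg.Agent.H46.Ru.genS.eq_def.{0,0,0}) | (have := @Cfsg.Agent.H46.Ru.genS.eq_def.{0,0}) | (have := @Cfsg.Agent.H46.Ru.genS.eq_def.{0}) | (have := @Cfsg.Agent.H46.Ru.genS.eq_def) | skip
  first | (have := @Cfsg.Agent.H46.Ru.genS.eq_1.{0,0,0}) | (have := @Cfsg.Agent.H46.Ru.genS.eq_1.{0,0}) | (have := @Cfsg.Agent.H46.Ru.genS.eq_1.{0}) | (have := @Cfsg.Agent.H46.Ru.genS.eq_1) | skip
  first | (have := @Cfsg.Agent.H46.Ru.genS.eq_2.{0,0,0}) | (have := @Cfsg.Agent.H46.Ru.genS.eq_2.{0,0}) | (have := @Cfsg.Agent.H46.Ru.genS.eq_2.{0}) | (have := @Cfsg.Agent.H46.Ru.genS.eq_2) | skip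
  first | (have := @Cfsg.Agent.H46.Ru.genS.eq_unfold.{0,0,0}) | (have := @Cfsg.Agent.H46.Ru.genS.eq_unfold.{0,0}) | (have := @Cfsg.Agent.H46.Ru.genS.eq_unfold.{0}) | (have := @Cfsg.Agent.H46.Ru.genS.eq_unfold) | skip
  first | (have := @Cfsg.Agent.H46.Ru.genS.congr_simp.{0,0,0}) | (have := @Cfsg.Agent.H46.Ru.genS.congr_simp.{0,0}) | (have := @Cfsg.Agent.H46.Ru.genS.congr_simp.{0}) | (have := @Cfsg.Agent.H46.Ru.genS.congr_simp) | skip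
  first | (have := @Cfsg.Agent.H46.Ru.genC.eq_def.{0,0,0}) | (have := @Cfsg.Agent.H46.Ru.genC.eq_def.{0,0}) | (have := @Cfsg.Agent.H46.Ru.genC.eq_def.{0}) | (have := @Cfsg.Agent.H46.Ru.genC.eq_def) | skip
  first | (have := @Cfsg.Agent.H46.Ru.genC.eq_1.{0,0,0}) | (have := @Cfsg.Agent.H46.Ru.genC.eq_1.{0,0}) | (have := @Cfsg.Agent.H46.Ru.genC.eq_1.{0}) | (have := @Cfsg.Agent.H46.Ru.genC.eq_1) | skip
  first | (have := @Cfsg.Agent.H46.Ru.genC.eq_2.{0,0,0}) | (have := @Cfsg.Agent.H46.Ru.genC.eq_2.{0,0}) | (have := @Cfsg.Agent.H46.Ru.genC.eq_2.{0}) | (have := @Cfsg.Agent.H46.Ru.genC.eq_2) | skip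
  first | (have := @Cfsg.Agent.H46.Ru.genC.eq_unfold.{0,0,0}) | (have := @Cfsg.Agent.H46.Ru.genC.eq_unfold.{0,0}) | (have := @Cfsg.Agent.H46.Ru.genC.eq_unfold.{0}) | (have := @Cfsg.Agent.H46.Ru.genC.eq_unfold) | skip
  first | (have := @Cfsg.Agent.H46.Ru.genC.congr_simp.{0,0,0}) | (have := @Cfsg.Agent.H46.Ru.genC.congr_simp.{0,0}) | (have := @Cfsg.Agent.H46.Ru.genC.congr_simp.{0}) | (have := @Cfsg.Agent.H46.Ru.genC.congr_simp) | skip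
  first | (have := @Cfsg.Agent.H46.Ru.tS.eq_def.{0,0,0}) | (have := @Cfsg.Agent.H46.Ru.tS.eq_def.{0,0}) | (have := @Cfsg.Agent.H46.Ru.tS.eq_def.{0}) | (have := @Cfsg.Agent.H46.Ru.tS.eq_def) | skip
  first | (have := @Cfsg.Agent.H46.Ru.tS.eq_1.{0,0,0}) | (have := @Cfsg.Agent.H46.Ru.tS.eq_1.{0,0}) | (have := @Cfsg.Agent.H46.Ru.tS.eq_1.{0}) | (have := @Cfsg.Agent.H46.Ru.tS.eq_1) | skip
  first | (have := @Cfsg.Agent.H46.Ru.tS.eq_2.{0,0,0}) | (have := @Cfsg.Agent.H46.Ru.tS.eq_2.{0,0}) | (have := @Cfsg.Agent.H46.Ru.tS.eq_2.{0}) | (have := @Cfsg.Agent.H46.Ru.tS.eq_2) | skip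
  first | (have := @Cfsg.Agent.H46.Ru.tS.eq_unfold.{0,0,0}) | (have := @Cfsg.Agent.H46.Ru.tS.eq_unfold.{0,0}) | (have := @Cfsg.Agent.H46.Ru.tS.eq_unfold.{0}) | (have := @Cfsg.Agent.H46.Ru.tS.eq_unfold) | skip
  first | (have := @Cfsg.Agent.H46.Ru.tS.congr_simp.{0,0,0}) | (have := @Cfsg.Agent.H46.Ru.tS.congr_simp.{0,0}) | (have := @Cfsg.Agent.H46.Ru.tS.congr_simp.{0}) | (have := @Cfsg.Agent.H46.Ru.tS.congr_simp) | skip
  trivial

end Cfsg.Agent.H46.Ru
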