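import Cfsg.Agent.H46.SKit
import Cfsg.Agent.H44.Coset

/-!
# Rules for exact lines and good pairs
-/

set_option autoImplicit false
open Subgroup

namespace Cfsg.Agent.H46.S95
open Cfsg.Agent.H44

universe u

variable {Γ : Type} [Group Γ] {G : Type u} [Group G] {φ : Γ →* G} {t : G} {z : Γ} {f : Γ → G}

/-- an exact line -/
structure EE (z : Γ) (f : Γ → G) (r s : Γ) : Prop where
  r1 : IsConj z r
  r2 : IsConj z s
  r3 : IsConj z (r * s)
  eq : f r * f s = f (r * s)

/-- a good pair -/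
structure GG (t : G) (z : Γ) (f : Γ → G) (r s : Γ) : Prop where
  r1 : IsConj z r
  r2 : IsConj z s
  good : Good t f r s

/-- a line with defect `φ w` -/
structure DD (φ : Γ →* G) (z : Γ) (f : Γ → G) (r s w : Γ) : Prop where
  r1 : IsConj z r
  r2 : IsConj z s
  r3 : IsConj z (r * s)
  com : f r * f s = f s * f r
  eq : f r * f s * f (r * s) = φ w

theorem isConj_of {z r r' a : Γ} (h : IsConj z r) (e : a * r = r' * a) : IsConj z r' :=
  h.trans (isConj_iff.2 ⟨a, by rw [e]; group⟩)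

namespace Lf
variable (h : Lf φ t z f)
include h

theorem tinv : t⁻¹ = t := inv_eq_of_mul_eq_one_right h.tt

theorem finv {r : Γ} (hr : IsConj z r) : (f r)⁻¹ = f r := inv_eq_of_mul_eq_one_right (h.sq r hr)

theorem cj {r r' a : Γ} (hr : IsConj z r) (e : a * r = r' * a) : f r' = φ a * f r * (φ a)⁻¹ := by
  rw [← h.eq a r hr, e, mul_inv_cancel_right]

theorem com {r a : Γ} (hr : IsConj z r) (e : a * r = r * a) : φ a * f r = f r * φ a := by
  have := h.cj hr e
  calc φ a * f r = φ a * f r * (φ a)⁻¹ * φ a := by group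
    _ = f r * φ a := by rw [← this]

theorem two {r : Γ} (hr : IsConj z r) : t * f r * t = f r * φ r := by
  calc t * f r * t = f r * (f r * t * f r) * t * 1 := by
        rw [← mul_assoc, ← mul_assoc, h.sq r hr]; group
    _ = f r * (t * φ r) * t := by rw [h.br r hr, mul_one]
    _ = f r * (t * t * φ r) := by rw [mul_assoc, mul_assoc t, h.AC, mul_assoc]
    _ = f r * φ r := by rw [h.tt, one_mul]

theorem rsq {r : Γ} (hr : IsConj z r) : r * r = 1 := by
  apply h.inj
  have e : t * f r * t * (t * f r * t) = 1 := by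
    calc t * f r * t * (t * f r * t) = t * f r * (t * t) * f r * t := by group
      _ = 1 := by rw [h.tt, mul_one, mul_assoc t, h.sq r hr, mul_one, h.tt]
  rw [h.two hr, mul_assoc, ← mul_assoc (φ r), h.com hr rfl, mul_assoc, ← mul_assoc, h.sq r hr,
    one_mul] at e
  rw [map_mul, e, map_one]

theorem phi {r : Γ} (hr : IsConj z r) : φ r = f r * (t * f r * t) := by
  rw [h.two hr, ← mul_assoc, h.sq r hr, one_mul]

theorem gg_refl {r : Γ} (hr : IsConj z r) : GG t z f r r :=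
  ⟨hr, hr, by unfold Good; rw [h.two hr, mul_assoc, h.com hr rfl]⟩

theorem gg_symm {r s : Γ} (k : GG t z f r s) : GG t z f s r := by
  refine ⟨k.r2, k.r1, ?_⟩
  have e := k.good
  unfold Good at e ⊢
  calc f s * (t * f r * t) = t * (t * f s * t * f r) * t := by
        rw [← mul_assoc, ← mul_assoc, ← mul_assoc, ← mul_assoc, ← mul_assoc, h.tt]; group
    _ = t * f r * t * f s * (t * t) := by rw [← e]; group
    _ = _ := by rw [h.tt, mul_one]

theorem gg_cj {r s r' s' a : Γ} (k : GG t z f r s) (e1 : a * r = r' * a) (e2 : a * s = s' * a) :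
    GG t z f r' s' := by
  refine ⟨isConj_of k.r1 e1, isConj_of k.r2 e2, ?_⟩
  have e := k.good
  unfold Good at e ⊢
  have i : (φ a)⁻¹ * t = t * (φ a)⁻¹ := by rw [← map_inv, h.AC]
  have m : t * f s' * t = φ a * (t * f s * t) * (φ a)⁻¹ := by
    rw [h.cj k.r2 e2, mul_assoc, mul_assoc, i, ← mul_assoc, ← mul_assoc, ← mul_assoc, ← h.AC]
    group
  rw [m, h.cj k.r1 e1]
  calc φ a * f r * (φ a)⁻¹ * (φ a * (t * f s * t) * (φ a)⁻¹)
      = φ a * (f r * (t * f s * t)) * (φ a)⁻¹ := by group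
    _ = _ := by rw [e]; group

theorem ee_cj {r s r' s' a : Γ} (k : EE z f r s) (e1 : a * r = r' * a) (e2 : a * s = s' * a) :
    EE z f r' s' := by
  have e3 : a * (r * s) = r' * s' * a := by rw [← mul_assoc, e1, mul_assoc, e2, mul_assoc]
  refine ⟨isConj_of k.r1 e1, isConj_of k.r2 e2, isConj_of k.r3 e3, ?_⟩
  rw [h.cj k.r1 e1, h.cj k.r2 e2, h.cj k.r3 e3, ← k.eq]
  group

theorem dd_cj {r s w r' s' w' a : Γ} (k : DD φ z f r s w) (e1 : a * r = r' * a)
    (e2 : a * s = s' * a) (e4 : a * w = w' * a) : DD φ z f r' s' w' := by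
  have e3 : a * (r * s) = r' * s' * a := by rw [← mul_assoc, e1, mul_assoc, e2, mul_assoc]
  refine ⟨isConj_of k.r1 e1, isConj_of k.r2 e2, isConj_of k.r3 e3, ?_, ?_⟩
  · rw [h.cj k.r1 e1, h.cj k.r2 e2]
    calc φ a * f r * (φ a)⁻¹ * (φ a * f s * (φ a)⁻¹) = φ a * (f r * f s) * (φ a)⁻¹ := by group
      _ = _ := by rw [k.com]; group
  · rw [h.cj k.r1 e1, h.cj k.r2 e2, h.cj k.r3 e3]
    have : w' = a * w * a⁻¹ := by rw [e4]; group
    rw [this, map_mul, map_mul, map_inv, ← k.eq]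
    group

theorem ee_comm {r s : Γ} (k : EE z f r s) : r * s = s * r :=
  H23.D2.comm_of_invs (h.rsq k.r1) (h.rsq k.r2) (h.rsq k.r3)

theorem ee_com {r s : Γ} (k : EE z f r s) : f r * f s = f s * f r :=
  H23.D2.comm_of_invs (h.sq _ k.r1) (h.sq _ k.r2) (by rw [k.eq]; exact h.sq _ k.r3)

theorem ee_symm {r s : Γ} (k : EE z f r s) : EE z f s r :=
  ⟨k.r2, k.r1, h.ee_comm k ▸ k.r3, by rw [← h.ee_com k, k.eq, h.ee_comm k]⟩

theorem gg_of_com {r s : Γ} (hr : IsConj z r) (hs : IsConj z s) (c : r * s = s * r)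
    (e : f r * f s = f s * f r) : GG t z f r s := by
  refine ⟨hr, hs, ?_⟩
  unfold Good
  rw [h.two hs, ← mul_assoc, e, mul_assoc, mul_assoc, h.com hr c.symm]

theorem ee_gg {r s : Γ} (k : EE z f r s) : GG t z f r s :=
  h.gg_of_com k.r1 k.r2 (h.ee_comm k) (h.ee_com k)

theorem gg_cjf {r r' : Γ} (k : GG t z f r r') : f (r' * r * r') = f r' * f r * f r' := by
  have e := k.good
  unfold Good at e
  have i : r'⁻¹ = r' := inv_eq_of_mul_eq_one_right (h.rsq k.r2)
  have := h.eq r' r k.r1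
  rw [i] at this
  rw [this, h.phi k.r2, mul_inv_rev, h.finv k.r2]
  calc f r' * (t * f r' * t) * f r * ((t * f r' * t)⁻¹ * f r')
      = f r' * ((t * f r' * t) * f r) * (t * f r' * t)⁻¹ * f r' := by group
    _ = _ := by rw [← e]; group

theorem gg_conj {r r' s w : Γ} (k1 : GG t z f r s) (k2 : GG t z f r' s) (k3 : GG t z f r r')
    (e : w = r' * r * r') : GG t z f w s := by
  have i : r' * r' = 1 := h.rsq k2.r1
  refine ⟨isConj_of k1.r1 (a := r') (by rw [e, mul_assoc, i, mul_one]), k1.r2, ?_⟩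
  unfold Good
  rw [e, h.gg_cjf k3]
  exact ((Commute.mul_left k2.good k1.good).mul_left k2.good).eq

omit h in
theorem gg_add {r r' s w : Γ} (k1 : GG t z f r s) (k2 : GG t z f r' s) (k3 : EE z f r r')
    (e : w = r * r') : GG t z f w s := by
  refine ⟨e ▸ k3.r3, k1.r2, ?_⟩
  unfold Good
  rw [e, ← k3.eq]
  exact (Commute.mul_left k1.good k2.good).eq

theorem gg_grid {a b y : Γ} (k : EE z f a y) (hb : IsConj z b) (e : b * a = a * y * b)
    (g : f a * f b = f b * f y * f a) : GG t z f a b := by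
  refine ⟨k.r1, hb, ?_⟩
  unfold Good
  have e1 := h.cj k.r1 e
  rw [← k.eq, h.ee_com k] at e1
  have e2 : f b * f a = f y * f a * f b := by
    have : f y * f a = f b * f a * f b := by
      rw [mul_assoc, g, ← mul_assoc, ← mul_assoc, h.sq b hb, one_mul]
    rw [this, mul_assoc, h.sq b hb, mul_one]
  have e3 : φ b * f a = f y * f a * φ b := by rw [e1]; group
  have e4 : f a * f b = f b * (f y * f a) := by rw [g, mul_assoc]
  rw [h.two hb, ← mul_assoc, e4, mul_assoc (f b), mul_assoc (f b), e3]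

theorem dd_one {r s : Γ} (k : DD φ z f r s 1) : EE z f r s :=
  ⟨k.r1, k.r2, k.r3, by
    have := k.eq
    rw [map_one] at this
    rw [eq_inv_of_mul_eq_one_left this, h.finv k.r3]⟩

theorem dd_move {r s w a : Γ} (k : DD φ z f r s w) (e1 : a * r = r * a) (e2 : a * s = s * a) :
    a * w = w * a := by
  have := (h.dd_cj k e1 e2 (w' := a * w * a⁻¹) (by group)).eq
  rw [k.eq] at this
  have e := h.inj this
  calc a * w = a * w * a⁻¹ * a := by group
    _ = w * a := by rw [← e]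

theorem dd_quad {a b c u v w : Γ} (k0 : EE z f a b) (k1 : DD φ z f a c u) (k2 : DD φ z f b c v)
    (k3 : DD φ z f (a * c) (b * c) w) (c0 : b * c = c * b) (c1 : u * c = c * u)
    (c2 : u * b = b * u) (c3 : u * a = a * u) (c4 : v * a = a * v) (c5 : v * b = b * v) :
    u * v = w := by
  apply h.inj
  have p : a * c * (b * c) = a * b := by
    rw [c0, mul_assoc, ← mul_assoc c, h.rsq k1.r2, one_mul]
  have e1 : f (a * c) = f c * f a * φ u := by
    rw [← k1.eq, ← k1.com]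
    calc f (a * c) = (f a * f c)⁻¹ * (f a * f c * f (a * c)) := by group
      _ = _ := by rw [mul_inv_rev, h.finv k1.r1, h.finv k1.r2, ← k1.com]
  have e2 : f (b * c) = f c * f b * φ v := by
    rw [← k2.eq, ← k2.com]
    calc f (b * c) = (f b * f c)⁻¹ * (f b * f c * f (b * c)) := by group
      _ = _ := by rw [mul_inv_rev, h.finv k2.r1, h.finv k2.r2, ← k2.com]
  have uc : Commute (φ u) (f c) := h.com k1.r2 c1
  have ub : Commute (φ u) (f b) := h.com k0.r2 c2
  have ua : Commute (φ u) (f a) := h.com k0.r1 c3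
  have va : Commute (φ v) (f a) := h.com k0.r1 c4
  have vb : Commute (φ v) (f b) := h.com k0.r2 c5
  have ac : Commute (f a) (f c) := k1.com
  have ab : Commute (f a) (f b) := h.ee_com k0
  rw [← k3.eq, p, e1, e2, ← k0.eq, map_mul]
  have s1 : f c * f a * φ u * (f c * f b * φ v) * (f a * f b) =
      f c * f a * (f c * f b) * (φ u * φ v * (f a * f b)) := by
    rw [mul_assoc (f c * f a) (φ u), ← mul_assoc (φ u), (uc.mul_right ub).eq]
    group
  have s2 : φ u * φ v * (f a * f b) = f a * f b * (φ u * φ v) :=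
    (Commute.mul_left (ua.mul_right ub) (va.mul_right vb)).eq
  have s3 : f c * f a * (f c * f b) * (f a * f b) = 1 := by
    rw [mul_assoc (f c), ← mul_assoc (f a), ac.eq, ← mul_assoc, ← mul_assoc, ← mul_assoc,
      h.sq _ k1.r2, one_mul, mul_assoc (f a) (f b), ← ab.eq, ← mul_assoc,
      h.sq _ k0.r1, one_mul, h.sq _ k0.r2]
  rw [s1, s2, ← mul_assoc, s3, one_mul]

theorem of_ln {y s : Γ} (l : Ln φ f z y s) (h1 : IsConj z y) (h2 : IsConj z s)
    (h3 : IsConj z (z * y)) (h4 : IsConj z (y * s)) :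
    EE z f z y ∧ (EE z f y s ∨ DD φ z f y s z) := by
  refine ⟨⟨IsConj.refl z, h1, h3, l.1⟩, ?_⟩
  rcases l.2.2 with e | e
  · exact Or.inl (h.dd_one ⟨h1, h2, h4, l.2.1, by rw [e, map_one]⟩)
  · exact Or.inr ⟨h1, h2, h4, l.2.1, e⟩

/-- pairwise good generators: all conjugates under the generated subgroup are good -/
theorem genl {S : Set Γ} (k : ∀ r ∈ S, ∀ s ∈ S, GG t z f r s) {r s a b : Γ} (hr : r ∈ S)
    (hs : s ∈ S) (ha : a ∈ closure S) (hb : b ∈ closure S) :
    GG t z f (a * r * a⁻¹) (b * s * b⁻¹) := by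
  let B := closure (f '' S)
  have c1 : ∀ x ∈ B, ∀ y ∈ B, Commute x (t * y * t) := by
    have c0 : ∀ x ∈ B, ∀ s ∈ S, Commute x (t * f s * t) := fun x hx s hs => by
      induction hx using closure_induction with
      | mem x hx => obtain ⟨r, hr, rfl⟩ := hx; exact (k r hr s hs).good
      | one => exact Commute.one_left _
      | mul x y _ _ p q => exact p.mul_left q
      | inv x _ p => exact p.inv_left
    intro x hx y hy
    induction hy using closure_induction with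
    | mem y hy => obtain ⟨s, hs, rfl⟩ := hy; exact c0 x hx s hs
    | one => rw [mul_one, h.tt]; exact Commute.one_right _
    | mul y w _ _ p q =>
      have : t * (y * w) * t = t * y * t * (t * w * t) := by
        calc t * (y * w) * t = t * y * (t * t) * w * t := by rw [h.tt]; group
          _ = _ := by group
      rw [this]
      exact p.mul_right q
    | inv y _ p =>
      have : t * y⁻¹ * t = (t * y * t)⁻¹ := by rw [mul_inv_rev, mul_inv_rev, h.tinv, mul_assoc]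
      rw [this]
      exact p.inv_right
  have c2 : ∀ a ∈ closure S, ∃ x ∈ B, ∀ y ∈ B, φ a * y * (φ a)⁻¹ = x * y * x⁻¹ := fun a ha => by
    induction ha using closure_induction with
    | mem a ha =>
      have m : f a ∈ B := subset_closure ⟨a, ha, rfl⟩
      refine ⟨f a, m, fun y hy => ?_⟩
      rw [h.phi (k a ha a ha).r1]
      calc f a * (t * f a * t) * y * (f a * (t * f a * t))⁻¹
          = f a * (t * f a * t * y) * (t * f a * t)⁻¹ * (f a)⁻¹ := by group
        _ = _ := by rw [← (c1 y hy _ m).eq]; group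
    | one => exact ⟨1, B.one_mem, fun y _ => by simp⟩
    | mul a b _ _ p q =>
      obtain ⟨x, hx, p⟩ := p
      obtain ⟨w, hw, q⟩ := q
      refine ⟨x * w, B.mul_mem hx hw, fun y hy => ?_⟩
      calc φ (a * b) * y * (φ (a * b))⁻¹ = φ a * (φ b * y * (φ b)⁻¹) * (φ a)⁻¹ := by
            rw [map_mul]; group
        _ = _ := by rw [q y hy, p _ (B.mul_mem (B.mul_mem hw hy) (B.inv_mem hw))]; group
    | inv a _ p =>
      obtain ⟨x, hx, p⟩ := p
      refine ⟨x⁻¹, B.inv_mem hx, fun y hy => ?_⟩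
      have := p _ (B.mul_mem (B.mul_mem (B.inv_mem hx) hy) hx)
      calc φ a⁻¹ * y * (φ a⁻¹)⁻¹ = (φ a)⁻¹ * (x * (x⁻¹ * y * x) * x⁻¹) * φ a := by
            rw [map_inv]; group
        _ = _ := by rw [← this]; group
  have c3 : ∀ a ∈ closure S, ∀ r ∈ S, f (a * r * a⁻¹) ∈ B := fun a ha r hr => by
    obtain ⟨x, hx, p⟩ := c2 a ha
    have m : f r ∈ B := subset_closure ⟨r, hr, rfl⟩
    rw [h.eq a r (k r hr r hr).r1, p _ m]
    exact B.mul_mem (B.mul_mem hx m) (B.inv_mem hx)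
  exact ⟨(k r hr r hr).r1.trans (isConj_iff.2 ⟨a, rfl⟩), (k s hs s hs).r1.trans
    (isConj_iff.2 ⟨b, rfl⟩), c1 _ (c3 a ha r hr) _ (c3 b hb s hs)⟩

theorem genl_top {S : Set Γ} (k : ∀ r ∈ S, ∀ s ∈ S, GG t z f r s) (hS : closure S = ⊤) {r0 : Γ}
    (h0 : r0 ∈ S) (r s : Γ) (hr : IsConj z r) (hs : IsConj z s) : Good t f r s := by
  obtain ⟨a, rfl⟩ := isConj_iff.1 ((k r0 h0 r0 h0).r1.symm.trans hr)
  obtain ⟨b, rfl⟩ := isConj_iff.1 ((k r0 h0 r0 h0).r1.symm.trans hs)
  exact (h.genl k h0 h0 (hS ▸ mem_top a) (hS ▸ mem_top b)).good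

end Lf

/-! ### Words -/

/-- a lift together with a sound test for equality of words -/
structure WL (φ : Γ →* G) (t : G) (z : Γ) (f : Γ → G) (ν : ℕ → Γ)
    (q : List ℕ → List ℕ → Bool) : Prop where
  lf : Lf φ t z f
  eq : ∀ l r, q l r = true → ev ν l = ev ν r

namespace WL
variable {ν : ℕ → Γ} {q : List ℕ → List ℕ → Bool} (h : WL φ t z f ν q)
include h

theorem cj {a r r' : List ℕ} (e : q (a ++ r) (r' ++ a) = true) :
    ev ν a * ev ν r = ev ν r' * ev ν a := by
  rw [← ev_append, ← ev_append]; exact h.eq _ _ e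

theorem g {r s : List ℕ} (k : GG t z f (ev ν r) (ev ν s)) (a r' s' : List ℕ)
    (e : (q (a ++ r) (r' ++ a) && q (a ++ s) (s' ++ a)) = true) : GG t z f (ev ν r') (ev ν s') :=
  h.lf.gg_cj k (h.cj (Bool.and_eq_true_iff.1 e).1) (h.cj (Bool.and_eq_true_iff.1 e).2)

theorem e {r s : List ℕ} (k : EE z f (ev ν r) (ev ν s)) (a r' s' : List ℕ)
    (e : (q (a ++ r) (r' ++ a) && q (a ++ s) (s' ++ a)) = true) : EE z f (ev ν r') (ev ν s') :=
  h.lf.ee_cj k (h.cj (Bool.and_eq_true_iff.1 e).1) (h.cj (Bool.and_eq_true_iff.1 e).2)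

theorem e' {r s : List ℕ} (k : EE z f (ev ν r) (ev ν s)) (a r' s' : List ℕ)
    (e : (q (a ++ r') (r ++ a) && q (a ++ s') (s ++ a)) = true) :
    EE z f (ev ν r') (ev ν s') := by
  have e1 := h.cj (Bool.and_eq_true_iff.1 e).1
  have e2 := h.cj (Bool.and_eq_true_iff.1 e).2
  refine h.lf.ee_cj (a := (ev ν a)⁻¹) k ?_ ?_
  · rw [inv_mul_eq_iff_eq_mul, ← mul_assoc, e1]; group
  · rw [inv_mul_eq_iff_eq_mul, ← mul_assoc, e2]; group

theorem g' {r s : List ℕ} (k : GG t z f (ev ν r) (ev ν s)) (a r' s' : List ℕ)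
    (e : (q (a ++ r') (r ++ a) && q (a ++ s') (s ++ a)) = true) :
    GG t z f (ev ν r') (ev ν s') := by
  have e1 := h.cj (Bool.and_eq_true_iff.1 e).1
  have e2 := h.cj (Bool.and_eq_true_iff.1 e).2
  refine h.lf.gg_cj (a := (ev ν a)⁻¹) k ?_ ?_
  · rw [inv_mul_eq_iff_eq_mul, ← mul_assoc, e1]; group
  · rw [inv_mul_eq_iff_eq_mul, ← mul_assoc, e2]; group

theorem conj {r r' s : List ℕ} (k1 : GG t z f (ev ν r) (ev ν s)) (k2 : GG t z f (ev ν r') (ev ν s))
    (k3 : GG t z f (ev ν r) (ev ν r')) (w : List ℕ) (e : q w (r' ++ (r ++ r')) = true) :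
    GG t z f (ev ν w) (ev ν s) :=
  h.lf.gg_conj k1 k2 k3 (by rw [h.eq _ _ e, ev_append, ev_append, mul_assoc])

theorem add {r r' s : List ℕ} (k1 : GG t z f (ev ν r) (ev ν s)) (k2 : GG t z f (ev ν r') (ev ν s))
    (k3 : EE z f (ev ν r) (ev ν r')) (w : List ℕ) (e : q w (r ++ r') = true) :
    GG t z f (ev ν w) (ev ν s) :=
  Lf.gg_add k1 k2 k3 (by rw [h.eq _ _ e, ev_append])

theorem mg {r s : List ℕ} (k : EE z f (ev ν r) (ev ν s)) (w : List ℕ) (e : q w (r ++ s) = true)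
    (x : G) : f (ev ν r) * (f (ev ν s) * x) = f (ev ν w) * x := by
  rw [← mul_assoc, k.eq, h.eq _ _ e, ev_append]

theorem sw {r s : List ℕ} (k : EE z f (ev ν r) (ev ν s)) (x : G) :
    f (ev ν r) * (f (ev ν s) * x) = f (ev ν s) * (f (ev ν r) * x) := by
  rw [← mul_assoc, h.lf.ee_com k, mul_assoc]

theorem cn {r : List ℕ} (k : IsConj z (ev ν r)) (x : G) : f (ev ν r) * (f (ev ν r) * x) = x := by
  rw [← mul_assoc, h.lf.sq _ k, one_mul]

theorem grid {a b y : List ℕ} (k : EE z f (ev ν a) (ev ν y)) (hb : IsConj z (ev ν b))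
    (e : q (b ++ a) (a ++ (y ++ b)) = true) {x w : G}
    (p : x * (f (ev ν a) * (f (ev ν b) * w)) =
      x * (f (ev ν b) * (f (ev ν y) * (f (ev ν a) * w)))) : GG t z f (ev ν a) (ev ν b) := by
  refine h.lf.gg_grid k hb ?_ ?_
  · have := h.eq _ _ e
    rwa [ev_append, ev_append, ev_append, ← mul_assoc] at this
  · have := mul_left_cancel p
    rw [← mul_assoc, ← mul_assoc, ← mul_assoc] at this
    exact mul_right_cancel this

theorem d {r s w : List ℕ} (k : DD φ z f (ev ν r) (ev ν s) (ev ν w)) (a r' s' w' : List ℕ)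
    (e : (q (a ++ r) (r' ++ a) && q (a ++ s) (s' ++ a) && q (a ++ w) (w' ++ a)) = true) :
    DD φ z f (ev ν r') (ev ν s') (ev ν w') :=
  h.lf.dd_cj k (h.cj (Bool.and_eq_true_iff.1 (Bool.and_eq_true_iff.1 e).1).1)
    (h.cj (Bool.and_eq_true_iff.1 (Bool.and_eq_true_iff.1 e).1).2)
    (h.cj (Bool.and_eq_true_iff.1 e).2)

theorem d' {r s w : List ℕ} (k : DD φ z f (ev ν r) (ev ν s) (ev ν w)) (a r' s' w' : List ℕ)
    (e : (q (a ++ r') (r ++ a) && q (a ++ s') (s ++ a) && q (a ++ w') (w ++ a)) = true) :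
    DD φ z f (ev ν r') (ev ν s') (ev ν w') := by
  have e1 := h.cj (Bool.and_eq_true_iff.1 (Bool.and_eq_true_iff.1 e).1).1
  have e2 := h.cj (Bool.and_eq_true_iff.1 (Bool.and_eq_true_iff.1 e).1).2
  have e3 := h.cj (Bool.and_eq_true_iff.1 e).2
  refine h.lf.dd_cj (a := (ev ν a)⁻¹) k ?_ ?_ ?_
  · rw [inv_mul_eq_iff_eq_mul, ← mul_assoc, e1]; group
  · rw [inv_mul_eq_iff_eq_mul, ← mul_assoc, e2]; group
  · rw [inv_mul_eq_iff_eq_mul, ← mul_assoc, e3]; group

theorem move {r s w : List ℕ} (k : DD φ z f (ev ν r) (ev ν s) (ev ν w)) (a : List ℕ)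
    (e : (q (a ++ r) (r ++ a) && q (a ++ s) (s ++ a)) = true) :
    ev ν (a ++ w) = ev ν (w ++ a) := by
  rw [ev_append, ev_append]
  exact h.lf.dd_move k (h.cj (Bool.and_eq_true_iff.1 e).1) (h.cj (Bool.and_eq_true_iff.1 e).2)

theorem quad {a b c u v w : List ℕ} (k0 : EE z f (ev ν a) (ev ν b))
    (k1 : DD φ z f (ev ν a) (ev ν c) (ev ν u)) (k2 : DD φ z f (ev ν b) (ev ν c) (ev ν v))
    (k3 : DD φ z f (ev ν (a ++ c)) (ev ν (b ++ c)) (ev ν w))
    (e : ([(b, c), (u, c), (u, b), (u, a), (v, a), (v, b)].all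
      fun p => q (p.1 ++ p.2) (p.2 ++ p.1)) = true) : ev ν (u ++ v) = ev ν w := by
  rw [ev_append, ev_append] at k3
  simp only [List.all_cons, List.all_nil, Bool.and_true, Bool.and_eq_true] at e
  rw [ev_append]
  exact h.lf.dd_quad k0 k1 k2 k3 (h.cj e.1) (h.cj e.2.1) (h.cj e.2.2.1) (h.cj e.2.2.2.1)
    (h.cj e.2.2.2.2.1) (h.cj e.2.2.2.2.2)

theorem root {a r : List ℕ} {i : ℕ} (hz : z = ν i) (e : q (a ++ [i]) (r ++ a) = true) :
    IsConj z (ev ν r) :=
  isConj_of (r := ev ν [i]) (by rw [ev_single, hz]) (h.cj e)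

theorem ln {i j k : ℕ} (hz : z = ν i) (l : Ln φ f z (ν j) (ν k)) (a b c d : List ℕ)
    (e : (q (a ++ [i]) ([j] ++ a) && q (b ++ [i]) ([k] ++ b) && q (c ++ [i]) ([i, j] ++ c) &&
      q (d ++ [i]) ([j, k] ++ d)) = true) :
    EE z f (ev ν [i]) (ev ν [j]) ∧
      (EE z f (ev ν [j]) (ev ν [k]) ∨ DD φ z f (ev ν [j]) (ev ν [k]) (ev ν [i])) := by
  simp only [Bool.and_eq_true] at e
  have e1 := h.root hz e.1.1.1
  have e2 := h.root hz e.1.1.2
  have e3 := h.root hz e.1.2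
  have e4 := h.root hz e.2
  simp only [ev_cons, ev_nil, mul_one, ← hz] at e1 e2 e3 e4 ⊢
  exact h.lf.of_ln l e1 e2 e3 e4

omit h in
theorem flat {S p : List (List ℕ)} (e : p.all S.contains = true) : ev ν p.flatten ∈ wgen ν S := by
  induction p with
  | nil => exact one_mem _
  | cons a p ih =>
    simp only [List.all_cons, Bool.and_eq_true, List.contains_iff_mem] at e
    rw [List.flatten_cons, ev_append]
    exact mul_mem (mem_wgen ν a e.1) (ih e.2)

theorem mem {S : List (List ℕ)} (x : List ℕ) (p : List (List ℕ))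
    (e : (p.all S.contains && q x p.flatten) = true) : ev ν x ∈ wgen ν S := by
  rw [h.eq _ _ (Bool.and_eq_true_iff.1 e).2]
  exact flat (Bool.and_eq_true_iff.1 e).1

theorem all {S : List (List ℕ)}
    (k : List.Pairwise (fun r s => GG t z f (ev ν r) (ev ν s)) S) (h2 : 2 ≤ S.length) :
    ∀ r ∈ S, ∀ s ∈ S, GG t z f (ev ν r) (ev ν s) := by
  have k1 : ∀ r ∈ S, IsConj z (ev ν r) := by
    match S, k, h2 with
    | a :: b :: l, k, _ =>
      intro r hr
      rcases List.mem_cons.1 hr with rfl | hr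
      · exact ((List.pairwise_cons.1 k).1 b (by simp)).r1
      · exact ((List.pairwise_cons.1 k).1 r hr).r2
  exact List.Pairwise.forall_of_forall_of_flip (fun r hr => h.lf.gg_refl (k1 r hr)) k
    (k.imp fun p => h.lf.gg_symm p)

theorem genw {S : List (List ℕ)} (k : ∀ r ∈ S, ∀ s ∈ S, GG t z f (ev ν r) (ev ν s))
    (r s : List ℕ) (a b : List (List ℕ)) (r' s' : List ℕ)
    (e : (S.contains r && S.contains s && a.all S.contains && b.all S.contains &&
      q (a.flatten ++ r) (r' ++ a.flatten) && q (b.flatten ++ s) (s' ++ b.flatten)) = true) :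
    GG t z f (ev ν r') (ev ν s') := by
  simp only [Bool.and_eq_true, List.contains_iff_mem] at e
  obtain ⟨⟨⟨⟨⟨e1, e2⟩, e3⟩, e4⟩, e5⟩, e6⟩ := e
  rw [eq_mul_inv_of_mul_eq (h.cj e5).symm, eq_mul_inv_of_mul_eq (h.cj e6).symm]
  refine h.lf.genl (S := {y | ∃ s ∈ S, ev ν s = y}) ?_ ⟨r, e1, rfl⟩ ⟨s, e2, rfl⟩ (flat e3) (flat e4)
  rintro _ ⟨a, ha, rfl⟩ _ ⟨b, hb, rfl⟩
  exact k a ha b hb

theorem top {S : List (List ℕ)}
    (k : List.Pairwise (fun r s => GG t z f (ev ν r) (ev ν s)) S) (h2 : 2 ≤ S.length)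
    (hS : wgen ν S = ⊤) (r s : Γ) (hr : IsConj z r) (hs : IsConj z s) : Good t f r s := by
  obtain ⟨r0, h0⟩ := List.exists_mem_of_length_pos (l := S) (by omega)
  refine h.lf.genl_top (S := {y | ∃ s ∈ S, ev ν s = y}) ?_ hS ⟨r0, h0, rfl⟩ r s hr hs
  rintro _ ⟨a, ha, rfl⟩ _ ⟨b, hb, rfl⟩
  exact h.all k h2 a ha b hb

end WL

set_option linter.unusedTactic false in
theorem eqns_SClo : True := by
  trivial

end Cfsg.Agent.H46.S95
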