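import Cfsg.Agent.H46.SKit
import Cfsg.Agent.H44.KiHe

/-!
# The facts about the Held group: data and statements
-/

set_option autoImplicit false
open Subgroup

namespace Cfsg.Agent.H46.S95.He
open Cfsg.Agent.H43 Cfsg.Agent.H44 Cfsg.Agent.H44.KiHe

universe u

/-- the model -/
abbrev Γ : Type := ↥(grp 2058 HeM.E)

def Out2 : Prop := ∀ α β : MulAut Γ, Inn α ∨ Inn β ∨ Inn (α * β)

def CL : Prop :=
  ∀ α : MulAut Γ, (∀ l ∈ Cz (ν 1), α l = l) → ∃ c ∈ zpowers (ν 1), α = MulAut.conj c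

def OutS : Prop := OutF Γ ∧ OutM Γ 8 ∧ OiF Γ 16 ∧ OoF Γ

def BaseS : Prop := Base Γ ∧ InnF Γ 512 ∧ SylF Γ 1024

def S2S : Prop := S2F (ν 1)

/-- `HF` for the two classes of lines -/
def HFS : Prop := ∀ i ∈ [2, 6], ∃ y : Cz (ν 1), (y : Γ) = ν i ∧ HF (ν 1) y 1

def RZS : Prop := RC (ν 1) (ν 1) (Cz (ν 1)) (zpowers (ν 1))

def RDS : Prop := ∃ Λ Z, RD (ν 1) (ν 24) Λ Z ∧ ν 24 ∈ Λ

def LCS : Prop := LC (ν 1) (ν 2) (ν 3) ∧ LC (ν 1) (ν 6) (ν 7)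

def CloS : Prop := Clo.{u} (ν 1) [(ν 2, ν 3), (ν 6, ν 7)] []

set_option linter.unusedTactic false in
theorem eqns_SHe : True := by
  first | (have := @Cfsg.Agent.H46.S95.He.Γ.eq_def.{0,0,0}) | (have := @Cfsg.Agent.H46.S95.He.Γ.eq_def.{0,0}) | (have := @Cfsg.Agent.H46.S95.He.Γ.eq_def.{0}) | (have := @Cfsg.Agent.H46.S95.He.Γ.eq_def) | skip
  first | (have := @Cfsg.Agent.H46.S95.He.Γ.eq_1.{0,0,0}) | (have := @Cfsg.Agent.H46.S95.He.Γ.eq_1.{0,0}) | (have := @Cfsg.Agent.H46.S95.He.Γ.eq_1.{0}) | (have := @Cfsg.Agent.H46.S95.He.Γ.eq_1) | skip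
  first | (have := @Cfsg.Agent.H46.S95.He.Γ.eq_2.{0,0,0}) | (have := @Cfsg.Agent.H46.S95.He.Γ.eq_2.{0,0}) | (have := @Cfsg.Agent.H46.S95.He.Γ.eq_2.{0}) | (have := @Cfsg.Agent.H46.S95.He.Γ.eq_2) | skip
  first | (have := @Cfsg.Agent.H46.S95.He.Γ.eq_unfold.{0,0,0}) | (have := @Cfsg.Agent.H46.S95.He.Γ.eq_unfold.{0,0}) | (have := @Cfsg.Agent.H46.S95.He.Γ.eq_unfold.{0}) | (have := @Cfsg.Agent.H46.S95.He.Γ.eq_unfold) | skip
  first | (have := @Cfsg.Agent.H46.S95.He.Γ.congr_simp.{0,0,0}) | (have := @Cfsg.Agent.H46.S95.He.Γ.congr_simp.{0,0}) | (have := @Cfsg.Agent.H46.S95.He.Γ.congr_simp.{0}) | (have := @Cfsg.Agent.H46.S95.He.Γ.congr_simp) | skip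
  first | (have := @Cfsg.Agent.H46.S95.He.Out2.eq_def.{0,0,0}) | (have := @Cfsg.Agent.H46.S95.He.Out2.eq_def.{0,0}) | (have := @Cfsg.Agent.H46.S95.He.Out2.eq_def.{0}) | (have := @Cfsg.Agent.H46.S95.He.Out2.eq_def) | skip
  first | (have := @Cfsg.Agent.H46.S95.He.Out2.eq_1.{0,0,0}) | (have := @Cfsg.Agent.H46.S95.He.Out2.eq_1.{0,0}) | (have := @Cfsg.Agent.H46.S95.He.Out2.eq_1.{0}) | (have := @Cfsg.Agent.H46.S95.He.Out2.eq_1) | skip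
  first | (have := @Cfsg.Agent.H46.S95.He.Out2.eq_2.{0,0,0}) | (have := @Cfsg.Agent.H46.S95.He.Out2.eq_2.{0,0}) | (have := @Cfsg.Agent.H46.S95.He.Out2.eq_2.{0}) | (have := @Cfsg.Agent.H46.S95.He.Out2.eq_2) | skip
  first | (have := @Cfsg.Agent.H46.S95.He.Out2.eq_unfold.{0,0,0}) | (have := @Cfsg.Agent.H46.S95.He.Out2.eq_unfold.{0,0}) | (have := @Cfsg.Agent.H46.S95.He.Out2.eq_unfold.{0}) | (have := @Cfsg.Agent.H46.S95.He.Out2.eq_unfold) | skip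
  first | (have := @Cfsg.Agent.H46.S95.He.Out2.congr_simp.{0,0,0}) | (have := @Cfsg.Agent.H46.S95.He.Out2.congr_simp.{0,0}) | (have := @Cfsg.Agent.H46.S95.He.Out2.congr_simp.{0}) | (have := @Cfsg.Agent.H46.S95.He.Out2.congr_simp) | skip
  first | (have := @Cfsg.Agent.H46.S95.He.CL.eq_def.{0,0,0}) | (have := @Cfsg.Agent.H46.S95.He.CL.eq_def.{0,0}) | (have := @Cfsg.Agent.H46.S95.He.CL.eq_def.{0}) | (have := @Cfsg.Agent.H46.S95.He.CL.eq_def) | skip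
  first | (have := @Cfsg.Agent.H46.S95.He.CL.eq_1.{0,0,0}) | (have := @Cfsg.Agent.H46.S95.He.CL.eq_1.{0,0}) | (have := @Cfsg.Agent.H46.S95.He.CL.eq_1.{0}) | (have := @Cfsg.Agent.H46.S95.He.CL.eq_1) | skip
  first | (have := @Cfsg.Agent.H46.S95.He.CL.eq_2.{0,0,0}) | (have := @Cfsg.Agent.H46.S95.He.CL.eq_2.{0,0}) | (have := @Cfsg.Agent.H46.S95.He.CL.eq_2.{0}) | (have := @Cfsg.Agent.H46.S95.He.CL.eq_2) | skip
  first | (have := @Cfsg.Agent.H46.S95.He.CL.eq_unfold.{0,0,0}) | (have := @Cfsg.Agent.H46.S95.He.CL.eq_unfold.{0,0}) | (have := @Cfsg.Agent.H46.S95.He.CL.eq_unfold.{0}) | (have := @Cfsg.Agent.H46.S95.He.CL.eq_unfold) | skip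
  first | (have := @Cfsg.Agent.H46.S95.He.CL.congr_simp.{0,0,0}) | (have := @Cfsg.Agent.H46.S95.He.CL.congr_simp.{0,0}) | (have := @Cfsg.Agent.H46.S95.He.CL.congr_simp.{0}) | (have := @Cfsg.Agent.H46.S95.He.CL.congr_simp) | skip
  first | (have := @Cfsg.Agent.H46.S95.He.OutS.eq_def.{0,0,0}) | (have := @Cfsg.Agent.H46.S95.He.OutS.eq_def.{0,0}) | (have := @Cfsg.Agent.H46.S95.He.OutS.eq_def.{0}) | (have := @Cfsg.Agent.H46.S95.He.OutS.eq_def) | skip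
  first | (have := @Cfsg.Agent.H46.S95.He.OutS.eq_1.{0,0,0}) | (have := @Cfsg.Agent.H46.S95.He.OutS.eq_1.{0,0}) | (have := @Cfsg.Agent.H46.S95.He.OutS.eq_1.{0}) | (have := @Cfsg.Agent.H46.S95.He.OutS.eq_1) | skip
  first | (have := @Cfsg.Agent.H46.S95.He.OutS.eq_2.{0,0,0}) | (have := @Cfsg.Agent.H46.S95.He.OutS.eq_2.{0,0}) | (have := @Cfsg.Agent.H46.S95.He.OutS.eq_2.{0}) | (have := @Cfsg.Agent.H46.S95.He.OutS.eq_2) | skip
  first | (have := @Cfsg.Agent.H46.S95.He.OutS.eq_unfold.{0,0,0}) | (have := @Cfsg.Agent.H46.S95.He.OutS.eq_unfold.{0,0}) | (have := @Cfsg.Agent.H46.S95.He.OutS.eq_unfold.{0}) | (have := @Cfsg.Agent.H46.S95.He.OutS.eq_unfold) | skip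
  first | (have := @Cfsg.Agent.H46.S95.He.OutS.congr_simp.{0,0,0}) | (have := @Cfsg.Agent.H46.S95.He.OutS.congr_simp.{0,0}) | (have := @Cfsg.Agent.H46.S95.He.OutS.congr_simp.{0}) | (have := @Cfsg.Agent.H46.S95.He.OutS.congr_simp) | skip
  first | (have := @Cfsg.Agent.H46.S95.He.BaseS.eq_def.{0,0,0}) | (have := @Cfsg.Agent.H46.S95.He.BaseS.eq_def.{0,0}) | (have := @Cfsg.Agent.H46.S95.He.BaseS.eq_def.{0}) | (have := @Cfsg.Agent.H46.S95.He.BaseS.eq_def) | skip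
  first | (have := @Cfsg.Agent.H46.S95.He.BaseS.eq_1.{0,0,0}) | (have := @Cfsg.Agent.H46.S95.He.BaseS.eq_1.{0,0}) | (have := @Cfsg.Agent.H46.S95.He.BaseS.eq_1.{0}) | (have := @Cfsg.Agent.H46.S95.He.BaseS.eq_1) | skip
  first | (have := @Cfsg.Agent.H46.S95.He.BaseS.eq_2.{0,0,0}) | (have := @Cfsg.Agent.H46.S95.He.BaseS.eq_2.{0,0}) | (have := @Cfsg.Agent.H46.S95.He.BaseS.eq_2.{0}) | (have := @Cfsg.Agent.H46.S95.He.BaseS.eq_2) | skip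
  first | (have := @Cfsg.Agent.H46.S95.He.BaseS.eq_unfold.{0,0,0}) | (have := @Cfsg.Agent.H46.S95.He.BaseS.eq_unfold.{0,0}) | (have := @Cfsg.Agent.H46.S95.He.BaseS.eq_unfold.{0}) | (have := @Cfsg.Agent.H46.S95.He.BaseS.eq_unfold) | skip
  first | (have := @Cfsg.Agent.H46.S95.He.BaseS.congr_simp.{0,0,0}) | (have := @Cfsg.Agent.H46.S95.He.BaseS.congr_simp.{0,0}) | (have := @Cfsg.Agent.H46.S95.He.BaseS.congr_simp.{0}) | (have := @Cfsg.Agent.H46.S95.He.BaseS.congr_simp) | skip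
  first | (have := @Cfsg.Agent.H46.S95.He.S2S.eq_def.{0,0,0}) | (have := @Cfsg.Agent.H46.S95.He.S2S.eq_def.{0,0}) | (have := @Cfsg.Agent.H46.S95.He.S2S.eq_def.{0}) | (have := @Cfsg.Agent.H46.S95.He.S2S.eq_def) | skip
  first | (have := @Cfsg.Agent.H46.S95.He.S2S.eq_1.{0,0,0}) | (have := @Cfsg.Agent.H46.S95.He.S2S.eq_1.{0,0}) | (have := @Cfsg.Agent.H46.S95.He.S2S.eq_1.{0}) | (have := @Cfsg.Agent.H46.S95.He.S2S.eq_1) | skip
  first | (have := @Cfsg.Agent.H46.S95.He.S2S.eq_2.{0,0,0}) | (have := @Cfsg.Agent.H46.S95.He.S2S.eq_2.{0,0}) | (have := @Cfsg.Agent.H46.S95.He.S2S.eq_2.{0}) | (have := @Cfsg.Agent.H46.S95.He.S2S.eq_2) | skip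
  first | (have := @Cfsg.Agent.H46.S95.He.S2S.eq_unfold.{0,0,0}) | (have := @Cfsg.Agent.H46.S95.He.S2S.eq_unfold.{0,0}) | (have := @Cfsg.Agent.H46.S95.He.S2S.eq_unfold.{0}) | (have := @Cfsg.Agent.H46.S95.He.S2S.eq_unfold) | skip
  first | (have := @Cfsg.Agent.H46.S95.He.S2S.congr_simp.{0,0,0}) | (have := @Cfsg.Agent.H46.S95.He.S2S.congr_simp.{0,0}) | (have := @Cfsg.Agent.H46.S95.He.S2S.congr_simp.{0}) | (have := @Cfsg.Agent.H46.S95.He.S2S.congr_simp) | skip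
  first | (have := @Cfsg.Agent.H46.S95.He.HFS.eq_def.{0,0,0}) | (have := @Cfsg.Agent.H46.S95.He.HFS.eq_def.{0,0}) | (have := @Cfsg.Agent.H46.S95.He.HFS.eq_def.{0}) | (have := @Cfsg.Agent.H46.S95.He.HFS.eq_def) | skip
  first | (have := @Cfsg.Agent.H46.S95.He.HFS.eq_1.{0,0,0}) | (have := @Cfsg.Agent.H46.S95.He.HFS.eq_1.{0,0}) | (have := @Cfsg.Agent.H46.S95.He.HFS.eq_1.{0}) | (have := @Cfsg.Agent.H46.S95.He.HFS.eq_1) | skip
  first | (have := @Cfsg.Agent.H46.S95.He.HFS.eq_2.{0,0,0}) | (have := @Cfsg.Agent.H46.S95.He.HFS.eq_2.{0,0}) | (have := @Cfsg.Agent.H46.S95.He.HFS.eq_2.{0}) | (have := @Cfsg.Agent.H46.S95.He.HFS.eq_2) | skip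
  first | (have := @Cfsg.Agent.H46.S95.He.HFS.eq_unfold.{0,0,0}) | (have := @Cfsg.Agent.H46.S95.He.HFS.eq_unfold.{0,0}) | (have := @Cfsg.Agent.H46.S95.He.HFS.eq_unfold.{0}) | (have := @Cfsg.Agent.H46.S95.He.HFS.eq_unfold) | skip
  first | (have := @Cfsg.Agent.H46.S95.He.HFS.congr_simp.{0,0,0}) | (have := @Cfsg.Agent.H46.S95.He.HFS.congr_simp.{0,0}) | (have := @Cfsg.Agent.H46.S95.He.HFS.congr_simp.{0}) | (have := @Cfsg.Agent.H46.S95.He.HFS.congr_simp) | skip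
  first | (have := @Cfsg.Agent.H46.S95.He.RZS.eq_def.{0,0,0}) | (have := @Cfsg.Agent.H46.S95.He.RZS.eq_def.{0,0}) | (have := @Cfsg.Agent.H46.S95.He.RZS.eq_def.{0}) | (have := @Cfsg.Agent.H46.S95.He.RZS.eq_def) | skip
  first | (have := @Cfsg.Agent.H46.S95.He.RZS.eq_1.{0,0,0}) | (have := @Cfsg.Agent.H46.S95.He.RZS.eq_1.{0,0}) | (have := @Cfsg.Agent.H46.S95.He.RZS.eq_1.{0}) | (have := @Cfsg.Agent.H46.S95.He.RZS.eq_1) | skip
  first | (have := @Cfsg.Agent.H46.S95.He.RZS.eq_2.{0,0,0}) | (have := @Cfsg.Agent.H46.S95.He.RZS.eq_2.{0,0}) | (have := @Cfsg.Agent.H46.S95.He.RZS.eq_2.{0}) | (have := @Cfsg.Agent.H46.S95.He.RZS.eq_2) | skip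
  first | (have := @Cfsg.Agent.H46.S95.He.RZS.eq_unfold.{0,0,0}) | (have := @Cfsg.Agent.H46.S95.He.RZS.eq_unfold.{0,0}) | (have := @Cfsg.Agent.H46.S95.He.RZS.eq_unfold.{0}) | (have := @Cfsg.Agent.H46.S95.He.RZS.eq_unfold) | skip
  first | (have := @Cfsg.Agent.H46.S95.He.RZS.congr_simp.{0,0,0}) | (have := @Cfsg.Agent.H46.S95.He.RZS.congr_simp.{0,0}) | (have := @Cfsg.Agent.H46.S95.He.RZS.congr_simp.{0}) | (have := @Cfsg.Agent.H46.S95.He.RZS.congr_simp) | skip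
  first | (have := @Cfsg.Agent.H46.S95.He.RDS.eq_def.{0,0,0}) | (have := @Cfsg.Agent.H46.S95.He.RDS.eq_def.{0,0}) | (have := @Cfsg.Agent.H46.S95.He.RDS.eq_def.{0}) | (have := @Cfsg.Agent.H46.S95.He.RDS.eq_def) | skip
  first | (have := @Cfsg.Agent.H46.S95.He.RDS.eq_1.{0,0,0}) | (have := @Cfsg.Agent.H46.S95.He.RDS.eq_1.{0,0}) | (have := @Cfsg.Agent.H46.S95.He.RDS.eq_1.{0}) | (have := @Cfsg.Agent.H46.S95.He.RDS.eq_1) | skip
  first | (have := @Cfsg.Agent.H46.S95.He.RDS.eq_2.{0,0,0}) | (have := @Cfsg.Agent.H46.S95.He.RDS.eq_2.{0,0}) | (have := @Cfsg.Agent.H46.S95.He.RDS.eq_2.{0}) | (have := @Cfsg.Agent.H46.S95.He.RDS.eq_2) | skip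
  first | (have := @Cfsg.Agent.H46.S95.He.RDS.eq_unfold.{0,0,0}) | (have := @Cfsg.Agent.H46.S95.He.RDS.eq_unfold.{0,0}) | (have := @Cfsg.Agent.H46.S95.He.RDS.eq_unfold.{0}) | (have := @Cfsg.Agent.H46.S95.He.RDS.eq_unfold) | skip
  first | (have := @Cfsg.Agent.H46.S95.He.RDS.congr_simp.{0,0,0}) | (have := @Cfsg.Agent.H46.S95.He.RDS.congr_simp.{0,0}) | (have := @Cfsg.Agent.H46.S95.He.RDS.congr_simp.{0}) | (have := @Cfsg.Agent.H46.S95.He.RDS.congr_simp) | skip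
  first | (have := @Cfsg.Agent.H46.S95.He.LCS.eq_def.{0,0,0}) | (have := @Cfsg.Agent.H46.S95.He.LCS.eq_def.{0,0}) | (have := @Cfsg.Agent.H46.S95.He.LCS.eq_def.{0}) | (have := @Cfsg.Agent.H46.S95.He.LCS.eq_def) | skip
  first | (have := @Cfsg.Agent.H46.S95.He.LCS.eq_1.{0,0,0}) | (have := @Cfsg.Agent.H46.S95.He.LCS.eq_1.{0,0}) | (have := @Cfsg.Agent.H46.S95.He.LCS.eq_1.{0}) | (have := @Cfsg.Agent.H46.S95.He.LCS.eq_1) | skip
  first | (have := @Cfsg.Agent.H46.S95.He.LCS.eq_2.{0,0,0}) | (have := @Cfsg.Agent.H46.S95.He.LCS.eq_2.{0,0}) | (have := @Cfsg.Agent.H46.S95.He.LCS.eq_2.{0}) | (have := @Cfsg.Agent.H46.S95.He.LCS.eq_2) | skip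
  first | (have := @Cfsg.Agent.H46.S95.He.LCS.eq_unfold.{0,0,0}) | (have := @Cfsg.Agent.H46.S95.He.LCS.eq_unfold.{0,0}) | (have := @Cfsg.Agent.H46.S95.He.LCS.eq_unfold.{0}) | (have := @Cfsg.Agent.H46.S95.He.LCS.eq_unfold) | skip
  first | (have := @Cfsg.Agent.H46.S95.He.LCS.congr_simp.{0,0,0}) | (have := @Cfsg.Agent.H46.S95.He.LCS.congr_simp.{0,0}) | (have := @Cfsg.Agent.H46.S95.He.LCS.congr_simp.{0}) | (have := @Cfsg.Agent.H46.S95.He.LCS.congr_simp) | skip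
  first | (have := @Cfsg.Agent.H46.S95.He.CloS.eq_def.{0,0,0}) | (have := @Cfsg.Agent.H46.S95.He.CloS.eq_def.{0,0}) | (have := @Cfsg.Agent.H46.S95.He.CloS.eq_def.{0}) | (have := @Cfsg.Agent.H46.S95.He.CloS.eq_def) | skip
  first | (have := @Cfsg.Agent.H46.S95.He.CloS.eq_1.{0,0,0}) | (have := @Cfsg.Agent.H46.S95.He.CloS.eq_1.{0,0}) | (have := @Cfsg.Agent.H46.S95.He.CloS.eq_1.{0}) | (have := @Cfsg.Agent.H46.S95.He.CloS.eq_1) | skip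
  first | (have := @Cfsg.Agent.H46.S95.He.CloS.eq_2.{0,0,0}) | (have := @Cfsg.Agent.H46.S95.He.CloS.eq_2.{0,0}) | (have := @Cfsg.Agent.H46.S95.He.CloS.eq_2.{0}) | (have := @Cfsg.Agent.H46.S95.He.CloS.eq_2) | skip
  first | (have := @Cfsg.Agent.H46.S95.He.CloS.eq_unfold.{0,0,0}) | (have := @Cfsg.Agent.H46.S95.He.CloS.eq_unfold.{0,0}) | (have := @Cfsg.Agent.H46.S95.He.CloS.eq_unfold.{0}) | (have := @Cfsg.Agent.H46.S95.He.CloS.eq_unfold) | skip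
  first | (have := @Cfsg.Agent.H46.S95.He.CloS.congr_simp.{0,0,0}) | (have := @Cfsg.Agent.H46.S95.He.CloS.congr_simp.{0,0}) | (have := @Cfsg.Agent.H46.S95.He.CloS.congr_simp.{0}) | (have := @Cfsg.Agent.H46.S95.He.CloS.congr_simp) | skip
  trivial

end Cfsg.Agent.H46.S95.He
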