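import Cfsg.Agent.H46.SClo
import Cfsg.Agent.H46.SHe

/-!
# All pairs of lifts are good: the Held group
-/

set_option autoImplicit false
set_option maxRecDepth 200000
set_option linter.style.longLine false
open Subgroup

namespace Cfsg.Agent.H46.S95.He.Cl
open Cfsg.Agent.H43 Cfsg.Agent.H44 Cfsg.Agent.H44.KiHe Cfsg.Agent.H44.Ki

universe u

variable {G : Type u} [Group G] {φ : Γ →* G} {t : G} {f : Γ → G}

/-- exact lines of words -/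
abbrev ee (f : Γ → G) (r s : List ℕ) : Prop := EE (ν 1) f (ev ν r) (ev ν s)

/-- good pairs of words -/
abbrev gg (t : G) (f : Γ → G) (r s : List ℕ) : Prop := GG t (ν 1) f (ev ν r) (ev ν s)

/-- defective lines of words -/
abbrev dd (φ : Γ →* G) (f : Γ → G) (r s w : List ℕ) : Prop :=
  DD φ (ν 1) f (ev ν r) (ev ν s) (ev ν w)

theorem top : wgen ν [[29], [31], [33], [35], [37], [39], [41]] = ⊤ :=
  eq_top_iff.2 fun ξ _ =>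
    ok.mem_wgen (grp_le_wgen' [29, 31, 33, 35, 37, 39, 41] rfl (by decide +kernel) ξ.2)

section
variable (h : WL φ t (ν 1) f ν D.eqW)
include h

theorem k1 (l : Ln φ f (ν 1) (ν 2) (ν 3)) :
    ee f [1] [2] ∧ (ee f [2] [3] ∨ dd φ f [2] [3] [1]) :=
  h.ln rfl l [41, 35, 39, 35, 41, 33, 35, 37, 33, 29] [39, 41, 35, 39, 41, 31, 33, 31, 29] [41, 39, 35, 37, 31, 33, 35, 39, 41, 31] [33, 35, 31, 33, 35, 41, 37, 35, 33, 35, 37, 29, 31] (by decide +kernel)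

theorem n1 (e : ee f [1] [2]) (k : dd φ f [2] [3] [1]) : False :=
  have k0 : dd φ f [1] [37, 35, 39, 33, 35, 1, 35, 33, 39, 35, 37] [41, 33, 35, 31, 33, 35, 39, 41, 35, 33, 31, 29, 1, 29, 31, 33, 35, 41, 39, 35, 33, 31, 35, 33, 41] := h.d' k [41, 35, 39, 35, 41, 33, 35, 37, 33, 29, 11, 8, 13, 11] _ _ _ (by decide +kernel)
  ok.ne (by decide +kernel) (h.quad e
    (h.d k0 [11, 9] _ [29, 31, 33, 35, 41, 35, 37, 31, 33, 35, 39, 37, 33, 1, 33, 37, 39, 35, 33, 31, 37, 35, 41, 35, 33, 31, 29] [39, 35, 41, 39, 35, 33, 35, 33, 35, 41, 37, 31, 1, 31, 37, 41, 35, 33, 35, 33, 35, 39, 41, 35, 39] (by decide +kernel))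
    (h.d k0 [41, 35, 39, 35, 41, 33, 35, 37, 33, 29, 10, 11, 9] _ _ [41, 29, 31, 33, 35, 37, 31, 33, 35, 41, 35, 39, 1, 39, 35, 41, 35, 33, 31, 37, 35, 33, 31, 29, 41] (by decide +kernel))
    (h.d k0 [41, 35, 39, 35, 41, 31, 29, 31, 11, 10, 11, 16] _ _ [39, 41, 31, 33, 35, 39, 41, 29, 31, 1, 31, 29, 41, 39, 35, 33, 31, 41, 39] (by decide +kernel)) (by decide +kernel))

theorem k2 (l : Ln φ f (ν 1) (ν 6) (ν 7)) :
    ee f [1] [6] ∧ (ee f [6] [7] ∨ dd φ f [6] [7] [1]) :=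
  h.ln rfl l [37, 35, 33, 35, 33, 35, 41, 35, 39, 33, 35, 31] [39, 35, 41, 35, 33, 35, 33, 35, 39] [35, 39, 41, 33, 35, 33, 35, 37, 31, 33, 35, 39, 41, 35] [35, 41, 35, 37, 33, 35, 39, 37, 35, 31, 29] (by decide +kernel)

theorem n2 (e : ee f [1] [2]) (k : dd φ f [6] [7] [1]) : False :=
  have k0 : dd φ f [1] [33, 29, 1, 29, 33] [35, 29, 31, 33, 35, 41, 37, 35, 33, 35, 29, 31, 29, 1, 29, 31, 29, 35, 33, 35, 37, 41, 35, 33, 31, 29, 35] := h.d' k [37, 35, 33, 35, 33, 35, 41, 35, 39, 33, 35, 31, 11, 10, 11, 11, 12] _ _ _ (by decide +kernel)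
  ok.ne (by decide +kernel) (h.quad e
    (h.d k0 [11, 8, 11, 11] _ [41, 37, 35, 39, 37, 31, 29, 1, 29, 31, 37, 39, 35, 37, 41] [6] (by decide +kernel))
    (h.d k0 [41, 35, 39, 35, 41, 33, 35, 37, 33, 29, 11, 8, 11, 14] _ _ [41, 35, 39, 35, 33, 35, 41, 35, 1, 35, 41, 35, 33, 35, 39, 35, 41] (by decide +kernel))
    (h.d k0 [33, 35, 41, 31, 33, 35, 39, 37, 31, 14, 11, 11] _ _ [35, 41, 39, 31, 33, 35, 41, 33, 35, 33, 31, 1, 31, 33, 35, 33, 41, 35, 33, 31, 39, 41, 35] (by decide +kernel)) (by decide +kernel))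

end

/-- the exact lines -/
structure HH (φ : Γ →* G) (t : G) (f : Γ → G) : Prop where
  h : WL φ t (ν 1) f ν D.eqW
  b1 : ee f [1] [2]
  n1 : ee f [2] [3]
  b2 : ee f [1] [6]
  n2 : ee f [6] [7]

variable (H : HH φ t f)
include H

theorem e1 : ee f [1] [37, 35, 39, 33, 35, 1, 35, 33, 39, 35, 37] :=
  H.h.e' H.n1 [41, 35, 39, 35, 41, 33, 35, 37, 33, 29, 11, 8, 13, 11] _ _ (by decide +kernel)

theorem e2 : ee f [1] [33, 29, 1, 29, 33] :=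
  H.h.e' H.n2 [37, 35, 33, 35, 33, 35, 41, 35, 39, 33, 35, 31, 11, 10, 11, 11, 12] _ _ (by decide +kernel)

theorem e3 : ee f [37, 33, 1, 33, 37] [1] :=
  H.h.e (e2 H) [37, 33, 17, 11, 12] _ _ (by decide +kernel)

theorem e4 : ee f [39, 1, 39] [39, 37, 33, 1, 33, 37, 39] :=
  H.h.e (e2 H) [39, 17, 11, 12] _ _ (by decide +kernel)

theorem e5 : ee f [31, 33, 35, 33, 35, 41, 39, 33, 35, 31, 29, 1, 29, 31, 35, 33, 39, 41, 35, 33, 35, 33, 31] [39, 31, 33, 35, 33, 35, 41, 39, 33, 35, 31, 29, 1, 29, 31, 35, 33, 39, 41, 35, 33, 35, 33, 31, 39] :=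
  H.h.e (e1 H) [31, 33, 35, 33, 35, 41, 39, 33, 35, 31, 29, 11, 10, 14, 11] _ _ (by decide +kernel)

theorem p6 : f (ev ν [37, 33, 1, 33, 37]) * (f (ev ν [1]) * (f (ev ν [39, 1, 39]) * (f (ev ν [39, 37, 33, 1, 33, 37, 39]) * (1)))) = f (ev ν [35, 41, 35, 33, 35, 31, 33, 35, 31, 33, 35, 41, 39, 29, 31, 1, 31, 29, 39, 41, 35, 33, 31, 35, 33, 31, 35, 33, 35, 41, 35]) * (1) := by
  rw [H.h.mg (e3 H) [31, 33, 35, 33, 35, 41, 39, 33, 35, 31, 29, 1, 29, 31, 35, 33, 39, 41, 35, 33, 35, 33, 31] (by decide +kernel), H.h.mg (e4 H) [39, 31, 33, 35, 33, 35, 41, 39, 33, 35, 31, 29, 1, 29, 31, 35, 33, 39, 41, 35, 33, 35, 33, 31, 39] (by decide +kernel), H.h.mg (e5 H) [35, 41, 35, 33, 35, 31, 33, 35, 31, 33, 35, 41, 39, 29, 31, 1, 31, 29, 39, 41, 35, 33, 31, 35, 33, 31, 35, 33, 35, 41, 35] (by decide +kernel)]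

theorem e7 : ee f [37, 33, 1, 33, 37] [39, 1, 39] :=
  H.h.e (e2 H) [37, 33, 11, 17, 13] _ _ (by decide +kernel)

theorem e8 : ee f [37, 35, 39, 31, 33, 35, 41, 35, 37, 35, 33, 35, 33, 31, 1, 31, 33, 35, 33, 35, 37, 35, 41, 35, 33, 31, 39, 35, 37] [35, 31, 33, 35, 41, 29, 31, 33, 35, 31, 33, 35, 39, 35, 29, 1, 29, 35, 39, 35, 33, 31, 35, 33, 31, 29, 41, 35, 33, 31, 35] :=
  H.h.e (e2 H) [37, 35, 39, 31, 33, 35, 41, 35, 37, 35, 33, 35, 33, 31, 14, 9, 11, 15] _ _ (by decide +kernel)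

theorem e9 : ee f [1] [39, 37, 33, 1, 33, 37, 39] :=
  H.h.e (e2 H) [11, 17, 13] _ _ (by decide +kernel)

theorem e10 : ee f [35, 39, 35, 31, 33, 35, 41, 35, 37, 35, 33, 35, 31, 1, 31, 35, 33, 35, 37, 35, 41, 35, 33, 31, 35, 39, 35] [31, 33, 35, 41, 35, 33, 35, 39, 33, 35, 33, 35, 29, 31, 1, 31, 29, 35, 33, 35, 33, 39, 35, 33, 35, 41, 35, 33, 31] :=
  H.h.e (e2 H) [35, 39, 35, 31, 33, 35, 41, 35, 37, 35, 33, 35, 31, 15, 9, 11, 14] _ _ (by decide +kernel)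

theorem p11 : f (ev ν [37, 33, 1, 33, 37]) * (f (ev ν [39, 1, 39]) * (f (ev ν [35, 31, 33, 35, 41, 29, 31, 33, 35, 31, 33, 35, 39, 35, 29, 1, 29, 35, 39, 35, 33, 31, 35, 33, 31, 29, 41, 35, 33, 31, 35]) * (f (ev ν [1]) * (f (ev ν [39, 37, 33, 1, 33, 37, 39]) * (1))))) = f (ev ν [35, 41, 35, 33, 35, 31, 33, 35, 31, 33, 35, 41, 39, 29, 31, 1, 31, 29, 39, 41, 35, 33, 31, 35, 33, 31, 35, 33, 35, 41, 35]) * (1) := by
  rw [H.h.mg (e7 H) [37, 35, 39, 31, 33, 35, 41, 35, 37, 35, 33, 35, 33, 31, 1, 31, 33, 35, 33, 35, 37, 35, 41, 35, 33, 31, 39, 35, 37] (by decide +kernel), H.h.mg (e8 H) [35, 39, 35, 31, 33, 35, 41, 35, 37, 35, 33, 35, 31, 1, 31, 35, 33, 35, 37, 35, 41, 35, 33, 31, 35, 39, 35] (by decide +kernel), H.h.mg (e9 H) [31, 33, 35, 41, 35, 33, 35, 39, 33, 35, 33, 35, 29, 31, 1, 31, 29, 35, 33, 35, 33, 39, 35, 33, 35, 41, 35, 33, 31]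 (by decide +kernel), H.h.mg (e10 H) [35, 41, 35, 33, 35, 31, 33, 35, 31, 33, 35, 41, 39, 29, 31, 1, 31, 29, 39, 41, 35, 33, 31, 35, 33, 31, 35, 33, 35, 41, 35] (by decide +kernel)]

theorem e12 : ee f [1] [35, 31, 33, 35, 41, 29, 31, 33, 35, 31, 33, 35, 39, 35, 29, 1, 29, 35, 39, 35, 33, 31, 35, 33, 31, 29, 41, 35, 33, 31, 35] :=
  H.h.e (e2 H) [6] _ _ (by decide +kernel)

theorem g13 : gg t f [1] [39, 1, 39] :=
  H.h.grid (e12 H) (H.h.root (a := [39]) (r := [39, 1, 39]) rfl (by decide +kernel)) (by decide +kernel) ((p6 H).trans (p11 H).symm)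

theorem g14 : gg t f [39, 35, 33, 35, 37, 31, 33, 35, 39, 41, 33, 35, 39, 1, 39, 35, 33, 41, 39, 35, 33, 31, 37, 35, 33, 35, 39] [1] :=
  H.h.g (g13 H) [39, 35, 33, 35, 37, 31, 33, 35, 39, 41, 33, 35, 39, 15, 11, 5, 14] _ _ (by decide +kernel)

theorem e15 : ee f [39, 37, 29, 1, 29, 37, 39] [1] :=
  H.h.e (e2 H) [39, 37, 29, 9, 11, 17, 13] _ _ (by decide +kernel)

theorem e16 : ee f [41, 39, 1, 39, 41] [29, 31, 33, 35, 41, 35, 39, 1, 39, 35, 41, 35, 33, 31, 29] :=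
  H.h.e (e1 H) [41, 39, 12, 15] _ _ (by decide +kernel)

theorem e17 : ee f [35, 31, 33, 35, 41, 33, 35, 39, 29, 31, 33, 35, 41, 31, 33, 35, 1, 35, 33, 31, 41, 35, 33, 31, 29, 39, 35, 33, 41, 35, 33, 31, 35] [29, 31, 33, 35, 39, 41, 35, 33, 35, 41, 31, 1, 31, 41, 35, 33, 35, 41, 39, 35, 33, 31, 29] :=
  H.h.e (e2 H) [35, 31, 33, 35, 41, 33, 35, 39, 29, 31, 33, 35, 41, 31, 33, 35, 9, 11, 10, 12] _ _ (by decide +kernel)

theorem p18 : f (ev ν [39, 37, 29, 1, 29, 37, 39]) * (f (ev ν [1]) * (f (ev ν [41, 39, 1, 39, 41]) * (f (ev ν [29, 31, 33, 35, 41, 35, 39, 1, 39, 35, 41, 35, 33, 31, 29]) * (1)))) = f (ev ν [41, 35, 33, 35, 33, 35, 41, 39, 35, 41, 39, 31, 1, 31, 39, 41, 35, 39, 41, 35, 33, 35, 33, 35, 41]) * (1) := by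
  rw [H.h.mg (e15 H) [35, 31, 33, 35, 41, 33, 35, 39, 29, 31, 33, 35, 41, 31, 33, 35, 1, 35, 33, 31, 41, 35, 33, 31, 29, 39, 35, 33, 41, 35, 33, 31, 35] (by decide +kernel), H.h.mg (e16 H) [29, 31, 33, 35, 39, 41, 35, 33, 35, 41, 31, 1, 31, 41, 35, 33, 35, 41, 39, 35, 33, 31, 29] (by decide +kernel), H.h.mg (e17 H) [41, 35, 33, 35, 33, 35, 41, 39, 35, 41, 39, 31, 1, 31, 39, 41, 35, 39, 41, 35, 33, 35, 33, 35, 41] (by decide +kernel)]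

theorem e19 : ee f [39, 37, 29, 1, 29, 37, 39] [41, 39, 1, 39, 41] :=
  H.h.e (e2 H) [39, 37, 29, 17, 11, 8] _ _ (by decide +kernel)

theorem e20 : ee f [35, 39, 37, 33, 35, 31, 33, 35, 39, 35, 41, 31, 1, 31, 41, 35, 39, 35, 33, 31, 35, 33, 37, 39, 35] [39, 37, 33, 1, 33, 37, 39] :=
  H.h.e (e2 H) [35, 39, 37, 33, 35, 31, 33, 35, 39, 35, 41, 31, 11, 14] _ _ (by decide +kernel)

theorem e21 : ee f [1] [29, 31, 33, 35, 41, 35, 39, 1, 39, 35, 41, 35, 33, 31, 29] :=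
  H.h.e (e2 H) [15, 11, 14] _ _ (by decide +kernel)

theorem e22 : ee f [35, 41, 33, 35, 33, 35, 39, 41, 29, 1, 29, 41, 39, 35, 33, 35, 33, 41, 35] [35, 39, 37, 35, 29, 31, 33, 35, 41, 35, 31, 1, 31, 35, 41, 35, 33, 31, 29, 35, 37, 39, 35] :=
  H.h.e (e2 H) [35, 41, 33, 35, 33, 35, 39, 41, 29, 8, 11, 15, 13] _ _ (by decide +kernel)

theorem p23 : f (ev ν [39, 37, 29, 1, 29, 37, 39]) * (f (ev ν [41, 39, 1, 39, 41]) * (f (ev ν [39, 37, 33, 1, 33, 37, 39]) * (f (ev ν [1]) * (f (ev ν [29, 31, 33, 35, 41, 35, 39, 1, 39, 35, 41, 35, 33, 31, 29]) * (1))))) = f (ev ν [41, 35, 33, 35, 33, 35, 41, 39, 35, 41, 39, 31, 1, 31, 39, 41, 35, 39, 41, 35, 33, 35, 33, 35, 41]) * (1) := by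
  rw [H.h.mg (e19 H) [35, 39, 37, 33, 35, 31, 33, 35, 39, 35, 41, 31, 1, 31, 41, 35, 39, 35, 33, 31, 35, 33, 37, 39, 35] (by decide +kernel), H.h.mg (e20 H) [35, 41, 33, 35, 33, 35, 39, 41, 29, 1, 29, 41, 39, 35, 33, 35, 33, 41, 35] (by decide +kernel), H.h.mg (e21 H) [35, 39, 37, 35, 29, 31, 33, 35, 41, 35, 31, 1, 31, 35, 41, 35, 33, 31, 29, 35, 37, 39, 35] (by decide +kernel), H.h.mg (e22 H) [41, 35, 33, 35, 33, 35, 41, 39, 35, 41, 39, 31, 1, 31, 39, 41, 35, 39, 41, 35, 33, 35, 33, 35, 41] (by decide +kernel)]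

theorem g24 : gg t f [1] [41, 39, 1, 39, 41] :=
  H.h.grid (e9 H) (H.h.root (a := [41, 39]) (r := [41, 39, 1, 39, 41]) rfl (by decide +kernel)) (by decide +kernel) ((p18 H).trans (p23 H).symm)

theorem g25 : gg t f [39, 35, 33, 35, 37, 31, 33, 35, 39, 41, 33, 35, 39, 1, 39, 35, 33, 41, 39, 35, 33, 31, 37, 35, 33, 35, 39] [41, 39, 1, 39, 41] :=
  H.h.g (g13 H) [39, 35, 33, 35, 37, 31, 33, 35, 39, 41, 33, 35, 39, 17, 15, 11] _ _ (by decide +kernel)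

theorem g26 : gg t f [1] [29, 1, 29] :=
  H.h.lf.gg_symm (H.h.conj (g14 H) (H.h.lf.gg_symm (g24 H)) (g25 H) _ (by decide +kernel))

theorem g27 : gg t f [33, 35, 39, 37, 33, 35, 41, 33, 35, 31, 33, 35, 37, 33, 1, 33, 37, 35, 33, 31, 35, 33, 41, 35, 33, 37, 39, 35, 33] [35, 41, 33, 35, 39, 41, 31, 33, 35, 33, 35, 41, 39, 31, 1, 31, 39, 41, 35, 33, 35, 33, 31, 41, 39, 35, 33, 41, 35] :=
  H.h.g (g26 H) [33, 35, 39, 37, 33, 35, 41, 33, 35, 31, 33, 35, 37, 33, 15, 11, 11, 15] _ _ (by decide +kernel)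

theorem g28 : gg t f [9] [35, 41, 33, 35, 39, 41, 31, 33, 35, 33, 35, 41, 39, 31, 1, 31, 39, 41, 35, 33, 35, 33, 31, 41, 39, 35, 33, 41, 35] :=
  H.h.g (g24 H) [35, 39, 41, 33, 35, 37, 31, 33, 35, 33, 35, 41, 39, 29, 31, 16, 14, 11] _ _ (by decide +kernel)

theorem e29 : ee f [39, 35, 41, 35, 39, 31, 29, 31, 29, 1, 29, 31, 29, 31, 39, 35, 41, 35, 39] [1] :=
  H.h.e (e1 H) [39, 35, 41, 35, 39, 31, 29, 31, 29, 13, 14, 11] _ _ (by decide +kernel)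

theorem e30 : ee f [41, 33, 31, 1, 31, 33, 41] [39, 41, 33, 35, 33, 35, 39, 41, 35, 39, 29, 31, 29, 1, 29, 31, 29, 39, 35, 41, 39, 35, 33, 35, 33, 41, 39] :=
  H.h.e (e1 H) [41, 33, 31, 13, 11] _ _ (by decide +kernel)

theorem e31 : ee f [41, 33, 35, 33, 35, 31, 33, 35, 37, 33, 35, 39, 33, 1, 33, 39, 35, 33, 37, 35, 33, 31, 35, 33, 35, 33, 41] [37, 35, 39, 35, 31, 33, 35, 41, 35, 29, 31, 1, 31, 29, 35, 41, 35, 33, 31, 35, 39, 35, 37] :=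
  H.h.e (e1 H) [41, 33, 35, 33, 35, 31, 33, 35, 37, 33, 35, 39, 33, 15] _ _ (by decide +kernel)

theorem p32 : f (ev ν [39, 35, 41, 35, 39, 31, 29, 31, 29, 1, 29, 31, 29, 31, 39, 35, 41, 35, 39]) * (f (ev ν [1]) * (f (ev ν [41, 33, 31, 1, 31, 33, 41]) * (f (ev ν [39, 41, 33, 35, 33, 35, 39, 41, 35, 39, 29, 31, 29, 1, 29, 31, 29, 39, 35, 41, 39, 35, 33, 35, 33, 41, 39]) * (1)))) = f (ev ν [35, 33, 35, 39, 37, 33, 35, 33, 35, 39, 33, 31, 1, 31, 33, 39, 35, 33, 35, 33, 37, 39, 35, 33, 35]) * (1) := by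
  rw [H.h.mg (e29 H) [41, 33, 35, 33, 35, 31, 33, 35, 37, 33, 35, 39, 33, 1, 33, 39, 35, 33, 37, 35, 33, 31, 35, 33, 35, 33, 41] (by decide +kernel), H.h.mg (e30 H) [37, 35, 39, 35, 31, 33, 35, 41, 35, 29, 31, 1, 31, 29, 35, 41, 35, 33, 31, 35, 39, 35, 37] (by decide +kernel), H.h.mg (e31 H) [35, 33, 35, 39, 37, 33, 35, 33, 35, 39, 33, 31, 1, 31, 33, 39, 35, 33, 35, 33, 37, 39, 35, 33, 35] (by decide +kernel)]

theorem e33 : ee f [39, 35, 41, 35, 39, 31, 29, 31, 29, 1, 29, 31, 29, 31, 39, 35, 41, 35, 39] [41, 33, 31, 1, 31, 33, 41] :=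
  H.h.e (e1 H) [39, 35, 41, 35, 39, 31, 29, 31, 29, 7, 8] _ _ (by decide +kernel)

theorem e34 : ee f [35, 39, 41, 35, 37, 33, 35, 41, 35, 31, 29, 1, 29, 31, 35, 41, 35, 33, 37, 35, 41, 39, 35] [35, 39, 37, 33, 35, 33, 35, 39, 37, 35, 41, 31, 29, 1, 29, 31, 41, 35, 37, 39, 35, 33, 35, 33, 37, 39, 35] :=
  H.h.e (e1 H) [35, 39, 41, 35, 37, 33, 35, 41, 35, 31, 29, 10, 11, 8] _ _ (by decide +kernel)

theorem e35 : ee f [1] [39, 41, 33, 35, 33, 35, 39, 41, 35, 39, 29, 31, 29, 1, 29, 31, 29, 39, 35, 41, 39, 35, 33, 35, 33, 41, 39] :=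
  H.h.e (e2 H) [9, 10, 11, 14] _ _ (by decide +kernel)

theorem e36 : ee f [37, 33, 35, 41, 31, 33, 35, 39, 35, 41, 29, 1, 29, 41, 35, 39, 35, 33, 31, 41, 35, 33, 37] [35, 33, 35, 41, 37, 35, 33, 35, 33, 35, 41, 35, 31, 29, 1, 29, 31, 35, 41, 35, 33, 35, 33, 35, 37, 41, 35, 33, 35] :=
  H.h.e (e1 H) [37, 33, 35, 41, 31, 33, 35, 39, 35, 41, 29, 11, 11, 11, 14] _ _ (by decide +kernel)

theorem p37 : f (ev ν [39, 35, 41, 35, 39, 31, 29, 31, 29, 1, 29, 31, 29, 31, 39, 35, 41, 35, 39]) * (f (ev ν [41, 33, 31, 1, 31, 33, 41]) * (f (ev ν [35, 39, 37, 33, 35, 33, 35, 39, 37, 35, 41, 31, 29, 1, 29, 31, 41, 35, 37, 39, 35, 33, 35, 33, 37, 39, 35]) * (f (ev ν [1]) * (f (ev ν [39, 41, 33, 35, 33, 35, 39, 41, 35, 39, 29, 31, 29, 1, 29, 31, 29, 39, 35, 41, 39, 35, 33, 35, 33, 41, 39]) * (1))))) = f (ev ν [35, 33, 35, 39, 37, 33, 35, 33, 35, 39, 33,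 31, 1, 31, 33, 39, 35, 33, 35, 33, 37, 39, 35, 33, 35]) * (1) := by
  rw [H.h.mg (e33 H) [35, 39, 41, 35, 37, 33, 35, 41, 35, 31, 29, 1, 29, 31, 35, 41, 35, 33, 37, 35, 41, 39, 35] (by decide +kernel), H.h.mg (e34 H) [37, 33, 35, 41, 31, 33, 35, 39, 35, 41, 29, 1, 29, 41, 35, 39, 35, 33, 31, 41, 35, 33, 37] (by decide +kernel), H.h.mg (e35 H) [35, 33, 35, 41, 37, 35, 33, 35, 33, 35, 41, 35, 31, 29, 1, 29, 31, 35, 41, 35, 33, 35, 33, 35, 37, 41, 35, 33, 35] (by decide +kernel), H.h.mg (e36 H) [35, 33, 35, 39, 37, 33, 35, 33, 35, 39, 33, 31, 1, 31, 33, 39, 35, 33, 35, 33, 37, 39, 35, 33, 35] (by decide +kernel)]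

theorem e38 : ee f [1] [35, 39, 37, 33, 35, 33, 35, 39, 37, 35, 41, 31, 29, 1, 29, 31, 41, 35, 37, 39, 35, 33, 35, 33, 37, 39, 35] :=
  H.h.e H.b2 [11, 11, 11] _ _ (by decide +kernel)

theorem g39 : gg t f [1] [41, 33, 31, 1, 31, 33, 41] :=
  H.h.grid (e38 H) (H.h.root (a := [41, 33, 31]) (r := [41, 33, 31, 1, 31, 33, 41]) rfl (by decide +kernel)) (by decide +kernel) ((p32 H).trans (p37 H).symm)

theorem g40 : gg t f [1] [41, 35, 39, 35, 33, 35, 37, 31, 33, 35, 39, 35, 41, 29, 1, 29, 41, 35, 39, 35, 33, 31, 37, 35, 33, 35, 39, 35, 41] :=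
  H.h.g (g39 H) [12, 13] _ _ (by decide +kernel)

theorem g41 : gg t f [29, 31, 33, 35, 33, 35, 39, 37, 35, 33, 35, 33, 31, 29, 1, 29, 31, 33, 35, 33, 35, 37, 39, 35, 33, 35, 33, 31, 29] [1] :=
  H.h.g (g13 H) [29, 31, 33, 35, 33, 35, 39, 37, 35, 33, 35, 33, 31, 29, 9, 11, 10, 11, 11] _ _ (by decide +kernel)

theorem e42 : ee f [41, 35, 39, 35, 41, 33, 35, 33, 1, 33, 35, 33, 41, 35, 39, 35, 41] [1] :=
  H.h.e (e1 H) [41, 35, 39, 35, 41, 33, 35, 33, 11, 8, 13, 11] _ _ (by decide +kernel)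

theorem e43 : ee f [35, 39, 33, 35, 29, 1, 29, 35, 33, 39, 35] [39, 35, 37, 35, 33, 35, 39, 35, 1, 35, 39, 35, 33, 35, 37, 35, 39] :=
  H.h.e (e1 H) [35, 39, 33, 35, 29, 11, 10, 12] _ _ (by decide +kernel)

theorem e44 : ee f [41, 35, 29, 31, 33, 35, 39, 33, 35, 37, 29, 1, 29, 37, 35, 33, 39, 35, 33, 31, 29, 35, 41] [37, 35, 39, 33, 35, 31, 33, 35, 41, 35, 33, 1, 33, 35, 41, 35, 33, 31, 35, 33, 39, 35, 37] :=
  H.h.e (e2 H) [41, 35, 29, 31, 33, 35, 39, 33, 35, 37, 29, 17] _ _ (by decide +kernel)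

theorem p45 : f (ev ν [41, 35, 39, 35, 41, 33, 35, 33, 1, 33, 35, 33, 41, 35, 39, 35, 41]) * (f (ev ν [1]) * (f (ev ν [35, 39, 33, 35, 29, 1, 29, 35, 33, 39, 35]) * (f (ev ν [39, 35, 37, 35, 33, 35, 39, 35, 1, 35, 39, 35, 33, 35, 37, 35, 39]) * (1)))) = f (ev ν [31, 33, 35, 41, 33, 35, 31, 33, 35, 41, 31, 29, 1, 29, 31, 41, 35, 33, 31, 35, 33, 41, 35, 33, 31]) * (1) := by
  rw [H.h.mg (e42 H) [41, 35, 29, 31, 33, 35, 39, 33, 35, 37, 29, 1, 29, 37, 35, 33, 39, 35, 33, 31, 29, 35, 41] (by decide +kernel), H.h.mg (e43 H) [37, 35, 39, 33, 35, 31, 33, 35, 41, 35, 33, 1, 33, 35, 41, 35, 33, 31, 35, 33, 39, 35, 37] (by decide +kernel), H.h.mg (e44 H) [31, 33, 35, 41, 33, 35, 31, 33, 35, 41, 31, 29, 1, 29, 31, 41, 35, 33, 31, 35, 33, 41, 35, 33, 31] (by decide +kernel)]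

theorem e46 : ee f [41, 35, 39, 35, 41, 33, 35, 33, 1, 33, 35, 33, 41, 35, 39, 35, 41] [35, 39, 33, 35, 29, 1, 29, 35, 33, 39, 35] :=
  H.h.e (e1 H) [41, 35, 39, 35, 41, 33, 35, 33, 2, 12] _ _ (by decide +kernel)

theorem e47 : ee f [35, 31, 33, 35, 33, 35, 39, 35, 31, 33, 35, 41, 33, 35, 29, 1, 29, 35, 33, 41, 35, 33, 31, 35, 39, 35, 33, 35, 33, 31, 35] [41, 39, 31, 33, 35, 33, 35, 41, 39, 33, 31, 1, 31, 33, 39, 41, 35, 33, 35, 33, 31, 39, 41] :=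
  H.h.e (e1 H) [35, 31, 33, 35, 33, 35, 39, 35, 31, 33, 35, 41, 33, 35, 29, 15, 9, 11] _ _ (by decide +kernel)

theorem e48 : ee f [1] [39, 35, 37, 35, 33, 35, 39, 35, 1, 35, 39, 35, 33, 35, 37, 35, 39] :=
  H.h.e (e1 H) [11, 8, 15, 11] _ _ (by decide +kernel)

theorem e49 : ee f [31, 33, 35, 41, 35, 39, 33, 35, 31, 33, 35, 29, 1, 29, 35, 33, 31, 35, 33, 39, 35, 41, 35, 33, 31] [39, 31, 33, 35, 37, 33, 35, 41, 39, 33, 35, 37, 31, 33, 35, 1, 35, 33, 31, 37, 35, 33, 39, 41, 35, 33, 37, 35, 33, 31, 39] :=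
  H.h.e (e1 H) [31, 33, 35, 41, 35, 39, 33, 35, 31, 33, 35, 29, 14, 13, 11] _ _ (by decide +kernel)

theorem p50 : f (ev ν [41, 35, 39, 35, 41, 33, 35, 33, 1, 33, 35, 33, 41, 35, 39, 35, 41]) * (f (ev ν [35, 39, 33, 35, 29, 1, 29, 35, 33, 39, 35]) * (f (ev ν [41, 39, 31, 33, 35, 33, 35, 41, 39, 33, 31, 1, 31, 33, 39, 41, 35, 33, 35, 33, 31, 39, 41]) * (f (ev ν [1]) * (f (ev ν [39, 35, 37, 35, 33, 35, 39, 35, 1, 35, 39, 35, 33, 35, 37, 35, 39]) * (1))))) = f (ev ν [31, 33, 35, 41, 33, 35, 31, 33, 35, 41, 31, 29, 1, 29, 31, 41, 35, 33, 31, 35, 33, 41, 35, 33, 31]) * (1) := by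
  rw [H.h.mg (e46 H) [35, 31, 33, 35, 33, 35, 39, 35, 31, 33, 35, 41, 33, 35, 29, 1, 29, 35, 33, 41, 35, 33, 31, 35, 39, 35, 33, 35, 33, 31, 35] (by decide +kernel), H.h.mg (e47 H) [31, 33, 35, 41, 35, 39, 33, 35, 31, 33, 35, 29, 1, 29, 35, 33, 31, 35, 33, 39, 35, 41, 35, 33, 31] (by decide +kernel), H.h.mg (e48 H) [39, 31, 33, 35, 37, 33, 35, 41, 39, 33, 35, 37, 31, 33, 35, 1, 35, 33, 31, 37, 35, 33, 39, 41, 35, 33, 37, 35, 33, 31, 39] (by decide +kernel), H.h.mg (e49 H) [31, 33, 35, 41, 33, 35, 31, 33, 35, 41, 31, 29, 1, 29, 31, 41, 35, 33, 31, 35, 33, 41, 35, 33, 31] (by decide +kernel)]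

theorem e51 : ee f [1] [41, 39, 31, 33, 35, 33, 35, 41, 39, 33, 31, 1, 31, 33, 39, 41, 35, 33, 35, 33, 31, 39, 41] :=
  H.h.e (e1 H) [11, 8, 16, 11] _ _ (by decide +kernel)

theorem g52 : gg t f [1] [35, 39, 33, 35, 29, 1, 29, 35, 33, 39, 35] :=
  H.h.grid (e51 H) (H.h.root (a := [35, 39, 33, 35, 29]) (r := [35, 39, 33, 35, 29, 1, 29, 35, 33, 39, 35]) rfl (by decide +kernel)) (by decide +kernel) ((p45 H).trans (p50 H).symm)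

theorem g53 : gg t f [41, 35, 39, 35, 33, 35, 37, 31, 33, 35, 39, 35, 41, 29, 1, 29, 41, 35, 39, 35, 33, 31, 37, 35, 33, 35, 39, 35, 41] [29, 31, 33, 35, 33, 35, 39, 37, 35, 33, 35, 33, 31, 29, 1, 29, 31, 33, 35, 33, 35, 37, 39, 35, 33, 35, 33, 31, 29] :=
  H.h.g (g52 H) [41, 35, 39, 35, 33, 35, 37, 31, 33, 35, 39, 35, 41, 29, 12, 11, 16, 11] _ _ (by decide +kernel)

theorem g54 : gg t f [1] [41, 39, 31, 1, 31, 39, 41] :=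
  H.h.lf.gg_symm (H.h.conj (H.h.lf.gg_symm (g40 H)) (g41 H) (g53 H) _ (by decide +kernel))

theorem g55 : gg t f [9] [33, 35, 39, 37, 33, 35, 41, 33, 35, 31, 33, 35, 37, 33, 1, 33, 37, 35, 33, 31, 35, 33, 41, 35, 33, 37, 39, 35, 33] :=
  H.h.g (g54 H) [35, 39, 41, 33, 35, 37, 31, 33, 35, 33, 35, 41, 39, 29, 31, 4, 13, 12] _ _ (by decide +kernel)

theorem g56 : gg t f [1] [41, 39, 35, 41, 33, 35, 31, 33, 35, 39, 37, 33, 29, 1, 29, 33, 37, 39, 35, 33, 31, 35, 33, 41, 35, 39, 41] :=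
  H.h.g (g39 H) [11, 10, 13] _ _ (by decide +kernel)

theorem g57 : gg t f [39, 1, 39] [1] :=
  H.h.g (g13 H) [39] _ _ (by decide +kernel)

theorem g58 : gg t f [39, 1, 39] [41, 39, 35, 41, 33, 35, 31, 33, 35, 39, 37, 33, 29, 1, 29, 33, 37, 39, 35, 33, 31, 35, 33, 41, 35, 39, 41] :=
  H.h.g (g39 H) [39, 5, 15] _ _ (by decide +kernel)

theorem g59 : gg t f [1] [37, 35, 41, 35, 31, 29, 1, 29, 31, 35, 41, 35, 37] :=
  H.h.lf.gg_symm (H.h.conj (H.h.lf.gg_symm (g56 H)) (g57 H) (H.h.lf.gg_symm (g58 H)) _ (by decide +kernel))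

theorem g60 : gg t f [35, 39, 33, 35, 37, 35, 31, 33, 35, 33, 35, 41, 39, 31, 1, 31, 39, 41, 35, 33, 35, 33, 31, 35, 37, 35, 33, 39, 35] [35, 41, 33, 35, 39, 41, 31, 33, 35, 33, 35, 41, 39, 31, 1, 31, 39, 41, 35, 33, 35, 33, 31, 41, 39, 35, 33, 41, 35] :=
  H.h.g (g59 H) [35, 39, 33, 35, 37, 35, 31, 33, 35, 33, 35, 41, 39, 31, 11, 9] _ _ (by decide +kernel)

theorem g61 : gg t f [35, 37, 33, 35, 31, 33, 35, 33, 35, 39, 35, 33, 31, 1, 31, 33, 35, 39, 35, 33, 35, 33, 31, 35, 33, 37, 35] [1] :=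
  H.h.g (g52 H) [35, 37, 33, 35, 31, 33, 35, 33, 35, 39, 35, 33, 31, 11, 13, 10, 14, 11] _ _ (by decide +kernel)

theorem g62 : gg t f [33, 35, 41, 37, 35, 29, 1, 29, 35, 37, 41, 35, 33] [1] :=
  H.h.g (g13 H) [33, 35, 41, 37, 35, 29, 10, 11, 8] _ _ (by decide +kernel)

theorem g63 : gg t f [33, 35, 41, 37, 35, 29, 1, 29, 35, 37, 41, 35, 33] [35, 37, 33, 35, 31, 33, 35, 33, 35, 39, 35, 33, 31, 1, 31, 33, 35, 39, 35, 33, 35, 33, 31, 35, 33, 37, 35] :=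
  H.h.g (g24 H) [33, 35, 41, 37, 35, 29, 14, 11, 11, 11] _ _ (by decide +kernel)

theorem g64 : gg t f [1] [39, 37, 31, 1, 31, 37, 39] :=
  H.h.lf.gg_symm (H.h.conj (g61 H) (g62 H) (H.h.lf.gg_symm (g63 H)) _ (by decide +kernel))

theorem g65 : gg t f [35, 39, 33, 35, 37, 35, 31, 33, 35, 33, 35, 41, 39, 31, 1, 31, 39, 41, 35, 33, 35, 33, 31, 35, 37, 35, 33, 39, 35] [33, 35, 39, 37, 33, 35, 41, 33, 35, 31, 33, 35, 37, 33, 1, 33, 37, 35, 33, 31, 35, 33, 41, 35, 33, 37, 39, 35, 33] :=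
  H.h.g (g64 H) [35, 39, 33, 35, 37, 35, 31, 33, 35, 33, 35, 41, 39, 31, 17, 3, 11, 12] _ _ (by decide +kernel)

theorem g66 : gg t f [35, 33, 35, 31, 33, 35, 41, 37, 35, 33, 35, 39, 31, 33, 35, 31, 1, 31, 35, 33, 31, 39, 35, 33, 35, 37, 41, 35, 33, 31, 35, 33, 35] [1] :=
  H.h.g (g13 H) [35, 33, 35, 31, 33, 35, 41, 37, 35, 33, 35, 39, 31, 33, 35, 31, 13, 11, 11, 11, 11, 11] _ _ (by decide +kernel)

theorem e67 : ee f [35, 33, 35, 31, 33, 35, 41, 37, 35, 33, 35, 39, 31, 33, 35, 31, 1, 31, 35, 33, 31, 39, 35, 33, 35, 37, 41, 35, 33, 31, 35, 33, 35] [39, 1, 39] :=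
  H.h.e (e2 H) [35, 33, 35, 31, 33, 35, 41, 37, 35, 33, 35, 39, 31, 33, 35, 31, 11, 16, 12] _ _ (by decide +kernel)

theorem g68 : gg t f [1] [37, 29, 1, 29, 37] :=
  H.h.lf.gg_symm (H.h.add (g66 H) (g57 H) (e67 H) _ (by decide +kernel))

theorem g69 : gg t f [35, 39, 33, 35, 37, 35, 31, 33, 35, 33, 35, 41, 39, 31, 1, 31, 39, 41, 35, 33, 35, 33, 31, 35, 37, 35, 33, 39, 35] [9] :=
  H.h.g (g68 H) [35, 39, 33, 35, 37, 35, 31, 33, 35, 33, 35, 41, 39, 31, 11, 11, 10, 11, 11] _ _ (by decide +kernel)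

theorem g70 : gg t f [41] [35, 41, 33, 35, 39, 41, 31, 33, 35, 33, 35, 41, 39, 31, 1, 31, 39, 41, 35, 33, 35, 33, 31, 41, 39, 35, 33, 41, 35] :=
  H.h.g (g39 H) [35, 33, 35, 37, 31, 33, 35, 41, 33, 35, 33, 35, 37, 31, 33, 35, 41, 33, 35, 11, 16, 12, 11] _ _ (by decide +kernel)

theorem g71 : gg t f [41] [33, 35, 39, 37, 33, 35, 41, 33, 35, 31, 33, 35, 37, 33, 1, 33, 37, 35, 33, 31, 35, 33, 41, 35, 33, 37, 39, 35, 33] :=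
  H.h.g (g39 H) [35, 33, 35, 37, 31, 33, 35, 41, 33, 35, 33, 35, 37, 31, 33, 35, 41, 33, 35, 3, 11, 12, 15] _ _ (by decide +kernel)

theorem g72 : gg t f [41] [9] :=
  H.h.g (g68 H) [35, 33, 35, 37, 31, 33, 35, 41, 33, 35, 33, 35, 37, 31, 33, 35, 41, 33, 35, 6, 11] _ _ (by decide +kernel)

theorem g73 : gg t f [41] [35, 39, 33, 35, 37, 35, 31, 33, 35, 33, 35, 41, 39, 31, 1, 31, 39, 41, 35, 33, 35, 33, 31, 35, 37, 35, 33, 39, 35] :=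
  H.h.g (H.h.lf.ee_gg (e2 H)) [35, 33, 35, 37, 31, 33, 35, 41, 33, 35, 33, 35, 37, 31, 33, 35, 41, 33, 35, 6, 14] _ _ (by decide +kernel)

theorem g74 : gg t f [39] [35, 41, 33, 35, 39, 41, 31, 33, 35, 33, 35, 41, 39, 31, 1, 31, 39, 41, 35, 33, 35, 33, 31, 41, 39, 35, 33, 41, 35] :=
  H.h.g (g68 H) [35, 39, 33, 35, 31, 33, 35, 41, 37, 33, 35, 31, 33, 35, 31, 33, 35, 41, 35, 29, 10, 12, 11, 11] _ _ (by decide +kernel)

theorem g75 : gg t f [39] [33, 35, 39, 37, 33, 35, 41, 33, 35, 31, 33, 35, 37, 33, 1, 33, 37, 35, 33, 31, 35, 33, 41, 35, 33, 37, 39, 35, 33] :=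
  H.h.g (g68 H) [35, 39, 33, 35, 31, 33, 35, 41, 37, 33, 35, 31, 33, 35, 31, 33, 35, 41, 35, 29, 11, 8, 14, 11, 11] _ _ (by decide +kernel)

theorem g76 : gg t f [1] [39, 37, 35, 41, 33, 35, 31, 33, 35, 39, 37, 33, 29, 1, 29, 33, 37, 39, 35, 33, 31, 35, 33, 41, 35, 37, 39] :=
  H.h.g (g24 H) [11, 9, 14, 11, 11] _ _ (by decide +kernel)

theorem g77 : gg t f [39, 41, 1, 41, 39] [1] :=
  H.h.g (g24 H) [39, 41] _ _ (by decide +kernel)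

theorem g78 : gg t f [39, 41, 1, 41, 39] [39, 37, 35, 41, 33, 35, 31, 33, 35, 39, 37, 33, 29, 1, 29, 33, 37, 39, 35, 33, 31, 35, 33, 41, 35, 37, 39] :=
  H.h.g (g39 H) [39, 41, 5, 15] _ _ (by decide +kernel)

theorem g79 : gg t f [1] [35, 41, 31, 29, 1, 29, 31, 41, 35] :=
  H.h.lf.gg_symm (H.h.conj (H.h.lf.gg_symm (g76 H)) (g77 H) (H.h.lf.gg_symm (g78 H)) _ (by decide +kernel))

theorem g80 : gg t f [9] [39] :=
  H.h.g (g79 H) [35, 39, 41, 33, 35, 37, 31, 33, 35, 33, 35, 41, 39, 29, 31, 9, 12, 11, 11, 11] _ _ (by decide +kernel)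

theorem g81 : gg t f [35, 39, 33, 35, 37, 35, 31, 33, 35, 33, 35, 41, 39, 31, 1, 31, 39, 41, 35, 33, 35, 33, 31, 35, 37, 35, 33, 39, 35] [39] :=
  H.h.g (g39 H) [35, 39, 33, 35, 37, 35, 31, 33, 35, 33, 35, 41, 39, 31, 4, 13] _ _ (by decide +kernel)

theorem g82 : gg t f [41] [39] :=
  H.h.g (g59 H) [35, 33, 35, 37, 31, 33, 35, 41, 33, 35, 33, 35, 37, 31, 33, 35, 41, 33, 35, 12, 15] _ _ (by decide +kernel)

theorem g83 : gg t f [37] [35, 41, 33, 35, 39, 41, 31, 33, 35, 33, 35, 41, 39, 31, 1, 31, 39, 41, 35, 33, 35, 33, 31, 41, 39, 35, 33, 41, 35] :=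
  H.h.g (H.h.lf.ee_gg (e1 H)) [35, 33, 35, 37, 31, 33, 35, 41, 33, 35, 37, 31, 33, 35, 31, 33, 35, 41, 35, 12] _ _ (by decide +kernel)

theorem g84 : gg t f [37] [33, 35, 39, 37, 33, 35, 41, 33, 35, 31, 33, 35, 37, 33, 1, 33, 37, 35, 33, 31, 35, 33, 41, 35, 33, 37, 39, 35, 33] :=
  H.h.g (H.h.lf.ee_gg (e1 H)) [35, 33, 35, 37, 31, 33, 35, 41, 33, 35, 37, 31, 33, 35, 31, 33, 35, 41, 35, 11, 10, 16, 11] _ _ (by decide +kernel)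

theorem g85 : gg t f [37] [9] :=
  H.h.g (H.h.lf.ee_gg (e2 H)) [35, 33, 35, 37, 31, 33, 35, 41, 33, 35, 37, 31, 33, 35, 31, 33, 35, 41, 35, 17, 12] _ _ (by decide +kernel)

theorem g86 : gg t f [37] [35, 39, 33, 35, 37, 35, 31, 33, 35, 33, 35, 41, 39, 31, 1, 31, 39, 41, 35, 33, 35, 33, 31, 35, 37, 35, 33, 39, 35] :=
  H.h.g (g68 H) [35, 33, 35, 37, 31, 33, 35, 41, 33, 35, 37, 31, 33, 35, 31, 33, 35, 41, 35, 10, 15, 11] _ _ (by decide +kernel)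

theorem g87 : gg t f [37] [41] :=
  H.h.g (H.h.lf.ee_gg H.b2) [35, 33, 35, 37, 31, 33, 35, 41, 33, 35, 37, 31, 33, 35, 31, 33, 35, 41, 35, 12, 11, 11] _ _ (by decide +kernel)

theorem g88 : gg t f [37] [39] :=
  H.h.g (H.h.lf.ee_gg H.b1) [35, 33, 35, 37, 31, 33, 35, 41, 33, 35, 37, 31, 33, 35, 31, 33, 35, 41, 35, 13, 12, 11] _ _ (by decide +kernel)

theorem g89 : gg t f [1] [31, 33, 35, 31, 33, 35, 37, 33, 35, 41, 35, 39, 31, 1, 31, 39, 35, 41, 35, 33, 37, 35, 33, 31, 35, 33, 31] :=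
  H.h.g (g24 H) [16, 11, 8, 11] _ _ (by decide +kernel)

theorem g90 : gg t f [35, 39, 37, 31, 33, 35, 41, 39, 33, 35, 33, 1, 33, 35, 33, 39, 41, 35, 33, 31, 37, 39, 35] [1] :=
  H.h.g (g24 H) [35, 39, 37, 31, 33, 35, 41, 39, 33, 35, 33, 14] _ _ (by decide +kernel)

theorem g91 : gg t f [31, 33, 35, 31, 33, 35, 37, 33, 35, 41, 35, 39, 31, 1, 31, 39, 35, 41, 35, 33, 37, 35, 33, 31, 35, 33, 31] [35, 39, 37, 31, 33, 35, 41, 39, 33, 35, 33, 1, 33, 35, 33, 39, 41, 35, 33, 31, 37, 39, 35] :=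
  H.h.g (g24 H) [31, 33, 35, 31, 33, 35, 37, 33, 35, 41, 35, 39, 31, 3, 11, 10] _ _ (by decide +kernel)

theorem g92 : gg t f [1] [35, 33, 1, 33, 35] :=
  H.h.lf.gg_symm (H.h.conj (H.h.lf.gg_symm (g89 H)) (g90 H) (g91 H) _ (by decide +kernel))

theorem g93 : gg t f [35, 41, 33, 35, 39, 41, 31, 33, 35, 33, 35, 41, 39, 31, 1, 31, 39, 41, 35, 33, 35, 33, 31, 41, 39, 35, 33, 41, 35] [35] :=
  H.h.g (g92 H) [35, 41, 33, 35, 39, 41, 31, 33, 35, 33, 35, 41, 39, 31, 9, 11, 9, 11, 14] _ _ (by decide +kernel)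

theorem g94 : gg t f [35, 31, 33, 35, 41, 37, 31, 33, 35, 39, 31, 33, 35, 41, 31, 29, 1, 29, 31, 41, 35, 33, 31, 39, 35, 33, 31, 37, 41, 35, 33, 31, 35] [1] :=
  H.h.g (g24 H) [35, 31, 33, 35, 41, 37, 31, 33, 35, 39, 31, 33, 35, 41, 31, 29, 10, 13, 12, 11, 11] _ _ (by decide +kernel)

theorem g95 : gg t f [35, 31, 33, 35, 41, 37, 31, 33, 35, 39, 31, 33, 35, 41, 31, 29, 1, 29, 31, 41, 35, 33, 31, 39, 35, 33, 31, 37, 41, 35, 33, 31, 35] [41, 33, 31, 1, 31, 33, 41] :=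
  H.h.g (g26 H) [35, 31, 33, 35, 41, 37, 31, 33, 35, 39, 31, 33, 35, 41, 31, 29, 16, 11, 10] _ _ (by decide +kernel)

theorem g96 : gg t f [1] [31, 1, 31] :=
  H.h.lf.gg_symm (H.h.conj (g94 H) (H.h.lf.gg_symm (g39 H)) (g95 H) _ (by decide +kernel))

theorem g97 : gg t f [35] [33, 35, 39, 37, 33, 35, 41, 33, 35, 31, 33, 35, 37, 33, 1, 33, 37, 35, 33, 31, 35, 33, 41, 35, 33, 37, 39, 35, 33] :=
  H.h.g (g96 H) [33, 35, 31, 33, 35, 41, 37, 33, 35, 31, 33, 35, 31, 33, 35, 41, 35, 29, 11, 9, 8, 11] _ _ (by decide +kernel)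

theorem g98 : gg t f [35] [9] :=
  H.h.g (g96 H) [33, 35, 31, 33, 35, 41, 37, 33, 35, 31, 33, 35, 31, 33, 35, 41, 35, 29, 15, 9, 11, 9, 12, 11] _ _ (by decide +kernel)

theorem g99 : gg t f [35] [35, 39, 33, 35, 37, 35, 31, 33, 35, 33, 35, 41, 39, 31, 1, 31, 39, 41, 35, 33, 35, 33, 31, 35, 37, 35, 33, 39, 35] :=
  H.h.g (g96 H) [33, 35, 31, 33, 35, 41, 37, 33, 35, 31, 33, 35, 31, 33, 35, 41, 35, 29, 10, 12, 11, 10, 15, 11] _ _ (by decide +kernel)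

theorem g100 : gg t f [1] [39, 35, 41, 33, 35, 33, 35, 37, 31, 33, 35, 41, 29, 1, 29, 41, 35, 33, 31, 37, 35, 33, 35, 33, 41, 35, 39] :=
  H.h.g (g54 H) [13, 9, 6, 11] _ _ (by decide +kernel)

theorem g101 : gg t f [1] [41, 35, 31, 29, 1, 29, 31, 35, 41] :=
  H.h.g (g54 H) [9, 6, 13, 11] _ _ (by decide +kernel)

theorem e102 : ee f [39, 35, 41, 33, 35, 33, 35, 37, 31, 33, 35, 41, 29, 1, 29, 41, 35, 33, 31, 37, 35, 33, 35, 33, 41, 35, 39] [41, 35, 31, 29, 1, 29, 31, 35, 41] :=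
  H.h.e (e1 H) [39, 35, 41, 33, 35, 33, 35, 37, 31, 33, 35, 41, 29, 8, 16] _ _ (by decide +kernel)

theorem g103 : gg t f [1] [35, 29, 1, 29, 35] :=
  H.h.lf.gg_symm (H.h.add (H.h.lf.gg_symm (g100 H)) (H.h.lf.gg_symm (g101 H)) (e102 H) _ (by decide +kernel))

theorem g104 : gg t f [35] [41] :=
  H.h.g (g103 H) [33, 35, 31, 33, 35, 41, 37, 33, 35, 31, 33, 35, 31, 33, 35, 41, 35, 29, 10, 11, 15, 11] _ _ (by decide +kernel)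

theorem g105 : gg t f [35] [39] :=
  H.h.g (g103 H) [33, 35, 31, 33, 35, 41, 37, 33, 35, 31, 33, 35, 31, 33, 35, 41, 35, 29, 12, 11, 10, 17] _ _ (by decide +kernel)

theorem g106 : gg t f [35] [37] :=
  H.h.g (g103 H) [33, 35, 31, 33, 35, 41, 37, 33, 35, 31, 33, 35, 31, 33, 35, 41, 35, 29, 8, 11, 14, 11] _ _ (by decide +kernel)

theorem pw : List.Pairwise (fun r s => gg t f r s) [[35], [37], [39], [41], [35, 39, 33, 35, 37, 35, 31, 33, 35, 33, 35, 41, 39, 31, 1, 31, 39, 41, 35, 33, 35, 33, 31, 35, 37, 35, 33, 39, 35], [9], [33, 35, 39, 37, 33, 35, 41, 33, 35, 31, 33, 35, 37, 33, 1, 33, 37, 35, 33, 31, 35, 33, 41, 35, 33, 37, 39, 35, 33], [35, 41, 33, 35, 39, 41, 31, 33, 35, 33, 35, 41, 39, 31, 1, 31, 39, 41, 35, 33, 35, 33, 31, 41, 39, 35, 33, 41, 35]] :=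
  List.Pairwise.cons (List.forall_mem_cons.2 ⟨(g106 H), List.forall_mem_cons.2 ⟨(g105 H), List.forall_mem_cons.2 ⟨(g104 H), List.forall_mem_cons.2 ⟨(g99 H), List.forall_mem_cons.2 ⟨(g98 H), List.forall_mem_cons.2 ⟨(g97 H), List.forall_mem_cons.2 ⟨(H.h.lf.gg_symm (g93 H)), List.forall_mem_nil _⟩⟩⟩⟩⟩⟩⟩)
    (List.Pairwise.cons (List.forall_mem_cons.2 ⟨(g88 H), List.forall_mem_cons.2 ⟨(g87 H), List.forall_mem_cons.2 ⟨(g86 H), List.forall_mem_cons.2 ⟨(g85 H), List.forall_mem_cons.2 ⟨(g84 H), List.forall_mem_cons.2 ⟨(g83 H), List.forall_mem_nil _⟩⟩⟩⟩⟩⟩)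
    (List.Pairwise.cons (List.forall_mem_cons.2 ⟨(H.h.lf.gg_symm (g82 H)), List.forall_mem_cons.2 ⟨(H.h.lf.gg_symm (g81 H)), List.forall_mem_cons.2 ⟨(H.h.lf.gg_symm (g80 H)), List.forall_mem_cons.2 ⟨(g75 H), List.forall_mem_cons.2 ⟨(g74 H), List.forall_mem_nil _⟩⟩⟩⟩⟩)
    (List.Pairwise.cons (List.forall_mem_cons.2 ⟨(g73 H), List.forall_mem_cons.2 ⟨(g72 H), List.forall_mem_cons.2 ⟨(g71 H), List.forall_mem_cons.2 ⟨(g70 H), List.forall_mem_nil _⟩⟩⟩⟩)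
    (List.Pairwise.cons (List.forall_mem_cons.2 ⟨(g69 H), List.forall_mem_cons.2 ⟨(g65 H), List.forall_mem_cons.2 ⟨(g60 H), List.forall_mem_nil _⟩⟩⟩)
    (List.Pairwise.cons (List.forall_mem_cons.2 ⟨(g55 H), List.forall_mem_cons.2 ⟨(g28 H), List.forall_mem_nil _⟩⟩)
    (List.Pairwise.cons (List.forall_mem_cons.2 ⟨(g27 H), List.forall_mem_nil _⟩)
    (List.Pairwise.cons (List.forall_mem_nil _)
    (List.Pairwise.nil))))))))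

theorem gn : wgen ν [[35], [37], [39], [41], [35, 39, 33, 35, 37, 35, 31, 33, 35, 33, 35, 41, 39, 31, 1, 31, 39, 41, 35, 33, 35, 33, 31, 35, 37, 35, 33, 39, 35], [9], [33, 35, 39, 37, 33, 35, 41, 33, 35, 31, 33, 35, 37, 33, 1, 33, 37, 35, 33, 31, 35, 33, 41, 35, 33, 37, 39, 35, 33], [35, 41, 33, 35, 39, 41, 31, 33, 35, 33, 35, 41, 39, 31, 1, 31, 39, 41, 35, 33, 35, 33, 31, 41, 39, 35, 33, 41, 35]] = ⊤ :=
  top_le_iff.1 (top.ge.trans (wgen_le.2 (List.forall_mem_cons.2 ⟨H.h.mem _ [[35, 39, 33, 35, 37, 35, 31, 33, 35, 33, 35, 41, 39, 31, 1, 31, 39, 41, 35, 33, 35, 33, 31, 35, 37, 35, 33, 39, 35], [9]] (by decide +kernel),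
    List.forall_mem_cons.2 ⟨H.h.mem _ [[33, 35, 39, 37, 33, 35, 41, 33, 35, 31, 33, 35, 37, 33, 1, 33, 37, 35, 33, 31, 35, 33, 41, 35, 33, 37, 39, 35, 33], [39]] (by decide +kernel),
    List.forall_mem_cons.2 ⟨H.h.mem _ [[35, 41, 33, 35, 39, 41, 31, 33, 35, 33, 35, 41, 39, 31, 1, 31, 39, 41, 35, 33, 35, 33, 31, 41, 39, 35, 33, 41, 35], [39]] (by decide +kernel),
    List.forall_mem_cons.2 ⟨H.h.mem _ [[35]] (by decide +kernel),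
    List.forall_mem_cons.2 ⟨H.h.mem _ [[37]] (by decide +kernel),
    List.forall_mem_cons.2 ⟨H.h.mem _ [[39]] (by decide +kernel),
    List.forall_mem_cons.2 ⟨H.h.mem _ [[41]] (by decide +kernel),
    List.forall_mem_nil _⟩⟩⟩⟩⟩⟩⟩)))

omit H in
theorem clo : CloS.{u} := fun _ _ φ t f lf l _ r s hr hs => by
  have h : WL φ t (ν 1) f ν D.eqW := ⟨lf, fun _ _ e => ok.eq e⟩
  obtain ⟨a1, a2⟩ := k1 h (l (ν 2, ν 3) (by simp))
  obtain ⟨a3, a4⟩ := k2 h (l (ν 6, ν 7) (by simp))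
  have H : HH φ t f := ⟨h, a1, a2.resolve_right (n1 h a1), a3, a4.resolve_right (n2 h a1)⟩
  exact h.top (pw H) (by decide) (gn H) r s hr hs

set_option linter.unusedTactic false in
theorem eqns_SHeC : True := by
  first | (have := @Cfsg.Agent.H46.S95.He.Cl.ee.eq_def.{0,0,0}) | (have := @Cfsg.Agent.H46.S95.He.Cl.ee.eq_def.{0,0}) | (have := @Cfsg.Agent.H46.S95.He.Cl.ee.eq_def.{0}) | (have := @Cfsg.Agent.H46.S95.He.Cl.ee.eq_def) | skip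
  first | (have := @Cfsg.Agent.H46.S95.He.Cl.ee.eq_1.{0,0,0}) | (have := @Cfsg.Agent.H46.S95.He.Cl.ee.eq_1.{0,0}) | (have := @Cfsg.Agent.H46.S95.He.Cl.ee.eq_1.{0}) | (have := @Cfsg.Agent.H46.S95.He.Cl.ee.eq_1) | skip
  first | (have := @Cfsg.Agent.H46.S95.He.Cl.ee.eq_2.{0,0,0}) | (have := @Cfsg.Agent.H46.S95.He.Cl.ee.eq_2.{0,0}) | (have := @Cfsg.Agent.H46.S95.He.Cl.ee.eq_2.{0}) | (have := @Cfsg.Agent.H46.S95.He.Cl.ee.eq_2) | skip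
  first | (have := @Cfsg.Agent.H46.S95.He.Cl.ee.eq_unfold.{0,0,0}) | (have := @Cfsg.Agent.H46.S95.He.Cl.ee.eq_unfold.{0,0}) | (have := @Cfsg.Agent.H46.S95.He.Cl.ee.eq_unfold.{0}) | (have := @Cfsg.Agent.H46.S95.He.Cl.ee.eq_unfold) | skip
  first | (have := @Cfsg.Agent.H46.S95.He.Cl.ee.congr_simp.{0,0,0}) | (have := @Cfsg.Agent.H46.S95.He.Cl.ee.congr_simp.{0,0}) | (have := @Cfsg.Agent.H46.S95.He.Cl.ee.congr_simp.{0}) | (have := @Cfsg.Agent.H46.S95.He.Cl.ee.congr_simp) | skip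
  first | (have := @Cfsg.Agent.H46.S95.He.Cl.gg.eq_def.{0,0,0}) | (have := @Cfsg.Agent.H46.S95.He.Cl.gg.eq_def.{0,0}) | (have := @Cfsg.Agent.H46.S95.He.Cl.gg.eq_def.{0}) | (have := @Cfsg.Agent.H46.S95.He.Cl.gg.eq_def) | skip
  first | (have := @Cfsg.Agent.H46.S95.He.Cl.gg.eq_1.{0,0,0}) | (have := @Cfsg.Agent.H46.S95.He.Cl.gg.eq_1.{0,0}) | (have := @Cfsg.Agent.H46.S95.He.Cl.gg.eq_1.{0}) | (have := @Cfsg.Agent.H46.S95.He.Cl.gg.eq_1) | skip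
  first | (have := @Cfsg.Agent.H46.S95.He.Cl.gg.eq_2.{0,0,0}) | (have := @Cfsg.Agent.H46.S95.He.Cl.gg.eq_2.{0,0}) | (have := @Cfsg.Agent.H46.S95.He.Cl.gg.eq_2.{0}) | (have := @Cfsg.Agent.H46.S95.He.Cl.gg.eq_2) | skip
  first | (have := @Cfsg.Agent.H46.S95.He.Cl.gg.eq_unfold.{0,0,0}) | (have := @Cfsg.Agent.H46.S95.He.Cl.gg.eq_unfold.{0,0}) | (have := @Cfsg.Agent.H46.S95.He.Cl.gg.eq_unfold.{0}) | (have := @Cfsg.Agent.H46.S95.He.Cl.gg.eq_unfold) | skip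
  first | (have := @Cfsg.Agent.H46.S95.He.Cl.gg.congr_simp.{0,0,0}) | (have := @Cfsg.Agent.H46.S95.He.Cl.gg.congr_simp.{0,0}) | (have := @Cfsg.Agent.H46.S95.He.Cl.gg.congr_simp.{0}) | (have := @Cfsg.Agent.H46.S95.He.Cl.gg.congr_simp) | skip
  first | (have := @Cfsg.Agent.H46.S95.He.Cl.dd.eq_def.{0,0,0}) | (have := @Cfsg.Agent.H46.S95.He.Cl.dd.eq_def.{0,0}) | (have := @Cfsg.Agent.H46.S95.He.Cl.dd.eq_def.{0}) | (have := @Cfsg.Agent.H46.S95.He.Cl.dd.eq_def) | skip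
  first | (have := @Cfsg.Agent.H46.S95.He.Cl.dd.eq_1.{0,0,0}) | (have := @Cfsg.Agent.H46.S95.He.Cl.dd.eq_1.{0,0}) | (have := @Cfsg.Agent.H46.S95.He.Cl.dd.eq_1.{0}) | (have := @Cfsg.Agent.H46.S95.He.Cl.dd.eq_1) | skip
  first | (have := @Cfsg.Agent.H46.S95.He.Cl.dd.eq_2.{0,0,0}) | (have := @Cfsg.Agent.H46.S95.He.Cl.dd.eq_2.{0,0}) | (have := @Cfsg.Agent.H46.S95.He.Cl.dd.eq_2.{0}) | (have := @Cfsg.Agent.H46.S95.He.Cl.dd.eq_2) | skip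
  first | (have := @Cfsg.Agent.H46.S95.He.Cl.dd.eq_unfold.{0,0,0}) | (have := @Cfsg.Agent.H46.S95.He.Cl.dd.eq_unfold.{0,0}) | (have := @Cfsg.Agent.H46.S95.He.Cl.dd.eq_unfold.{0}) | (have := @Cfsg.Agent.H46.S95.He.Cl.dd.eq_unfold) | skip
  first | (have := @Cfsg.Agent.H46.S95.He.Cl.dd.congr_simp.{0,0,0}) | (have := @Cfsg.Agent.H46.S95.He.Cl.dd.congr_simp.{0,0}) | (have := @Cfsg.Agent.H46.S95.He.Cl.dd.congr_simp.{0}) | (have := @Cfsg.Agent.H46.S95.He.Cl.dd.congr_simp) | skip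
  trivial

end Cfsg.Agent.H46.S95.He.Cl
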