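import Cfsg.Agent.H46.SKit
import Cfsg.Agent.H59.OnO

/-!
# The facts about the O'Nan group: data and statements
-/

set_option autoImplicit false
open scoped commutatorElement
open Subgroup

namespace Cfsg.Agent.H46.S95.On
open Cfsg.Agent.H44 Cfsg.Agent.H59.On

universe u

noncomputable def ζ : Γ := ev ν [3, 7, 3, 8]

noncomputable def B : Subgroup Γ := wgen ν [[3, 7, 3, 8], [4, 7, 4, 8], [3, 7, 4]]

noncomputable def V : Subgroup Γ := wgen ν [[1], [6], [4, 7, 3, 4, 7, 3]]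

/-- the normaliser in `C(ζ)` of the frame `4 ∘ 2^(1+4)` containing `ν 4` -/
noncomputable def P : Subgroup Γ := wgen ν [[1], [4], [6], [3, 7], [3, 4, 3], [5, 6, 4, 5]]

noncomputable def σ : Γ :=
  ev ν [2, 3, 4, 3, 8, 2, 7, 2, 3, 4, 3, 2, 5, 4, 3, 4, 8, 5, 7, 5, 4, 3, 4, 5]

def OutS : Prop := OutF Γ ∧ OutM Γ 8 ∧ OiF Γ 16 ∧ OoF Γ

def BaseS : Prop := Base Γ ∧ InnF Γ 512 ∧ SylF Γ 512 ∧ S2F (ν 1)

def BVS : Prop := BV (ν 1) ζ B V ∧ OX (ν 1) ζ (ν 3) ∧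
  ∀ α : MulAut Γ, (∀ v ∈ V, α v = v) → (∀ b ∈ B, α b = b) ∨ ∀ b ∈ B, α b = b⁻¹

def RDS : Prop := RD (ν 1) (ν 1) (Cz ζ) (zpowers ζ) ∧ ⁅Cz (ν 1), Cz (ν 1)⁆ ≤ Cz ζ

def VchS : Prop := (∀ l ∈ Cz ζ, l ∈ centralizer (V : Set Γ) → l ∈ B) ∧
  ∀ θ : MulAut (Cz ζ), ∃ c ∈ Cz ζ, ∀ v : Cz ζ, (v : Γ) ∈ V → c * θ v * c⁻¹ ∈ V

def InBS : Prop := ∀ θ : MulAut (Cz ζ), (∀ b : Cz ζ, (b : Γ) ∈ B → θ b = b) →
  ∃ c ∈ B, ∀ l : Cz ζ, (θ l : Γ) = c * l * c⁻¹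

def OAS : Prop := OA (ν 1) ζ B V

def OBS : Prop := OB (ν 1) ζ (ν 3) B V ∧ OF (ν 1) ζ (ν 3) σ B V

def LCS : Prop := LC (ν 1) (ν 6) (ν 4) ∧ OE (ν 1) ζ (ν 3) P

def CloES : Prop := CloE.{u} (ν 1) (ν 6) (ν 4)

def EtaS : Prop := Eta1.{u} (ν 1) ζ P V

/-- exact lines and one more good pair make all pairs good -/
def CloS : Prop :=
  ∀ (G : Type u) [Group G] (φ : Γ →* G) (t : G) (f : Γ → G), Lf φ t (ν 1) f → Ex (ν 1) f →
    Good t f (ν 3) (ν 3 * ζ) → ∀ r s, IsConj (ν 1) r → IsConj (ν 1) s → Good t f r s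

set_option linter.unusedTactic false in
theorem eqns_SOn : True := by
  first | (have := @Cfsg.Agent.H46.S95.On.ζ.eq_def.{0,0,0}) | (have := @Cfsg.Agent.H46.S95.On.ζ.eq_def.{0,0}) | (have := @Cfsg.Agent.H46.S95.On.ζ.eq_def.{0}) | (have := @Cfsg.Agent.H46.S95.On.ζ.eq_def) | skip
  first | (have := @Cfsg.Agent.H46.S95.On.ζ.eq_1.{0,0,0}) | (have := @Cfsg.Agent.H46.S95.On.ζ.eq_1.{0,0}) | (have := @Cfsg.Agent.H46.S95.On.ζ.eq_1.{0}) | (have := @Cfsg.Agent.H46.S95.On.ζ.eq_1) | skip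
  first | (have := @Cfsg.Agent.H46.S95.On.ζ.eq_2.{0,0,0}) | (have := @Cfsg.Agent.H46.S95.On.ζ.eq_2.{0,0}) | (have := @Cfsg.Agent.H46.S95.On.ζ.eq_2.{0}) | (have := @Cfsg.Agent.H46.S95.On.ζ.eq_2) | skip
  first | (have := @Cfsg.Agent.H46.S95.On.ζ.eq_unfold.{0,0,0}) | (have := @Cfsg.Agent.H46.S95.On.ζ.eq_unfold.{0,0}) | (have := @Cfsg.Agent.H46.S95.On.ζ.eq_unfold.{0}) | (have := @Cfsg.Agent.H46.S95.On.ζ.eq_unfold) | skip
  first | (have := @Cfsg.Agent.H46.S95.On.ζ.congr_simp.{0,0,0}) | (have := @Cfsg.Agent.H46.S95.On.ζ.congr_simp.{0,0}) | (have := @Cfsg.Agent.H46.S95.On.ζ.congr_simp.{0}) | (have := @Cfsg.Agent.H46.S95.On.ζ.congr_simp) | skip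
  first | (have := @Cfsg.Agent.H46.S95.On.B.eq_def.{0,0,0}) | (have := @Cfsg.Agent.H46.S95.On.B.eq_def.{0,0}) | (have := @Cfsg.Agent.H46.S95.On.B.eq_def.{0}) | (have := @Cfsg.Agent.H46.S95.On.B.eq_def) | skip
  first | (have := @Cfsg.Agent.H46.S95.On.B.eq_1.{0,0,0}) | (have := @Cfsg.Agent.H46.S95.On.B.eq_1.{0,0}) | (have := @Cfsg.Agent.H46.S95.On.B.eq_1.{0}) | (have := @Cfsg.Agent.H46.S95.On.B.eq_1) | skip
  first | (have := @Cfsg.Agent.H46.S95.On.B.eq_2.{0,0,0}) | (have := @Cfsg.Agent.H46.S95.On.B.eq_2.{0,0}) | (have := @Cfsg.Agent.H46.S95.On.B.eq_2.{0}) | (have := @Cfsg.Agent.H46.S95.On.B.eq_2) | skip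
  first | (have := @Cfsg.Agent.H46.S95.On.B.eq_unfold.{0,0,0}) | (have := @Cfsg.Agent.H46.S95.On.B.eq_unfold.{0,0}) | (have := @Cfsg.Agent.H46.S95.On.B.eq_unfold.{0}) | (have := @Cfsg.Agent.H46.S95.On.B.eq_unfold) | skip
  first | (have := @Cfsg.Agent.H46.S95.On.B.congr_simp.{0,0,0}) | (have := @Cfsg.Agent.H46.S95.On.B.congr_simp.{0,0}) | (have := @Cfsg.Agent.H46.S95.On.B.congr_simp.{0}) | (have := @Cfsg.Agent.H46.S95.On.B.congr_simp) | skip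
  first | (have := @Cfsg.Agent.H46.S95.On.V.eq_def.{0,0,0}) | (have := @Cfsg.Agent.H46.S95.On.V.eq_def.{0,0}) | (have := @Cfsg.Agent.H46.S95.On.V.eq_def.{0}) | (have := @Cfsg.Agent.H46.S95.On.V.eq_def) | skip
  first | (have := @Cfsg.Agent.H46.S95.On.V.eq_1.{0,0,0}) | (have := @Cfsg.Agent.H46.S95.On.V.eq_1.{0,0}) | (have := @Cfsg.Agent.H46.S95.On.V.eq_1.{0}) | (have := @Cfsg.Agent.H46.S95.On.V.eq_1) | skip
  first | (have := @Cfsg.Agent.H46.S95.On.V.eq_2.{0,0,0}) | (have := @Cfsg.Agent.H46.S95.On.V.eq_2.{0,0}) | (have := @Cfsg.Agent.H46.S95.On.V.eq_2.{0}) | (have := @Cfsg.Agent.H46.S95.On.V.eq_2) | skip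
  first | (have := @Cfsg.Agent.H46.S95.On.V.eq_unfold.{0,0,0}) | (have := @Cfsg.Agent.H46.S95.On.V.eq_unfold.{0,0}) | (have := @Cfsg.Agent.H46.S95.On.V.eq_unfold.{0}) | (have := @Cfsg.Agent.H46.S95.On.V.eq_unfold) | skip
  first | (have := @Cfsg.Agent.H46.S95.On.V.congr_simp.{0,0,0}) | (have := @Cfsg.Agent.H46.S95.On.V.congr_simp.{0,0}) | (have := @Cfsg.Agent.H46.S95.On.V.congr_simp.{0}) | (have := @Cfsg.Agent.H46.S95.On.V.congr_simp) | skip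
  first | (have := @Cfsg.Agent.H46.S95.On.P.eq_def.{0,0,0}) | (have := @Cfsg.Agent.H46.S95.On.P.eq_def.{0,0}) | (have := @Cfsg.Agent.H46.S95.On.P.eq_def.{0}) | (have := @Cfsg.Agent.H46.S95.On.P.eq_def) | skip
  first | (have := @Cfsg.Agent.H46.S95.On.P.eq_1.{0,0,0}) | (have := @Cfsg.Agent.H46.S95.On.P.eq_1.{0,0}) | (have := @Cfsg.Agent.H46.S95.On.P.eq_1.{0}) | (have := @Cfsg.Agent.H46.S95.On.P.eq_1) | skip
  first | (have := @Cfsg.Agent.H46.S95.On.P.eq_2.{0,0,0}) | (have := @Cfsg.Agent.H46.S95.On.P.eq_2.{0,0}) | (have := @Cfsg.Agent.H46.S95.On.P.eq_2.{0}) | (have := @Cfsg.Agent.H46.S95.On.P.eq_2) | skip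
  first | (have := @Cfsg.Agent.H46.S95.On.P.eq_unfold.{0,0,0}) | (have := @Cfsg.Agent.H46.S95.On.P.eq_unfold.{0,0}) | (have := @Cfsg.Agent.H46.S95.On.P.eq_unfold.{0}) | (have := @Cfsg.Agent.H46.S95.On.P.eq_unfold) | skip
  first | (have := @Cfsg.Agent.H46.S95.On.P.congr_simp.{0,0,0}) | (have := @Cfsg.Agent.H46.S95.On.P.congr_simp.{0,0}) | (have := @Cfsg.Agent.H46.S95.On.P.congr_simp.{0}) | (have := @Cfsg.Agent.H46.S95.On.P.congr_simp) | skip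
  first | (have := @Cfsg.Agent.H46.S95.On.σ.eq_def.{0,0,0}) | (have := @Cfsg.Agent.H46.S95.On.σ.eq_def.{0,0}) | (have := @Cfsg.Agent.H46.S95.On.σ.eq_def.{0}) | (have := @Cfsg.Agent.H46.S95.On.σ.eq_def) | skip
  first | (have := @Cfsg.Agent.H46.S95.On.σ.eq_1.{0,0,0}) | (have := @Cfsg.Agent.H46.S95.On.σ.eq_1.{0,0}) | (have := @Cfsg.Agent.H46.S95.On.σ.eq_1.{0}) | (have := @Cfsg.Agent.H46.S95.On.σ.eq_1) | skip
  first | (have := @Cfsg.Agent.H46.S95.On.σ.eq_2.{0,0,0}) | (have := @Cfsg.Agent.H46.S95.On.σ.eq_2.{0,0}) | (have := @Cfsg.Agent.H46.S95.On.σ.eq_2.{0}) | (have := @Cfsg.Agent.H46.S95.On.σ.eq_2) | skip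
  first | (have := @Cfsg.Agent.H46.S95.On.σ.eq_unfold.{0,0,0}) | (have := @Cfsg.Agent.H46.S95.On.σ.eq_unfold.{0,0}) | (have := @Cfsg.Agent.H46.S95.On.σ.eq_unfold.{0}) | (have := @Cfsg.Agent.H46.S95.On.σ.eq_unfold) | skip
  first | (have := @Cfsg.Agent.H46.S95.On.σ.congr_simp.{0,0,0}) | (have := @Cfsg.Agent.H46.S95.On.σ.congr_simp.{0,0}) | (have := @Cfsg.Agent.H46.S95.On.σ.congr_simp.{0}) | (have := @Cfsg.Agent.H46.S95.On.σ.congr_simp) | skip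
  first | (have := @Cfsg.Agent.H46.S95.On.OutS.eq_def.{0,0,0}) | (have := @Cfsg.Agent.H46.S95.On.OutS.eq_def.{0,0}) | (have := @Cfsg.Agent.H46.S95.On.OutS.eq_def.{0}) | (have := @Cfsg.Agent.H46.S95.On.OutS.eq_def) | skip
  first | (have := @Cfsg.Agent.H46.S95.On.OutS.eq_1.{0,0,0}) | (have := @Cfsg.Agent.H46.S95.On.OutS.eq_1.{0,0}) | (have := @Cfsg.Agent.H46.S95.On.OutS.eq_1.{0}) | (have := @Cfsg.Agent.H46.S95.On.OutS.eq_1) | skip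
  first | (have := @Cfsg.Agent.H46.S95.On.OutS.eq_2.{0,0,0}) | (have := @Cfsg.Agent.H46.S95.On.OutS.eq_2.{0,0}) | (have := @Cfsg.Agent.H46.S95.On.OutS.eq_2.{0}) | (have := @Cfsg.Agent.H46.S95.On.OutS.eq_2) | skip
  first | (have := @Cfsg.Agent.H46.S95.On.OutS.eq_unfold.{0,0,0}) | (have := @Cfsg.Agent.H46.S95.On.OutS.eq_unfold.{0,0}) | (have := @Cfsg.Agent.H46.S95.On.OutS.eq_unfold.{0}) | (have := @Cfsg.Agent.H46.S95.On.OutS.eq_unfold) | skip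
  first | (have := @Cfsg.Agent.H46.S95.On.OutS.congr_simp.{0,0,0}) | (have := @Cfsg.Agent.H46.S95.On.OutS.congr_simp.{0,0}) | (have := @Cfsg.Agent.H46.S95.On.OutS.congr_simp.{0}) | (have := @Cfsg.Agent.H46.S95.On.OutS.congr_simp) | skip
  first | (have := @Cfsg.Agent.H46.S95.On.BaseS.eq_def.{0,0,0}) | (have := @Cfsg.Agent.H46.S95.On.BaseS.eq_def.{0,0}) | (have := @Cfsg.Agent.H46.S95.On.BaseS.eq_def.{0}) | (have := @Cfsg.Agent.H46.S95.On.BaseS.eq_def) | skip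
  first | (have := @Cfsg.Agent.H46.S95.On.BaseS.eq_1.{0,0,0}) | (have := @Cfsg.Agent.H46.S95.On.BaseS.eq_1.{0,0}) | (have := @Cfsg.Agent.H46.S95.On.BaseS.eq_1.{0}) | (have := @Cfsg.Agent.H46.S95.On.BaseS.eq_1) | skip
  first | (have := @Cfsg.Agent.H46.S95.On.BaseS.eq_2.{0,0,0}) | (have := @Cfsg.Agent.H46.S95.On.BaseS.eq_2.{0,0}) | (have := @Cfsg.Agent.H46.S95.On.BaseS.eq_2.{0}) | (have := @Cfsg.Agent.H46.S95.On.BaseS.eq_2) | skip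
  first | (have := @Cfsg.Agent.H46.S95.On.BaseS.eq_unfold.{0,0,0}) | (have := @Cfsg.Agent.H46.S95.On.BaseS.eq_unfold.{0,0}) | (have := @Cfsg.Agent.H46.S95.On.BaseS.eq_unfold.{0}) | (have := @Cfsg.Agent.H46.S95.On.BaseS.eq_unfold) | skip
  first | (have := @Cfsg.Agent.H46.S95.On.BaseS.congr_simp.{0,0,0}) | (have := @Cfsg.Agent.H46.S95.On.BaseS.congr_simp.{0,0}) | (have := @Cfsg.Agent.H46.S95.On.BaseS.congr_simp.{0}) | (have := @Cfsg.Agent.H46.S95.On.BaseS.congr_simp) | skip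
  first | (have := @Cfsg.Agent.H46.S95.On.BVS.eq_def.{0,0,0}) | (have := @Cfsg.Agent.H46.S95.On.BVS.eq_def.{0,0}) | (have := @Cfsg.Agent.H46.S95.On.BVS.eq_def.{0}) | (have := @Cfsg.Agent.H46.S95.On.BVS.eq_def) | skip
  first | (have := @Cfsg.Agent.H46.S95.On.BVS.eq_1.{0,0,0}) | (have := @Cfsg.Agent.H46.S95.On.BVS.eq_1.{0,0}) | (have := @Cfsg.Agent.H46.S95.On.BVS.eq_1.{0}) | (have := @Cfsg.Agent.H46.S95.On.BVS.eq_1) | skip
  first | (have := @Cfsg.Agent.H46.S95.On.BVS.eq_2.{0,0,0}) | (have := @Cfsg.Agent.H46.S95.On.BVS.eq_2.{0,0}) | (have := @Cfsg.Agent.H46.S95.On.BVS.eq_2.{0}) | (have := @Cfsg.Agent.H46.S95.On.BVS.eq_2) | skip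
  first | (have := @Cfsg.Agent.H46.S95.On.BVS.eq_unfold.{0,0,0}) | (have := @Cfsg.Agent.H46.S95.On.BVS.eq_unfold.{0,0}) | (have := @Cfsg.Agent.H46.S95.On.BVS.eq_unfold.{0}) | (have := @Cfsg.Agent.H46.S95.On.BVS.eq_unfold) | skip
  first | (have := @Cfsg.Agent.H46.S95.On.BVS.congr_simp.{0,0,0}) | (have := @Cfsg.Agent.H46.S95.On.BVS.congr_simp.{0,0}) | (have := @Cfsg.Agent.H46.S95.On.BVS.congr_simp.{0}) | (have := @Cfsg.Agent.H46.S95.On.BVS.congr_simp) | skip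
  first | (have := @Cfsg.Agent.H46.S95.On.RDS.eq_def.{0,0,0}) | (have := @Cfsg.Agent.H46.S95.On.RDS.eq_def.{0,0}) | (have := @Cfsg.Agent.H46.S95.On.RDS.eq_def.{0}) | (have := @Cfsg.Agent.H46.S95.On.RDS.eq_def) | skip
  first | (have := @Cfsg.Agent.H46.S95.On.RDS.eq_1.{0,0,0}) | (have := @Cfsg.Agent.H46.S95.On.RDS.eq_1.{0,0}) | (have := @Cfsg.Agent.H46.S95.On.RDS.eq_1.{0}) | (have := @Cfsg.Agent.H46.S95.On.RDS.eq_1) | skip
  first | (have := @Cfsg.Agent.H46.S95.On.RDS.eq_2.{0,0,0}) | (have := @Cfsg.Agent.H46.S95.On.RDS.eq_2.{0,0}) | (have := @Cfsg.Agent.H46.S95.On.RDS.eq_2.{0}) | (have := @Cfsg.Agent.H46.S95.On.RDS.eq_2) | skip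
  first | (have := @Cfsg.Agent.H46.S95.On.RDS.eq_unfold.{0,0,0}) | (have := @Cfsg.Agent.H46.S95.On.RDS.eq_unfold.{0,0}) | (have := @Cfsg.Agent.H46.S95.On.RDS.eq_unfold.{0}) | (have := @Cfsg.Agent.H46.S95.On.RDS.eq_unfold) | skip
  first | (have := @Cfsg.Agent.H46.S95.On.RDS.congr_simp.{0,0,0}) | (have := @Cfsg.Agent.H46.S95.On.RDS.congr_simp.{0,0}) | (have := @Cfsg.Agent.H46.S95.On.RDS.congr_simp.{0}) | (have := @Cfsg.Agent.H46.S95.On.RDS.congr_simp) | skip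
  first | (have := @Cfsg.Agent.H46.S95.On.VchS.eq_def.{0,0,0}) | (have := @Cfsg.Agent.H46.S95.On.VchS.eq_def.{0,0}) | (have := @Cfsg.Agent.H46.S95.On.VchS.eq_def.{0}) | (have := @Cfsg.Agent.H46.S95.On.VchS.eq_def) | skip
  first | (have := @Cfsg.Agent.H46.S95.On.VchS.eq_1.{0,0,0}) | (have := @Cfsg.Agent.H46.S95.On.VchS.eq_1.{0,0}) | (have := @Cfsg.Agent.H46.S95.On.VchS.eq_1.{0}) | (have := @Cfsg.Agent.H46.S95.On.VchS.eq_1) | skip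
  first | (have := @Cfsg.Agent.H46.S95.On.VchS.eq_2.{0,0,0}) | (have := @Cfsg.Agent.H46.S95.On.VchS.eq_2.{0,0}) | (have := @Cfsg.Agent.H46.S95.On.VchS.eq_2.{0}) | (have := @Cfsg.Agent.H46.S95.On.VchS.eq_2) | skip
  first | (have := @Cfsg.Agent.H46.S95.On.VchS.eq_unfold.{0,0,0}) | (have := @Cfsg.Agent.H46.S95.On.VchS.eq_unfold.{0,0}) | (have := @Cfsg.Agent.H46.S95.On.VchS.eq_unfold.{0}) | (have := @Cfsg.Agent.H46.S95.On.VchS.eq_unfold) | skip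
  first | (have := @Cfsg.Agent.H46.S95.On.VchS.congr_simp.{0,0,0}) | (have := @Cfsg.Agent.H46.S95.On.VchS.congr_simp.{0,0}) | (have := @Cfsg.Agent.H46.S95.On.VchS.congr_simp.{0}) | (have := @Cfsg.Agent.H46.S95.On.VchS.congr_simp) | skip
  first | (have := @Cfsg.Agent.H46.S95.On.InBS.eq_def.{0,0,0}) | (have := @Cfsg.Agent.H46.S95.On.InBS.eq_def.{0,0}) | (have := @Cfsg.Agent.H46.S95.On.InBS.eq_def.{0}) | (have := @Cfsg.Agent.H46.S95.On.InBS.eq_def) | skip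
  first | (have := @Cfsg.Agent.H46.S95.On.InBS.eq_1.{0,0,0}) | (have := @Cfsg.Agent.H46.S95.On.InBS.eq_1.{0,0}) | (have := @Cfsg.Agent.H46.S95.On.InBS.eq_1.{0}) | (have := @Cfsg.Agent.H46.S95.On.InBS.eq_1) | skip
  first | (have := @Cfsg.Agent.H46.S95.On.InBS.eq_2.{0,0,0}) | (have := @Cfsg.Agent.H46.S95.On.InBS.eq_2.{0,0}) | (have := @Cfsg.Agent.H46.S95.On.InBS.eq_2.{0}) | (have := @Cfsg.Agent.H46.S95.On.InBS.eq_2) | skip
  first | (have := @Cfsg.Agent.H46.S95.On.InBS.eq_unfold.{0,0,0}) | (have := @Cfsg.Agent.H46.S95.On.InBS.eq_unfold.{0,0}) | (have := @Cfsg.Agent.H46.S95.On.InBS.eq_unfold.{0}) | (have := @Cfsg.Agent.H46.S95.On.InBS.eq_unfold) | skip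
  first | (have := @Cfsg.Agent.H46.S95.On.InBS.congr_simp.{0,0,0}) | (have := @Cfsg.Agent.H46.S95.On.InBS.congr_simp.{0,0}) | (have := @Cfsg.Agent.H46.S95.On.InBS.congr_simp.{0}) | (have := @Cfsg.Agent.H46.S95.On.InBS.congr_simp) | skip
  first | (have := @Cfsg.Agent.H46.S95.On.OAS.eq_def.{0,0,0}) | (have := @Cfsg.Agent.H46.S95.On.OAS.eq_def.{0,0}) | (have := @Cfsg.Agent.H46.S95.On.OAS.eq_def.{0}) | (have := @Cfsg.Agent.H46.S95.On.OAS.eq_def) | skip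
  first | (have := @Cfsg.Agent.H46.S95.On.OAS.eq_1.{0,0,0}) | (have := @Cfsg.Agent.H46.S95.On.OAS.eq_1.{0,0}) | (have := @Cfsg.Agent.H46.S95.On.OAS.eq_1.{0}) | (have := @Cfsg.Agent.H46.S95.On.OAS.eq_1) | skip
  first | (have := @Cfsg.Agent.H46.S95.On.OAS.eq_2.{0,0,0}) | (have := @Cfsg.Agent.H46.S95.On.OAS.eq_2.{0,0}) | (have := @Cfsg.Agent.H46.S95.On.OAS.eq_2.{0}) | (have := @Cfsg.Agent.H46.S95.On.OAS.eq_2) | skip
  first | (have := @Cfsg.Agent.H46.S95.On.OAS.eq_unfold.{0,0,0}) | (have := @Cfsg.Agent.H46.S95.On.OAS.eq_unfold.{0,0}) | (have := @Cfsg.Agent.H46.S95.On.OAS.eq_unfold.{0}) | (have := @Cfsg.Agent.H46.S95.On.OAS.eq_unfold) | skip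
  first | (have := @Cfsg.Agent.H46.S95.On.OAS.congr_simp.{0,0,0}) | (have := @Cfsg.Agent.H46.S95.On.OAS.congr_simp.{0,0}) | (have := @Cfsg.Agent.H46.S95.On.OAS.congr_simp.{0}) | (have := @Cfsg.Agent.H46.S95.On.OAS.congr_simp) | skip
  first | (have := @Cfsg.Agent.H46.S95.On.OBS.eq_def.{0,0,0}) | (have := @Cfsg.Agent.H46.S95.On.OBS.eq_def.{0,0}) | (have := @Cfsg.Agent.H46.S95.On.OBS.eq_def.{0}) | (have := @Cfsg.Agent.H46.S95.On.OBS.eq_def) | skip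
  first | (have := @Cfsg.Agent.H46.S95.On.OBS.eq_1.{0,0,0}) | (have := @Cfsg.Agent.H46.S95.On.OBS.eq_1.{0,0}) | (have := @Cfsg.Agent.H46.S95.On.OBS.eq_1.{0}) | (have := @Cfsg.Agent.H46.S95.On.OBS.eq_1) | skip
  first | (have := @Cfsg.Agent.H46.S95.On.OBS.eq_2.{0,0,0}) | (have := @Cfsg.Agent.H46.S95.On.OBS.eq_2.{0,0}) | (have := @Cfsg.Agent.H46.S95.On.OBS.eq_2.{0}) | (have := @Cfsg.Agent.H46.S95.On.OBS.eq_2) | skip
  first | (have := @Cfsg.Agent.H46.S95.On.OBS.eq_unfold.{0,0,0}) | (have := @Cfsg.Agent.H46.S95.On.OBS.eq_unfold.{0,0}) | (have := @Cfsg.Agent.H46.S95.On.OBS.eq_unfold.{0}) | (have := @Cfsg.Agent.H46.S95.On.OBS.eq_unfold) | skip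
  first | (have := @Cfsg.Agent.H46.S95.On.OBS.congr_simp.{0,0,0}) | (have := @Cfsg.Agent.H46.S95.On.OBS.congr_simp.{0,0}) | (have := @Cfsg.Agent.H46.S95.On.OBS.congr_simp.{0}) | (have := @Cfsg.Agent.H46.S95.On.OBS.congr_simp) | skip
  first | (have := @Cfsg.Agent.H46.S95.On.LCS.eq_def.{0,0,0}) | (have := @Cfsg.Agent.H46.S95.On.LCS.eq_def.{0,0}) | (have := @Cfsg.Agent.H46.S95.On.LCS.eq_def.{0}) | (have := @Cfsg.Agent.H46.S95.On.LCS.eq_def) | skip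
  first | (have := @Cfsg.Agent.H46.S95.On.LCS.eq_1.{0,0,0}) | (have := @Cfsg.Agent.H46.S95.On.LCS.eq_1.{0,0}) | (have := @Cfsg.Agent.H46.S95.On.LCS.eq_1.{0}) | (have := @Cfsg.Agent.H46.S95.On.LCS.eq_1) | skip
  first | (have := @Cfsg.Agent.H46.S95.On.LCS.eq_2.{0,0,0}) | (have := @Cfsg.Agent.H46.S95.On.LCS.eq_2.{0,0}) | (have := @Cfsg.Agent.H46.S95.On.LCS.eq_2.{0}) | (have := @Cfsg.Agent.H46.S95.On.LCS.eq_2) | skip
  first | (have := @Cfsg.Agent.H46.S95.On.LCS.eq_unfold.{0,0,0}) | (have := @Cfsg.Agent.H46.S95.On.LCS.eq_unfold.{0,0}) | (have := @Cfsg.Agent.H46.S95.On.LCS.eq_unfold.{0}) | (have := @Cfsg.Agent.H46.S95.On.LCS.eq_unfold) | skip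
  first | (have := @Cfsg.Agent.H46.S95.On.LCS.congr_simp.{0,0,0}) | (have := @Cfsg.Agent.H46.S95.On.LCS.congr_simp.{0,0}) | (have := @Cfsg.Agent.H46.S95.On.LCS.congr_simp.{0}) | (have := @Cfsg.Agent.H46.S95.On.LCS.congr_simp) | skip
  first | (have := @Cfsg.Agent.H46.S95.On.CloES.eq_def.{0,0,0}) | (have := @Cfsg.Agent.H46.S95.On.CloES.eq_def.{0,0}) | (have := @Cfsg.Agent.H46.S95.On.CloES.eq_def.{0}) | (have := @Cfsg.Agent.H46.S95.On.CloES.eq_def) | skip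
  first | (have := @Cfsg.Agent.H46.S95.On.CloES.eq_1.{0,0,0}) | (have := @Cfsg.Agent.H46.S95.On.CloES.eq_1.{0,0}) | (have := @Cfsg.Agent.H46.S95.On.CloES.eq_1.{0}) | (have := @Cfsg.Agent.H46.S95.On.CloES.eq_1) | skip
  first | (have := @Cfsg.Agent.H46.S95.On.CloES.eq_2.{0,0,0}) | (have := @Cfsg.Agent.H46.S95.On.CloES.eq_2.{0,0}) | (have := @Cfsg.Agent.H46.S95.On.CloES.eq_2.{0}) | (have := @Cfsg.Agent.H46.S95.On.CloES.eq_2) | skip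
  first | (have := @Cfsg.Agent.H46.S95.On.CloES.eq_unfold.{0,0,0}) | (have := @Cfsg.Agent.H46.S95.On.CloES.eq_unfold.{0,0}) | (have := @Cfsg.Agent.H46.S95.On.CloES.eq_unfold.{0}) | (have := @Cfsg.Agent.H46.S95.On.CloES.eq_unfold) | skip
  first | (have := @Cfsg.Agent.H46.S95.On.CloES.congr_simp.{0,0,0}) | (have := @Cfsg.Agent.H46.S95.On.CloES.congr_simp.{0,0}) | (have := @Cfsg.Agent.H46.S95.On.CloES.congr_simp.{0}) | (have := @Cfsg.Agent.H46.S95.On.CloES.congr_simp) | skip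
  first | (have := @Cfsg.Agent.H46.S95.On.EtaS.eq_def.{0,0,0}) | (have := @Cfsg.Agent.H46.S95.On.EtaS.eq_def.{0,0}) | (have := @Cfsg.Agent.H46.S95.On.EtaS.eq_def.{0}) | (have := @Cfsg.Agent.H46.S95.On.EtaS.eq_def) | skip
  first | (have := @Cfsg.Agent.H46.S95.On.EtaS.eq_1.{0,0,0}) | (have := @Cfsg.Agent.H46.S95.On.EtaS.eq_1.{0,0}) | (have := @Cfsg.Agent.H46.S95.On.EtaS.eq_1.{0}) | (have := @Cfsg.Agent.H46.S95.On.EtaS.eq_1) | skip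
  first | (have := @Cfsg.Agent.H46.S95.On.EtaS.eq_2.{0,0,0}) | (have := @Cfsg.Agent.H46.S95.On.EtaS.eq_2.{0,0}) | (have := @Cfsg.Agent.H46.S95.On.EtaS.eq_2.{0}) | (have := @Cfsg.Agent.H46.S95.On.EtaS.eq_2) | skip
  first | (have := @Cfsg.Agent.H46.S95.On.EtaS.eq_unfold.{0,0,0}) | (have := @Cfsg.Agent.H46.S95.On.EtaS.eq_unfold.{0,0}) | (have := @Cfsg.Agent.H46.S95.On.EtaS.eq_unfold.{0}) | (have := @Cfsg.Agent.H46.S95.On.EtaS.eq_unfold) | skip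
  first | (have := @Cfsg.Agent.H46.S95.On.EtaS.congr_simp.{0,0,0}) | (have := @Cfsg.Agent.H46.S95.On.EtaS.congr_simp.{0,0}) | (have := @Cfsg.Agent.H46.S95.On.EtaS.congr_simp.{0}) | (have := @Cfsg.Agent.H46.S95.On.EtaS.congr_simp) | skip
  first | (have := @Cfsg.Agent.H46.S95.On.CloS.eq_def.{0,0,0}) | (have := @Cfsg.Agent.H46.S95.On.CloS.eq_def.{0,0}) | (have := @Cfsg.Agent.H46.S95.On.CloS.eq_def.{0}) | (have := @Cfsg.Agent.H46.S95.On.CloS.eq_def) | skip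
  first | (have := @Cfsg.Agent.H46.S95.On.CloS.eq_1.{0,0,0}) | (have := @Cfsg.Agent.H46.S95.On.CloS.eq_1.{0,0}) | (have := @Cfsg.Agent.H46.S95.On.CloS.eq_1.{0}) | (have := @Cfsg.Agent.H46.S95.On.CloS.eq_1) | skip
  first | (have := @Cfsg.Agent.H46.S95.On.CloS.eq_2.{0,0,0}) | (have := @Cfsg.Agent.H46.S95.On.CloS.eq_2.{0,0}) | (have := @Cfsg.Agent.H46.S95.On.CloS.eq_2.{0}) | (have := @Cfsg.Agent.H46.S95.On.CloS.eq_2) | skip
  first | (have := @Cfsg.Agent.H46.S95.On.CloS.eq_unfold.{0,0,0}) | (have := @Cfsg.Agent.H46.S95.On.CloS.eq_unfold.{0,0}) | (have := @Cfsg.Agent.H46.S95.On.CloS.eq_unfold.{0}) | (have := @Cfsg.Agent.H46.S95.On.CloS.eq_unfold) | skip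
  first | (have := @Cfsg.Agent.H46.S95.On.CloS.congr_simp.{0,0,0}) | (have := @Cfsg.Agent.H46.S95.On.CloS.congr_simp.{0,0}) | (have := @Cfsg.Agent.H46.S95.On.CloS.congr_simp.{0}) | (have := @Cfsg.Agent.H46.S95.On.CloS.congr_simp) | skip
  trivial

end Cfsg.Agent.H46.S95.On
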