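import Cfsg.Agent.H46.SClo
import Cfsg.Agent.H46.SOn

/-!
# All pairs of lifts are good: the O'Nan group
-/

set_option autoImplicit false
set_option maxRecDepth 200000
set_option linter.style.longLine false
open Subgroup

namespace Cfsg.Agent.H46.S95.On.Cl
open Cfsg.Agent.H44 Cfsg.Agent.H59.On

universe u

variable {G : Type u} [Group G] {φ : Γ →* G} {t : G} {f : Γ → G}

/-- exact lines of words -/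
abbrev ee (f : Γ → G) (r s : List ℕ) : Prop := EE (ν 1) f (ev ν r) (ev ν s)

/-- good pairs of words -/
abbrev gg (t : G) (f : Γ → G) (r s : List ℕ) : Prop := GG t (ν 1) f (ev ν r) (ev ν s)

theorem root {s : Γ} (h1 : s * s = 1) (h2 : s ≠ 1) : IsConj (ν 1) s :=
  (isConj_iff.2 (cls h1 h2)).symm

theorem rt (r : List ℕ) (e : (eqB (r ++ r) [] && !eqB r []) = true) : IsConj (ν 1) (ev ν r) := by
  simp only [Bool.and_eq_true, Bool.not_eq_true', ← Bool.not_eq_true, ko.iff, ev_append,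
    ev_nil] at e
  exact root e.1 e.2

theorem ex (h : Ex (ν 1) f) (r s : List ℕ)
    (e : (eqB (r ++ r) [] && !eqB r [] && eqB (s ++ s) [] && !eqB s [] && eqB (r ++ s) (s ++ r) &&
      !eqB r s) = true) : ee f r s := by
  simp only [Bool.and_eq_true, Bool.not_eq_true', ← Bool.not_eq_true, ko.iff, ev_append,
    ev_nil] at e
  obtain ⟨⟨⟨⟨⟨a1, a2⟩, a3⟩, a4⟩, a5⟩, a6⟩ := e
  refine ⟨root a1 a2, root a3 a4, root ?_ fun k => a6 ?_, h _ _ (root a1 a2) (root a3 a4) a5 a6⟩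
  · rw [mul_assoc, ← mul_assoc (ev ν s), ← a5, mul_assoc, a3, mul_one, a1]
  · rw [eq_inv_of_mul_eq_one_left k, inv_eq_of_mul_eq_one_right a3]

/-- the hypotheses -/
structure HH (φ : Γ →* G) (t : G) (f : Γ → G) : Prop where
  h : WL φ t (ν 1) f ν eqB
  ex : Ex (ν 1) f
  g0 : gg t f [3] [7, 3, 8]

variable (H : HH φ t f)
include H

theorem g1 : gg t f [7, 4, 3, 7, 4, 3, 4, 8, 3, 4, 8] [7, 4, 3, 4, 3, 4, 3, 4, 8] :=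
  H.h.g H.g0 [7, 4, 3, 7, 4] _ _ (by decide +kernel)

theorem e2 : ee f [6] [7, 4, 3, 4, 3, 4, 3, 4, 8] :=
  ex H.ex _ _ (by decide +kernel)

theorem e3 : ee f [7, 4, 3, 7, 4, 3, 4, 8, 3, 4, 8] [6] :=
  ex H.ex _ _ (by decide +kernel)

theorem g4 : gg t f [3] [7, 4, 3, 4, 3, 4, 3, 4, 8] :=
  H.h.add (g1 H) (H.h.lf.ee_gg (e2 H)) (e3 H) _ (by decide +kernel)

theorem g5 : gg t f [5, 8, 4, 5, 7, 3, 4, 5, 4, 3, 4, 3, 4, 3, 4, 5, 4, 3, 8, 5, 4, 7, 5] [5, 8, 3, 4, 5, 7, 3, 4, 5, 4, 3, 4, 3, 4, 3, 4, 5, 4, 3, 8, 5, 4, 3, 7, 5] :=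
  H.h.g (g4 H) [5, 8, 4, 5, 7, 3, 4, 5, 3, 4, 3, 4, 5] _ _ (by decide +kernel)

theorem g6 : gg t f [4] [3, 4, 5, 6, 5, 4, 3] :=
  H.h.g' (g5 H) [2, 3, 4, 1, 2, 3, 4, 5, 2, 8, 2, 3, 4, 5, 7, 2, 3, 4, 5, 3, 4, 7, 5, 4, 3, 8] _ _ (by decide +kernel)

theorem g7 : gg t f [3, 4, 5, 6, 3, 4, 5, 6, 5, 4, 3, 6, 5, 4, 3] [5] :=
  H.h.g (g6 H) [6, 3, 4, 3] _ _ (by decide +kernel)

theorem g8 : gg t f [5, 4, 3, 4, 5, 6, 5, 4, 3, 4, 5] [5] :=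
  H.h.g (g6 H) [5, 6, 4, 5, 3] _ _ (by decide +kernel)

theorem g9 : gg t f [3, 4, 5, 6, 3, 4, 5, 6, 5, 4, 3, 6, 5, 4, 3] [5, 4, 3, 4, 5, 6, 5, 4, 3, 4, 5] :=
  H.h.g (g6 H) [3, 4, 5, 3, 4, 3, 4, 5, 6] _ _ (by decide +kernel)

theorem g10 : gg t f [6] [5] :=
  H.h.conj (g7 H) (g8 H) (g9 H) _ (by decide +kernel)

theorem g11 : gg t f [6] [7, 5, 6, 5, 8] :=
  H.h.g (g10 H) [8] _ _ (by decide +kernel)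

theorem g12 : gg t f [5] [7, 5, 6, 5, 8] :=
  H.h.g (g10 H) [6, 5, 7, 4, 7, 4] _ _ (by decide +kernel)

theorem g13 : gg t f [5] [6] :=
  H.h.g (g10 H) [5, 6, 5] _ _ (by decide +kernel)

theorem g14 : gg t f [5, 4, 3, 4, 5, 3, 4, 3, 8, 5, 4, 3, 4, 5, 7, 3, 4, 3, 5, 4, 3, 4, 5] [5, 8, 3, 4, 5, 7, 3, 4, 5, 4, 3, 4, 3, 4, 3, 4, 5, 4, 3, 8, 5, 4, 3, 7, 5] :=
  H.h.g H.g0 [5, 4, 3, 4, 5, 3, 4, 3, 8, 5, 4, 3] _ _ (by decide +kernel)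

theorem g15 : gg t f [5] [7, 4, 5, 6, 5, 4, 8] :=
  H.h.g' (g14 H) [2, 3, 4, 1, 2, 3, 4, 5, 2, 8, 2, 3, 4, 5, 7, 2, 3, 4, 5, 3, 4, 3, 8, 5, 8, 4] _ _ (by decide +kernel)

theorem g16 : gg t f [4, 5, 6, 5, 4] [7, 5, 6, 5, 8] :=
  H.h.g (g15 H) [5, 6, 4] _ _ (by decide +kernel)

theorem g17 : gg t f [5, 6, 5] [7, 5, 6, 5, 8] :=
  H.h.g (g10 H) [5, 4, 7, 4] _ _ (by decide +kernel)

theorem g18 : gg t f [4, 5, 6, 5, 4] [5, 6, 5] :=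
  H.h.g (g10 H) [4, 5, 6, 4] _ _ (by decide +kernel)

theorem g19 : gg t f [4] [7, 5, 6, 5, 8] :=
  H.h.conj (g16 H) (g17 H) (g18 H) _ (by decide +kernel)

theorem e20 : ee f [4] [6] :=
  ex H.ex _ _ (by decide +kernel)

theorem g21 : gg t f [4] [5] :=
  H.h.g (g10 H) [4, 5, 6, 4, 5, 4] _ _ (by decide +kernel)

theorem e22 : ee f [3] [7, 5, 6, 5, 8] :=
  ex H.ex _ _ (by decide +kernel)

theorem e23 : ee f [3] [6] :=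
  ex H.ex _ _ (by decide +kernel)

theorem e24 : ee f [3] [5] :=
  ex H.ex _ _ (by decide +kernel)

theorem e25 : ee f [6] [4] :=
  ex H.ex _ _ (by decide +kernel)

theorem e26 : ee f [7, 5, 6, 3, 4, 5, 6, 5, 4, 3, 6, 5, 8] [5, 7, 4, 7, 5, 7, 3, 4, 5, 6, 5, 4, 3, 8, 5, 8, 4, 8, 5] :=
  ex H.ex _ _ (by decide +kernel)

theorem e27 : ee f [5, 8, 5, 4, 7, 5, 6, 5, 8, 4, 5, 7, 5] [7, 5, 4, 7, 5, 7, 5, 4, 3, 4, 5, 6, 5, 4, 3, 4, 5, 8, 5, 8, 4, 5, 8] :=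
  ex H.ex _ _ (by decide +kernel)

theorem p28 : f (ev ν [6]) * (f (ev ν [4]) * (f (ev ν [7, 5, 6, 3, 4, 5, 6, 5, 4, 3, 6, 5, 8]) * (f (ev ν [5, 7, 4, 7, 5, 7, 3, 4, 5, 6, 5, 4, 3, 8, 5, 8, 4, 8, 5]) * (1)))) = f (ev ν [8, 5, 7, 4, 5, 4, 7, 3, 4, 5, 6, 5, 4, 3, 8, 4, 5, 4, 8, 5, 7]) * (1) := by
  rw [H.h.mg (e25 H) [5, 8, 5, 4, 7, 5, 6, 5, 8, 4, 5, 7, 5] (by decide +kernel), H.h.mg (e26 H) [7, 5, 4, 7, 5, 7, 5, 4, 3, 4, 5, 6, 5, 4, 3, 4, 5, 8, 5, 8, 4, 5, 8] (by decide +kernel), H.h.mg (e27 H) [8, 5, 7, 4, 5, 4, 7, 3, 4, 5, 6, 5, 4, 3, 8, 4, 5, 4, 8, 5, 7] (by decide +kernel)]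

theorem e29 : ee f [6] [7, 5, 6, 3, 4, 5, 6, 5, 4, 3, 6, 5, 8] :=
  ex H.ex _ _ (by decide +kernel)

theorem e30 : ee f [3, 4, 7, 5, 6, 4, 5, 6, 5, 4, 6, 5, 8, 4, 3] [1] :=
  ex H.ex _ _ (by decide +kernel)

theorem e31 : ee f [4] [5, 7, 4, 7, 5, 7, 3, 4, 5, 6, 5, 4, 3, 8, 5, 8, 4, 8, 5] :=
  ex H.ex _ _ (by decide +kernel)

theorem e32 : ee f [7, 4, 5, 6, 3, 4, 5, 6, 5, 4, 3, 6, 5, 4, 8] [5, 7, 4, 3, 4, 5, 7, 4, 5, 6, 5, 4, 8, 5, 4, 3, 4, 8, 5] :=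
  ex H.ex _ _ (by decide +kernel)

theorem p33 : f (ev ν [6]) * (f (ev ν [7, 5, 6, 3, 4, 5, 6, 5, 4, 3, 6, 5, 8]) * (f (ev ν [1]) * (f (ev ν [4]) * (f (ev ν [5, 7, 4, 7, 5, 7, 3, 4, 5, 6, 5, 4, 3, 8, 5, 8, 4, 8, 5]) * (1))))) = f (ev ν [8, 5, 7, 4, 5, 4, 7, 3, 4, 5, 6, 5, 4, 3, 8, 4, 5, 4, 8, 5, 7]) * (1) := by
  rw [H.h.mg (e29 H) [3, 4, 7, 5, 6, 4, 5, 6, 5, 4, 6, 5, 8, 4, 3] (by decide +kernel), H.h.mg (e30 H) [7, 4, 5, 6, 3, 4, 5, 6, 5, 4, 3, 6, 5, 4, 8] (by decide +kernel), H.h.mg (e31 H) [5, 7, 4, 3, 4, 5, 7, 4, 5, 6, 5, 4, 8, 5, 4, 3, 4, 8, 5] (by decide +kernel), H.h.mg (e32 H) [8, 5, 7, 4, 5, 4, 7, 3, 4, 5, 6, 5, 4, 3, 8, 4, 5, 4, 8, 5, 7] (by decide +kernel)]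

theorem e34 : ee f [4] [1] :=
  ex H.ex _ _ (by decide +kernel)

theorem g35 : gg t f [4] [7, 5, 6, 3, 4, 5, 6, 5, 4, 3, 6, 5, 8] :=
  H.h.grid (e34 H) (rt [7, 5, 6, 3, 4, 5, 6, 5, 4, 3, 6, 5, 8] (by decide +kernel)) (by decide +kernel) ((p28 H).trans (p33 H).symm)

theorem g36 : gg t f [3, 4, 7, 5, 6, 4, 5, 6, 5, 4, 6, 5, 8, 4, 3] [5, 8, 5, 4, 7, 5, 6, 5, 8, 4, 5, 7, 5] :=
  H.h.g (g35 H) [4, 7, 4, 3] _ _ (by decide +kernel)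

theorem g37 : gg t f [3] [7, 4, 3, 4, 8] :=
  H.h.g' (g36 H) [2, 3, 4, 1, 2, 3, 4, 5, 2, 8, 2, 3, 4, 5, 7, 2, 3, 4, 5, 3, 4, 3, 4, 5] _ _ (by decide +kernel)

theorem g38 : gg t f [7, 4, 3, 7, 4, 3, 4, 8, 3, 4, 8] [7, 4, 5, 3, 4, 3, 4, 3, 5, 4, 8] :=
  H.h.g (g37 H) [7, 4, 3, 4, 5, 7] _ _ (by decide +kernel)

theorem g39 : gg t f [3] [7, 3, 7, 4, 3, 4, 8, 3, 8] :=
  H.h.g' H.g0 [2, 3, 4, 1, 2, 3, 4, 5, 2, 8, 2, 3, 4, 5, 7, 2, 8, 5, 4, 7, 5] _ _ (by decide +kernel)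

theorem g40 : gg t f [4, 3, 7, 3, 8, 3, 4] [7, 4, 5, 3, 4, 3, 4, 3, 5, 4, 8] :=
  H.h.g (g39 H) [3, 7, 3, 4, 5] _ _ (by decide +kernel)

theorem e41 : ee f [7, 5, 8, 4, 5, 6, 5, 4, 7, 5, 8] [4] :=
  ex H.ex _ _ (by decide +kernel)

theorem e42 : ee f [7, 5, 7, 4, 3, 4, 5, 6, 5, 4, 3, 4, 8, 5, 8] [6, 5, 4, 3, 4, 5, 6, 5, 4, 3, 4, 5, 6] :=
  ex H.ex _ _ (by decide +kernel)

theorem e43 : ee f [8, 5, 8, 4, 5, 6, 5, 4, 7, 5, 7] [5, 7, 5, 8, 4, 3, 4, 5, 6, 5, 4, 3, 4, 7, 5, 8, 5] :=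
  ex H.ex _ _ (by decide +kernel)

theorem p44 : f (ev ν [7, 5, 8, 4, 5, 6, 5, 4, 7, 5, 8]) * (f (ev ν [4]) * (f (ev ν [7, 5, 7, 4, 3, 4, 5, 6, 5, 4, 3, 4, 8, 5, 8]) * (f (ev ν [6, 5, 4, 3, 4, 5, 6, 5, 4, 3, 4, 5, 6]) * (1)))) = f (ev ν [4, 8, 5, 7, 4, 3, 4, 5, 6, 5, 4, 3, 4, 8, 5, 7, 4]) * (1) := by
  rw [H.h.mg (e41 H) [8, 5, 8, 4, 5, 6, 5, 4, 7, 5, 7] (by decide +kernel), H.h.mg (e42 H) [5, 7, 5, 8, 4, 3, 4, 5, 6, 5, 4, 3, 4, 7, 5, 8, 5] (by decide +kernel), H.h.mg (e43 H) [4, 8, 5, 7, 4, 3, 4, 5, 6, 5, 4, 3, 4, 8, 5, 7, 4] (by decide +kernel)]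

theorem e45 : ee f [7, 5, 8, 4, 5, 6, 5, 4, 7, 5, 8] [7, 5, 7, 4, 3, 4, 5, 6, 5, 4, 3, 4, 8, 5, 8] :=
  ex H.ex _ _ (by decide +kernel)

theorem e46 : ee f [7, 4, 5, 4, 8, 3, 4, 5, 6, 5, 4, 3, 7, 4, 5, 4, 8] [1] :=
  ex H.ex _ _ (by decide +kernel)

theorem e47 : ee f [4] [6, 5, 4, 3, 4, 5, 6, 5, 4, 3, 4, 5, 6] :=
  ex H.ex _ _ (by decide +kernel)

theorem e48 : ee f [7, 5, 8, 5, 3, 4, 3, 4, 5, 6, 5, 4, 3, 4, 3, 5, 7, 5, 8] [7, 3, 4, 5, 8, 3, 4, 5, 6, 5, 4, 3, 7, 5, 4, 3, 8] :=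
  ex H.ex _ _ (by decide +kernel)

theorem p49 : f (ev ν [7, 5, 8, 4, 5, 6, 5, 4, 7, 5, 8]) * (f (ev ν [7, 5, 7, 4, 3, 4, 5, 6, 5, 4, 3, 4, 8, 5, 8]) * (f (ev ν [1]) * (f (ev ν [4]) * (f (ev ν [6, 5, 4, 3, 4, 5, 6, 5, 4, 3, 4, 5, 6]) * (1))))) = f (ev ν [4, 8, 5, 7, 4, 3, 4, 5, 6, 5, 4, 3, 4, 8, 5, 7, 4]) * (1) := by
  rw [H.h.mg (e45 H) [7, 4, 5, 4, 8, 3, 4, 5, 6, 5, 4, 3, 7, 4, 5, 4, 8] (by decide +kernel), H.h.mg (e46 H) [7, 5, 8, 5, 3, 4, 3, 4, 5, 6, 5, 4, 3, 4, 3, 5, 7, 5, 8] (by decide +kernel), H.h.mg (e47 H) [7, 3, 4, 5, 8, 3, 4, 5, 6, 5, 4, 3, 7, 5, 4, 3, 8] (by decide +kernel), H.h.mg (e48 H) [4, 8, 5, 7, 4, 3, 4, 5, 6, 5, 4, 3, 4, 8, 5, 7, 4] (by decide +kernel)]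

theorem g50 : gg t f [4] [7, 5, 7, 4, 3, 4, 5, 6, 5, 4, 3, 4, 8, 5, 8] :=
  H.h.grid (e34 H) (rt [7, 5, 7, 4, 3, 4, 5, 6, 5, 4, 3, 4, 8, 5, 8] (by decide +kernel)) (by decide +kernel) ((p44 H).trans (p49 H).symm)

theorem g51 : gg t f [3, 4, 7, 5, 6, 4, 5, 6, 5, 4, 6, 5, 8, 4, 3] [4] :=
  H.h.g (g50 H) [5, 3, 4, 7, 5, 8] _ _ (by decide +kernel)

theorem g52 : gg t f [3] [7, 3, 4, 3, 4, 3, 8] :=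
  H.h.g' (g51 H) [2, 3, 4, 1, 2, 3, 4, 5, 2, 8, 2, 3, 4, 5, 7, 2, 3, 4, 5, 3, 4, 3, 4, 5] _ _ (by decide +kernel)

theorem g53 : gg t f [7, 4, 3, 7, 4, 3, 4, 8, 3, 4, 8] [4, 3, 7, 3, 8, 3, 4] :=
  H.h.g (g52 H) [7, 4, 3, 7, 4, 3] _ _ (by decide +kernel)

theorem g54 : gg t f [3] [7, 4, 5, 3, 4, 3, 4, 3, 5, 4, 8] :=
  H.h.conj (g38 H) (g40 H) (g53 H) _ (by decide +kernel)

theorem g55 : gg t f [5, 6, 4, 5, 4, 3, 7, 4, 3, 4, 8, 3, 4, 5, 4, 6, 5] [3] :=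
  H.h.g (g54 H) [5, 6, 4, 5, 4, 3, 4, 8] _ _ (by decide +kernel)

theorem g56 : gg t f [5, 7, 4, 3, 4, 8, 5] [3] :=
  H.h.g (g37 H) [5, 7, 4] _ _ (by decide +kernel)

theorem e57 : ee f [5, 6, 4, 5, 4, 3, 7, 4, 3, 4, 8, 3, 4, 5, 4, 6, 5] [5, 7, 4, 3, 4, 8, 5] :=
  ex H.ex _ _ (by decide +kernel)

theorem g58 : gg t f [4] [3] :=
  H.h.add (g55 H) (g56 H) (e57 H) _ (by decide +kernel)

theorem e59 : ee f [1] [7, 5, 6, 5, 8] :=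
  ex H.ex _ _ (by decide +kernel)

theorem e60 : ee f [1] [6] :=
  ex H.ex _ _ (by decide +kernel)

theorem e61 : ee f [1] [5] :=
  ex H.ex _ _ (by decide +kernel)

theorem e62 : ee f [1] [4] :=
  ex H.ex _ _ (by decide +kernel)

theorem e63 : ee f [1] [3] :=
  ex H.ex _ _ (by decide +kernel)

theorem g64 : gg t f [2] [7, 5, 6, 5, 8] :=
  H.h.g' (H.h.lf.ee_gg (e59 H)) [2, 1] _ _ (by decide +kernel)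

theorem g65 : gg t f [2] [6] :=
  H.h.g' (H.h.lf.ee_gg (e60 H)) [2, 1] _ _ (by decide +kernel)

theorem g66 : gg t f [2] [5] :=
  H.h.g' (H.h.lf.ee_gg (e61 H)) [2, 1] _ _ (by decide +kernel)

theorem g67 : gg t f [2] [4] :=
  H.h.g' (H.h.lf.ee_gg (e62 H)) [2, 1] _ _ (by decide +kernel)

theorem g68 : gg t f [5, 8, 4, 5, 7, 3, 4, 5, 3, 4, 3, 4, 5, 6, 5, 4, 3, 4, 3, 5, 4, 3, 8, 5, 4, 7, 5] [7, 5, 8, 3, 4, 5, 8, 4, 3, 4, 5, 6, 5, 4, 3, 4, 7, 5, 4, 3, 7, 5, 8] :=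
  H.h.g (g10 H) [5, 8, 4, 5, 7, 3, 4, 5, 6, 4, 3, 4, 5, 7, 4] _ _ (by decide +kernel)

theorem g69 : gg t f [2] [3] :=
  H.h.g' (g68 H) [2, 3, 4, 1, 2, 3, 4, 5, 2, 8, 2, 3, 4, 5, 7, 2, 3, 4, 5, 3, 4, 3, 4, 5, 2, 1] _ _ (by decide +kernel)

theorem g70 : gg t f [5, 8, 4, 5, 7, 3, 4, 5, 3, 4, 3, 4, 5, 6, 5, 4, 3, 4, 3, 5, 4, 3, 8, 5, 4, 7, 5] [5, 4, 3, 4, 5, 4, 7, 3, 4, 5, 6, 5, 4, 3, 8, 4, 5, 4, 3, 4, 5] :=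
  H.h.g (g10 H) [6, 5, 4, 3, 4, 5, 4, 7, 3, 4, 5, 8, 3, 4, 5] _ _ (by decide +kernel)

theorem g71 : gg t f [2] [1] :=
  H.h.g' (g70 H) [2, 3, 4, 1, 2, 3, 4, 5, 2, 8, 2, 3, 4, 5, 7, 2, 3, 4, 5, 3, 4, 3, 4, 5, 2, 1] _ _ (by decide +kernel)

theorem pw : List.Pairwise (fun r s => gg t f r s) [[2], [1], [3], [4], [5], [6], [7, 5, 6, 5, 8]] :=
  List.Pairwise.cons (List.forall_mem_cons.2 ⟨(g71 H), List.forall_mem_cons.2 ⟨(g69 H), List.forall_mem_cons.2 ⟨(g67 H), List.forall_mem_cons.2 ⟨(g66 H), List.forall_mem_cons.2 ⟨(g65 H), List.forall_mem_cons.2 ⟨(g64 H), List.forall_mem_nil _⟩⟩⟩⟩⟩⟩)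
    (List.Pairwise.cons (List.forall_mem_cons.2 ⟨(H.h.lf.ee_gg (e63 H)), List.forall_mem_cons.2 ⟨(H.h.lf.ee_gg (e62 H)), List.forall_mem_cons.2 ⟨(H.h.lf.ee_gg (e61 H)), List.forall_mem_cons.2 ⟨(H.h.lf.ee_gg (e60 H)), List.forall_mem_cons.2 ⟨(H.h.lf.ee_gg (e59 H)), List.forall_mem_nil _⟩⟩⟩⟩⟩)
    (List.Pairwise.cons (List.forall_mem_cons.2 ⟨(H.h.lf.gg_symm (g58 H)), List.forall_mem_cons.2 ⟨(H.h.lf.ee_gg (e24 H)), List.forall_mem_cons.2 ⟨(H.h.lf.ee_gg (e23 H)), List.forall_mem_cons.2 ⟨(H.h.lf.ee_gg (e22 H)), List.forall_mem_nil _⟩⟩⟩⟩)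
    (List.Pairwise.cons (List.forall_mem_cons.2 ⟨(g21 H), List.forall_mem_cons.2 ⟨(H.h.lf.ee_gg (e20 H)), List.forall_mem_cons.2 ⟨(g19 H), List.forall_mem_nil _⟩⟩⟩)
    (List.Pairwise.cons (List.forall_mem_cons.2 ⟨(g13 H), List.forall_mem_cons.2 ⟨(g12 H), List.forall_mem_nil _⟩⟩)
    (List.Pairwise.cons (List.forall_mem_cons.2 ⟨(g11 H), List.forall_mem_nil _⟩)
    (List.Pairwise.cons (List.forall_mem_nil _)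
    (List.Pairwise.nil)))))))

theorem seven : ev ν [7] ∈ wgen ν [[2], [1], [3], [4], [5], [6], [7, 5, 6, 5, 8]] :=
  H.h.mem _ [[7, 5, 6, 5, 8], [4], [3], [4], [5], [6], [3], [4], [7, 5, 6, 5, 8], [3], [4], [7, 5, 6, 5, 8], [5], [6], [3], [4], [7, 5, 6, 5, 8], [3], [4]] (by decide +kernel)

theorem gn : wgen ν [[2], [1], [3], [4], [5], [6], [7, 5, 6, 5, 8]] = ⊤ := by
  refine top_le_iff.1 (top.ge.trans (gen_le.2 fun x h1 h2 => ?_))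
  have h7 := seven H
  rw [ev_single] at h7
  by_cases h : x ≤ 6
  · rw [← ev_single ν x]
    refine mem_wgen ν _ ?_
    interval_cases x <;> simp
  · obtain rfl | rfl : x = 7 ∨ x = 8 := by omega
    exacts [h7, g_inv ▸ mul_mem h7 (mul_mem h7 h7)]

omit H in
theorem clo : CloS.{u} := fun _ _ φ t f lf hx g r s hr hs => by
  have h : WL φ t (ν 1) f ν eqB := ⟨lf, ko.eq⟩
  have e : ν 3 * ζ = ev ν [7, 3, 8] := by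
    rw [ζ, ← ev_cons]
    exact ko.eq _ _ (by decide +kernel)
  have H : HH φ t f := ⟨h, hx, rt _ (by decide +kernel), rt _ (by decide +kernel), by
    rwa [← e, ev_single]⟩
  exact h.top (pw H) (by decide) (gn H) r s hr hs

set_option linter.unusedTactic false in
theorem eqns_SOnC : True := by
  first | (have := @Cfsg.Agent.H46.S95.On.Cl.ee.eq_def.{0,0,0}) | (have := @Cfsg.Agent.H46.S95.On.Cl.ee.eq_def.{0,0}) | (have := @Cfsg.Agent.H46.S95.On.Cl.ee.eq_def.{0}) | (have := @Cfsg.Agent.H46.S95.On.Cl.ee.eq_def) | skip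
  first | (have := @Cfsg.Agent.H46.S95.On.Cl.ee.eq_1.{0,0,0}) | (have := @Cfsg.Agent.H46.S95.On.Cl.ee.eq_1.{0,0}) | (have := @Cfsg.Agent.H46.S95.On.Cl.ee.eq_1.{0}) | (have := @Cfsg.Agent.H46.S95.On.Cl.ee.eq_1) | skip
  first | (have := @Cfsg.Agent.H46.S95.On.Cl.ee.eq_2.{0,0,0}) | (have := @Cfsg.Agent.H46.S95.On.Cl.ee.eq_2.{0,0}) | (have := @Cfsg.Agent.H46.S95.On.Cl.ee.eq_2.{0}) | (have := @Cfsg.Agent.H46.S95.On.Cl.ee.eq_2) | skip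
  first | (have := @Cfsg.Agent.H46.S95.On.Cl.ee.eq_unfold.{0,0,0}) | (have := @Cfsg.Agent.H46.S95.On.Cl.ee.eq_unfold.{0,0}) | (have := @Cfsg.Agent.H46.S95.On.Cl.ee.eq_unfold.{0}) | (have := @Cfsg.Agent.H46.S95.On.Cl.ee.eq_unfold) | skip
  first | (have := @Cfsg.Agent.H46.S95.On.Cl.ee.congr_simp.{0,0,0}) | (have := @Cfsg.Agent.H46.S95.On.Cl.ee.congr_simp.{0,0}) | (have := @Cfsg.Agent.H46.S95.On.Cl.ee.congr_simp.{0}) | (have := @Cfsg.Agent.H46.S95.On.Cl.ee.congr_simp) | skip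
  first | (have := @Cfsg.Agent.H46.S95.On.Cl.gg.eq_def.{0,0,0}) | (have := @Cfsg.Agent.H46.S95.On.Cl.gg.eq_def.{0,0}) | (have := @Cfsg.Agent.H46.S95.On.Cl.gg.eq_def.{0}) | (have := @Cfsg.Agent.H46.S95.On.Cl.gg.eq_def) | skip
  first | (have := @Cfsg.Agent.H46.S95.On.Cl.gg.eq_1.{0,0,0}) | (have := @Cfsg.Agent.H46.S95.On.Cl.gg.eq_1.{0,0}) | (have := @Cfsg.Agent.H46.S95.On.Cl.gg.eq_1.{0}) | (have := @Cfsg.Agent.H46.S95.On.Cl.gg.eq_1) | skip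
  first | (have := @Cfsg.Agent.H46.S95.On.Cl.gg.eq_2.{0,0,0}) | (have := @Cfsg.Agent.H46.S95.On.Cl.gg.eq_2.{0,0}) | (have := @Cfsg.Agent.H46.S95.On.Cl.gg.eq_2.{0}) | (have := @Cfsg.Agent.H46.S95.On.Cl.gg.eq_2) | skip
  first | (have := @Cfsg.Agent.H46.S95.On.Cl.gg.eq_unfold.{0,0,0}) | (have := @Cfsg.Agent.H46.S95.On.Cl.gg.eq_unfold.{0,0}) | (have := @Cfsg.Agent.H46.S95.On.Cl.gg.eq_unfold.{0}) | (have := @Cfsg.Agent.H46.S95.On.Cl.gg.eq_unfold) | skip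
  first | (have := @Cfsg.Agent.H46.S95.On.Cl.gg.congr_simp.{0,0,0}) | (have := @Cfsg.Agent.H46.S95.On.Cl.gg.congr_simp.{0,0}) | (have := @Cfsg.Agent.H46.S95.On.Cl.gg.congr_simp.{0}) | (have := @Cfsg.Agent.H46.S95.On.Cl.gg.congr_simp) | skip
  trivial

end Cfsg.Agent.H46.S95.On.Cl
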