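import Cfsg.Agent.H46.SClo
import Cfsg.Agent.H46.SSz

/-!
# All pairs of lifts are good: the sporadic Suzuki group
-/

set_option autoImplicit false
set_option maxRecDepth 200000
set_option linter.style.longLine false
open Subgroup

namespace Cfsg.Agent.H46.S95.Sz.Cl
open Cfsg.Agent.H43 Cfsg.Agent.H44 Cfsg.Agent.H59 Cfsg.Agent.H59.Sz

universe u

/-- the networks -/
noncomputable def EG : List Net := EH ++ [SuzM.m_g2, SuzM.m_g6, SuzM.m_g7]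

/-- the codes of the letters -/
def cd : List ℕ := code ++ [0, 50, 52, 54]

theorem EG_ok : okE 1782 EG = true :=
  okE_append EH_ok (okE_cons.2 ⟨SuzM.m_g2_ok, okE_cons.2 ⟨SuzM.m_g6_ok,
    okE_cons.2 ⟨SuzM.m_g7_ok, okE_nil 1782⟩⟩⟩)

theorem EG_le : grp 1782 EG ≤ grp 1782 SuzM.E := by
  rw [EG, grp_append]
  refine sup_le EH_le (grp_le_iff.2 fun o ho => toPerm_mem_grp ?_)
  simp only [List.mem_cons, List.not_mem_nil, or_false] at ho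
  rcases ho with rfl | rfl | rfl <;> simp only [SuzM.E, List.mem_cons, true_or, or_true]

/-- the model data -/
noncomputable abbrev DG : MD := ⟨1782, 4, L4, P1, EG, cd⟩

/-- the letters -/
noncomputable def μ (x : ℕ) : Sz.Γ := ⟨gp 1782 EG cd x, EG_le (gp_mem _ _ _ _)⟩

theorem ok : DG.Ok (Subgroup.subtype (grp 1782 SuzM.E)) μ :=
  ⟨h_hn, EG_ok, det4.mono EG_le, Subgroup.subtype_injective _, fun _ => rfl⟩

theorem mu1 : β 1 = μ 1 :=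
  Subtype.ext ((val 1).trans (Eq.trans rfl (Ki.val ok 1 (by decide +kernel)).symm))

theorem mu2 : sz 2 = μ 2 :=
  Subtype.ext ((Ki.val H59.Sz.ok 2 (by decide +kernel)).trans
    (Eq.trans rfl (Ki.val ok 2 (by decide +kernel)).symm))

theorem mu3 : sz 3 = μ 3 :=
  Subtype.ext ((Ki.val H59.Sz.ok 3 (by decide +kernel)).trans
    (Eq.trans rfl (Ki.val ok 3 (by decide +kernel)).symm))

variable {G : Type u} [Group G] {φ : Sz.Γ →* G} {t : G} {f : Sz.Γ → G}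

/-- exact lines of words -/
abbrev ee (f : Sz.Γ → G) (r s : List ℕ) : Prop := EE (β 1) f (ev μ r) (ev μ s)

/-- good pairs of words -/
abbrev gg (t : G) (f : Sz.Γ → G) (r s : List ℕ) : Prop := GG t (β 1) f (ev μ r) (ev μ s)

/-- defective lines of words -/
abbrev dd (φ : Sz.Γ →* G) (f : Sz.Γ → G) (r s w : List ℕ) : Prop :=
  DD φ (β 1) f (ev μ r) (ev μ s) (ev μ w)

theorem top : wgen μ [[1], [38], [2], [31], [32], [39], [40]] = ⊤ :=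
  eq_top_iff.2 fun ξ _ =>
    ok.mem_wgen (grp_le_wgen' [1, 38, 2, 31, 32, 39, 40] rfl (by decide +kernel) ξ.2)

section
variable (h : WL φ t (β 1) f μ DG.eqW)
include h

theorem k1 (l : Ln φ f (β 1) (μ 2) (μ 3)) :
    ee f [1] [2] ∧ (ee f [2] [3] ∨ dd φ f [2] [3] [1]) :=
  h.ln mu1 l [38, 2, 37, 38, 37, 38] [39, 38, 2, 37, 38, 40, 2, 38, 2, 37, 38] [38, 37, 38, 2, 37, 38] [38, 40, 37, 38, 37, 38] (by decide +kernel)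

theorem n1 (k : dd φ f [2] [3] [1]) : False :=
  have k0 : dd φ f [1] [11] [39] := h.d' k [38, 2, 37, 38, 37, 38, 26, 31] _ _ _ (by decide +kernel)
  ok.ne (by decide +kernel) (h.move k0 [24] (by decide +kernel))

end

/-- the exact lines -/
structure HH (φ : Sz.Γ →* G) (t : G) (f : Sz.Γ → G) : Prop where
  h : WL φ t (β 1) f μ DG.eqW
  b1 : ee f [1] [2]
  n1 : ee f [2] [3]

variable (H : HH φ t f)
include H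

theorem e1 : ee f [1] [11] :=
  H.h.e' H.n1 [38, 2, 37, 38, 37, 38, 26, 31] _ _ (by decide +kernel)

theorem e2 : ee f [38, 40, 2, 38, 1, 38, 2, 40, 38] [1] :=
  H.h.e (e1 H) [38, 40, 2, 38, 26, 31, 26] _ _ (by decide +kernel)

theorem e3 : ee f [38, 40, 39, 38, 1, 38, 39, 40, 38] [38, 40, 31, 2, 38, 1, 38, 2, 31, 40, 38] :=
  H.h.e (e1 H) [38, 40, 39, 38, 31] _ _ (by decide +kernel)

theorem e4 : ee f [39, 38, 2, 37, 38, 40, 38, 37, 38, 1, 38, 37, 38, 40, 38, 37, 2, 38, 39] [31, 2, 37, 38, 40, 39, 38, 1, 38, 39, 40, 38, 37, 2, 31] :=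
  H.h.e (e1 H) [39, 38, 2, 37, 38, 40, 38, 37, 38, 7, 10, 26] _ _ (by decide +kernel)

theorem p5 : f (ev μ [38, 40, 2, 38, 1, 38, 2, 40, 38]) * (f (ev μ [1]) * (f (ev μ [38, 40, 39, 38, 1, 38, 39, 40, 38]) * (f (ev μ [38, 40, 31, 2, 38, 1, 38, 2, 31, 40, 38]) * (1)))) = f (ev μ [2, 31, 2, 38, 40, 39, 38, 1, 38, 39, 40, 38, 2, 31, 2]) * (1) := by
  rw [H.h.mg (e2 H) [39, 38, 2, 37, 38, 40, 38, 37, 38, 1, 38, 37, 38, 40, 38, 37, 2, 38, 39] (by decide +kernel), H.h.mg (e3 H) [31, 2, 37, 38, 40, 39, 38, 1, 38, 39, 40, 38, 37, 2, 31] (by decide +kernel), H.h.mg (e4 H) [2, 31, 2, 38, 40, 39, 38, 1, 38, 39, 40, 38, 2, 31, 2] (by decide +kernel)]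

theorem e6 : ee f [38, 40, 2, 38, 1, 38, 2, 40, 38] [38, 40, 39, 38, 1, 38, 39, 40, 38] :=
  H.h.e (e1 H) [38, 40, 2, 38] _ _ (by decide +kernel)

theorem e7 : ee f [2, 37, 38, 40, 39, 38, 1, 38, 39, 40, 38, 37, 2] [40] :=
  H.h.e H.b1 [2, 37, 38, 40, 39, 38, 25] _ _ (by decide +kernel)

theorem e8 : ee f [1] [38, 40, 31, 2, 38, 1, 38, 2, 31, 40, 38] :=
  H.h.e (e1 H) [27, 6] _ _ (by decide +kernel)

theorem e9 : ee f [2, 38, 40, 39, 38, 1, 38, 39, 40, 38, 2] [2, 38, 40, 31, 2, 37, 38, 2, 37, 38, 1, 38, 37, 2, 38, 37, 2, 31, 40, 38, 2] :=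
  H.h.e (e1 H) [2, 38, 40, 39, 38, 11, 31] _ _ (by decide +kernel)

theorem p10 : f (ev μ [38, 40, 2, 38, 1, 38, 2, 40, 38]) * (f (ev μ [38, 40, 39, 38, 1, 38, 39, 40, 38]) * (f (ev μ [40]) * (f (ev μ [1]) * (f (ev μ [38, 40, 31, 2, 38, 1, 38, 2, 31, 40, 38]) * (1))))) = f (ev μ [2, 31, 2, 38, 40, 39, 38, 1, 38, 39, 40, 38, 2, 31, 2]) * (1) := by
  rw [H.h.mg (e6 H) [2, 37, 38, 40, 39, 38, 1, 38, 39, 40, 38, 37, 2] (by decide +kernel), H.h.mg (e7 H) [2, 38, 40, 39, 38, 1, 38, 39, 40, 38, 2] (by decide +kernel), H.h.mg (e8 H) [2, 38, 40, 31, 2, 37, 38, 2, 37, 38, 1, 38, 37, 2, 38, 37, 2, 31, 40, 38, 2] (by decide +kernel), H.h.mg (e9 H) [2, 31, 2, 38, 40, 39, 38, 1, 38, 39, 40, 38, 2, 31, 2] (by decide +kernel)]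

theorem e11 : ee f [1] [40] :=
  H.h.e H.b1 [19, 28] _ _ (by decide +kernel)

theorem g12 : gg t f [1] [38, 40, 39, 38, 1, 38, 39, 40, 38] :=
  H.h.grid (e11 H) (H.h.root (a := [38, 40, 39, 38]) (r := [38, 40, 39, 38, 1, 38, 39, 40, 38]) mu1 (by decide +kernel)) (by decide +kernel) ((p5 H).trans (p10 H).symm)

theorem g13 : gg t f [37, 38, 40, 31, 2, 38, 39, 31, 2, 38, 1, 38, 2, 31, 39, 38, 2, 31, 40, 38, 37] [1] :=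
  H.h.g (g12 H) [37, 38, 40, 31, 2, 38, 39, 31, 2, 38, 17, 9, 22] _ _ (by decide +kernel)

theorem g14 : gg t f [39, 38, 2, 31, 2, 37, 38, 1, 38, 37, 2, 31, 2, 38, 39] [1] :=
  H.h.g (g12 H) [39, 38, 2, 31, 2, 37, 38, 2, 8] _ _ (by decide +kernel)

theorem g15 : gg t f [37, 38, 40, 31, 2, 38, 39, 31, 2, 38, 1, 38, 2, 31, 39, 38, 2, 31, 40, 38, 37] [39, 38, 2, 31, 2, 37, 38, 1, 38, 37, 2, 31, 2, 38, 39] :=
  H.h.g (g12 H) [37, 38, 40, 31, 2, 38, 39, 31, 2, 38, 29, 26, 22] _ _ (by decide +kernel)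

theorem g16 : gg t f [1] [38, 2, 37, 38, 1, 38, 37, 2, 38] :=
  H.h.lf.gg_symm (H.h.conj (g13 H) (g14 H) (g15 H) _ (by decide +kernel))

theorem g17 : gg t f [38, 40, 2, 38, 39, 2, 38, 37, 38, 1, 38, 37, 38, 2, 39, 38, 2, 40, 38] [1] :=
  H.h.g (g16 H) [38, 40, 2, 38, 39, 2, 38, 37, 38, 3, 2] _ _ (by decide +kernel)

theorem g18 : gg t f [38, 40, 38, 37, 38, 1, 38, 37, 38, 40, 38] [1] :=
  H.h.g (g16 H) [38, 40, 38, 37, 38, 10, 2] _ _ (by decide +kernel)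

theorem e19 : ee f [38, 40, 2, 38, 39, 2, 38, 37, 38, 1, 38, 37, 38, 2, 39, 38, 2, 40, 38] [38, 40, 38, 37, 38, 1, 38, 37, 38, 40, 38] :=
  H.h.e (e1 H) [38, 40, 2, 38, 39, 2, 38, 37, 38, 27] _ _ (by decide +kernel)

theorem g20 : gg t f [1] [38, 40, 39, 38, 2, 37, 38, 1, 38, 37, 2, 38, 39, 40, 38] :=
  H.h.lf.gg_symm (H.h.add (g17 H) (g18 H) (e19 H) _ (by decide +kernel))

theorem g21 : gg t f [40, 38, 37, 38, 2, 31, 32, 37, 38, 2, 31, 2, 38, 39, 40, 38, 1, 38, 40, 39, 38, 2, 31, 2, 38, 37, 32, 31, 2, 38, 37, 38, 40] [37, 38, 2, 37, 38, 37, 38, 40, 31, 32, 2, 31, 2, 38, 39, 40, 38, 1, 38, 40, 39, 38, 2, 31, 2, 32, 31, 40, 38, 37, 38, 37, 2, 38, 37] :=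
  H.h.g (g20 H) [40, 38, 37, 38, 2, 31, 32, 37, 38, 2, 31, 2, 38, 39, 40, 38, 17, 9, 23] _ _ (by decide +kernel)

theorem g22 : gg t f [31, 32, 2, 31, 2, 38, 39, 40, 38, 1, 38, 40, 39, 38, 2, 31, 2, 32, 31] [37, 38, 2, 37, 38, 37, 38, 40, 31, 32, 2, 31, 2, 38, 39, 40, 38, 1, 38, 40, 39, 38, 2, 31, 2, 32, 31, 40, 38, 37, 38, 37, 2, 38, 37] :=
  H.h.g (g20 H) [31, 32, 2, 31, 2, 38, 39, 40, 38, 29, 30, 22] _ _ (by decide +kernel)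

theorem g23 : gg t f [31, 32, 2, 31, 2, 38, 39, 40, 38, 1, 38, 40, 39, 38, 2, 31, 2, 32, 31] [40, 38, 37, 38, 2, 31, 32, 37, 38, 2, 31, 2, 38, 39, 40, 38, 1, 38, 40, 39, 38, 2, 31, 2, 38, 37, 32, 31, 2, 38, 37, 38, 40] :=
  H.h.g (g20 H) [31, 32, 2, 31, 2, 38, 39, 40, 38, 31, 17, 9, 23] _ _ (by decide +kernel)

theorem g24 : gg t f [39, 38, 40, 38, 37, 38, 1, 38, 37, 38, 40, 38, 39] [1] :=
  H.h.g (g16 H) [39, 38, 40, 38, 37, 38, 10, 2] _ _ (by decide +kernel)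

theorem g25 : gg t f [37, 38, 40, 39, 38, 1, 38, 39, 40, 38, 37] [1] :=
  H.h.g (g12 H) [37, 38, 40, 39, 38, 9, 30, 17] _ _ (by decide +kernel)

theorem g26 : gg t f [39, 38, 40, 38, 37, 38, 1, 38, 37, 38, 40, 38, 39] [37, 38, 40, 39, 38, 1, 38, 39, 40, 38, 37] :=
  H.h.g (g16 H) [39, 38, 40, 38, 37, 38, 28, 4, 23] _ _ (by decide +kernel)

theorem g27 : gg t f [1] [38, 1, 38] :=
  H.h.lf.gg_symm (H.h.conj (g24 H) (g25 H) (g26 H) _ (by decide +kernel))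

theorem g28 : gg t f [38, 37, 38, 39, 40, 38, 2, 31, 2, 38, 1, 38, 2, 31, 2, 38, 40, 39, 38, 37, 38] [1] :=
  H.h.g (g27 H) [38, 37, 38, 39, 40, 38, 2, 31, 2, 38, 2, 22, 19] _ _ (by decide +kernel)

theorem g29 : gg t f [37, 38, 1, 38, 37] [1] :=
  H.h.g (g27 H) [37, 38] _ _ (by decide +kernel)

theorem g30 : gg t f [38, 37, 38, 39, 40, 38, 2, 31, 2, 38, 1, 38, 2, 31, 2, 38, 40, 39, 38, 37, 38] [37, 38, 1, 38, 37] :=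
  H.h.g (g27 H) [38, 37, 38, 39, 40, 38, 2, 31, 2, 38, 8, 10, 11] _ _ (by decide +kernel)

theorem g31 : gg t f [1] [38, 40, 39, 38, 2, 31, 2, 38, 1, 38, 2, 31, 2, 38, 39, 40, 38] :=
  H.h.lf.gg_symm (H.h.conj (g28 H) (g29 H) (g30 H) _ (by decide +kernel))

theorem g32 : gg t f [32, 31, 2, 31, 37, 38, 2, 37, 38, 40, 39, 32, 38, 2, 31, 2, 38, 1, 38, 2, 31, 2, 38, 32, 39, 40, 38, 37, 2, 38, 37, 31, 2, 31, 32] [37, 38, 2, 37, 38, 37, 38, 40, 31, 32, 2, 31, 2, 38, 39, 40, 38, 1, 38, 40, 39, 38, 2, 31, 2, 32, 31, 40, 38, 37, 38, 37, 2, 38, 37] :=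
  H.h.g (g31 H) [32, 31, 2, 31, 37, 38, 2, 37, 38, 40, 39, 32, 38, 2, 31, 2, 38, 9, 28, 16, 33] _ _ (by decide +kernel)

theorem g33 : gg t f [32, 31, 2, 31, 37, 38, 2, 37, 38, 40, 39, 32, 38, 2, 31, 2, 38, 1, 38, 2, 31, 2, 38, 32, 39, 40, 38, 37, 2, 38, 37, 31, 2, 31, 32] [40, 38, 37, 38, 2, 31, 32, 37, 38, 2, 31, 2, 38, 39, 40, 38, 1, 38, 40, 39, 38, 2, 31, 2, 38, 37, 32, 31, 2, 38, 37, 38, 40] :=
  H.h.g (g27 H) [32, 31, 2, 31, 37, 38, 2, 37, 38, 40, 39, 32, 38, 2, 31, 2, 38, 8, 25, 20, 24, 22] _ _ (by decide +kernel)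

theorem g34 : gg t f [32, 31, 2, 31, 37, 38, 2, 37, 38, 40, 39, 32, 38, 2, 31, 2, 38, 1, 38, 2, 31, 2, 38, 32, 39, 40, 38, 37, 2, 38, 37, 31, 2, 31, 32] [31, 32, 2, 31, 2, 38, 39, 40, 38, 1, 38, 40, 39, 38, 2, 31, 2, 32, 31] :=
  H.h.g (g31 H) [32, 31, 2, 31, 37, 38, 2, 37, 38, 40, 39, 32, 38, 2, 31, 2, 38, 33, 10, 17, 24] _ _ (by decide +kernel)

theorem g35 : gg t f [32, 37, 38, 2, 31, 2, 38, 39, 40, 31, 32, 38, 2, 31, 2, 38, 1, 38, 2, 31, 2, 38, 32, 31, 40, 39, 38, 2, 31, 2, 38, 37, 32] [37, 38, 2, 37, 38, 37, 38, 40, 31, 32, 2, 31, 2, 38, 39, 40, 38, 1, 38, 40, 39, 38, 2, 31, 2, 32, 31, 40, 38, 37, 38, 37, 2, 38, 37] :=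
  H.h.g (g27 H) [32, 37, 38, 2, 31, 2, 38, 39, 40, 31, 32, 38, 2, 31, 2, 38, 31, 33, 8, 29] _ _ (by decide +kernel)

theorem g36 : gg t f [32, 37, 38, 2, 31, 2, 38, 39, 40, 31, 32, 38, 2, 31, 2, 38, 1, 38, 2, 31, 2, 38, 32, 31, 40, 39, 38, 2, 31, 2, 38, 37, 32] [40, 38, 37, 38, 2, 31, 32, 37, 38, 2, 31, 2, 38, 39, 40, 38, 1, 38, 40, 39, 38, 2, 31, 2, 38, 37, 32, 31, 2, 38, 37, 38, 40] :=
  H.h.g (g27 H) [32, 37, 38, 2, 31, 2, 38, 39, 40, 31, 32, 38, 2, 31, 2, 38, 32, 33, 28] _ _ (by decide +kernel)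

theorem g37 : gg t f [32, 37, 38, 2, 31, 2, 38, 39, 40, 31, 32, 38, 2, 31, 2, 38, 1, 38, 2, 31, 2, 38, 32, 31, 40, 39, 38, 2, 31, 2, 38, 37, 32] [31, 32, 2, 31, 2, 38, 39, 40, 38, 1, 38, 40, 39, 38, 2, 31, 2, 32, 31] :=
  H.h.g (g31 H) [32, 37, 38, 2, 31, 2, 38, 39, 40, 31, 32, 38, 2, 31, 2, 38, 7, 19, 30, 22] _ _ (by decide +kernel)

theorem g38 : gg t f [32, 37, 38, 2, 31, 2, 38, 39, 40, 31, 32, 38, 2, 31, 2, 38, 1, 38, 2, 31, 2, 38, 32, 31, 40, 39, 38, 2, 31, 2, 38, 37, 32] [32, 31, 2, 31, 37, 38, 2, 37, 38, 40, 39, 32, 38, 2, 31, 2, 38, 1, 38, 2, 31, 2, 38, 32, 39, 40, 38, 37, 2, 38, 37, 31, 2, 31, 32] :=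
  H.h.g (g20 H) [32, 37, 38, 2, 31, 2, 38, 39, 40, 31, 32, 38, 2, 31, 2, 38, 19, 20, 24] _ _ (by decide +kernel)

theorem g39 : gg t f [2, 38, 40, 39, 38, 2, 31, 2, 38, 1, 38, 2, 31, 2, 38, 39, 40, 38, 2] [37, 38, 2, 37, 38, 37, 38, 40, 31, 32, 2, 31, 2, 38, 39, 40, 38, 1, 38, 40, 39, 38, 2, 31, 2, 32, 31, 40, 38, 37, 38, 37, 2, 38, 37] :=
  H.h.g (g27 H) [2, 38, 40, 39, 38, 2, 31, 2, 38, 29, 23, 18, 29] _ _ (by decide +kernel)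

theorem g40 : gg t f [2, 38, 40, 39, 38, 2, 31, 2, 38, 1, 38, 2, 31, 2, 38, 39, 40, 38, 2] [40, 38, 37, 38, 2, 31, 32, 37, 38, 2, 31, 2, 38, 39, 40, 38, 1, 38, 40, 39, 38, 2, 31, 2, 38, 37, 32, 31, 2, 38, 37, 38, 40] :=
  H.h.g (g31 H) [2, 38, 40, 39, 38, 2, 31, 2, 38, 29, 31, 26, 24] _ _ (by decide +kernel)

theorem g41 : gg t f [2, 38, 40, 39, 38, 2, 31, 2, 38, 1, 38, 2, 31, 2, 38, 39, 40, 38, 2] [31, 32, 2, 31, 2, 38, 39, 40, 38, 1, 38, 40, 39, 38, 2, 31, 2, 32, 31] :=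
  H.h.g (g27 H) [2, 38, 40, 39, 38, 2, 31, 2, 38, 2, 24, 3, 24] _ _ (by decide +kernel)

theorem g42 : gg t f [2, 38, 40, 39, 38, 2, 31, 2, 38, 1, 38, 2, 31, 2, 38, 39, 40, 38, 2] [32, 31, 2, 31, 37, 38, 2, 37, 38, 40, 39, 32, 38, 2, 31, 2, 38, 1, 38, 2, 31, 2, 38, 32, 39, 40, 38, 37, 2, 38, 37, 31, 2, 31, 32] :=
  H.h.g (g20 H) [2, 38, 40, 39, 38, 2, 31, 2, 38, 19, 24] _ _ (by decide +kernel)

theorem g43 : gg t f [2, 38, 40, 39, 38, 2, 31, 2, 38, 1, 38, 2, 31, 2, 38, 39, 40, 38, 2] [32, 37, 38, 2, 31, 2, 38, 39, 40, 31, 32, 38, 2, 31, 2, 38, 1, 38, 2, 31, 2, 38, 32, 31, 40, 39, 38, 2, 31, 2, 38, 37, 32] :=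
  H.h.g (g20 H) [2, 38, 40, 39, 38, 2, 31, 2, 38, 32, 24, 31] _ _ (by decide +kernel)

theorem g44 : gg t f [40] [37, 38, 2, 37, 38, 37, 38, 40, 31, 32, 2, 31, 2, 38, 39, 40, 38, 1, 38, 40, 39, 38, 2, 31, 2, 32, 31, 40, 38, 37, 38, 37, 2, 38, 37] :=
  H.h.g (g27 H) [38, 40, 37, 38, 37, 38, 21, 29, 19, 24] _ _ (by decide +kernel)

theorem g45 : gg t f [40] [40, 38, 37, 38, 2, 31, 32, 37, 38, 2, 31, 2, 38, 39, 40, 38, 1, 38, 40, 39, 38, 2, 31, 2, 38, 37, 32, 31, 2, 38, 37, 38, 40] :=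
  H.h.g (g27 H) [38, 40, 37, 38, 37, 38, 28, 33, 3, 28] _ _ (by decide +kernel)

theorem g46 : gg t f [40] [31, 32, 2, 31, 2, 38, 39, 40, 38, 1, 38, 40, 39, 38, 2, 31, 2, 32, 31] :=
  H.h.g (g16 H) [38, 40, 37, 38, 37, 38, 4, 2, 22] _ _ (by decide +kernel)

theorem g47 : gg t f [40] [32, 31, 2, 31, 37, 38, 2, 37, 38, 40, 39, 32, 38, 2, 31, 2, 38, 1, 38, 2, 31, 2, 38, 32, 39, 40, 38, 37, 2, 38, 37, 31, 2, 31, 32] :=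
  H.h.g (g31 H) [38, 40, 37, 38, 37, 38, 2, 9, 24] _ _ (by decide +kernel)

theorem g48 : gg t f [40] [32, 37, 38, 2, 31, 2, 38, 39, 40, 31, 32, 38, 2, 31, 2, 38, 1, 38, 2, 31, 2, 38, 32, 31, 40, 39, 38, 2, 31, 2, 38, 37, 32] :=
  H.h.g (g31 H) [38, 40, 37, 38, 37, 38, 25, 19, 30, 26] _ _ (by decide +kernel)

theorem g49 : gg t f [40] [2, 38, 40, 39, 38, 2, 31, 2, 38, 1, 38, 2, 31, 2, 38, 39, 40, 38, 2] :=
  H.h.g (g27 H) [38, 40, 37, 38, 37, 38, 2, 9, 10, 7] _ _ (by decide +kernel)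

theorem g50 : gg t f [39] [37, 38, 2, 37, 38, 37, 38, 40, 31, 32, 2, 31, 2, 38, 39, 40, 38, 1, 38, 40, 39, 38, 2, 31, 2, 32, 31, 40, 38, 37, 38, 37, 2, 38, 37] :=
  H.h.g (H.h.lf.ee_gg (e1 H)) [38, 39, 37, 38, 37, 38, 29, 17] _ _ (by decide +kernel)

theorem g51 : gg t f [39] [40, 38, 37, 38, 2, 31, 32, 37, 38, 2, 31, 2, 38, 39, 40, 38, 1, 38, 40, 39, 38, 2, 31, 2, 38, 37, 32, 31, 2, 38, 37, 38, 40] :=
  H.h.g (H.h.lf.ee_gg (e1 H)) [38, 39, 37, 38, 37, 38, 32, 16] _ _ (by decide +kernel)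

theorem g52 : gg t f [39] [31, 32, 2, 31, 2, 38, 39, 40, 38, 1, 38, 40, 39, 38, 2, 31, 2, 32, 31] :=
  H.h.g (H.h.lf.ee_gg H.b1) [38, 39, 37, 38, 37, 38, 17, 22] _ _ (by decide +kernel)

theorem g53 : gg t f [39] [32, 31, 2, 31, 37, 38, 2, 37, 38, 40, 39, 32, 38, 2, 31, 2, 38, 1, 38, 2, 31, 2, 38, 32, 39, 40, 38, 37, 2, 38, 37, 31, 2, 31, 32] :=
  H.h.g (g31 H) [38, 39, 37, 38, 37, 38, 6, 23, 11, 24] _ _ (by decide +kernel)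

theorem g54 : gg t f [39] [32, 37, 38, 2, 31, 2, 38, 39, 40, 31, 32, 38, 2, 31, 2, 38, 1, 38, 2, 31, 2, 38, 32, 31, 40, 39, 38, 2, 31, 2, 38, 37, 32] :=
  H.h.g (g31 H) [38, 39, 37, 38, 37, 38, 18, 20, 7, 22] _ _ (by decide +kernel)

theorem g55 : gg t f [39] [2, 38, 40, 39, 38, 2, 31, 2, 38, 1, 38, 2, 31, 2, 38, 39, 40, 38, 2] :=
  H.h.g (g27 H) [38, 39, 37, 38, 37, 38, 11, 25, 4, 22] _ _ (by decide +kernel)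

theorem g56 : gg t f [39] [40] :=
  H.h.g (g12 H) [38, 39, 37, 38, 37, 38, 5, 8, 7] _ _ (by decide +kernel)

theorem g57 : gg t f [2] [37, 38, 2, 37, 38, 37, 38, 40, 31, 32, 2, 31, 2, 38, 39, 40, 38, 1, 38, 40, 39, 38, 2, 31, 2, 32, 31, 40, 38, 37, 38, 37, 2, 38, 37] :=
  H.h.g (g12 H) [38, 2, 37, 38, 37, 38, 25, 31, 27] _ _ (by decide +kernel)

theorem g58 : gg t f [2] [40, 38, 37, 38, 2, 31, 32, 37, 38, 2, 31, 2, 38, 39, 40, 38, 1, 38, 40, 39, 38, 2, 31, 2, 38, 37, 32, 31, 2, 38, 37, 38, 40] :=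
  H.h.g (g20 H) [38, 2, 37, 38, 37, 38, 23, 31, 21, 22] _ _ (by decide +kernel)

theorem g59 : gg t f [2] [31, 32, 2, 31, 2, 38, 39, 40, 38, 1, 38, 40, 39, 38, 2, 31, 2, 32, 31] :=
  H.h.g (g20 H) [38, 2, 37, 38, 37, 38, 22, 21, 23] _ _ (by decide +kernel)

theorem g60 : gg t f [2] [32, 31, 2, 31, 37, 38, 2, 37, 38, 40, 39, 32, 38, 2, 31, 2, 38, 1, 38, 2, 31, 2, 38, 32, 39, 40, 38, 37, 2, 38, 37, 31, 2, 31, 32] :=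
  H.h.g (g27 H) [38, 2, 37, 38, 37, 38, 18, 16, 25, 30] _ _ (by decide +kernel)

theorem g61 : gg t f [2] [32, 37, 38, 2, 31, 2, 38, 39, 40, 31, 32, 38, 2, 31, 2, 38, 1, 38, 2, 31, 2, 38, 32, 31, 40, 39, 38, 2, 31, 2, 38, 37, 32] :=
  H.h.g (g16 H) [38, 2, 37, 38, 37, 38, 6, 16, 3] _ _ (by decide +kernel)

theorem g62 : gg t f [2] [2, 38, 40, 39, 38, 2, 31, 2, 38, 1, 38, 2, 31, 2, 38, 39, 40, 38, 2] :=
  H.h.g (g27 H) [38, 2, 37, 38, 37, 38, 9, 6, 10] _ _ (by decide +kernel)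

theorem g63 : gg t f [2] [40] :=
  H.h.g (H.h.lf.ee_gg (e1 H)) [38, 2, 37, 38, 37, 38, 29, 32, 29] _ _ (by decide +kernel)

theorem g64 : gg t f [2] [39] :=
  H.h.g (H.h.lf.ee_gg (e1 H)) [38, 2, 37, 38, 37, 38, 10, 26] _ _ (by decide +kernel)

theorem g65 : gg t f [38] [37, 38, 2, 37, 38, 37, 38, 40, 31, 32, 2, 31, 2, 38, 39, 40, 38, 1, 38, 40, 39, 38, 2, 31, 2, 32, 31, 40, 38, 37, 38, 37, 2, 38, 37] :=
  H.h.g (g31 H) [37, 38, 37, 38, 28, 33, 16] _ _ (by decide +kernel)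

theorem g66 : gg t f [38] [40, 38, 37, 38, 2, 31, 32, 37, 38, 2, 31, 2, 38, 39, 40, 38, 1, 38, 40, 39, 38, 2, 31, 2, 38, 37, 32, 31, 2, 38, 37, 38, 40] :=
  H.h.g (g31 H) [37, 38, 37, 38, 20, 29, 22, 24] _ _ (by decide +kernel)

theorem g67 : gg t f [38] [31, 32, 2, 31, 2, 38, 39, 40, 38, 1, 38, 40, 39, 38, 2, 31, 2, 32, 31] :=
  H.h.g (g27 H) [37, 38, 37, 38, 31, 7, 17, 26] _ _ (by decide +kernel)

theorem g68 : gg t f [38] [32, 31, 2, 31, 37, 38, 2, 37, 38, 40, 39, 32, 38, 2, 31, 2, 38, 1, 38, 2, 31, 2, 38, 32, 39, 40, 38, 37, 2, 38, 37, 31, 2, 31, 32] :=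
  H.h.g (H.h.lf.ee_gg (e1 H)) [37, 38, 37, 38, 16, 16, 22] _ _ (by decide +kernel)

theorem g69 : gg t f [38] [32, 37, 38, 2, 31, 2, 38, 39, 40, 31, 32, 38, 2, 31, 2, 38, 1, 38, 2, 31, 2, 38, 32, 31, 40, 39, 38, 2, 31, 2, 38, 37, 32] :=
  H.h.g (H.h.lf.ee_gg (e1 H)) [37, 38, 37, 38, 10, 28] _ _ (by decide +kernel)

theorem g70 : gg t f [38] [2, 38, 40, 39, 38, 2, 31, 2, 38, 1, 38, 2, 31, 2, 38, 39, 40, 38, 2] :=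
  H.h.g (H.h.lf.ee_gg H.b1) [37, 38, 37, 38, 26, 7] _ _ (by decide +kernel)

theorem g71 : gg t f [38] [40] :=
  H.h.g (g16 H) [37, 38, 37, 38, 10, 3] _ _ (by decide +kernel)

theorem g72 : gg t f [38] [39] :=
  H.h.g (g16 H) [37, 38, 37, 38, 11, 4] _ _ (by decide +kernel)

theorem g73 : gg t f [38] [2] :=
  H.h.g (g16 H) [37, 38, 37, 38, 2] _ _ (by decide +kernel)

theorem g74 : gg t f [1] [37, 38, 2, 37, 38, 37, 38, 40, 31, 32, 2, 31, 2, 38, 39, 40, 38, 1, 38, 40, 39, 38, 2, 31, 2, 32, 31, 40, 38, 37, 38, 37, 2, 38, 37] :=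
  H.h.g (g20 H) [10, 25, 3] _ _ (by decide +kernel)

theorem g75 : gg t f [1] [40, 38, 37, 38, 2, 31, 32, 37, 38, 2, 31, 2, 38, 39, 40, 38, 1, 38, 40, 39, 38, 2, 31, 2, 38, 37, 32, 31, 2, 38, 37, 38, 40] :=
  H.h.g (g20 H) [23, 11, 23] _ _ (by decide +kernel)

theorem g76 : gg t f [1] [31, 32, 2, 31, 2, 38, 39, 40, 38, 1, 38, 40, 39, 38, 2, 31, 2, 32, 31] :=
  H.h.g (g12 H) [17, 23, 26] _ _ (by decide +kernel)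

theorem g77 : gg t f [1] [32, 31, 2, 31, 37, 38, 2, 37, 38, 40, 39, 32, 38, 2, 31, 2, 38, 1, 38, 2, 31, 2, 38, 32, 39, 40, 38, 37, 2, 38, 37, 31, 2, 31, 32] :=
  H.h.g (g31 H) [11, 8, 26] _ _ (by decide +kernel)

theorem g78 : gg t f [1] [32, 37, 38, 2, 31, 2, 38, 39, 40, 31, 32, 38, 2, 31, 2, 38, 1, 38, 2, 31, 2, 38, 32, 31, 40, 39, 38, 2, 31, 2, 38, 37, 32] :=
  H.h.g (g27 H) [17, 29, 10, 22] _ _ (by decide +kernel)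

theorem g79 : gg t f [1] [2, 38, 40, 39, 38, 2, 31, 2, 38, 1, 38, 2, 31, 2, 38, 39, 40, 38, 2] :=
  H.h.g (g31 H) [2] _ _ (by decide +kernel)

theorem g80 : gg t f [1] [40] :=
  H.h.g (H.h.lf.ee_gg H.b1) [19, 28] _ _ (by decide +kernel)

theorem g81 : gg t f [1] [39] :=
  H.h.g (H.h.lf.ee_gg H.b1) [25] _ _ (by decide +kernel)

theorem g82 : gg t f [1] [38] :=
  H.h.g (g27 H) [8, 7, 25, 22] _ _ (by decide +kernel)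

theorem pw : List.Pairwise (fun r s => gg t f r s) [[1], [38], [2], [39], [40], [2, 38, 40, 39, 38, 2, 31, 2, 38, 1, 38, 2, 31, 2, 38, 39, 40, 38, 2], [32, 37, 38, 2, 31, 2, 38, 39, 40, 31, 32, 38, 2, 31, 2, 38, 1, 38, 2, 31, 2, 38, 32, 31, 40, 39, 38, 2, 31, 2, 38, 37, 32], [32, 31, 2, 31, 37, 38, 2, 37, 38, 40, 39, 32, 38, 2, 31, 2, 38, 1, 38, 2, 31, 2, 38, 32, 39, 40, 38, 37, 2, 38, 37, 31, 2, 31, 32], [31, 32, 2, 31, 2, 38, 39, 40, 38, 1, 38, 40, 39, 38, 2, 31, 2, 32, 31], [40, 38, 37, 38, 2, 31, 32, 37, 38, 2, 31, 2, 38, 39, 40, 38, 1, 38, 40, 39, 38, 2, 31, 2, 38, 37, 32, 31, 2, 38, 37, 38, 40], [37, 38, 2, 37, 38, 37, 38, 40, 31, 32, 2, 31, 2, 38, 39, 40, 38, 1, 38, 40, 39, 38, 2, 31, 2, 32, 31, 40, 38, 37, 38, 37, 2, 38, 37]] :=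
  List.Pairwise.cons (List.forall_mem_cons.2 ⟨(g82 H), List.forall_mem_cons.2 ⟨(H.h.lf.ee_gg H.b1), List.forall_mem_cons.2 ⟨(g81 H), List.forall_mem_cons.2 ⟨(g80 H), List.forall_mem_cons.2 ⟨(g79 H), List.forall_mem_cons.2 ⟨(g78 H), List.forall_mem_cons.2 ⟨(g77 H), List.forall_mem_cons.2 ⟨(g76 H), List.forall_mem_cons.2 ⟨(g75 H), List.forall_mem_cons.2 ⟨(g74 H), List.forall_mem_nil _⟩⟩⟩⟩⟩⟩⟩⟩⟩⟩)
    (List.Pairwise.cons (List.forall_mem_cons.2 ⟨(g73 H), List.forall_mem_cons.2 ⟨(g72 H), List.forall_mem_cons.2 ⟨(g71 H), List.forall_mem_cons.2 ⟨(g70 H), List.forall_mem_cons.2 ⟨(g69 H), List.forall_mem_cons.2 ⟨(g68 H), List.forall_mem_cons.2 ⟨(g67 H), List.forall_mem_cons.2 ⟨(g66 H), List.forall_mem_cons.2 ⟨(g65 H), List.forall_mem_nil _⟩⟩⟩⟩⟩⟩⟩⟩⟩)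
    (List.Pairwise.cons (List.forall_mem_cons.2 ⟨(g64 H), List.forall_mem_cons.2 ⟨(g63 H), List.forall_mem_cons.2 ⟨(g62 H), List.forall_mem_cons.2 ⟨(g61 H), List.forall_mem_cons.2 ⟨(g60 H), List.forall_mem_cons.2 ⟨(g59 H), List.forall_mem_cons.2 ⟨(g58 H), List.forall_mem_cons.2 ⟨(g57 H), List.forall_mem_nil _⟩⟩⟩⟩⟩⟩⟩⟩)
    (List.Pairwise.cons (List.forall_mem_cons.2 ⟨(g56 H), List.forall_mem_cons.2 ⟨(g55 H), List.forall_mem_cons.2 ⟨(g54 H), List.forall_mem_cons.2 ⟨(g53 H), List.forall_mem_cons.2 ⟨(g52 H), List.forall_mem_cons.2 ⟨(g51 H), List.forall_mem_cons.2 ⟨(g50 H), List.forall_mem_nil _⟩⟩⟩⟩⟩⟩⟩)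
    (List.Pairwise.cons (List.forall_mem_cons.2 ⟨(g49 H), List.forall_mem_cons.2 ⟨(g48 H), List.forall_mem_cons.2 ⟨(g47 H), List.forall_mem_cons.2 ⟨(g46 H), List.forall_mem_cons.2 ⟨(g45 H), List.forall_mem_cons.2 ⟨(g44 H), List.forall_mem_nil _⟩⟩⟩⟩⟩⟩)
    (List.Pairwise.cons (List.forall_mem_cons.2 ⟨(g43 H), List.forall_mem_cons.2 ⟨(g42 H), List.forall_mem_cons.2 ⟨(g41 H), List.forall_mem_cons.2 ⟨(g40 H), List.forall_mem_cons.2 ⟨(g39 H), List.forall_mem_nil _⟩⟩⟩⟩⟩)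
    (List.Pairwise.cons (List.forall_mem_cons.2 ⟨(g38 H), List.forall_mem_cons.2 ⟨(g37 H), List.forall_mem_cons.2 ⟨(g36 H), List.forall_mem_cons.2 ⟨(g35 H), List.forall_mem_nil _⟩⟩⟩⟩)
    (List.Pairwise.cons (List.forall_mem_cons.2 ⟨(g34 H), List.forall_mem_cons.2 ⟨(g33 H), List.forall_mem_cons.2 ⟨(g32 H), List.forall_mem_nil _⟩⟩⟩)
    (List.Pairwise.cons (List.forall_mem_cons.2 ⟨(g23 H), List.forall_mem_cons.2 ⟨(g22 H), List.forall_mem_nil _⟩⟩)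
    (List.Pairwise.cons (List.forall_mem_cons.2 ⟨(g21 H), List.forall_mem_nil _⟩)
    (List.Pairwise.cons (List.forall_mem_nil _)
    (List.Pairwise.nil)))))))))))

theorem gn : wgen μ [[1], [38], [2], [39], [40], [2, 38, 40, 39, 38, 2, 31, 2, 38, 1, 38, 2, 31, 2, 38, 39, 40, 38, 2], [32, 37, 38, 2, 31, 2, 38, 39, 40, 31, 32, 38, 2, 31, 2, 38, 1, 38, 2, 31, 2, 38, 32, 31, 40, 39, 38, 2, 31, 2, 38, 37, 32], [32, 31, 2, 31, 37, 38, 2, 37, 38, 40, 39, 32, 38, 2, 31, 2, 38, 1, 38, 2, 31, 2, 38, 32, 39, 40, 38, 37, 2, 38, 37, 31, 2, 31, 32], [31, 32, 2, 31, 2, 38, 39, 40, 38, 1, 38, 40, 39, 38, 2, 31, 2, 32, 31], [40, 38, 37, 38, 2, 31, 32, 37, 38, 2, 31, 2, 38, 39, 40, 38, 1, 38, 40, 39, 38, 2, 31, 2, 38, 37, 32, 31, 2, 38, 37, 38, 40], [37, 38, 2, 37, 38, 37, 38, 40, 31, 32, 2, 31, 2, 38, 39, 40, 38, 1, 38, 40, 39,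 38, 2, 31, 2, 32, 31, 40, 38, 37, 38, 37, 2, 38, 37]] = ⊤ :=
  top_le_iff.1 (top.ge.trans (wgen_le.2 (List.forall_mem_cons.2 ⟨H.h.mem _ [[1]] (by decide +kernel),
    List.forall_mem_cons.2 ⟨H.h.mem _ [[38]] (by decide +kernel),
    List.forall_mem_cons.2 ⟨H.h.mem _ [[2]] (by decide +kernel),
    List.forall_mem_cons.2 ⟨H.h.mem _ [[2, 38, 40, 39, 38, 2, 31, 2, 38, 1, 38, 2, 31, 2, 38, 39, 40, 38, 2], [32, 37, 38, 2, 31, 2, 38, 39, 40, 31, 32, 38, 2, 31, 2, 38, 1, 38, 2, 31, 2, 38, 32, 31, 40, 39, 38, 2, 31, 2, 38, 37, 32], [32, 31, 2, 31, 37, 38, 2, 37, 38, 40, 39, 32, 38, 2, 31, 2, 38, 1, 38, 2, 31, 2, 38, 32, 39, 40, 38, 37, 2, 38, 37, 31, 2, 31, 32]] (by decide +kernel),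
    List.forall_mem_cons.2 ⟨H.h.mem _ [[31, 32, 2, 31, 2, 38, 39, 40, 38, 1, 38, 40, 39, 38, 2, 31, 2, 32, 31], [40, 38, 37, 38, 2, 31, 32, 37, 38, 2, 31, 2, 38, 39, 40, 38, 1, 38, 40, 39, 38, 2, 31, 2, 38, 37, 32, 31, 2, 38, 37, 38, 40], [37, 38, 2, 37, 38, 37, 38, 40, 31, 32, 2, 31, 2, 38, 39, 40, 38, 1, 38, 40, 39, 38, 2, 31, 2, 32, 31, 40, 38, 37, 38, 37, 2, 38, 37]] (by decide +kernel),
    List.forall_mem_cons.2 ⟨H.h.mem _ [[39]] (by decide +kernel),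
    List.forall_mem_cons.2 ⟨H.h.mem _ [[40]] (by decide +kernel),
    List.forall_mem_nil _⟩⟩⟩⟩⟩⟩⟩)))

omit H in
theorem clo : CloS.{u} := fun _ _ φ t f lf l _ r s hr hs => by
  have h : WL φ t (β 1) f μ DG.eqW := ⟨lf, fun _ _ e => ok.eq e⟩
  obtain ⟨a1, a2⟩ := k1 h (mu2 ▸ mu3 ▸ l (sz 2, sz 3) (by simp))
  have H : HH φ t f := ⟨h, a1, a2.resolve_right (n1 h)⟩
  exact h.top (pw H) (by decide) (gn H) r s hr hs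

set_option linter.unusedTactic false in
theorem eqns_SSzC : True := by
  first | (have := @Cfsg.Agent.H46.S95.Sz.Cl.EG.eq_def.{0,0,0}) | (have := @Cfsg.Agent.H46.S95.Sz.Cl.EG.eq_def.{0,0}) | (have := @Cfsg.Agent.H46.S95.Sz.Cl.EG.eq_def.{0}) | (have := @Cfsg.Agent.H46.S95.Sz.Cl.EG.eq_def) | skip
  first | (have := @Cfsg.Agent.H46.S95.Sz.Cl.EG.eq_1.{0,0,0}) | (have := @Cfsg.Agent.H46.S95.Sz.Cl.EG.eq_1.{0,0}) | (have := @Cfsg.Agent.H46.S95.Sz.Cl.EG.eq_1.{0}) | (have := @Cfsg.Agent.H46.S95.Sz.Cl.EG.eq_1) | skip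
  first | (have := @Cfsg.Agent.H46.S95.Sz.Cl.EG.eq_2.{0,0,0}) | (have := @Cfsg.Agent.H46.S95.Sz.Cl.EG.eq_2.{0,0}) | (have := @Cfsg.Agent.H46.S95.Sz.Cl.EG.eq_2.{0}) | (have := @Cfsg.Agent.H46.S95.Sz.Cl.EG.eq_2) | skip
  first | (have := @Cfsg.Agent.H46.S95.Sz.Cl.EG.eq_unfold.{0,0,0}) | (have := @Cfsg.Agent.H46.S95.Sz.Cl.EG.eq_unfold.{0,0}) | (have := @Cfsg.Agent.H46.S95.Sz.Cl.EG.eq_unfold.{0}) | (have := @Cfsg.Agent.H46.S95.Sz.Cl.EG.eq_unfold) | skip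
  first | (have := @Cfsg.Agent.H46.S95.Sz.Cl.EG.congr_simp.{0,0,0}) | (have := @Cfsg.Agent.H46.S95.Sz.Cl.EG.congr_simp.{0,0}) | (have := @Cfsg.Agent.H46.S95.Sz.Cl.EG.congr_simp.{0}) | (have := @Cfsg.Agent.H46.S95.Sz.Cl.EG.congr_simp) | skip
  first | (have := @Cfsg.Agent.H46.S95.Sz.Cl.cd.eq_def.{0,0,0}) | (have := @Cfsg.Agent.H46.S95.Sz.Cl.cd.eq_def.{0,0}) | (have := @Cfsg.Agent.H46.S95.Sz.Cl.cd.eq_def.{0}) | (have := @Cfsg.Agent.H46.S95.Sz.Cl.cd.eq_def) | skip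
  first | (have := @Cfsg.Agent.H46.S95.Sz.Cl.cd.eq_1.{0,0,0}) | (have := @Cfsg.Agent.H46.S95.Sz.Cl.cd.eq_1.{0,0}) | (have := @Cfsg.Agent.H46.S95.Sz.Cl.cd.eq_1.{0}) | (have := @Cfsg.Agent.H46.S95.Sz.Cl.cd.eq_1) | skip
  first | (have := @Cfsg.Agent.H46.S95.Sz.Cl.cd.eq_2.{0,0,0}) | (have := @Cfsg.Agent.H46.S95.Sz.Cl.cd.eq_2.{0,0}) | (have := @Cfsg.Agent.H46.S95.Sz.Cl.cd.eq_2.{0}) | (have := @Cfsg.Agent.H46.S95.Sz.Cl.cd.eq_2) | skip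
  first | (have := @Cfsg.Agent.H46.S95.Sz.Cl.cd.eq_unfold.{0,0,0}) | (have := @Cfsg.Agent.H46.S95.Sz.Cl.cd.eq_unfold.{0,0}) | (have := @Cfsg.Agent.H46.S95.Sz.Cl.cd.eq_unfold.{0}) | (have := @Cfsg.Agent.H46.S95.Sz.Cl.cd.eq_unfold) | skip
  first | (have := @Cfsg.Agent.H46.S95.Sz.Cl.cd.congr_simp.{0,0,0}) | (have := @Cfsg.Agent.H46.S95.Sz.Cl.cd.congr_simp.{0,0}) | (have := @Cfsg.Agent.H46.S95.Sz.Cl.cd.congr_simp.{0}) | (have := @Cfsg.Agent.H46.S95.Sz.Cl.cd.congr_simp) | skip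
  first | (have := @Cfsg.Agent.H46.S95.Sz.Cl.DG.eq_def.{0,0,0}) | (have := @Cfsg.Agent.H46.S95.Sz.Cl.DG.eq_def.{0,0}) | (have := @Cfsg.Agent.H46.S95.Sz.Cl.DG.eq_def.{0}) | (have := @Cfsg.Agent.H46.S95.Sz.Cl.DG.eq_def) | skip
  first | (have := @Cfsg.Agent.H46.S95.Sz.Cl.DG.eq_1.{0,0,0}) | (have := @Cfsg.Agent.H46.S95.Sz.Cl.DG.eq_1.{0,0}) | (have := @Cfsg.Agent.H46.S95.Sz.Cl.DG.eq_1.{0}) | (have := @Cfsg.Agent.H46.S95.Sz.Cl.DG.eq_1) | skip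
  first | (have := @Cfsg.Agent.H46.S95.Sz.Cl.DG.eq_2.{0,0,0}) | (have := @Cfsg.Agent.H46.S95.Sz.Cl.DG.eq_2.{0,0}) | (have := @Cfsg.Agent.H46.S95.Sz.Cl.DG.eq_2.{0}) | (have := @Cfsg.Agent.H46.S95.Sz.Cl.DG.eq_2) | skip
  first | (have := @Cfsg.Agent.H46.S95.Sz.Cl.DG.eq_unfold.{0,0,0}) | (have := @Cfsg.Agent.H46.S95.Sz.Cl.DG.eq_unfold.{0,0}) | (have := @Cfsg.Agent.H46.S95.Sz.Cl.DG.eq_unfold.{0}) | (have := @Cfsg.Agent.H46.S95.Sz.Cl.DG.eq_unfold) | skip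
  first | (have := @Cfsg.Agent.H46.S95.Sz.Cl.DG.congr_simp.{0,0,0}) | (have := @Cfsg.Agent.H46.S95.Sz.Cl.DG.congr_simp.{0,0}) | (have := @Cfsg.Agent.H46.S95.Sz.Cl.DG.congr_simp.{0}) | (have := @Cfsg.Agent.H46.S95.Sz.Cl.DG.congr_simp) | skip
  first | (have := @Cfsg.Agent.H46.S95.Sz.Cl.μ.eq_def.{0,0,0}) | (have := @Cfsg.Agent.H46.S95.Sz.Cl.μ.eq_def.{0,0}) | (have := @Cfsg.Agent.H46.S95.Sz.Cl.μ.eq_def.{0}) | (have := @Cfsg.Agent.H46.S95.Sz.Cl.μ.eq_def) | skip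
  first | (have := @Cfsg.Agent.H46.S95.Sz.Cl.μ.eq_1.{0,0,0}) | (have := @Cfsg.Agent.H46.S95.Sz.Cl.μ.eq_1.{0,0}) | (have := @Cfsg.Agent.H46.S95.Sz.Cl.μ.eq_1.{0}) | (have := @Cfsg.Agent.H46.S95.Sz.Cl.μ.eq_1) | skip
  first | (have := @Cfsg.Agent.H46.S95.Sz.Cl.μ.eq_2.{0,0,0}) | (have := @Cfsg.Agent.H46.S95.Sz.Cl.μ.eq_2.{0,0}) | (have := @Cfsg.Agent.H46.S95.Sz.Cl.μ.eq_2.{0}) | (have := @Cfsg.Agent.H46.S95.Sz.Cl.μ.eq_2) | skip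
  first | (have := @Cfsg.Agent.H46.S95.Sz.Cl.μ.eq_unfold.{0,0,0}) | (have := @Cfsg.Agent.H46.S95.Sz.Cl.μ.eq_unfold.{0,0}) | (have := @Cfsg.Agent.H46.S95.Sz.Cl.μ.eq_unfold.{0}) | (have := @Cfsg.Agent.H46.S95.Sz.Cl.μ.eq_unfold) | skip
  first | (have := @Cfsg.Agent.H46.S95.Sz.Cl.μ.congr_simp.{0,0,0}) | (have := @Cfsg.Agent.H46.S95.Sz.Cl.μ.congr_simp.{0,0}) | (have := @Cfsg.Agent.H46.S95.Sz.Cl.μ.congr_simp.{0}) | (have := @Cfsg.Agent.H46.S95.Sz.Cl.μ.congr_simp) | skip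
  first | (have := @Cfsg.Agent.H46.S95.Sz.Cl.ee.eq_def.{0,0,0}) | (have := @Cfsg.Agent.H46.S95.Sz.Cl.ee.eq_def.{0,0}) | (have := @Cfsg.Agent.H46.S95.Sz.Cl.ee.eq_def.{0}) | (have := @Cfsg.Agent.H46.S95.Sz.Cl.ee.eq_def) | skip
  first | (have := @Cfsg.Agent.H46.S95.Sz.Cl.ee.eq_1.{0,0,0}) | (have := @Cfsg.Agent.H46.S95.Sz.Cl.ee.eq_1.{0,0}) | (have := @Cfsg.Agent.H46.S95.Sz.Cl.ee.eq_1.{0}) | (have := @Cfsg.Agent.H46.S95.Sz.Cl.ee.eq_1) | skip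
  first | (have := @Cfsg.Agent.H46.S95.Sz.Cl.ee.eq_2.{0,0,0}) | (have := @Cfsg.Agent.H46.S95.Sz.Cl.ee.eq_2.{0,0}) | (have := @Cfsg.Agent.H46.S95.Sz.Cl.ee.eq_2.{0}) | (have := @Cfsg.Agent.H46.S95.Sz.Cl.ee.eq_2) | skip
  first | (have := @Cfsg.Agent.H46.S95.Sz.Cl.ee.eq_unfold.{0,0,0}) | (have := @Cfsg.Agent.H46.S95.Sz.Cl.ee.eq_unfold.{0,0}) | (have := @Cfsg.Agent.H46.S95.Sz.Cl.ee.eq_unfold.{0}) | (have := @Cfsg.Agent.H46.S95.Sz.Cl.ee.eq_unfold) | skip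
  first | (have := @Cfsg.Agent.H46.S95.Sz.Cl.ee.congr_simp.{0,0,0}) | (have := @Cfsg.Agent.H46.S95.Sz.Cl.ee.congr_simp.{0,0}) | (have := @Cfsg.Agent.H46.S95.Sz.Cl.ee.congr_simp.{0}) | (have := @Cfsg.Agent.H46.S95.Sz.Cl.ee.congr_simp) | skip
  first | (have := @Cfsg.Agent.H46.S95.Sz.Cl.gg.eq_def.{0,0,0}) | (have := @Cfsg.Agent.H46.S95.Sz.Cl.gg.eq_def.{0,0}) | (have := @Cfsg.Agent.H46.S95.Sz.Cl.gg.eq_def.{0}) | (have := @Cfsg.Agent.H46.S95.Sz.Cl.gg.eq_def) | skip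
  first | (have := @Cfsg.Agent.H46.S95.Sz.Cl.gg.eq_1.{0,0,0}) | (have := @Cfsg.Agent.H46.S95.Sz.Cl.gg.eq_1.{0,0}) | (have := @Cfsg.Agent.H46.S95.Sz.Cl.gg.eq_1.{0}) | (have := @Cfsg.Agent.H46.S95.Sz.Cl.gg.eq_1) | skip
  first | (have := @Cfsg.Agent.H46.S95.Sz.Cl.gg.eq_2.{0,0,0}) | (have := @Cfsg.Agent.H46.S95.Sz.Cl.gg.eq_2.{0,0}) | (have := @Cfsg.Agent.H46.S95.Sz.Cl.gg.eq_2.{0}) | (have := @Cfsg.Agent.H46.S95.Sz.Cl.gg.eq_2) | skip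
  first | (have := @Cfsg.Agent.H46.S95.Sz.Cl.gg.eq_unfold.{0,0,0}) | (have := @Cfsg.Agent.H46.S95.Sz.Cl.gg.eq_unfold.{0,0}) | (have := @Cfsg.Agent.H46.S95.Sz.Cl.gg.eq_unfold.{0}) | (have := @Cfsg.Agent.H46.S95.Sz.Cl.gg.eq_unfold) | skip
  first | (have := @Cfsg.Agent.H46.S95.Sz.Cl.gg.congr_simp.{0,0,0}) | (have := @Cfsg.Agent.H46.S95.Sz.Cl.gg.congr_simp.{0,0}) | (have := @Cfsg.Agent.H46.S95.Sz.Cl.gg.congr_simp.{0}) | (have := @Cfsg.Agent.H46.S95.Sz.Cl.gg.congr_simp) | skip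
  first | (have := @Cfsg.Agent.H46.S95.Sz.Cl.dd.eq_def.{0,0,0}) | (have := @Cfsg.Agent.H46.S95.Sz.Cl.dd.eq_def.{0,0}) | (have := @Cfsg.Agent.H46.S95.Sz.Cl.dd.eq_def.{0}) | (have := @Cfsg.Agent.H46.S95.Sz.Cl.dd.eq_def) | skip
  first | (have := @Cfsg.Agent.H46.S95.Sz.Cl.dd.eq_1.{0,0,0}) | (have := @Cfsg.Agent.H46.S95.Sz.Cl.dd.eq_1.{0,0}) | (have := @Cfsg.Agent.H46.S95.Sz.Cl.dd.eq_1.{0}) | (have := @Cfsg.Agent.H46.S95.Sz.Cl.dd.eq_1) | skip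
  first | (have := @Cfsg.Agent.H46.S95.Sz.Cl.dd.eq_2.{0,0,0}) | (have := @Cfsg.Agent.H46.S95.Sz.Cl.dd.eq_2.{0,0}) | (have := @Cfsg.Agent.H46.S95.Sz.Cl.dd.eq_2.{0}) | (have := @Cfsg.Agent.H46.S95.Sz.Cl.dd.eq_2) | skip
  first | (have := @Cfsg.Agent.H46.S95.Sz.Cl.dd.eq_unfold.{0,0,0}) | (have := @Cfsg.Agent.H46.S95.Sz.Cl.dd.eq_unfold.{0,0}) | (have := @Cfsg.Agent.H46.S95.Sz.Cl.dd.eq_unfold.{0}) | (have := @Cfsg.Agent.H46.S95.Sz.Cl.dd.eq_unfold) | skip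
  first | (have := @Cfsg.Agent.H46.S95.Sz.Cl.dd.congr_simp.{0,0,0}) | (have := @Cfsg.Agent.H46.S95.Sz.Cl.dd.congr_simp.{0,0}) | (have := @Cfsg.Agent.H46.S95.Sz.Cl.dd.congr_simp.{0}) | (have := @Cfsg.Agent.H46.S95.Sz.Cl.dd.congr_simp) | skip
  trivial

end Cfsg.Agent.H46.S95.Sz.Cl
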